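import Cfsg.Agent.Omega.Lie.HeisCover
import Mathlib
import Cfsg.Agent.Schreier.ClassPSL
import Cfsg.Agent.LieRecognition.FieldSemilinear
import Cfsg.Agent.LieClassical.HermSiegel
import Cfsg.Agent.ClassicalGeometry.PSUAutBasic
import Cfsg.Agent.ClassicalGeometry.UnitAutBasic
import Cfsg.Agent.S0283

section


/-!
# Heisenberg configurations and odd covers: sign elements

`π : L → K` surjective with central kernel of odd order.  No information on the Schur multiplier of `K` is used: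
commuting elements `a, b` of `K` have commuting lifts as soon as some element of `K` inverts `a` and centralises
`b`, or interchanges `a` and `b` (`CC a b`, closed under products, conjugation, ...).

* `CC.comm`: `CC a b` implies that all lifts of `a` and `b` commute;
* `SignHeis`: a Heisenberg configuration with sign elements; `SignHeis.exists_lift`: it lifts to every odd cover;
* `LB.sign`: the lower bound.
-/

set_option autoImplicit false

universe u v w

namespace Cfsg.Agent.Omega.TwoF.SignLift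

open Cfsg.Agent.Omega.Lie.Heis

/-- Commuting pairs whose lifts to every odd central cover commute (a sufficient condition). -/
inductive CC {K : Type*} [Group K] : K → K → Prop
  | inv {a b : K} (t : K) (hab : a * b = b * a) (ha : t * a * t⁻¹ = a⁻¹) (hb : t * b = b * t) : CC a b
  | swap {a b : K} (t : K) (hab : a * b = b * a) (ha : t * a * t⁻¹ = b) (hb : t * b * t⁻¹ = a) : CC a b
  | two {a b : K} (k : ℕ) (hab : a * b = b * a) (ha : a ^ (2 ^ k) = 1) : CC a b
  | refl (a : K) : CC a a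
  | symm {a b : K} (h : CC a b) : CC b a
  | mul {a b c : K} (h : CC a b) (h' : CC a c) : CC a (b * c)
  | inv' {a b : K} (h : CC a b) : CC a b⁻¹
  | conj {a b : K} (g : K) (h : CC a b) : CC (g * a * g⁻¹) (g * b * g⁻¹)

section lift

variable {L : Type*} {K : Type*} [Group L] [Group K] {π : L →* K}

theorem eq_one_of_sq (ho : Odd (Nat.card π.ker)) {c : L} (hc : c ∈ π.ker) {k : ℕ}
    (h : c ^ (2 ^ k) = 1) : c = 1 := by
  have h1 : orderOf c ∣ 2 ^ k := orderOf_dvd_of_pow_eq_one h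
  have h2 : orderOf c ∣ Nat.card π.ker := by
    have := orderOf_dvd_natCard (⟨c, hc⟩ : π.ker)
    rwa [Subgroup.orderOf_mk] at this
  have h3 : Nat.Coprime (2 ^ k) (Nat.card π.ker) :=
    Nat.Coprime.pow_left k (Nat.coprime_two_left.2 ho)
  exact orderOf_eq_one_iff.1 (Nat.eq_one_of_dvd_coprimes h3 h1 h2)

theorem eq_one_of_inv (ho : Odd (Nat.card π.ker)) {c : L} (hc : c ∈ π.ker) (h : c = c⁻¹) : c = 1 := by
  apply eq_one_of_sq ho hc (k := 1)
  rw [pow_one, pow_two]
  nth_rw 1 [h]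
  rw [inv_mul_cancel]

/-- Elements of the kernel have square roots. -/
theorem exists_sqrt (ho : Odd (Nat.card π.ker)) {c : L} (hc : c ∈ π.ker) :
    ∃ d ∈ π.ker, d * d = c := by
  obtain ⟨m, hm⟩ := ho
  refine ⟨c ^ (m + 1), π.ker.pow_mem hc _, ?_⟩
  have h1 : c ^ Nat.card π.ker = 1 := by
    have h2 := pow_card_eq_one' (x := (⟨c, hc⟩ : π.ker))
    exact congrArg Subtype.val h2
  rw [← pow_add, show m + 1 + (m + 1) = Nat.card π.ker + 1 by omega, pow_succ, h1, one_mul]

variable (hπ : Function.Surjective π) (hc : π.ker ≤ Subgroup.center L) (ho : Odd (Nat.card π.ker))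

include hc in
theorem central {c : L} (h : c ∈ π.ker) (g : L) : g * c = c * g := Subgroup.mem_center_iff.1 (hc h) g

/-- The element `c` with `a b = c b a`. -/
theorem mem_ker_of_comm {a b : L} (h : π a * π b = π b * π a) : a * b * a⁻¹ * b⁻¹ ∈ π.ker := by
  rw [MonoidHom.mem_ker, map_mul, map_mul, map_mul, map_inv, map_inv, h]
  group

include hc ho in
/-- All elements lying over a 2-element of the centraliser commute. -/
theorem comm_of_two {a b : L} (h : π a * π b = π b * π a) {k : ℕ} (ha : π a ^ (2 ^ k) = 1) :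
    a * b = b * a := by
  set c := a * b * a⁻¹ * b⁻¹ with hcd
  have h1 : c ∈ π.ker := mem_ker_of_comm h
  have h2 : a * b * a⁻¹ = c * b := by rw [hcd]; group
  have h3 : ∀ n : ℕ, a ^ n * b * (a ^ n)⁻¹ = c ^ n * b := by
    intro n
    induction n with
    | zero => simp
    | succ n ih =>
      calc a ^ (n + 1) * b * (a ^ (n + 1))⁻¹ = a * (a ^ n * b * (a ^ n)⁻¹) * a⁻¹ := by
            rw [pow_succ']; group
        _ = a * c ^ n * b * a⁻¹ := by rw [ih]; group
        _ = c ^ n * (a * b * a⁻¹) := by rw [central hc (π.ker.pow_mem h1 n) a]; group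
        _ = c ^ (n + 1) * b := by rw [h2, pow_succ]; group
  have h4 : a ^ (2 ^ k) ∈ π.ker := by rw [MonoidHom.mem_ker, map_pow, ha]
  have h5 := h3 (2 ^ k)
  rw [← central hc h4 b, mul_inv_cancel_right] at h5
  have h6 : c ^ (2 ^ k) = 1 := by
    have := congrArg (· * b⁻¹) h5
    simpa using this.symm
  have h7 : c = 1 := eq_one_of_sq ho h1 h6
  rw [h7, one_mul] at h2
  calc a * b = (a * b * a⁻¹) * a := by group
    _ = b * a := by rw [h2]

include hπ hc ho in
/-- **Lifts commute.** -/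
theorem _root_.Cfsg.Agent.Omega.TwoF.SignLift.CC.comm {s t : K} (h : CC s t) :
    ∀ a b : L, π a = s → π b = t → a * b = b * a := by
  induction h with
  | @inv s t g hst hs ht =>
    rintro a b rfl rfl
    obtain ⟨g, rfl⟩ := hπ g
    set c := a * b * a⁻¹ * b⁻¹ with hcd
    have h1 : c ∈ π.ker := mem_ker_of_comm hst
    have h2 : g * a * g⁻¹ * a ∈ π.ker := by
      rw [MonoidHom.mem_ker, map_mul, map_mul, map_mul, map_inv, hs, inv_mul_cancel]
    have h3 : g * b * g⁻¹ * b⁻¹ ∈ π.ker := mem_ker_of_comm ht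
    set d := g * a * g⁻¹ * a with hd
    set e := g * b * g⁻¹ * b⁻¹ with he
    have h4 : g * a * g⁻¹ = d * a⁻¹ := by rw [hd]; group
    have h5 : g * b * g⁻¹ = e * b := by rw [he]; group
    have h6 : g * c * g⁻¹ = c := by rw [central hc h1 g]; group
    have h7 : g * c * g⁻¹ = (d * a⁻¹) * (e * b) * (d * a⁻¹)⁻¹ * (e * b)⁻¹ := by
      rw [← h4, ← h5, hcd]; group
    have h8 : (d * a⁻¹) * (e * b) * (d * a⁻¹)⁻¹ * (e * b)⁻¹ = a⁻¹ * b * a * b⁻¹ := by
      have e1 : d * a⁻¹ = a⁻¹ * d := (central hc h2 a⁻¹).symm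
      have e2 : e * b = b * e := (central hc h3 b).symm
      have e3 : d * (b * e) = b * e * d := (central hc h2 (b * e)).symm
      have e4 : e * a = a * e := (central hc h3 a).symm
      calc (d * a⁻¹) * (e * b) * (d * a⁻¹)⁻¹ * (e * b)⁻¹
          = a⁻¹ * (d * (b * e)) * d⁻¹ * a * (b * e)⁻¹ := by rw [e1, e2]; group
        _ = a⁻¹ * b * (e * a) * e⁻¹ * b⁻¹ := by rw [e3]; group
        _ = a⁻¹ * b * a * b⁻¹ := by rw [e4]; group
    have h9 : a⁻¹ * b * a * b⁻¹ = c⁻¹ := by
      have : a⁻¹ * c * a = c := by rw [central hc h1 a⁻¹]; group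
      calc a⁻¹ * b * a * b⁻¹ = (a⁻¹ * c * a)⁻¹ := by rw [hcd]; group
        _ = c⁻¹ := by rw [this]
    have h10 : c = c⁻¹ := by
      rw [h6, h8, h9] at h7
      exact h7
    have h11 := eq_one_of_inv ho h1 h10
    rw [hcd] at h11
    calc a * b = (a * b * a⁻¹ * b⁻¹) * (b * a) := by group
      _ = b * a := by rw [h11, one_mul]
  | @swap s t g hst hs ht =>
    rintro a b rfl rfl
    obtain ⟨g, rfl⟩ := hπ g
    set c := a * b * a⁻¹ * b⁻¹ with hcd
    have h1 : c ∈ π.ker := mem_ker_of_comm hst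
    have h2 : g * a * g⁻¹ * b⁻¹ ∈ π.ker := by
      rw [MonoidHom.mem_ker, map_mul, map_mul, map_mul, map_inv, map_inv, hs, mul_inv_cancel]
    have h3 : g * b * g⁻¹ * a⁻¹ ∈ π.ker := by
      rw [MonoidHom.mem_ker, map_mul, map_mul, map_mul, map_inv, map_inv, ht, mul_inv_cancel]
    set d := g * a * g⁻¹ * b⁻¹ with hd
    set e := g * b * g⁻¹ * a⁻¹ with he
    have h4 : g * a * g⁻¹ = d * b := by rw [hd]; group
    have h5 : g * b * g⁻¹ = e * a := by rw [he]; group
    have h6 : g * c * g⁻¹ = c := by rw [central hc h1 g]; group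
    have h7 : g * c * g⁻¹ = (d * b) * (e * a) * (d * b)⁻¹ * (e * a)⁻¹ := by
      rw [← h4, ← h5, hcd]; group
    have h8 : (d * b) * (e * a) * (d * b)⁻¹ * (e * a)⁻¹ = b * a * b⁻¹ * a⁻¹ := by
      have e1 : d * b = b * d := (central hc h2 b).symm
      have e2 : e * a = a * e := (central hc h3 a).symm
      have e3 : d * (a * e) = a * e * d := (central hc h2 (a * e)).symm
      have e4 : e * b⁻¹ = b⁻¹ * e := (central hc h3 b⁻¹).symm
      calc (d * b) * (e * a) * (d * b)⁻¹ * (e * a)⁻¹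
          = b * (d * (a * e)) * d⁻¹ * b⁻¹ * (a * e)⁻¹ := by rw [e1, e2]; group
        _ = b * a * (e * b⁻¹) * e⁻¹ * a⁻¹ := by rw [e3]; group
        _ = b * a * b⁻¹ * a⁻¹ := by rw [e4]; group
    have h9 : b * a * b⁻¹ * a⁻¹ = c⁻¹ := by rw [hcd]; group
    have h10 : c = c⁻¹ := by
      rw [h6, h8, h9] at h7
      exact h7
    have h11 := eq_one_of_inv ho h1 h10
    rw [hcd] at h11
    calc a * b = (a * b * a⁻¹ * b⁻¹) * (b * a) := by group
      _ = b * a := by rw [h11, one_mul]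
  | @two s t k hst hs =>
    rintro a b rfl rfl
    exact comm_of_two hc ho hst hs
  | refl s =>
    rintro a b rfl h
    have h1 : b * a⁻¹ ∈ π.ker := by rw [MonoidHom.mem_ker, map_mul, map_inv, h, mul_inv_cancel]
    have h2 : b = (b * a⁻¹) * a := by group
    rw [h2, ← mul_assoc, central hc h1 a]
  | symm _ ih =>
    intro a b ha hb
    exact (ih b a hb ha).symm
  | @mul s t t' _ _ ih ih' =>
    intro a b ha hb
    obtain ⟨b₁, hb₁⟩ := hπ t
    have h1 := ih a b₁ ha hb₁
    have h2 := ih' a (b₁⁻¹ * b) ha (by rw [map_mul, map_inv, hb₁, hb, inv_mul_cancel_left])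
    calc a * b = (a * b₁) * (b₁⁻¹ * b) := by group
      _ = b₁ * (a * (b₁⁻¹ * b)) := by rw [h1, mul_assoc]
      _ = b * a := by rw [h2]; group
  | @inv' s t _ ih =>
    intro a b ha hb
    have h1 := ih a b⁻¹ ha (by rw [map_inv, hb, inv_inv])
    calc a * b = b * (b⁻¹ * a) * b := by group
      _ = b * a := by rw [← h1]; group
  | @conj s t g _ ih =>
    intro a b ha hb
    obtain ⟨g, rfl⟩ := hπ g
    have h1 := ih (g⁻¹ * a * g) (g⁻¹ * b * g) (by rw [map_mul, map_mul, map_inv, ha]; group)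
      (by rw [map_mul, map_mul, map_inv, hb]; group)
    calc a * b = g * ((g⁻¹ * a * g) * (g⁻¹ * b * g)) * g⁻¹ := by group
      _ = b * a := by rw [h1]; group

include hπ hc ho in
/-- A lift inverted by a given lift of the inverting element. -/
theorem exists_inv_lift {s : K} {g : L} (h : π g * s * (π g)⁻¹ = s⁻¹) :
    ∃ a : L, π a = s ∧ g * a * g⁻¹ = a⁻¹ := by
  obtain ⟨b, rfl⟩ := hπ s
  have h1 : g * b * g⁻¹ * b ∈ π.ker := by
    rw [MonoidHom.mem_ker, map_mul, map_mul, map_mul, map_inv, h, inv_mul_cancel]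
  obtain ⟨d, hd, hdd⟩ := exists_sqrt ho (π.ker.inv_mem h1)
  refine ⟨b * d, by rw [map_mul, MonoidHom.mem_ker.1 hd, mul_one], ?_⟩
  have e1 : b * d = d * b := central hc hd b
  have e2 : g * d * g⁻¹ = d := by rw [central hc hd g]; group
  have e3 : g * b * g⁻¹ = (d * d)⁻¹ * b⁻¹ := by rw [hdd]; group
  have e4 : d⁻¹ * b⁻¹ = b⁻¹ * d⁻¹ := (central hc (π.ker.inv_mem hd) b⁻¹).symm
  calc g * (b * d) * g⁻¹ = (g * b * g⁻¹) * (g * d * g⁻¹) := by group
    _ = (d * d)⁻¹ * b⁻¹ * d := by rw [e3, e2]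
    _ = d⁻¹ * (d⁻¹ * b⁻¹) * d := by group
    _ = d⁻¹ * (b⁻¹ * d⁻¹) * d := by rw [e4]
    _ = d⁻¹ * b⁻¹ := by group
    _ = (b * d)⁻¹ := by rw [_root_.mul_inv_rev]

include hc ho in
theorem pow_of_inv {a g : L} {r : ℕ} (h : g * a * g⁻¹ = a⁻¹) (hr : π a ^ r = 1) : a ^ r = 1 := by
  have h1 : a ^ r ∈ π.ker := by rw [MonoidHom.mem_ker, map_pow, hr]
  have h2 : g * a ^ r * g⁻¹ = (a ^ r)⁻¹ := by
    calc g * a ^ r * g⁻¹ = (g * a * g⁻¹) ^ r := by rw [conj_pow]
      _ = (a ^ r)⁻¹ := by rw [h, inv_pow]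
  apply eq_one_of_inv ho h1
  rw [← h2, central hc h1 g]
  group

end lift

/-- A Heisenberg configuration with sign elements. -/
structure SignHeis {K : Type*} [Group K] (r n : ℕ) (z : K) (x y : Fin n → K) : Prop where
  heis : Heis r n z x y
  inv : ∀ i, ∃ t : K, t * x i * t⁻¹ = (x i)⁻¹
  czx : ∀ i, CC z (x i)
  czy : ∀ i, CC z (y i)
  cxx : ∀ i j, i ≠ j → CC (x i) (x j)
  cyx : ∀ i j, i ≠ j → CC (y i) (x j)
  same : ∀ i j, ∃ g : K, (∃ k : ℕ, g ^ (2 ^ k) = 1) ∧ g * z = z * g ∧ g * x i * g⁻¹ = x j ∧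
    g * y i * g⁻¹ = y j

/-- **A Heisenberg configuration with sign elements lifts to every odd cover.** -/
theorem SignHeis.exists_lift {K : Type*} [Group K] {r n : ℕ} (hn : 0 < n) {z : K} {x y : Fin n → K}
    (h : SignHeis r n z x y) {L : Type*} [Group L] {π : L →* K} (hπ : Function.Surjective π)
    (hc : π.ker ≤ Subgroup.center L) (ho : Odd (Nat.card π.ker)) :
    ∃ (z' : L) (x' y' : Fin n → L), π z' = z ∧ (∀ i, π (x' i) = x i) ∧ (∀ i, π (y' i) = y i) ∧
      Heis r n z' x' y' := by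
  have h1 : ∀ i, ∃ a : L, π a = x i ∧ a ^ r = 1 := by
    intro i
    obtain ⟨t, ht⟩ := h.inv i
    obtain ⟨g, rfl⟩ := hπ t
    obtain ⟨a, ha, ha'⟩ := exists_inv_lift hπ hc ho ht
    exact ⟨a, ha, pow_of_inv hc ho ha' (by rw [ha, h.heis.xr])⟩
  choose x' hx' hxr using h1
  choose y' hy' using fun i => hπ (y i)
  let zz : Fin n → L := fun i => (x' i)⁻¹ * (y' i * x' i * (y' i)⁻¹)
  have hzz : ∀ i, π (zz i) = z := by
    intro i
    rw [map_mul, map_mul, map_mul, map_inv, map_inv, hx', hy', h.heis.conj]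
    group
  have hzx : ∀ i j, zz i * x' j = x' j * zz i := fun i j =>
    (h.czx j).comm hπ hc ho _ _ (hzz i) (hx' j)
  have hzy : ∀ i j, zz i * y' j = y' j * zz i := fun i j =>
    (h.czy j).comm hπ hc ho _ _ (hzz i) (hy' j)
  have hconj : ∀ i, y' i * x' i * (y' i)⁻¹ = x' i * zz i := fun i => by
    show _ = x' i * ((x' i)⁻¹ * (y' i * x' i * (y' i)⁻¹))
    group
  have hzr : ∀ i, zz i ^ r = 1 := by
    intro i
    have h2 : (y' i * x' i * (y' i)⁻¹) ^ r = 1 := by rw [conj_pow, hxr]; group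
    rw [hconj i] at h2
    have h3 : Commute (x' i) (zz i) := (hzx i i).symm
    rwa [h3.mul_pow, hxr, one_mul] at h2
  have hsame : ∀ i j, zz i = zz j := by
    intro i j
    obtain ⟨g, ⟨k, hk⟩, hgz, hgx, hgy⟩ := h.same i j
    obtain ⟨g, rfl⟩ := hπ g
    have h2 : g * zz i = zz i * g := comm_of_two hc ho (by rw [hzz, hgz]) hk
    have hdx : g * x' i * g⁻¹ * (x' j)⁻¹ ∈ π.ker := by
      rw [MonoidHom.mem_ker, map_mul, map_mul, map_mul, map_inv, map_inv, hx', hx', hgx, mul_inv_cancel]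
    have hdy : g * y' i * g⁻¹ * (y' j)⁻¹ ∈ π.ker := by
      rw [MonoidHom.mem_ker, map_mul, map_mul, map_mul, map_inv, map_inv, hy', hy', hgy, mul_inv_cancel]
    set d := g * x' i * g⁻¹ * (x' j)⁻¹ with hd
    set e := g * y' i * g⁻¹ * (y' j)⁻¹ with he
    have e1 : g * x' i * g⁻¹ = d * x' j := by rw [hd]; group
    have e2 : g * y' i * g⁻¹ = e * y' j := by rw [he]; group
    have e3 : y' j * (d * x' j) = d * (y' j * x' j) := by
      rw [← mul_assoc, central hc hdx, mul_assoc]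
    have e4 : e * (d * (y' j * x' j) * (y' j)⁻¹) = (d * (y' j * x' j) * (y' j)⁻¹) * e :=
      (central hc hdy _).symm
    calc zz i = g * zz i * g⁻¹ := by rw [h2]; group
      _ = (g * x' i * g⁻¹)⁻¹ * ((g * y' i * g⁻¹) * (g * x' i * g⁻¹) * (g * y' i * g⁻¹)⁻¹) := by
          show g * ((x' i)⁻¹ * (y' i * x' i * (y' i)⁻¹)) * g⁻¹ = _
          group
      _ = (d * x' j)⁻¹ * ((e * y' j) * (d * x' j) * (e * y' j)⁻¹) := by rw [e1, e2]
      _ = (x' j)⁻¹ * d⁻¹ * (e * (y' j * (d * x' j)) * (y' j)⁻¹ * e⁻¹) := by group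
      _ = (x' j)⁻¹ * d⁻¹ * (e * (d * (y' j * x' j) * (y' j)⁻¹) * e⁻¹) := by rw [e3]; group
      _ = (x' j)⁻¹ * (y' j * x' j * (y' j)⁻¹) := by rw [e4]; group
  refine ⟨zz ⟨0, hn⟩, x', y', hzz _, hx', hy', ⟨h.heis.prime, hzr _, hxr, fun i => hzx _ i, fun i => hzy _ i,
    fun i j => ?_, fun i j hij => ?_, fun i => ?_⟩⟩
  · by_cases hij : i = j
    · rw [hij]
    · exact (h.cxx i j hij).comm hπ hc ho _ _ (hx' i) (hx' j)
  · exact (h.cyx i j hij).comm hπ hc ho _ _ (hy' i) (hx' j)
  · rw [hconj i, hsame i ⟨0, hn⟩]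

/-- **The lower bound**, for all odd covers. -/
theorem LB.sign {K : Type u} [Group K] [IsSimpleGroup K] {r n : ℕ} (hn : 0 < n) {z : K} {x y : Fin n → K}
    (h : SignHeis r n z x y) (hr2 : r ≠ 2) (hz : z ≠ 1) {m : ℕ}
    (hm : m ≤ orderOf (2 : ZMod r) * r ^ n) : LB.{u, v, w} K m := by
  apply LB.of_irr
  intro L _ _ π hπ hc ho hL V _ _ h2 φ hφ hirr
  obtain ⟨z', x', y', hz', hx', hy', hH⟩ := h.exists_lift hn hπ hc ho
  have h3 : φ z' ≠ 1 := by
    intro h4
    apply hz
    rw [← hz', hφ (h4.trans (map_one φ).symm), map_one]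
  exact (Nat.pow_le_pow_right (by norm_num) hm).trans (hH.two_pow_le_mulAut φ h2 hr2 h3)

end Cfsg.Agent.Omega.TwoF.SignLift

end

section


/-!
# Elementary abelian `2`-groups of projective transformations, characteristic not `2`

`rk n` is the `2`-rank of `PGL_n` in characteristic different from `2`:
`n - 1` in general, `n` for `n = 2, 4`.
-/

set_option autoImplicit false
set_option linter.unusedSectionVars false

namespace Cfsg.Agent.Omega.TwoF.RkLin

open Module

/-- The bound for the `2`-rank of `PGL_n`. -/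
def rk (n : ℕ) : ℕ := if n = 2 ∨ n = 4 then n else n - 1

theorem rk_le (n : ℕ) : rk n ≤ n := by
  unfold rk; split_ifs <;> omega

theorem le_rk (n : ℕ) : n - 1 ≤ rk n := by
  unfold rk; split_ifs <;> omega

theorem rk_double {a : ℕ} (ha : 1 ≤ a) : rk a + 2 ≤ rk (a + a) := by
  unfold rk
  split_ifs <;> omega

/-- A subgroup of "index at most two" in the sense of products. -/
theorem card_le_two_mul {A : Type*} [Group A] [Finite A] {H B : Subgroup A}
    (h : ∀ x ∈ B, x ∉ H → ∀ y ∈ B, y ∉ H → x * y ∈ H) :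
    Nat.card B ≤ 2 * Nat.card H := by
  classical
  by_cases hB : B ≤ H
  · calc Nat.card B ≤ Nat.card H := Subgroup.card_le_of_le hB
      _ ≤ 2 * Nat.card H := by omega
  · obtain ⟨x, hx, hxH⟩ := Set.not_subset.1 hB
    have hsub : (B : Set A) ⊆ (H : Set A) ∪ (fun g => x⁻¹ * g) '' (H : Set A) := by
      intro y hy
      by_cases hyH : y ∈ H
      · exact Or.inl hyH
      · exact Or.inr ⟨x * y, h x hx hxH y hy hyH, by simp⟩
    have h1 : (B : Set A).ncard ≤ (H : Set A).ncard + (H : Set A).ncard :=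
      (Set.ncard_le_ncard hsub (Set.toFinite _)).trans
        ((Set.ncard_union_le _ _).trans
          (Nat.add_le_add_left (Set.ncard_image_le (Set.toFinite _)) _))
    have h2 : (B : Set A).ncard = Nat.card B := rfl
    have h3 : (H : Set A).ncard = Nat.card H := rfl
    omega

/-- A projective representation of a group of exponent two. -/
structure Setup {K V A : Type*} [Field K] [AddCommGroup V] [Module K V] [Group A]
    (ρ : A → V →ₗ[K] V) : Prop where
  one : ∃ c : K, c ≠ 0 ∧ ∀ v, ρ 1 v = c • v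
  mul : ∀ a b, ∃ c : K, c ≠ 0 ∧ ∀ v, ρ a (ρ b v) = c • ρ (a * b) v
  sq : ∀ a : A, a * a = 1

section

variable {K V A : Type*} [Field K] [AddCommGroup V] [Module K V] [Group A]
variable {ρ : A → V →ₗ[K] V}

/-- Elements of `B` acting as a scalar on `W`. -/
def scal (h : Setup ρ) (B : Subgroup A) (W : Submodule K V) : Subgroup A where
  carrier := {b | b ∈ B ∧ ∃ c : K, ∀ w ∈ W, ρ b w = c • w}
  mul_mem' := by
    rintro a b ⟨ha, c, hc⟩ ⟨hb, d, hd⟩
    refine ⟨mul_mem ha hb, ?_⟩
    obtain ⟨e, he, hm⟩ := h.mul a b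
    refine ⟨e⁻¹ * (c * d), fun w hw => ?_⟩
    have h1 := hm w
    rw [hd w hw, map_smul, hc w hw] at h1
    rw [mul_smul, mul_comm c d, mul_smul, h1, smul_smul, inv_mul_cancel₀ he, one_smul]
  one_mem' := by
    obtain ⟨c, _, hc⟩ := h.one
    exact ⟨one_mem _, c, fun w _ => hc w⟩
  inv_mem' := by
    rintro a ⟨ha, c, hc⟩
    have : a⁻¹ = a := inv_eq_of_mul_eq_one_left (h.sq a)
    rw [this]
    exact ⟨ha, c, hc⟩

theorem mem_scal {h : Setup ρ} {B : Subgroup A} {W : Submodule K V} {b : A} :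
    b ∈ scal h B W ↔ b ∈ B ∧ ∃ c : K, ∀ w ∈ W, ρ b w = c • w := Iff.rfl

theorem scal_le {h : Setup ρ} {B : Subgroup A} {W : Submodule K V} : scal h B W ≤ B :=
  fun _ hb => hb.1

theorem Setup.comm (h : Setup ρ) (a b : A) : a * b = b * a := by
  have h1 := h.sq (a * b)
  have ha := h.sq a
  have hb := h.sq b
  calc a * b = a * (a * b * (a * b)) * b := by rw [h1, mul_one]
    _ = (a * a) * (b * a) * (b * b) := by simp only [mul_assoc]
    _ = b * a := by rw [ha, hb, one_mul, mul_one]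

theorem Setup.sq_scalar (h : Setup ρ) (a : A) : ∃ c : K, c ≠ 0 ∧ ∀ v, ρ a (ρ a v) = c • v := by
  obtain ⟨c, hc, h1⟩ := h.mul a a
  obtain ⟨d, hd, h2⟩ := h.one
  refine ⟨c * d, mul_ne_zero hc hd, fun v => ?_⟩
  rw [h1, h.sq, h2, smul_smul]

theorem Setup.injective (h : Setup ρ) (a : A) : Function.Injective (ρ a) := by
  obtain ⟨c, hc, h1⟩ := h.sq_scalar a
  intro v w hvw
  have := congrArg (ρ a) hvw
  rw [h1, h1] at this
  exact smul_right_injective V hc this

/-- Two elements commute up to a sign. -/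
theorem Setup.comm_sign (h : Setup ρ) (a b : A) :
    (∀ v, ρ a (ρ b v) = ρ b (ρ a v)) ∨ (∀ v, ρ a (ρ b v) = -ρ b (ρ a v)) := by
  obtain ⟨c, hc, h1⟩ := h.mul a b
  obtain ⟨d, hd, h2⟩ := h.mul b a
  obtain ⟨l, hl, hsq⟩ := h.sq_scalar a
  have h3 : ∀ v, ρ a (ρ b v) = (c * d⁻¹) • ρ b (ρ a v) := by
    intro v
    rw [h1, h2, h.comm b a, smul_smul, mul_assoc, inv_mul_cancel₀ hd, mul_one]
  by_cases hV : ∀ v : V, v = 0
  · left
    intro v
    rw [hV (ρ a (ρ b v)), hV (ρ b (ρ a v))]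
  · push Not at hV
    obtain ⟨v, hv⟩ := hV
    have h4 : ρ a (ρ a (ρ b v)) = ((c * d⁻¹) * (c * d⁻¹)) • ρ b (ρ a (ρ a v)) := by
      rw [h3 v, map_smul, h3 (ρ a v), smul_smul]
    rw [hsq, hsq, map_smul, smul_smul, mul_comm _ l, mul_smul] at h4
    have h5 : (1 : K) • ρ b v = ((c * d⁻¹) * (c * d⁻¹)) • ρ b v := by
      rw [one_smul]
      exact smul_right_injective V hl h4
    have h6 : ρ b v ≠ 0 := fun h0 => hv (h.injective b (by rw [h0, map_zero]))
    have h7 := smul_left_injective K h6 h5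
    rcases mul_self_eq_one_iff.1 h7.symm with h8 | h8
    · left; intro v; rw [h3, h8, one_smul]
    · right; intro v; rw [h3, h8, neg_smul, one_smul]

/-- Eigenspaces inside `W`. -/
def eig (ρ : A → V →ₗ[K] V) (x : A) (μ : K) (W : Submodule K V) : Submodule K V where
  carrier := {v | v ∈ W ∧ ρ x v = μ • v}
  add_mem' := by
    rintro u v ⟨hu, hu'⟩ ⟨hv, hv'⟩
    exact ⟨W.add_mem hu hv, by rw [map_add, hu', hv', smul_add]⟩
  zero_mem' := ⟨W.zero_mem, by simp⟩
  smul_mem' := by
    rintro c v ⟨hv, hv'⟩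
    exact ⟨W.smul_mem c hv, by rw [map_smul, hv', smul_comm]⟩

theorem mem_eig {x : A} {μ : K} {W : Submodule K V} {v : V} :
    v ∈ eig ρ x μ W ↔ v ∈ W ∧ ρ x v = μ • v := Iff.rfl

theorem eig_inf {x : A} {μ : K} (h2 : (2 : K) ≠ 0) (hμ : μ ≠ 0) {W : Submodule K V} :
    eig ρ x μ W ⊓ eig ρ x (-μ) W = ⊥ := by
  rw [eq_bot_iff]
  rintro v ⟨⟨_, h1⟩, ⟨_, h3⟩⟩
  rw [h1] at h3
  have h4 : (2 * μ) • v = 0 := by
    rw [two_mul, add_smul]
    nth_rw 1 [h3]
    rw [neg_smul, neg_add_cancel]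
  exact (smul_eq_zero.1 h4).resolve_left (mul_ne_zero h2 hμ)

theorem eig_decomp {x : A} {μ : K} (h2 : (2 : K) ≠ 0) (hμ : μ ≠ 0)
    (hsq : ∀ v, ρ x (ρ x v) = (μ * μ) • v) {W : Submodule K V} (hW : ∀ w ∈ W, ρ x w ∈ W)
    {w : V} (hw : w ∈ W) :
    ∃ u ∈ eig ρ x μ W, ∃ v ∈ eig ρ x (-μ) W, w = u + v := by
  have h2' : (2 : K)⁻¹ * (2 : K) = 1 := inv_mul_cancel₀ h2
  refine ⟨(2 : K)⁻¹ • (w + μ⁻¹ • ρ x w), ⟨?_, ?_⟩, (2 : K)⁻¹ • (w - μ⁻¹ • ρ x w), ⟨?_, ?_⟩, ?_⟩
  · exact W.smul_mem _ (W.add_mem hw (W.smul_mem _ (hW w hw)))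
  · have h3 : ρ x (w + μ⁻¹ • ρ x w) = μ • (w + μ⁻¹ • ρ x w) := by
      rw [map_add, map_smul, hsq, smul_smul, ← mul_assoc, inv_mul_cancel₀ hμ, one_mul,
        smul_add, smul_smul μ, mul_inv_cancel₀ hμ, one_smul, add_comm]
    rw [map_smul, h3, smul_comm]
  · exact W.smul_mem _ (W.sub_mem hw (W.smul_mem _ (hW w hw)))
  · have h3 : ρ x (w - μ⁻¹ • ρ x w) = (-μ) • (w - μ⁻¹ • ρ x w) := by
      rw [map_sub, map_smul, hsq, smul_smul, ← mul_assoc, inv_mul_cancel₀ hμ, one_mul,
        smul_sub, smul_smul (-μ), neg_mul, mul_inv_cancel₀ hμ, neg_smul, neg_smul, one_smul]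
      abel
    rw [map_smul, h3, smul_comm]
  · rw [← smul_add]
    have : w + μ⁻¹ • ρ x w + (w - μ⁻¹ • ρ x w) = (2 : K) • w := by
      rw [two_smul]; abel
    rw [this, smul_smul, h2', one_smul]

theorem eig_sup {x : A} {μ : K} (h2 : (2 : K) ≠ 0) (hμ : μ ≠ 0)
    (hsq : ∀ v, ρ x (ρ x v) = (μ * μ) • v) {W : Submodule K V} (hW : ∀ w ∈ W, ρ x w ∈ W) :
    eig ρ x μ W ⊔ eig ρ x (-μ) W = W := by
  apply le_antisymm
  · exact sup_le (fun v hv => hv.1) (fun v hv => hv.1)
  · intro w hw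
    obtain ⟨u, hu, v, hv, rfl⟩ := eig_decomp h2 hμ hsq hW hw
    exact Submodule.add_mem_sup hu hv

theorem finrank_eig [FiniteDimensional K V] {x : A} {μ : K} (h2 : (2 : K) ≠ 0) (hμ : μ ≠ 0)
    (hsq : ∀ v, ρ x (ρ x v) = (μ * μ) • v) {W : Submodule K V} (hW : ∀ w ∈ W, ρ x w ∈ W) :
    finrank K (eig ρ x μ W) + finrank K (eig ρ x (-μ) W) = finrank K W := by
  have h := Submodule.finrank_sup_add_finrank_inf_eq (eig ρ x μ W) (eig ρ x (-μ) W)
  rw [eig_sup h2 hμ hsq hW, eig_inf h2 hμ, finrank_bot, add_zero] at h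
  exact h.symm

/-- Elements acting as scalars on both eigenspaces. -/
theorem card_two_eig [Finite A] (h : Setup ρ) {x : A} {μ : K} (h2 : (2 : K) ≠ 0) (hμ : μ ≠ 0)
    (hsq : ∀ v, ρ x (ρ x v) = (μ * μ) • v) {W : Submodule K V} {B C : Subgroup A}
    (hW : ∀ w ∈ W, ρ x w ∈ W) (hCB : C ≤ B)
    (hC : ∀ c ∈ C, (∃ a : K, ∀ w ∈ eig ρ x μ W, ρ c w = a • w) ∧
      (∃ a : K, ∀ w ∈ eig ρ x (-μ) W, ρ c w = a • w)) :
    Nat.card C ≤ 2 * Nat.card (scal h B W) := by
  have key : ∀ c ∈ C, c ∈ scal h B W ∨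
      ((∃ a : K, a ≠ 0 ∧ (∀ w ∈ eig ρ x μ W, ρ c w = a • w) ∧
        (∀ w ∈ eig ρ x (-μ) W, ρ c w = (-a) • w)) ) := by
    intro c hc
    obtain ⟨⟨a, ha⟩, ⟨b, hb⟩⟩ := hC c hc
    obtain ⟨l, hl, hcc⟩ := h.sq_scalar c
    by_cases hbot : eig ρ x μ W = ⊥
    · left
      refine ⟨hCB hc, b, fun w hw => ?_⟩
      obtain ⟨u, hu, v, hv, rfl⟩ := eig_decomp h2 hμ hsq hW hw
      rw [hbot, Submodule.mem_bot] at hu
      rw [hu, zero_add, hb v hv]
    by_cases hbot' : eig ρ x (-μ) W = ⊥
    · left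
      refine ⟨hCB hc, a, fun w hw => ?_⟩
      obtain ⟨u, hu, v, hv, rfl⟩ := eig_decomp h2 hμ hsq hW hw
      rw [hbot', Submodule.mem_bot] at hv
      rw [hv, add_zero, ha u hu]
    obtain ⟨u, hu, hu0⟩ := Submodule.exists_mem_ne_zero_of_ne_bot hbot
    obtain ⟨v, hv, hv0⟩ := Submodule.exists_mem_ne_zero_of_ne_bot hbot'
    have h3 : a * a = l := by
      have h4 := hcc u
      rw [ha u hu, map_smul, ha u hu, smul_smul] at h4
      exact smul_left_injective K hu0 h4
    have h5 : b * b = l := by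
      have h4 := hcc v
      rw [hb v hv, map_smul, hb v hv, smul_smul] at h4
      exact smul_left_injective K hv0 h4
    have ha0 : a ≠ 0 := by
      rintro rfl
      exact hl (by rw [← h3, mul_zero])
    rcases mul_self_eq_mul_self_iff.1 (h5.trans h3.symm) with h6 | h6
    · left
      refine ⟨hCB hc, a, fun w hw => ?_⟩
      obtain ⟨u, hu, v, hv, rfl⟩ := eig_decomp h2 hμ hsq hW hw
      rw [map_add, ha u hu, hb v hv, h6, smul_add]
    · right
      exact ⟨a, ha0, ha, fun w hw => by rw [hb w hw, h6]⟩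
  have h1 : Nat.card C ≤ 2 * Nat.card (scal h B W ⊓ C : Subgroup A) := by
    apply card_le_two_mul
    intro c hc hcn d hd hdn
    have hcn' : c ∉ scal h B W := fun h' => hcn ⟨h', hc⟩
    have hdn' : d ∉ scal h B W := fun h' => hdn ⟨h', hd⟩
    obtain ⟨a, _, ha, ha'⟩ := (key c hc).resolve_left hcn'
    obtain ⟨b, _, hb, hb'⟩ := (key d hd).resolve_left hdn'
    refine ⟨⟨mul_mem (hCB hc) (hCB hd), ?_⟩, mul_mem hc hd⟩
    obtain ⟨e, he, hm⟩ := h.mul c d
    refine ⟨e⁻¹ * (a * b), fun w hw => ?_⟩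
    have h3 : ρ c (ρ d w) = (a * b) • w := by
      obtain ⟨u, hu, v, hv, rfl⟩ := eig_decomp h2 hμ hsq hW hw
      rw [map_add, map_add, hb u hu, hb' v hv, map_smul, map_smul, ha u hu, ha' v hv, smul_smul,
        smul_smul, smul_add, neg_mul_neg, mul_comm b a]
    rw [hm] at h3
    rw [mul_smul, ← h3, smul_smul, inv_mul_cancel₀ he, one_smul]
  exact h1.trans (Nat.mul_le_mul_left _ (Subgroup.card_le_of_le inf_le_left))

variable [Finite A] [FiniteDimensional K V] [IsAlgClosed K]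

theorem Setup.exists_root (h : Setup ρ) (x : A) :
    ∃ μ : K, μ ≠ 0 ∧ ∀ v, ρ x (ρ x v) = (μ * μ) • v := by
  obtain ⟨c, hc, h1⟩ := h.sq_scalar x
  obtain ⟨μ, rfl⟩ := IsAlgClosed.exists_eq_mul_self c
  exact ⟨μ, left_ne_zero_of_mul hc, h1⟩

/-- The eigenspaces of a non scalar element are proper. -/
theorem finrank_eig_pos {x : A} {μ : K} (h2 : (2 : K) ≠ 0) (hμ : μ ≠ 0)
    (hsq : ∀ v, ρ x (ρ x v) = (μ * μ) • v) {W : Submodule K V} (hW : ∀ w ∈ W, ρ x w ∈ W)
    (hx : ¬ ∃ c : K, ∀ w ∈ W, ρ x w = c • w) :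
    1 ≤ finrank K (eig ρ x μ W) ∧ 1 ≤ finrank K (eig ρ x (-μ) W) := by
  constructor
  · rw [Nat.one_le_iff_ne_zero]
    intro h0
    rw [Submodule.finrank_eq_zero] at h0
    apply hx
    refine ⟨-μ, fun w hw => ?_⟩
    obtain ⟨u, hu, v, hv, rfl⟩ := eig_decomp h2 hμ hsq hW hw
    rw [h0, Submodule.mem_bot] at hu
    rw [hu, zero_add, hv.2]
  · rw [Nat.one_le_iff_ne_zero]
    intro h0
    rw [Submodule.finrank_eq_zero] at h0
    apply hx
    refine ⟨μ, fun w hw => ?_⟩
    obtain ⟨u, hu, v, hv, rfl⟩ := eig_decomp h2 hμ hsq hW hw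
    rw [h0, Submodule.mem_bot] at hv
    rw [hv, add_zero, hu.2]

/-- Commuting case. -/
theorem card_comm (h : Setup ρ) (h2 : (2 : K) ≠ 0) : ∀ (n : ℕ) (W : Submodule K V),
    finrank K W = n → 1 ≤ n → ∀ B : Subgroup A, (∀ b ∈ B, ∀ w ∈ W, ρ b w ∈ W) →
    (∀ a ∈ B, ∀ b ∈ B, ∀ w ∈ W, ρ a (ρ b w) = ρ b (ρ a w)) →
    2 * Nat.card B ≤ 2 ^ n * Nat.card (scal h B W) := by
  intro n
  induction n using Nat.strong_induction_on with
  | _ n ih =>
    intro W hn hn1 B hB hcomm
    by_cases hs : ∀ b ∈ B, ∃ c : K, ∀ w ∈ W, ρ b w = c • w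
    · have h1 : B ≤ scal h B W := fun b hb => ⟨hb, hs b hb⟩
      have h3 : 2 ^ 1 ≤ 2 ^ n := Nat.pow_le_pow_right (by norm_num) hn1
      rw [pow_one] at h3
      exact Nat.mul_le_mul h3 (Subgroup.card_le_of_le h1)
    · push Not at hs
      obtain ⟨x, hx, hxs⟩ := hs
      have hxs' : ¬ ∃ c : K, ∀ w ∈ W, ρ x w = c • w := by
        push Not; exact hxs
      obtain ⟨μ, hμ, hsq⟩ := h.exists_root x
      have hWx := hB x hx
      obtain ⟨ha1, hb1⟩ := finrank_eig_pos h2 hμ hsq hWx hxs'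
      have hsum := finrank_eig h2 hμ hsq hWx
      have hinv : ∀ (ν : K), ∀ b ∈ B, ∀ w ∈ eig ρ x ν W, ρ b w ∈ eig ρ x ν W := by
        rintro ν b hb w ⟨hw, hw'⟩
        exact ⟨hB b hb w hw, by rw [hcomm x hx b hb w hw, hw', map_smul]⟩
      have h3 := ih (finrank K (eig ρ x μ W)) (by omega) (eig ρ x μ W) rfl ha1 B (hinv μ)
        (fun a ha b hb w hw => hcomm a ha b hb w hw.1)
      have h4 := ih (finrank K (eig ρ x (-μ) W)) (by omega) (eig ρ x (-μ) W) rfl hb1
        (scal h B (eig ρ x μ W)) (fun b hb => hinv (-μ) b (scal_le hb))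
        (fun a ha b hb w hw => hcomm a (scal_le ha) b (scal_le hb) w hw.1)
      have h5 := card_two_eig (W := W) (B := B)
        (C := scal h (scal h B (eig ρ x μ W)) (eig ρ x (-μ) W)) h h2 hμ hsq hWx
        (scal_le.trans scal_le) (fun c hc => ⟨hc.1.2, hc.2⟩)
      have h6 : 2 ^ n = 2 ^ finrank K (eig ρ x μ W) * 2 ^ finrank K (eig ρ x (-μ) W) := by
        rw [← pow_add, hsum, hn]
      rw [h6]
      have h7 := Nat.mul_le_mul_left 2 h3
      have h8 := Nat.mul_le_mul_left (2 ^ finrank K (eig ρ x μ W)) h4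
      have h9 := Nat.mul_le_mul_left (2 ^ finrank K (eig ρ x μ W))
        (Nat.mul_le_mul_left (2 ^ finrank K (eig ρ x (-μ) W)) h5)
      nlinarith [h7, h8, h9]

/-- General case. -/
theorem card_le (h : Setup ρ) (h2 : (2 : K) ≠ 0) : ∀ (n : ℕ) (W : Submodule K V),
    finrank K W = n → 1 ≤ n → ∀ B : Subgroup A, (∀ b ∈ B, ∀ w ∈ W, ρ b w ∈ W) →
    Nat.card B ≤ 2 ^ rk n * Nat.card (scal h B W) := by
  intro n
  induction n using Nat.strong_induction_on with
  | _ n ih =>
    intro W hn hn1 B hB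
    by_cases hcomm : ∀ a ∈ B, ∀ b ∈ B, ∀ w ∈ W, ρ a (ρ b w) = ρ b (ρ a w)
    · have h1 := card_comm h h2 n W hn hn1 B hB hcomm
      obtain ⟨m, rfl⟩ : ∃ m, n = m + 1 := ⟨n - 1, by omega⟩
      have h3 : Nat.card B ≤ 2 ^ m * Nat.card (scal h B W) := by
        rw [pow_succ] at h1
        nlinarith
      refine h3.trans (Nat.mul_le_mul_right _ (Nat.pow_le_pow_right (by norm_num) ?_))
      exact le_rk (m + 1)
    · push Not at hcomm
      obtain ⟨x, hx, y, hy, w0, hw0, hne⟩ := hcomm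
      have hanti : ∀ v, ρ x (ρ y v) = -ρ y (ρ x v) :=
        (h.comm_sign x y).resolve_left (fun h' => hne (h' w0))
      obtain ⟨μ, hμ, hsq⟩ := h.exists_root x
      have hWx := hB x hx
      have hsum := finrank_eig h2 hμ hsq hWx
      have hmap : ∀ ν : K, (eig ρ x ν W).map (ρ y) ≤ eig ρ x (-ν) W := by
        intro ν
        rintro _ ⟨w, ⟨hw, hw'⟩, rfl⟩
        exact ⟨hB y hy w hw, by rw [hanti, hw', map_smul, neg_smul]⟩
      have hdim : ∀ ν : K, finrank K (eig ρ x ν W) ≤ finrank K (eig ρ x (-ν) W) := by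
        intro ν
        rw [(Submodule.equivMapOfInjective (ρ y) (h.injective y) (eig ρ x ν W)).finrank_eq]
        exact Submodule.finrank_mono (hmap ν)
      have hd1 := hdim μ
      have hd2 := hdim (-μ)
      rw [neg_neg] at hd2
      have heq : finrank K (eig ρ x μ W) = finrank K (eig ρ x (-μ) W) := le_antisymm hd1 hd2
      have ha1 : 1 ≤ finrank K (eig ρ x μ W) := by omega
      -- the subgroup commuting with `x`
      let B0 : Subgroup A :=
        { carrier := {b | b ∈ B ∧ ∀ v, ρ x (ρ b v) = ρ b (ρ x v)}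
          mul_mem' := by
            rintro a b ⟨ha, ha'⟩ ⟨hb, hb'⟩
            refine ⟨mul_mem ha hb, fun v => ?_⟩
            obtain ⟨e, he, hm⟩ := h.mul a b
            have h3 : ρ x (ρ a (ρ b v)) = ρ a (ρ b (ρ x v)) := by rw [ha', hb']
            rw [hm, hm, map_smul] at h3
            exact smul_right_injective V he h3
          one_mem' := by
            refine ⟨one_mem _, fun v => ?_⟩
            obtain ⟨c, _, hc⟩ := h.one
            rw [hc, hc, map_smul]
          inv_mem' := by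
            rintro a ⟨ha, ha'⟩
            have : a⁻¹ = a := inv_eq_of_mul_eq_one_left (h.sq a)
            rw [this]
            exact ⟨ha, ha'⟩ }
      have hB0B : B0 ≤ B := fun b hb => hb.1
      have hcard0 : Nat.card B ≤ 2 * Nat.card B0 := by
        apply card_le_two_mul
        intro a ha han b hb hbn
        have ha' : ∀ v, ρ x (ρ a v) = -ρ a (ρ x v) :=
          (h.comm_sign x a).resolve_left (fun h' => han ⟨ha, h'⟩)
        have hb' : ∀ v, ρ x (ρ b v) = -ρ b (ρ x v) :=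
          (h.comm_sign x b).resolve_left (fun h' => hbn ⟨hb, h'⟩)
        refine ⟨mul_mem ha hb, fun v => ?_⟩
        obtain ⟨e, he, hm⟩ := h.mul a b
        have h3 : ρ x (ρ a (ρ b v)) = ρ a (ρ b (ρ x v)) := by
          rw [ha', hb', map_neg, neg_neg]
        rw [hm, hm, map_smul] at h3
        exact smul_right_injective V he h3
      have h3 := ih (finrank K (eig ρ x μ W)) (by omega) (eig ρ x μ W) rfl ha1 B0
        (by
          rintro b ⟨hb, hb'⟩ w ⟨hw, hw'⟩
          exact ⟨hB b hb w hw, by rw [hb', hw', map_smul]⟩)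
      have h5 := card_two_eig (W := W) (B := B) (C := scal h B0 (eig ρ x μ W)) h h2 hμ hsq hWx
        (scal_le.trans hB0B) (by
          rintro c ⟨hc, a, ha⟩
          refine ⟨⟨a, ha⟩, ?_⟩
          have hmapeq : (eig ρ x μ W).map (ρ y) = eig ρ x (-μ) W := by
            apply Submodule.eq_of_le_of_finrank_eq (hmap μ)
            rw [← (Submodule.equivMapOfInjective (ρ y) (h.injective y) (eig ρ x μ W)).finrank_eq]
            exact heq
          rcases h.comm_sign c y with hcy | hcy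
          · refine ⟨a, fun w hw => ?_⟩
            rw [← hmapeq] at hw
            obtain ⟨u, hu, rfl⟩ := hw
            rw [hcy, ha u hu, map_smul]
          · refine ⟨-a, fun w hw => ?_⟩
            rw [← hmapeq] at hw
            obtain ⟨u, hu, rfl⟩ := hw
            rw [hcy, ha u hu, map_smul, neg_smul])
      have h6 : rk (finrank K (eig ρ x μ W)) + 2 ≤ rk n := by
        have : n = finrank K (eig ρ x μ W) + finrank K (eig ρ x μ W) := by omega
        rw [this]
        exact rk_double ha1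
      calc Nat.card B ≤ 2 * Nat.card B0 := hcard0
        _ ≤ 2 * (2 ^ rk (finrank K (eig ρ x μ W)) * Nat.card (scal h B0 (eig ρ x μ W))) :=
            Nat.mul_le_mul_left _ h3
        _ ≤ 2 * (2 ^ rk (finrank K (eig ρ x μ W)) * (2 * Nat.card (scal h B W))) :=
            Nat.mul_le_mul_left _ (Nat.mul_le_mul_left _ h5)
        _ = 2 ^ (rk (finrank K (eig ρ x μ W)) + 2) * Nat.card (scal h B W) := by
            rw [pow_add]; ring
        _ ≤ 2 ^ rk n * Nat.card (scal h B W) :=
            Nat.mul_le_mul_right _ (Nat.pow_le_pow_right (by norm_num) h6)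

end

section matrix

open Matrix

/-- Matrix form: a finite group of exponent two inside `PGL_n(F)`. -/
theorem card_le_matrix {F ι : Type*} [Field F] [Fintype ι] [DecidableEq ι] (h2 : (2 : F) ≠ 0)
    {n : ℕ} (hι : Fintype.card ι = n) (hn : 1 ≤ n) {A : Type*} [Group A] [Finite A]
    (φ : A → GL ι F)
    (hmul : ∀ a b, ∃ c : F, (φ a : Matrix ι ι F) * (φ b : Matrix ι ι F)
      = c • (φ (a * b) : Matrix ι ι F))
    (hsq : ∀ a : A, a * a = 1)
    (hfaith : ∀ a, (∃ c : F, (φ a : Matrix ι ι F) = c • (1 : Matrix ι ι F)) → a = 1) :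
    Nat.card A ≤ 2 ^ rk n := by
  have hne : Nonempty ι := Fintype.card_pos_iff.1 (by omega)
  obtain ⟨i₀⟩ := hne
  let K := AlgebraicClosure F
  let f : F →+* K := algebraMap F K
  have hf : Function.Injective f := f.injective
  let ρ : A → (ι → K) →ₗ[K] (ι → K) := fun a => Matrix.toLin' ((φ a : Matrix ι ι F).map f)
  have hρ : ∀ a v, ρ a v = (φ a : Matrix ι ι F).map f *ᵥ v := fun a v => by
    simp only [ρ, Matrix.toLin'_apply]
  have hne0 : ∀ (a b : A) (c : F), (φ a : Matrix ι ι F) * (φ b : Matrix ι ι F)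
      = c • (φ (a * b) : Matrix ι ι F) → c ≠ 0 := by
    rintro a b c h rfl
    rw [zero_smul] at h
    have h3 : (φ a : Matrix ι ι F) * (φ b : Matrix ι ι F) * ((φ b)⁻¹ : GL ι F).1 *
        ((φ a)⁻¹ : GL ι F).1 = 1 := by
      rw [mul_assoc (φ a : Matrix ι ι F), ← Units.val_mul (φ b), mul_inv_cancel, Units.val_one,
        mul_one, ← Units.val_mul, mul_inv_cancel, Units.val_one]
    rw [h, zero_mul, zero_mul] at h3
    have := congrFun (congrFun h3 i₀) i₀
    rw [Matrix.one_apply_eq] at this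
    exact zero_ne_one this
  have h : Setup ρ := by
    refine ⟨?_, ?_, hsq⟩
    · obtain ⟨c, hc⟩ := hmul 1 1
      have hc0 := hne0 1 1 c hc
      rw [mul_one] at hc
      refine ⟨f c, fun h0 => hc0 (hf (by rw [h0, map_zero])), fun v => ?_⟩
      have h3 : (φ 1 : Matrix ι ι F) = c • (1 : Matrix ι ι F) := by
        calc (φ 1 : Matrix ι ι F)
            = (φ 1 : Matrix ι ι F) * (φ 1 : Matrix ι ι F) * ((φ 1)⁻¹ : GL ι F).1 := by
              rw [mul_assoc, ← Units.val_mul, mul_inv_cancel, Units.val_one, mul_one]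
          _ = c • (1 : Matrix ι ι F) := by
              rw [hc, smul_mul_assoc, ← Units.val_mul, mul_inv_cancel, Units.val_one]
      rw [hρ, h3]
      have h4 : (c • (1 : Matrix ι ι F)).map f = f c • (1 : Matrix ι ι K) := by
        ext i j
        by_cases hij : i = j
        · subst hij
          simp
        · simp [Matrix.one_apply_ne hij]
      rw [h4, Matrix.smul_mulVec, Matrix.one_mulVec]
    · intro a b
      obtain ⟨c, hc⟩ := hmul a b
      refine ⟨f c, fun h0 => hne0 a b c hc (hf (by rw [h0, map_zero])), fun v => ?_⟩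
      rw [hρ, hρ, hρ, Matrix.mulVec_mulVec, ← Matrix.map_mul, hc]
      have h4 : (c • (φ (a * b) : Matrix ι ι F)).map f
          = f c • ((φ (a * b) : Matrix ι ι F).map f) := by
        ext i j
        simp
      rw [h4, Matrix.smul_mulVec]
  have h2K : (2 : K) ≠ 0 := by
    intro h0
    apply h2
    apply hf
    rw [map_zero, ← h0, map_ofNat]
  have hfr : Module.finrank K (⊤ : Submodule K (ι → K)) = n := by
    rw [finrank_top, Module.finrank_fintype_fun_eq_card, hι]
  have hmain := card_le h h2K n ⊤ hfr hn ⊤ (fun _ _ _ _ => Submodule.mem_top)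
  have hbot : scal h ⊤ ⊤ = (⊥ : Subgroup A) := by
    rw [eq_bot_iff]
    rintro a ⟨-, c, hc⟩
    rw [Subgroup.mem_bot]
    apply hfaith
    have h3 : ∀ i j, f ((φ a : Matrix ι ι F) i j) = if i = j then c else 0 := by
      intro i j
      have h4 := congrFun (hc (Pi.single j 1) Submodule.mem_top) i
      rw [hρ, Matrix.mulVec_single_one] at h4
      simp only [Matrix.col_apply, Matrix.map_apply, Pi.smul_apply, smul_eq_mul] at h4
      rw [h4, Pi.single_apply]
      simp
    refine ⟨(φ a : Matrix ι ι F) i₀ i₀, ?_⟩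
    ext i j
    rw [Matrix.smul_apply, Matrix.one_apply, smul_eq_mul]
    apply hf
    rw [h3, map_mul, h3, if_pos rfl]
    split_ifs <;> simp
  rw [hbot] at hmain
  simpa using hmain

/-- An elementary abelian `2`-subgroup of `PGL_n(F)`. -/
theorem card_le_PGL {F ι : Type*} [Field F] [Fintype ι] [DecidableEq ι] (h2 : (2 : F) ≠ 0)
    {n : ℕ} (hι : Fintype.card ι = n) (hn : 1 ≤ n) (E : Subgroup (Matrix.ProjGenLinGroup ι F))
    [Finite E] (hE : ∀ x ∈ E, x * x = 1) : Nat.card E ≤ 2 ^ rk n := by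
  let r : E → GL ι F := fun e => Function.surjInv Matrix.ProjGenLinGroup.mk_surjective e.1
  have hr : ∀ e : E, Matrix.ProjGenLinGroup.mk (r e) = e.1 := fun e =>
    Function.surjInv_eq Matrix.ProjGenLinGroup.mk_surjective e.1
  refine card_le_matrix h2 hι hn r ?_ (fun a => Subtype.ext (hE a.1 a.2)) ?_
  · intro a b
    have h1 : Matrix.ProjGenLinGroup.mk (r (a * b)) = Matrix.ProjGenLinGroup.mk (r a * r b) := by
      rw [map_mul, hr, hr, hr]; rfl
    obtain ⟨u, hu⟩ := Matrix.ProjGenLinGroup.mk_eq_mk_iff.1 h1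
    refine ⟨(u : F), ?_⟩
    have h3 := congrArg (fun x : GL ι F => (x : Matrix ι ι F)) hu
    simp only [Units.val_mul] at h3
    rw [← h3]
    ext i j
    simp [Matrix.GeneralLinearGroup.scalar, mul_comm]
  · rintro a ⟨c, hc⟩
    apply Subtype.ext
    rw [← hr a]
    change Matrix.ProjGenLinGroup.mk (r a) = 1
    rw [Matrix.ProjGenLinGroup.mk_eq_one, Subgroup.mem_center_iff]
    intro g
    apply Units.ext
    rw [Units.val_mul, Units.val_mul, hc]
    simp

/-- A group of matrices all of whose squares are scalar, modulo scalars. -/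
theorem card_map_le {F ι : Type*} [Field F] [Fintype ι] [DecidableEq ι] (h2 : (2 : F) ≠ 0)
    {n : ℕ} (hι : Fintype.card ι = n) (hn : 1 ≤ n) (E : Subgroup (GL ι F))
    [Finite (E.map (Matrix.ProjGenLinGroup.mk (n := ι) (R := F)))]
    (hE : ∀ x ∈ E, ∃ c : F, (x : Matrix ι ι F) * (x : Matrix ι ι F) = c • (1 : Matrix ι ι F)) :
    Nat.card (E.map (Matrix.ProjGenLinGroup.mk (n := ι) (R := F))) ≤ 2 ^ rk n := by
  refine card_le_PGL h2 hι hn _ ?_
  rintro _ ⟨x, hx, rfl⟩
  rw [← map_mul, Matrix.ProjGenLinGroup.mk_eq_one, Subgroup.mem_center_iff]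
  intro g
  obtain ⟨c, hc⟩ := hE x hx
  apply Units.ext
  have h3 : ((x * x : GL ι F) : Matrix ι ι F) = c • 1 := by rw [Units.val_mul, hc]
  rw [Units.val_mul, Units.val_mul (x * x), h3]
  simp

end matrix

end Cfsg.Agent.Omega.TwoF.RkLin

end

section


/-!
# Elementary abelian `2`-subgroups of `Aut (PSL_n(q))`, `q` odd
-/

set_option autoImplicit false
set_option linter.unusedSectionVars false

namespace Cfsg.Agent.Omega.TwoF.RkPSL

open Matrix Cfsg.Agent.Omega.TwoF.RkLin
open Cfsg.Agent.ClassicalGeometry.AutPSL.Root Cfsg.Agent.ClassicalGeometry.AutPSL.Auto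
  Cfsg.Agent.ClassicalGeometry.AutPSL.Main Cfsg.Agent.Schreier.ClassPSL

/-- Every elementary abelian `2`-subgroup of `Aut K` has order at most `2 ^ a`. -/
def RkAut (K : Type*) [Group K] (a : ℕ) : Prop :=
  ∀ A : Subgroup (MulAut K), (∀ x ∈ A, x * x = 1) → Nat.card A ≤ 2 ^ a

/-- An injective homomorphism gives a lower bound. -/
theorem RkAut.of_normal {K : Type*} [Group K] {a : ℕ} (h : RkAut K a) {X : Type*} [Group X]
    {N : Subgroup X} [N.Normal] (e : N ≃* K) (hC : Subgroup.centralizer (N : Set X) = ⊥)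
    (A : Subgroup X) (hA : ∀ x ∈ A, x * x = 1) : Nat.card A ≤ 2 ^ a := by
  let f : X →* MulAut K := (MulAut.congr e).toMonoidHom.comp (MulAut.conjNormal (H := N))
  have hf : Function.Injective f := by
    rw [injective_iff_map_eq_one]
    intro x hx
    have h1 : (MulAut.conjNormal x : MulAut N) = 1 := by
      apply (MulAut.congr e).injective
      rw [map_one]
      exact hx
    have h2 : x ∈ Subgroup.centralizer (N : Set X) := by
      rw [Subgroup.mem_centralizer_iff]
      intro g hg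
      have h3 := congrArg (fun φ : MulAut N => ((φ ⟨g, hg⟩ : N) : X)) h1
      simp only [MulAut.conjNormal_apply, MulAut.one_apply] at h3
      calc g * x = (x * g * x⁻¹) * x := by rw [h3]
        _ = x * g := by group
    rw [hC, Subgroup.mem_bot] at h2
    exact h2
  have h3 := h (A.map f) (by
    rintro _ ⟨x, hx, rfl⟩
    rw [← map_mul, hA x hx, map_one])
  rwa [Subgroup.card_map_of_injective hf] at h3

/-- Involutory automorphisms of a finite field are unique. -/
theorem field_inv_unique {F : Type*} [Field F] [Finite F] {σ τ : F ≃+* F} (hσ : σ * σ = 1)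
    (hτ : τ * τ = 1) (h1 : σ ≠ 1) (h2 : τ ≠ 1) : σ = τ := by
  classical
  have hc : IsCyclic (F ≃+* F) := LieRecognition.FieldSemilinear.isCyclic_ringAut F
  haveI : Finite (F ≃+* F) :=
    Finite.of_injective (fun f : F ≃+* F => (f : F → F)) DFunLike.coe_injective
  haveI := Fintype.ofFinite (F ≃+* F)
  by_contra hne
  have hle := IsCyclic.card_pow_eq_one_le (α := F ≃+* F) (n := 2) (by norm_num)
  have hsub : ({1, σ, τ} : Finset (F ≃+* F)) ⊆ Finset.univ.filter (fun a => a ^ 2 = 1) := by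
    intro a ha
    rw [Finset.mem_filter]
    refine ⟨Finset.mem_univ _, ?_⟩
    simp only [Finset.mem_insert, Finset.mem_singleton] at ha
    rcases ha with rfl | rfl | rfl
    · exact one_pow 2
    · rw [pow_two, hσ]
    · rw [pow_two, hτ]
  have h3 : ({1, σ, τ} : Finset (F ≃+* F)).card = 3 := by
    rw [Finset.card_eq_three]
    exact ⟨1, σ, τ, h1.symm, h2.symm, hne, rfl⟩
  have h4 := Finset.card_le_card hsub
  omega

variable {F : Type*} [Field F] [Fintype F] {n : ℕ}

theorem finite_mulAut (K : Type*) [Group K] [Finite K] : Finite (MulAut K) :=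
  Finite.of_injective (fun f : MulAut K => (f : K → K)) DFunLike.coe_injective

instance : Finite (MulAut (Matrix.ProjectiveSpecialLinearGroup (Fin n) F)) :=
  haveI : Finite (Matrix.ProjectiveSpecialLinearGroup (Fin n) F) :=
    Finite.of_surjective _ pr_surjective
  finite_mulAut _

/-- Diagonal automorphisms only. -/
theorem card_linear (h2 : (2 : F) ≠ 0) (hn : 2 ≤ n)
    (A : Subgroup (MulAut (Matrix.ProjectiveSpecialLinearGroup (Fin n) F)))
    (hA : ∀ x ∈ A, x * x = 1) (h : ∀ x ∈ A, ∃ C : GL (Fin n) F, x = lift (cj C)) :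
    Nat.card A ≤ 2 ^ rk n := by
  have hnt : Nontrivial (Fin n) := Fin.nontrivial_iff_two_le.2 hn
  choose φ hφ using fun a : A => h a.1 a.2
  refine card_le_matrix h2 (Fintype.card_fin n) (by omega) φ ?_ (fun a => Subtype.ext (hA a.1 a.2))
    ?_
  · intro a b
    have h1 : lift (cj ((φ (a * b))⁻¹ * (φ a * φ b)) * fld 1)
        = lift (fld (1 : F ≃+* F)) := by
      rw [map_one fld, mul_one, map_one, map_mul cj, map_mul cj, map_mul, map_mul, map_inv cj,
        map_inv, ← hφ, ← hφ, ← hφ]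
      exact inv_mul_cancel _
    obtain ⟨⟨r, hr⟩, -⟩ := injective_aux h1
    refine ⟨r, ?_⟩
    have h3 : (φ a : Matrix (Fin n) (Fin n) F) * (φ b : Matrix (Fin n) (Fin n) F)
        = (φ (a * b) : Matrix (Fin n) (Fin n) F) *
          (((φ (a * b))⁻¹ * (φ a * φ b) : GL (Fin n) F) : Matrix (Fin n) (Fin n) F) := by
      rw [← Units.val_mul, ← Units.val_mul, mul_inv_cancel_left]
    rw [h3, ← hr]
    ext i j
    simp [Matrix.scalar, mul_comm]
  · rintro a ⟨c, hc⟩
    apply Subtype.ext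
    rw [hφ a]
    have : cj (φ a) = 1 := cj_eq_one_of_scalar (r := c) (by
      rw [hc]
      ext i j
      simp [Matrix.scalar, Matrix.one_apply, Matrix.diagonal_apply])
    rw [this, map_one]
    rfl

theorem semi_mul (C D : GL (Fin n) F) (σ τ : F ≃+* F) :
    lift (cj C * fld σ) * lift (cj D * fld τ)
      = lift (cj (C * Matrix.GeneralLinearGroup.map (σ : F →+* F) D) * fld (σ * τ)) := by
  rw [← map_mul, mul_assoc, ← mul_assoc (fld σ), fld_mul_cj, map_mul cj, map_mul fld]
  simp only [mul_assoc]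

theorem field_sq (hn : 2 ≤ n) {C : GL (Fin n) F} {σ : F ≃+* F}
    (h : lift (cj C * fld σ) * lift (cj C * fld σ) = 1) : σ * σ = 1 := by
  have hnt : Nontrivial (Fin n) := Fin.nontrivial_iff_two_le.2 hn
  rw [semi_mul] at h
  have h1 : lift (cj (C * Matrix.GeneralLinearGroup.map (σ : F →+* F) C) * fld (σ * σ))
      = lift (fld (1 : F ≃+* F)) := by
    rw [h, map_one fld, map_one]
  exact (injective_aux h1).2

/-- Diagonal and field automorphisms. -/
theorem card_semi (h2 : (2 : F) ≠ 0) (hn : 2 ≤ n)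
    (A : Subgroup (MulAut (Matrix.ProjectiveSpecialLinearGroup (Fin n) F)))
    (hA : ∀ x ∈ A, x * x = 1)
    (h : ∀ x ∈ A, ∃ (C : GL (Fin n) F) (σ : F ≃+* F), x = lift (cj C * fld σ)) :
    Nat.card A ≤ 2 * 2 ^ rk n := by
  let A1 : Subgroup (MulAut (Matrix.ProjectiveSpecialLinearGroup (Fin n) F)) :=
    A ⊓ (MonoidHom.range (lift.comp cj))
  have h1 : Nat.card A ≤ 2 * Nat.card A1 := by
    apply card_le_two_mul
    intro x hx hxn y hy hyn
    obtain ⟨C, σ, hC⟩ := h x hx
    obtain ⟨D, τ, hD⟩ := h y hy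
    have hσ : σ * σ = 1 := field_sq hn (by rw [← hC]; exact hA x hx)
    have hτ : τ * τ = 1 := field_sq hn (by rw [← hD]; exact hA y hy)
    have hσ1 : σ ≠ 1 := by
      rintro rfl
      exact hxn ⟨hx, C, by rw [hC, map_one, mul_one]; rfl⟩
    have hτ1 : τ ≠ 1 := by
      rintro rfl
      exact hyn ⟨hy, D, by rw [hD, map_one, mul_one]; rfl⟩
    have hστ := field_inv_unique hσ hτ hσ1 hτ1
    refine ⟨mul_mem hx hy, C * Matrix.GeneralLinearGroup.map (σ : F →+* F) D, ?_⟩
    rw [hC, hD, semi_mul, ← hστ, hσ, map_one, mul_one]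
    rfl
  have h3 := card_linear h2 hn A1 (fun x hx => hA x hx.1) (by
    rintro x ⟨-, C, hC⟩
    exact ⟨C, hC.symm⟩)
  omega

theorem card_semi_odd (h2 : (2 : F) ≠ 0) (hn : 2 ≤ n)
    (hF : ∀ σ : F ≃+* F, σ * σ = 1 → σ = 1)
    (A : Subgroup (MulAut (Matrix.ProjectiveSpecialLinearGroup (Fin n) F)))
    (hA : ∀ x ∈ A, x * x = 1)
    (h : ∀ x ∈ A, ∃ (C : GL (Fin n) F) (σ : F ≃+* F), x = lift (cj C * fld σ)) :
    Nat.card A ≤ 2 ^ rk n := by
  apply card_linear h2 hn A hA
  intro x hx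
  obtain ⟨C, σ, hC⟩ := h x hx
  have hσ : σ * σ = 1 := field_sq hn (by rw [← hC]; exact hA x hx)
  have := hF σ hσ
  subst this
  exact ⟨C, by rw [hC, map_one, mul_one]⟩

/-- Graph automorphisms: index at most two. -/
theorem card_graph (hn : 3 ≤ n) {k : ℕ}
    (A : Subgroup (MulAut (Matrix.ProjectiveSpecialLinearGroup (Fin n) F)))
    (hk : ∀ B ≤ A, (∀ x ∈ B, ∃ (C : GL (Fin n) F) (σ : F ≃+* F), x = lift (cj C * fld σ)) →
      Nat.card B ≤ k) : Nat.card A ≤ 2 * k := by
  obtain ⟨p, hp⟩ := CharP.exists F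
  haveI : Fact p.Prime := ⟨CharP.char_is_prime F p⟩
  have hnt : Nontrivial (Fin n) := Fin.nontrivial_iff_two_le.2 (by omega)
  let P : Subgroup (MulAut (Matrix.ProjectiveSpecialLinearGroup (Fin n) F)) :=
    { carrier := {x | ∃ (C : GL (Fin n) F) (σ : F ≃+* F), x = lift (cj C * fld σ)}
      mul_mem' := by
        rintro _ _ ⟨C, σ, rfl⟩ ⟨D, τ, rfl⟩
        exact ⟨_, _, semi_mul C D σ τ⟩
      one_mem' := ⟨1, 1, by rw [map_one, map_one, mul_one, map_one]⟩
      inv_mem' := by
        rintro _ ⟨C, σ, rfl⟩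
        refine ⟨Matrix.GeneralLinearGroup.map ((σ⁻¹ : F ≃+* F) : F →+* F) C⁻¹, σ⁻¹, ?_⟩
        rw [← map_inv]
        congr 1
        rw [_root_.mul_inv_rev, ← map_inv, ← map_inv, fld_mul_cj] }
  have h1 : Nat.card A ≤ 2 * Nat.card (A ⊓ P : Subgroup _) := by
    apply card_le_two_mul
    intro x hx hxn y hy hyn
    have hx' : ¬ ∃ (C : GL (Fin n) F) (σ : F ≃+* F), x = lift (cj C * fld σ) :=
      fun h' => hxn ⟨hx, h'⟩
    have hy' : ¬ ∃ (C : GL (Fin n) F) (σ : F ≃+* F), y = lift (cj C * fld σ) :=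
      fun h' => hyn ⟨hy, h'⟩
    obtain ⟨C, σ, hC⟩ := (surj_three p hn x).resolve_left hx'
    obtain ⟨D, τ, hD⟩ := (surj_three p hn y).resolve_left hy'
    refine ⟨mul_mem hx hy, C * Matrix.GeneralLinearGroup.map (σ : F →+* F) (ctr D), σ * τ, ?_⟩
    have h5 : cj C * fld σ * itr * (cj D * fld τ * itr)
        = cj C * fld σ * (cj (ctr D) * fld τ) := by
      calc cj C * fld σ * itr * (cj D * fld τ * itr)
          = cj C * fld σ * ((itr * cj D) * (fld τ * itr)) := by simp only [mul_assoc]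
        _ = cj C * fld σ * ((cj (ctr D) * itr) * (itr * fld τ)) := by
            rw [itr_mul_cj, itr_mul_fld]
        _ = cj C * fld σ * (cj (ctr D) * ((itr * itr) * fld τ)) := by simp only [mul_assoc]
        _ = cj C * fld σ * (cj (ctr D) * fld τ) := by rw [itr_mul_itr, one_mul]
    rw [hC, hD, ← map_mul, h5, map_mul, semi_mul]
  have h3 := hk (A ⊓ P) inf_le_left (fun x hx => hx.2)
  omega

/-- `Aut (PSL_n(q))`, `q` odd, `n ≥ 3`. -/
theorem rkAut (h2 : (2 : F) ≠ 0) (hn : 3 ≤ n) :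
    RkAut (Matrix.ProjectiveSpecialLinearGroup (Fin n) F) (rk n + 2) := by
  intro A hA
  have := card_graph hn A (k := 2 * 2 ^ rk n)
    (fun B hB h => card_semi h2 (by omega) B (fun x hx => hA x (hB hx)) h)
  rw [pow_add]
  omega

/-- `Aut (PSL_n(q))`, `q` odd and not a square, `n ≥ 3`. -/
theorem rkAut_odd (h2 : (2 : F) ≠ 0) (hn : 3 ≤ n) (hF : ∀ σ : F ≃+* F, σ * σ = 1 → σ = 1) :
    RkAut (Matrix.ProjectiveSpecialLinearGroup (Fin n) F) (rk n + 1) := by
  intro A hA
  have := card_graph hn A (k := 2 ^ rk n)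
    (fun B hB h => card_semi_odd h2 (by omega) hF B (fun x hx => hA x (hB hx)) h)
  rw [pow_add]
  omega

/-- `Aut (PSL_2(q))`, `q` odd. -/
theorem rkAut_two (h2 : (2 : F) ≠ 0) :
    RkAut (Matrix.ProjectiveSpecialLinearGroup (Fin 2) F) 3 := by
  obtain ⟨p, hp⟩ := CharP.exists F
  haveI : Fact p.Prime := ⟨CharP.char_is_prime F p⟩
  intro A hA
  have := card_semi h2 le_rfl A hA (fun x _ => surj_two p x)
  have h3 : rk 2 = 2 := by decide
  rw [h3] at this
  omega

/-- `Aut (PSL_2(q))`, `q` odd and not a square. -/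
theorem rkAut_two_odd (h2 : (2 : F) ≠ 0) (hF : ∀ σ : F ≃+* F, σ * σ = 1 → σ = 1) :
    RkAut (Matrix.ProjectiveSpecialLinearGroup (Fin 2) F) 2 := by
  obtain ⟨p, hp⟩ := CharP.exists F
  haveI : Fact p.Prime := ⟨CharP.char_is_prime F p⟩
  intro A hA
  have := card_semi_odd h2 le_rfl hF A hA (fun x _ => surj_two p x)
  have h3 : rk 2 = 2 := by decide
  rwa [h3] at this

end Cfsg.Agent.Omega.TwoF.RkPSL

end

section


/-!
# The Heisenberg configuration of `SL_n(F)` and the lower bound for `PSL_n(F)`, odd characteristic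
-/

set_option autoImplicit false
set_option linter.unusedSectionVars false
set_option linter.unusedSimpArgs false

universe u v w

namespace Cfsg.Agent.Omega.TwoF.SignLift

open Cfsg.Agent.Omega.Lie.Heis

/-! ### Functoriality -/

theorem CC.map {K K' : Type*} [Group K] [Group K'] (f : K →* K') {a b : K} (h : CC a b) :
    CC (f a) (f b) := by
  induction h with
  | inv t hab ha hb =>
    exact CC.inv (f t) (by rw [← map_mul, hab, map_mul]) (by rw [← map_inv, ← map_mul, ← map_mul, ha, map_inv])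
      (by rw [← map_mul, hb, map_mul])
  | swap t hab ha hb =>
    exact CC.swap (f t) (by rw [← map_mul, hab, map_mul]) (by rw [← map_inv, ← map_mul, ← map_mul, ha])
      (by rw [← map_inv, ← map_mul, ← map_mul, hb])
  | two k hab ha =>
    exact CC.two k (by rw [← map_mul, hab, map_mul]) (by rw [← map_pow, ha, map_one])
  | refl a => exact CC.refl _
  | symm _ ih => exact ih.symm
  | mul _ _ ih ih' => rw [map_mul]; exact ih.mul ih'
  | inv' _ ih => rw [map_inv]; exact ih.inv'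
  | conj g _ ih =>
    rw [map_mul, map_mul, map_mul, map_mul, map_inv]
    exact ih.conj (f g)

theorem heis_map {K K' : Type*} [Group K] [Group K'] (f : K →* K') {r n : ℕ} {z : K} {x y : Fin n → K}
    (h : Heis r n z x y) : Heis r n (f z) (fun i => f (x i)) (fun i => f (y i)) where
  prime := h.prime
  zr := by rw [← map_pow, h.zr, map_one]
  xr i := by rw [← map_pow, h.xr, map_one]
  zx i := by rw [← map_mul, h.zx, map_mul]
  zy i := by rw [← map_mul, h.zy, map_mul]
  xx i j := by rw [← map_mul, h.xx, map_mul]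
  yx i j hij := by rw [← map_mul, h.yx i j hij, map_mul]
  conj i := by rw [← map_inv, ← map_mul, ← map_mul, h.conj, map_mul]

theorem SignHeis.map {K K' : Type*} [Group K] [Group K'] (f : K →* K') {r n : ℕ} {z : K}
    {x y : Fin n → K} (h : SignHeis r n z x y) :
    SignHeis r n (f z) (fun i => f (x i)) (fun i => f (y i)) where
  heis := heis_map f h.heis
  inv i := by
    obtain ⟨t, ht⟩ := h.inv i
    exact ⟨f t, by rw [← map_inv, ← map_mul, ← map_mul, ht, map_inv]⟩
  czx i := (h.czx i).map f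
  czy i := (h.czy i).map f
  cxx i j hij := (h.cxx i j hij).map f
  cyx i j hij := (h.cyx i j hij).map f
  same i j := by
    obtain ⟨g, ⟨k, hk⟩, h1, h2, h3⟩ := h.same i j
    exact ⟨f g, ⟨k, by rw [← map_pow, hk, map_one]⟩, by rw [← map_mul, h1, map_mul],
      by rw [← map_inv, ← map_mul, ← map_mul, h2], by rw [← map_inv, ← map_mul, ← map_mul, h3]⟩

end Cfsg.Agent.Omega.TwoF.SignLift

namespace Cfsg.Agent.Omega.TwoF.LBPsl

open Matrix Cfsg.Agent.Omega.Lie.Heis Cfsg.Agent.Omega.TwoF.SignLift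
open Cfsg.Agent.ClassicalGeometry.AutPSL.Root

variable {ι F : Type*} [Fintype ι] [DecidableEq ι] [Field F]

/-- Elementary transvections. -/
def E {i j : ι} (hij : i ≠ j) (c : F) : Matrix.SpecialLinearGroup ι F :=
  tr (c • Pi.single i 1) (Pi.single j 1) (by
    rw [dotProduct_smul, single_dotProduct, Pi.single_eq_of_ne hij.symm]; simp)

theorem E_mulVec {i j : ι} (hij : i ≠ j) (c : F) (x : ι → F) :
    (E hij c : Matrix ι ι F) *ᵥ x = fun k => if k = i then x i + c * x j else x k := by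
  rw [E, tr_mulVec]
  funext k
  by_cases hk : k = i
  · subst hk
    simp [mul_comm]
  · simp [hk]

theorem E_mul {i j : ι} (hij : i ≠ j) (c d : F) : E hij c * E hij d = E hij (c + d) := by
  apply sl_ext
  intro x
  rw [sl_mul_mulVec, E_mulVec, E_mulVec, E_mulVec]
  funext k
  by_cases hk : k = i
  · simp [hk, hij.symm]; ring
  · simp [hk]

theorem E_zero {i j : ι} (hij : i ≠ j) : E hij (0 : F) = 1 := by
  apply sl_ext
  intro x
  rw [E_mulVec, Matrix.SpecialLinearGroup.coe_one, one_mulVec]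
  funext k
  by_cases hk : k = i
  · simp [hk]
  · simp [hk]

theorem E_inv {i j : ι} (hij : i ≠ j) (c : F) : (E hij c)⁻¹ = E hij (-c) := by
  rw [inv_eq_iff_mul_eq_one, E_mul, add_neg_cancel, E_zero]

theorem E_pow {i j : ι} (hij : i ≠ j) (c : F) (n : ℕ) : E hij c ^ n = E hij (n * c) := by
  induction n with
  | zero => rw [pow_zero, Nat.cast_zero, zero_mul, E_zero]
  | succ n ih =>
    rw [pow_succ, ih, E_mul]
    congr 1
    push_cast
    ring

/-- Weyl elements: `e_i ↦ e_j ↦ - e_i`. -/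
def W {i j : ι} (hij : i ≠ j) : Matrix.SpecialLinearGroup ι F :=
  E hij.symm 1 * E hij (-1) * E hij.symm 1

theorem W_mulVec {i j : ι} (hij : i ≠ j) (x : ι → F) :
    ((W hij : Matrix.SpecialLinearGroup ι F) : Matrix ι ι F) *ᵥ x
      = fun k => if k = i then - x j else if k = j then x i else x k := by
  rw [W, sl_mul_mulVec, sl_mul_mulVec, E_mulVec, E_mulVec, E_mulVec]
  funext k
  by_cases hk : k = i
  · subst hk
    simp [hij, hij.symm]
  · by_cases hk' : k = j
    · subst hk'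
      simp [hij, hij.symm]
    · simp [hk, hk']

/-- Torus involutions. -/
def H {i j : ι} (hij : i ≠ j) : Matrix.SpecialLinearGroup ι F := W hij * W hij

theorem H_mulVec {i j : ι} (hij : i ≠ j) (x : ι → F) :
    ((H hij : Matrix.SpecialLinearGroup ι F) : Matrix ι ι F) *ᵥ x
      = fun k => if k = i then - x i else if k = j then - x j else x k := by
  rw [H, sl_mul_mulVec, W_mulVec, W_mulVec]
  funext k
  by_cases hk : k = i
  · subst hk
    simp [hij.symm]
  · by_cases hk' : k = j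
    · subst hk'
      simp [hij.symm]
    · simp [hk, hk']

theorem conj_of_mul {G : Type*} [Group G] {t a b : G} (h : t * a = b * t) : t * a * t⁻¹ = b := by
  rw [h, mul_inv_cancel_right]

theorem W_pow {i j : ι} (hij : i ≠ j) : (W hij : Matrix.SpecialLinearGroup ι F) ^ (2 ^ 2) = 1 := by
  have h1 : (W hij : Matrix.SpecialLinearGroup ι F) ^ (2 ^ 2) = H hij * H hij := by
    rw [H]; simp [pow_succ, mul_assoc]
  rw [h1]
  apply sl_ext
  intro x
  rw [sl_mul_mulVec, H_mulVec, H_mulVec, Matrix.SpecialLinearGroup.coe_one, one_mulVec]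
  funext k
  by_cases hk : k = i
  · subst hk
    simp
  · by_cases hk' : k = j
    · subst hk'
      simp [hij.symm]
    · simp [hk, hk']

variable {n : ℕ} {p l : ι} {e : Fin n → ι}

/-- **The Heisenberg configuration of `SL`**. -/
theorem signHeis {r : ℕ} (hr : r.Prime) [CharP F r] (hpl : p ≠ l) (he : Function.Injective e)
    (hp : ∀ i, p ≠ e i) (hl : ∀ i, e i ≠ l) :
    SignHeis r n (E hpl (1 : F)) (fun i => E (hp i) (1 : F)) (fun i => E (hl i) (-1 : F)) := by
  have hr0 : (r : F) = 0 := CharP.cast_eq_zero F r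
  have hpow : ∀ {i j : ι} (hij : i ≠ j) (c : F), E hij c ^ r = 1 := fun hij c => by
    rw [E_pow, hr0, zero_mul, E_zero]
  refine ⟨⟨hr, hpow _ _, fun i => hpow _ _, fun i => ?_, fun i => ?_, fun i j => ?_, fun i j hij => ?_,
    fun i => ?_⟩, fun i => ⟨H (hl i), ?_⟩, fun i => ?_, fun i => ?_, fun i j hij => ?_,
    fun i j hij => ?_, fun i j => ?_⟩
  · -- z x
    apply sl_ext; intro v
    rw [sl_mul_mulVec, sl_mul_mulVec, E_mulVec, E_mulVec, E_mulVec, E_mulVec]
    funext k
    by_cases hk : k = p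
    · simp [hk, hpl.symm, (hp i).symm]; ring
    · simp [hk]
  · -- z y
    apply sl_ext; intro v
    rw [sl_mul_mulVec, sl_mul_mulVec, E_mulVec, E_mulVec, E_mulVec, E_mulVec]
    funext k
    by_cases hk : k = p
    · simp [hk, hpl.symm, hp i, (hl i).symm]
    · simp [hk, hpl.symm, hp i, (hp i).symm, (hl i).symm]
  · -- x x
    apply sl_ext; intro v
    rw [sl_mul_mulVec, sl_mul_mulVec, E_mulVec, E_mulVec, E_mulVec, E_mulVec]
    funext k
    by_cases hk : k = p
    · simp [hk, (hp i).symm, (hp j).symm]; ring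
    · simp [hk]
  · -- y x
    have hne : e i ≠ e j := fun h => hij (he h)
    apply sl_ext; intro v
    rw [sl_mul_mulVec, sl_mul_mulVec, E_mulVec, E_mulVec, E_mulVec, E_mulVec]
    funext k
    by_cases hk : k = p
    · simp [hk, hp i, hpl.symm, hne.symm]
    · simp [hk, hp i, (hp i).symm, hpl.symm, hne.symm]
  · -- conj
    apply conj_of_mul
    apply sl_ext; intro v
    rw [sl_mul_mulVec, sl_mul_mulVec, sl_mul_mulVec, E_mulVec, E_mulVec, E_mulVec, E_mulVec, E_mulVec]
    funext k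
    by_cases hk : k = p
    · simp [hk, hp i, (hp i).symm, (hl i).symm, hpl.symm]; ring
    · simp [hk, hp i, (hp i).symm, (hl i).symm, hpl.symm]
  · -- inv
    apply conj_of_mul
    rw [E_inv]
    apply sl_ext; intro v
    rw [sl_mul_mulVec, sl_mul_mulVec, E_mulVec, E_mulVec, H_mulVec, H_mulVec]
    funext k
    by_cases hk : k = p
    · simp [hk, hp i, (hp i).symm, hpl]
    · simp [hk, (hp i).symm, hpl.symm]
  · -- czx
    apply CC.inv (H (hp i))
    · apply sl_ext; intro v
      rw [sl_mul_mulVec, sl_mul_mulVec, E_mulVec, E_mulVec, E_mulVec, E_mulVec]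
      funext k
      by_cases hk : k = p
      · simp [hk, hpl.symm, (hp i).symm]; ring
      · simp [hk]
    · apply conj_of_mul
      rw [E_inv]
      apply sl_ext; intro v
      rw [sl_mul_mulVec, sl_mul_mulVec, E_mulVec, E_mulVec, H_mulVec, H_mulVec]
      funext k
      by_cases hk : k = p
      · simp [hk, hpl.symm, (hl i).symm]; ring
      · simp [hk, (hp i).symm]
    · apply sl_ext; intro v
      rw [sl_mul_mulVec, sl_mul_mulVec, E_mulVec, E_mulVec, H_mulVec, H_mulVec]
      funext k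
      by_cases hk : k = p
      · simp [hk, (hp i).symm]; ring
      · simp [hk, (hp i).symm]
  · -- czy
    apply CC.inv (H (hl i))
    · apply sl_ext; intro v
      rw [sl_mul_mulVec, sl_mul_mulVec, E_mulVec, E_mulVec, E_mulVec, E_mulVec]
      funext k
      by_cases hk : k = p
      · simp [hk, hpl.symm, hp i, (hl i).symm]
      · simp [hk, hpl.symm, hp i, (hp i).symm, (hl i).symm]
    · apply conj_of_mul
      rw [E_inv]
      apply sl_ext; intro v
      rw [sl_mul_mulVec, sl_mul_mulVec, E_mulVec, E_mulVec, H_mulVec, H_mulVec]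
      funext k
      by_cases hk : k = p
      · simp [hk, hpl, hp i, (hl i).symm]
      · simp [hk, hpl.symm, (hp i).symm]
    · apply sl_ext; intro v
      rw [sl_mul_mulVec, sl_mul_mulVec, E_mulVec, E_mulVec, H_mulVec, H_mulVec]
      funext k
      by_cases hk : k = e i
      · simp [hk, (hl i).symm]; ring
      · simp [hk, (hl i).symm]
  · -- cxx
    have hne : e i ≠ e j := fun h => hij (he h)
    apply CC.inv (H (hl i))
    · apply sl_ext; intro v
      rw [sl_mul_mulVec, sl_mul_mulVec, E_mulVec, E_mulVec, E_mulVec, E_mulVec]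
      funext k
      by_cases hk : k = p
      · simp [hk, (hp i).symm, (hp j).symm]; ring
      · simp [hk]
    · apply conj_of_mul
      rw [E_inv]
      apply sl_ext; intro v
      rw [sl_mul_mulVec, sl_mul_mulVec, E_mulVec, E_mulVec, H_mulVec, H_mulVec]
      funext k
      by_cases hk : k = p
      · simp [hk, hp i, (hp i).symm, hpl]
      · simp [hk, (hp i).symm, hpl.symm]
    · apply sl_ext; intro v
      rw [sl_mul_mulVec, sl_mul_mulVec, E_mulVec, E_mulVec, H_mulVec, H_mulVec]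
      funext k
      by_cases hk : k = p
      · simp [hk, hp i, hpl, hne.symm, hl j]
      · simp [hk, (hp i).symm, hpl.symm]
  · -- cyx
    have hne : e i ≠ e j := fun h => hij (he h)
    have h1 : CC (E (hl i) (-1 : F)) (E (hp j) (1 : F))⁻¹ := by
      apply CC.swap (W (hp i) * W (hl j))
      · rw [E_inv]
        apply sl_ext; intro v
        rw [sl_mul_mulVec, sl_mul_mulVec, E_mulVec, E_mulVec, E_mulVec, E_mulVec]
        funext k
        by_cases hk : k = p
        · simp [hk, hp i, hpl.symm, hne.symm]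
        · simp [hk, hp i, (hp i).symm, hpl.symm, hne.symm]
      · apply conj_of_mul
        rw [E_inv]
        apply sl_ext; intro v
        simp only [sl_mul_mulVec, E_mulVec, W_mulVec]
        funext k
        by_cases hk : k = p
        · simp [hk, hp i, (hp i).symm, hp j, (hp j).symm, hne, hne.symm, hl i, hl j, (hl i).symm,
            (hl j).symm, hpl, hpl.symm]; ring
        · by_cases hk1 : k = e i
          · simp [hk1, hp i, (hp i).symm, hp j, (hp j).symm, hne, hne.symm, hl i, hl j, (hl i).symm,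
            (hl j).symm, hpl, hpl.symm]
          · by_cases hk2 : k = e j
            · simp [hk2, hp i, (hp i).symm, hp j, (hp j).symm, hne, hne.symm, hl i, hl j, (hl i).symm,
            (hl j).symm, hpl, hpl.symm]
            · by_cases hk3 : k = l
              · simp [hk3, hp i, (hp i).symm, hp j, (hp j).symm, hne, hne.symm, hl i, hl j, (hl i).symm,
            (hl j).symm, hpl, hpl.symm]
              · simp [hk, hk1, hk2, hk3]
      · apply conj_of_mul
        rw [E_inv]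
        apply sl_ext; intro v
        simp only [sl_mul_mulVec, E_mulVec, W_mulVec]
        funext k
        by_cases hk : k = e i
        · simp [hk, hp i, (hp i).symm, hp j, (hp j).symm, hne, hne.symm, hl i, hl j, (hl i).symm,
            (hl j).symm, hpl, hpl.symm]
        · by_cases hk1 : k = p
          · simp [hk1, hp i, (hp i).symm, hp j, (hp j).symm, hne, hne.symm, hl i, hl j, (hl i).symm,
            (hl j).symm, hpl, hpl.symm]
          · by_cases hk2 : k = e j
            · simp [hk2, hp i, (hp i).symm, hp j, (hp j).symm, hne, hne.symm, hl i, hl j, (hl i).symm,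
            (hl j).symm, hpl, hpl.symm]
            · by_cases hk3 : k = l
              · simp [hk3, hp i, (hp i).symm, hp j, (hp j).symm, hne, hne.symm, hl i, hl j, (hl i).symm,
            (hl j).symm, hpl, hpl.symm]
              · simp [hk, hk1, hk2, hk3]
    have h2 := h1.inv'
    rwa [inv_inv] at h2
  · -- same
    by_cases hij : i = j
    · subst hij
      exact ⟨1, ⟨0, by simp⟩, by simp, by simp, by simp⟩
    · have hne : e i ≠ e j := fun h => hij (he h)
      refine ⟨W hne, ⟨2, W_pow hne⟩, ?_, ?_, ?_⟩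
      · apply sl_ext; intro v
        simp only [sl_mul_mulVec, E_mulVec, W_mulVec]
        funext k
        by_cases hk : k = p
        · simp [hk, hp i, hp j, (hl i).symm, (hl j).symm]
        · simp [hk, (hp i).symm, (hp j).symm]
      · apply conj_of_mul
        apply sl_ext; intro v
        simp only [sl_mul_mulVec, E_mulVec, W_mulVec]
        funext k
        by_cases hk : k = p
        · simp [hk, hp i, hp j, hne.symm]
        · simp [hk, (hp i).symm, (hp j).symm]
      · apply conj_of_mul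
        apply sl_ext; intro v
        simp only [sl_mul_mulVec, E_mulVec, W_mulVec]
        funext k
        by_cases hk : k = e i
        · simp [hk, hne, hne.symm, (hl i).symm, (hl j).symm]
        · by_cases hk' : k = e j
          · simp [hk', hne, hne.symm, (hl i).symm, (hl j).symm]
          · simp [hk, hk']

end Cfsg.Agent.Omega.TwoF.LBPsl

end

section


/-!
# The Heisenberg configuration of `SU_n(q)` and the lower bound for `PSU_n(q)`, odd characteristic
-/

set_option autoImplicit false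
set_option linter.unusedSectionVars false
set_option linter.unusedSimpArgs false

universe u v w

namespace Cfsg.Agent.Omega.TwoF.LBPsu

open Cfsg Matrix Cfsg.Agent.Omega.Lie.Heis Cfsg.Agent.Omega.TwoF.SignLift
open Cfsg.Agent.LieClassical.HermBasic Cfsg.Agent.LieClassical.HermSiegel
open Cfsg.Agent.Omega.TwoF.LBPsl (W W_mulVec conj_of_mul)

variable {F : Type*} [Field F] [Fintype F] {q n : ℕ}

/-! ### Signed permutations -/

theorem herm_W (hF : Fintype.card F = q ^ 2) {i j : Fin n} (hij : i ≠ j) (x y : Fin n → F) :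
    hermForm n F q (((W hij : Matrix.SpecialLinearGroup (Fin n) F) : Matrix (Fin n) (Fin n) F) *ᵥ x)
      (((W hij : Matrix.SpecialLinearGroup (Fin n) F) : Matrix (Fin n) (Fin n) F) *ᵥ y)
      = hermForm n F q x y := by
  rw [herm_def, herm_def, W_mulVec, W_mulVec]
  rw [← Equiv.sum_comp (Equiv.swap i j) (fun k => x k * y k ^ q)]
  apply Finset.sum_congr rfl
  intro k _
  by_cases hk : k = i
  · subst hk
    simp only [if_true, Equiv.swap_apply_left]
    rw [neg_pow_q hF]
    ring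
  · by_cases hk' : k = j
    · subst hk'
      simp [hk, Equiv.swap_apply_right]
    · simp [hk, hk', Equiv.swap_apply_of_ne_of_ne hk hk']

/-- `e_i ↦ e_j ↦ - e_i` as an element of `SU`. -/
def WU (hF : Fintype.card F = q ^ 2) {i j : Fin n} (hij : i ≠ j) : SU n F q :=
  mkSU ((W hij : Matrix.SpecialLinearGroup (Fin n) F) : Matrix (Fin n) (Fin n) F)
    (W hij : Matrix.SpecialLinearGroup (Fin n) F).2 (herm_W hF hij)

theorem act_WU (hF : Fintype.card F = q ^ 2) {i j : Fin n} (hij : i ≠ j) (x : Fin n → F) :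
    act (WU hF hij) x = fun k => if k = i then - x j else if k = j then x i else x k :=
  W_mulVec hij x

/-- The sign change at `i` and `j`. -/
def HU (hF : Fintype.card F = q ^ 2) {i j : Fin n} (hij : i ≠ j) : SU n F q := WU hF hij * WU hF hij

theorem act_HU (hF : Fintype.card F = q ^ 2) {i j : Fin n} (hij : i ≠ j) (x : Fin n → F) :
    act (HU hF hij) x = fun k => if k = i then - x i else if k = j then - x j else x k := by
  rw [HU, act_mul, act_WU, act_WU]
  funext k
  by_cases hk : k = i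
  · subst hk
    simp [hij.symm]
  · by_cases hk' : k = j
    · subst hk'
      simp [hij.symm]
    · simp [hk, hk']

theorem WU_pow (hF : Fintype.card F = q ^ 2) {i j : Fin n} (hij : i ≠ j) :
    (WU hF hij : SU n F q) ^ (2 ^ 2) = 1 := by
  have h1 : (WU hF hij : SU n F q) ^ (2 ^ 2) = HU hF hij * HU hF hij := by
    rw [HU]; simp [pow_succ, mul_assoc]
  rw [h1]
  apply ext_act
  intro x
  rw [act_mul, act_HU, act_HU, act_one]
  funext k
  by_cases hk : k = i
  · subst hk
    simp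
  · by_cases hk' : k = j
    · subst hk'
      simp [hij.symm]
    · simp [hk, hk']

/-! ### Root elements at an isotropic vector -/

/-- An isotropic vector `u` and orthonormal vectors `w i` orthogonal to `u`. -/
structure Frame (q : ℕ) {m : ℕ} (u : Fin n → F) (w : Fin m → Fin n → F) : Prop where
  uu : hermForm n F q u u = 0
  wu : ∀ i, hermForm n F q (w i) u = 0
  ww : ∀ i, hermForm n F q (w i) (w i) = 1
  ne : ∀ i j, i ≠ j → hermForm n F q (w i) (w j) = 0

variable {m : ℕ} {u : Fin n → F} {w : Fin m → Fin n → F}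

theorem two_pow (hF : Fintype.card F = q ^ 2) : (2 : F) ^ q = 2 := by
  have := map_ofNat (conj hF) 2
  simpa [conj_apply] using this

theorem half_pow (hF : Fintype.card F = q ^ 2) : ((2 : F)⁻¹) ^ q = 2⁻¹ := by
  rw [inv_pow, two_pow hF]

theorem half_add (h2 : (2 : F) ≠ 0) (a : F) : -((2 : F)⁻¹ * a) + -((2 : F)⁻¹ * a) + a = 0 := by
  have : (2 : F)⁻¹ * a + (2 : F)⁻¹ * a = a := by
    rw [← two_mul, ← mul_assoc, mul_inv_cancel₀ h2, one_mul]
  linear_combination -this

theorem isSiegel_T (hF : Fintype.card F = q ^ 2) (h2 : (2 : F) ≠ 0) (H : Frame q u w) (c : F)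
    (i : Fin m) : IsSiegel q u (c • w i) (-((2 : F)⁻¹ * (c * c ^ q))) := by
  refine ⟨H.uu, by rw [herm_smul_left, H.wu, mul_zero], ?_⟩
  have h1 : (-((2 : F)⁻¹ * (c * c ^ q))) ^ q = -((2 : F)⁻¹ * (c * c ^ q)) := by
    rw [neg_pow_q hF, mul_pow, half_pow hF, norm_pow_q hF]
  rw [h1, herm_smul_left, herm_smul_right, H.ww, mul_one]
  exact half_add h2 _

/-- The root element `T c i`. -/
def T (hF : Fintype.card F = q ^ 2) (h2 : (2 : F) ≠ 0) (H : Frame q u w) (c : F) (i : Fin m) :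
    SU n F q := siegel hF u (c • w i) (-((2 : F)⁻¹ * (c * c ^ q))) (isSiegel_T hF h2 H c i)

theorem isSiegel_Z (hF : Fintype.card F = q ^ 2) (H : Frame q u w) {δ : F}
    (hδ : δ + δ ^ q = 0) : IsSiegel q u 0 δ :=
  ⟨H.uu, herm_zero_left u, by rw [herm_zero_left, add_zero, hδ]⟩

/-- The central element. -/
def Z (hF : Fintype.card F = q ^ 2) (H : Frame q u w) {δ : F} (hδ : δ + δ ^ q = 0) : SU n F q :=
  siegel hF u 0 δ (isSiegel_Z hF H hδ)

theorem Z_comm (hF : Fintype.card F = q ^ 2) (h2 : (2 : F) ≠ 0) (H : Frame q u w) {δ : F}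
    (hδ : δ + δ ^ q = 0) (c : F) (i : Fin m) : Z hF H hδ * T hF h2 H c i = T hF h2 H c i * Z hF H hδ := by
  rw [Z, T, siegel_mul, siegel_mul]
  apply siegel_congr hF _ _ rfl
  · rw [zero_add, add_zero]
  · rw [herm_zero_right hF, herm_zero_left]
    ring

theorem T_comm (hF : Fintype.card F = q ^ 2) (h2 : (2 : F) ≠ 0) (H : Frame q u w) (c d : F)
    {i j : Fin m} (hij : i ≠ j) : T hF h2 H c i * T hF h2 H d j = T hF h2 H d j * T hF h2 H c i := by
  rw [T, T, siegel_mul, siegel_mul]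
  apply siegel_congr hF _ _ rfl
  · rw [add_comm]
  · rw [herm_smul_left, herm_smul_right, herm_smul_left, herm_smul_right, H.ne i j hij,
      H.ne j i hij.symm]
    ring

theorem T_conj (hF : Fintype.card F = q ^ 2) (h2 : (2 : F) ≠ 0) (H : Frame q u w) {τ : F}
    (hτ : τ ^ q = -τ) (hδ : 2 * τ + (2 * τ) ^ q = 0) (i : Fin m) :
    T hF h2 H τ i * T hF h2 H 1 i = T hF h2 H 1 i * Z hF H hδ * T hF h2 H τ i := by
  rw [T, T, Z, siegel_mul, siegel_mul, siegel_mul]
  apply siegel_congr hF _ _ rfl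
  · rw [add_zero, add_comm]
  · rw [herm_smul_left, herm_smul_right, herm_zero_left, herm_smul_left, add_zero, herm_smul_right,
      H.ww, hτ]
    simp only [one_pow, mul_one, one_mul]
    ring

theorem T_inv (hF : Fintype.card F = q ^ 2) (h2 : (2 : F) ≠ 0) (H : Frame q u w) (c : F) (i : Fin m) :
    (T hF h2 H c i)⁻¹ = T hF h2 H (-c) i := by
  rw [T, T, siegel_inv]
  apply siegel_congr hF _ _ rfl
  · rw [neg_smul]
  · rw [neg_pow_q hF, mul_pow, half_pow hF, norm_pow_q hF, neg_pow_q hF]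
    ring

theorem T_pow (hF : Fintype.card F = q ^ 2) (h2 : (2 : F) ≠ 0) (H : Frame q u w) (c : F) (i : Fin m)
    (k : ℕ) : T hF h2 H c i ^ k = T hF h2 H (k * c) i := by
  induction k with
  | zero =>
    rw [pow_zero, T, ← siegel_zero hF (IsSiegel.zero hF H.uu)]
    apply siegel_congr hF _ _ rfl
    · simp
    · rw [Nat.cast_zero, zero_mul, zero_mul, mul_zero, neg_zero]
  | succ k ih =>
    rw [pow_succ, ih, T, T, T, siegel_mul]
    apply siegel_congr hF _ _ rfl
    · rw [← add_smul]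
      congr 1
      push_cast
      ring
    · have hk : ((k : F)) ^ q = k := map_natCast (conj hF) k
      have hk1 : (((k + 1 : ℕ) : F)) ^ q = ((k + 1 : ℕ) : F) := by
        have := map_natCast (conj hF) (k + 1)
        simpa [conj_apply] using this
      rw [herm_smul_left, herm_smul_right, H.ww, mul_pow, mul_pow, hk, hk1]
      push_cast
      have h3 : (2 : F)⁻¹ * 2 = 1 := inv_mul_cancel₀ h2
      linear_combination ((k : F) * c * c ^ q) * h3

theorem Z_pow (hF : Fintype.card F = q ^ 2) (H : Frame q u w) {δ : F} (hδ : δ + δ ^ q = 0) (k : ℕ)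
    (h0 : (k : F) = 0) : Z hF H hδ ^ k = 1 := by
  have key : ∀ k : ℕ, ∃ h : IsSiegel q u 0 ((k : F) * δ), Z hF H hδ ^ k = siegel hF u 0 (k * δ) h := by
    intro k
    induction k with
    | zero =>
      have h : IsSiegel q u 0 (((0 : ℕ) : F) * δ) := by
        rw [Nat.cast_zero, zero_mul]
        exact IsSiegel.zero hF H.uu
      refine ⟨h, ?_⟩
      rw [pow_zero, ← siegel_zero hF (IsSiegel.zero hF H.uu)]
      exact siegel_congr hF _ _ rfl rfl (by rw [Nat.cast_zero, zero_mul])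
    | succ k ih =>
      obtain ⟨h, ih⟩ := ih
      have h3 := h.mul hF (isSiegel_Z hF H hδ)
      have e1 : (k : F) * δ + δ - hermForm n F q 0 0 = ((k + 1 : ℕ) : F) * δ := by
        rw [herm_zero_left]
        push_cast
        ring
      have e2 : (0 : Fin n → F) + 0 = 0 := add_zero 0
      refine ⟨by rw [← e1, ← e2]; simpa using h3, ?_⟩
      rw [pow_succ, ih, Z, siegel_mul]
      exact siegel_congr hF _ _ rfl e2 e1
  obtain ⟨h, hk⟩ := key k
  rw [hk, ← siegel_zero hF (IsSiegel.zero hF H.uu)]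
  exact siegel_congr hF _ _ rfl rfl (by rw [h0, zero_mul])

/-- Conjugation by an element fixing `u` and moving `w i` to `w j`. -/
theorem conj_T (hF : Fintype.card F = q ^ 2) (h2 : (2 : F) ≠ 0) (H : Frame q u w) {g : SU n F q}
    (hu : act g u = u) {i j : Fin m} (hw : act g (w i) = w j) (c : F) :
    g * T hF h2 H c i * g⁻¹ = T hF h2 H c j := by
  rw [T, T, conj_siegel]
  exact siegel_congr hF _ _ hu (by rw [act_smul, hw]) rfl

theorem conj_T_neg (hF : Fintype.card F = q ^ 2) (h2 : (2 : F) ≠ 0) (H : Frame q u w) {g : SU n F q}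
    (hu : act g u = u) {i : Fin m} (hw : act g (w i) = -w i) (c : F) :
    g * T hF h2 H c i * g⁻¹ = (T hF h2 H c i)⁻¹ := by
  rw [T_inv, T, T, conj_siegel]
  refine siegel_congr hF _ _ hu (by rw [act_smul, hw, smul_neg, neg_smul]) ?_
  rw [neg_pow_q hF]
  ring

theorem conj_Z (hF : Fintype.card F = q ^ 2) (H : Frame q u w) {δ : F} (hδ : δ + δ ^ q = 0)
    {g : SU n F q} (hu : act g u = u) : g * Z hF H hδ * g⁻¹ = Z hF H hδ := by
  rw [Z, conj_siegel]
  exact siegel_congr hF _ _ hu (act_zero g) rfl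

/-- Conjugation by an element with `u ↦ - u` fixing `w i`. -/
theorem conj_T_neg' (hF : Fintype.card F = q ^ 2) (h2 : (2 : F) ≠ 0) (H : Frame q u w) {g : SU n F q}
    (hu : act g u = (-1 : F) • u) {i : Fin m} (hw : act g (w i) = w i) (c : F) :
    g * T hF h2 H c i * g⁻¹ = (T hF h2 H c i)⁻¹ := by
  have h1 := isSiegel_T hF h2 H c i
  rw [T_inv, T, T, conj_siegel, siegel_congr hF _ (h1.smul (c := -1)) hu
    (show act g (c • w i) = c • w i by rw [act_smul, hw]) rfl, siegel_smul hF h1]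
  have e1 : (-1 : F) ^ q = -1 := by rw [neg_pow_q hF, one_pow]
  refine siegel_congr hF _ _ rfl ?_ ?_
  · rw [e1, neg_smul, one_smul, neg_smul]
  · rw [e1, neg_pow_q hF]
    ring

theorem conj_Z_neg (hF : Fintype.card F = q ^ 2) (H : Frame q u w) {δ : F} (hδ : δ + δ ^ q = 0)
    {g : SU n F q} (hu : act g u = (-1 : F) • u) : g * Z hF H hδ * g⁻¹ = Z hF H hδ := by
  have h1 := isSiegel_Z hF H hδ
  rw [Z, conj_siegel, siegel_congr hF _ (h1.smul (c := -1)) hu (act_zero g) rfl, siegel_smul hF h1]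
  have e1 : (-1 : F) ^ q = -1 := by rw [neg_pow_q hF, one_pow]
  refine siegel_congr hF _ _ rfl (smul_zero _) ?_
  rw [e1]
  ring

theorem comm_of_conj {G : Type*} [Group G] {g a : G} (h : g * a * g⁻¹ = a) : g * a = a * g := by
  calc g * a = (g * a * g⁻¹) * g := by group
    _ = a * g := by rw [h]

/-- The Heisenberg configuration. -/
theorem heis (hF : Fintype.card F = q ^ 2) (h2 : (2 : F) ≠ 0) (H : Frame q u w) {r : ℕ}
    (hr : r.Prime) [CharP F r] {τ : F} (hτ : τ ^ q = -τ) (hδ : 2 * τ + (2 * τ) ^ q = 0) :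
    Heis r m (Z hF H hδ) (fun i => T hF h2 H 1 i) (fun i => T hF h2 H τ i) where
  prime := hr
  zr := Z_pow hF H hδ r (CharP.cast_eq_zero F r)
  xr i := by
    show T hF h2 H 1 i ^ r = 1
    rw [T_pow, CharP.cast_eq_zero F r, zero_mul, T, ← siegel_zero hF (IsSiegel.zero hF H.uu)]
    apply siegel_congr hF _ _ rfl
    · rw [zero_smul]
    · rw [zero_mul, mul_zero, neg_zero]
  zx i := Z_comm hF h2 H hδ 1 i
  zy i := Z_comm hF h2 H hδ τ i
  xx i j := by
    by_cases hij : i = j
    · rw [hij]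
    · exact T_comm hF h2 H 1 1 hij
  yx i j hij := T_comm hF h2 H τ 1 hij
  conj i := conj_of_mul (T_conj hF h2 H hτ hδ i)

/-- One pair. -/
theorem signHeis_one (hF : Fintype.card F = q ^ 2) (h2 : (2 : F) ≠ 0) {w : Fin 1 → Fin n → F}
    (H : Frame q u w) {r : ℕ} (hr : r.Prime) [CharP F r] {τ : F} (hτ : τ ^ q = -τ)
    (hδ : 2 * τ + (2 * τ) ^ q = 0) {g : SU n F q} (hu : act g u = (-1 : F) • u)
    (hw : act g (w 0) = w 0) :
    SignHeis r 1 (Z hF H hδ) (fun i => T hF h2 H 1 i) (fun i => T hF h2 H τ i) := by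
  have hinv : ∀ (c : F) (i : Fin 1), g * T hF h2 H c i * g⁻¹ = (T hF h2 H c i)⁻¹ := by
    intro c i
    have : i = 0 := Subsingleton.elim _ _
    subst this
    exact conj_T_neg' hF h2 H hu hw c
  have hz := comm_of_conj (conj_Z_neg hF H hδ hu)
  refine ⟨heis hF h2 H hr hτ hδ, fun i => ⟨g, hinv 1 i⟩, fun i => ?_, fun i => ?_, fun i j hij => ?_,
    fun i j hij => ?_, fun i j => ?_⟩
  · exact (CC.inv g (Z_comm hF h2 H hδ 1 i).symm (hinv 1 i) hz).symm
  · exact (CC.inv g (Z_comm hF h2 H hδ τ i).symm (hinv τ i) hz).symm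
  · exact absurd (Subsingleton.elim i j) hij
  · exact absurd (Subsingleton.elim i j) hij
  · have : i = j := Subsingleton.elim _ _
    subst this
    exact ⟨1, ⟨0, by simp⟩, by simp, by simp, by simp⟩

/-- The general configuration. -/
theorem signHeis (hF : Fintype.card F = q ^ 2) (h2 : (2 : F) ≠ 0) (H : Frame q u w) {r : ℕ}
    (hr : r.Prime) [CharP F r] {τ : F} (hτ : τ ^ q = -τ) (hδ : 2 * τ + (2 * τ) ^ q = 0)
    (hinv : ∀ i, ∃ g : SU n F q, act g u = u ∧ act g (w i) = -w i)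
    (hsep : ∀ i j, i ≠ j → ∃ g : SU n F q, act g u = u ∧ act g (w i) = -w i ∧ act g (w j) = w j)
    (hswp : ∀ i j, ∃ g : SU n F q, (∃ k : ℕ, g ^ (2 ^ k) = 1) ∧ act g u = u ∧ act g (w i) = w j) :
    SignHeis r m (Z hF H hδ) (fun i => T hF h2 H 1 i) (fun i => T hF h2 H τ i) := by
  refine ⟨heis hF h2 H hr hτ hδ, fun i => ?_, fun i => ?_, fun i => ?_, fun i j hij => ?_,
    fun i j hij => ?_, fun i j => ?_⟩
  · obtain ⟨g, hu, hw⟩ := hinv i
    exact ⟨g, conj_T_neg hF h2 H hu hw 1⟩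
  · obtain ⟨g, hu, hw⟩ := hinv i
    exact (CC.inv g (Z_comm hF h2 H hδ 1 i).symm (conj_T_neg hF h2 H hu hw 1)
      (comm_of_conj (conj_Z hF H hδ hu))).symm
  · obtain ⟨g, hu, hw⟩ := hinv i
    exact (CC.inv g (Z_comm hF h2 H hδ τ i).symm (conj_T_neg hF h2 H hu hw τ)
      (comm_of_conj (conj_Z hF H hδ hu))).symm
  · obtain ⟨g, hu, hw, hw'⟩ := hsep i j hij
    exact CC.inv g (T_comm hF h2 H 1 1 hij) (conj_T_neg hF h2 H hu hw 1)
      (comm_of_conj (conj_T hF h2 H hu hw' 1))
  · obtain ⟨g, hu, hw, hw'⟩ := hsep i j hij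
    exact CC.inv g (T_comm hF h2 H τ 1 hij) (conj_T_neg hF h2 H hu hw τ)
      (comm_of_conj (conj_T hF h2 H hu hw' 1))
  · obtain ⟨g, hg, hu, hw⟩ := hswp i j
    exact ⟨g, hg, comm_of_conj (conj_Z hF H hδ hu), conj_T hF h2 H hu hw 1, conj_T hF h2 H hu hw τ⟩

/-- The central element is not trivial modulo the centre. -/
theorem Z_ne (hF : Fintype.card F = q ^ 2) (hn : 3 ≤ n) (hm : 0 < m) (H : Frame q u w) {δ : F}
    (hδ : δ + δ ^ q = 0) (h0 : δ ≠ 0) (hu : u ≠ 0) :
    Cfsg.Agent.ClassicalGeometry.UnitAutBasic.pr n F q (Z hF H hδ) ≠ 1 := by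
  intro h1
  have h2 : Z hF H hδ ∈ Subgroup.center (SU n F q) := (QuotientGroup.eq_one_iff _).1 h1
  obtain ⟨c, hc0, -, hc⟩ :=
    Cfsg.Agent.ClassicalGeometry.PSUAutBasic.exists_scalar_of_mem_center hF hn h2
  have h3 : act (Z hF H hδ) u = u := act_siegel_self hF _
  rw [hc] at h3
  have h4 : c = 1 := by
    have h5 : (c - 1) • u = 0 := by rw [sub_smul, one_smul, h3, sub_self]
    rcases smul_eq_zero.1 h5 with h | h
    · exact sub_eq_zero.1 h
    · exact absurd h hu
  obtain ⟨v, hv⟩ := exists_herm_ne_zero hF hu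
  have hv' : hermForm n F q v u ≠ 0 := fun h => hv (herm_eq_zero_swap hF h)
  have h6 := hc v
  rw [h4, one_smul, Z, act_siegel, smul_zero, add_zero, herm_zero_right hF, sub_zero] at h6
  have h7 : (δ * hermForm n F q v u) • u = 0 := by
    have := congrArg (fun x => x - v) h6
    simpa using this
  rcases smul_eq_zero.1 h7 with h | h
  · exact (mul_ne_zero h0 hv') h
  · exact hu h

/-! ### The standard frame -/

theorem exists_alpha (hF : Fintype.card F = q ^ 2) : ∃ α : F, α * α ^ q = -1 :=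
  exists_norm_eq hF (by rw [neg_pow_q hF, one_pow])

theorem exists_tau (hF : Fintype.card F = q ^ 2) : ∃ τ : F, τ ≠ 0 ∧ τ ^ q = -τ := by
  obtain ⟨τ, h0, h⟩ := exists_trace_zero_ne hF
  exact ⟨τ, h0, by linear_combination h⟩

/-- The standard isotropic vector. -/
def uu (n : ℕ) (α : F) : Fin (n + 2) → F := Pi.single 0 1 + α • Pi.single 1 1

/-- The standard orthonormal vectors. -/
def ww (n : ℕ) (i : Fin n) : Fin (n + 2) → F := Pi.single i.succ.succ 1

theorem frame (hF : Fintype.card F = q ^ 2) {α : F} (hα : α * α ^ q = -1) {k : ℕ} (e : Fin m → Fin k)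
    (he : Function.Injective e) : Frame q (uu k α) (fun i => ww k (e i)) where
  uu := by
    rw [uu, herm_add_left, herm_smul_left, herm_single_left, herm_single_left]
    simp only [Pi.add_apply, Pi.smul_apply, Pi.single_eq_same, smul_eq_mul, one_mul, mul_one]
    rw [Pi.single_eq_of_ne (by simp : (0 : Fin (k + 2)) ≠ 1), Pi.single_eq_of_ne (by simp : (1 : Fin (k + 2)) ≠ 0)]
    simp [hα]
  wu i := by
    rw [ww, herm_single_left, uu]
    have h1 : (e i).succ.succ ≠ (0 : Fin (k + 2)) := Fin.succ_ne_zero _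
    have h3 : (e i).succ.succ ≠ (1 : Fin (k + 2)) := by
      intro h
      have := congrArg Fin.val h
      simp at this
    simp only [Pi.add_apply, Pi.smul_apply, Pi.single_eq_of_ne h1, Pi.single_eq_of_ne h3, smul_eq_mul,
      mul_zero, add_zero]
    rw [zero_pow_q hF, mul_zero]
  ww i := by
    rw [ww, herm_single_left, Pi.single_eq_same, one_pow, one_mul]
  ne i j hij := by
    rw [ww, ww, herm_single_left, Pi.single_eq_of_ne, zero_pow_q hF, mul_zero]
    intro h
    exact hij (he (Fin.succ_injective _ (Fin.succ_injective _ h)))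

theorem uu_ne {k : ℕ} (α : F) : uu k α ≠ 0 := by
  intro h
  have := congrFun h 0
  simp [uu] at this

end Cfsg.Agent.Omega.TwoF.LBPsu

end
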