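import Cfsg.Agent.Omega.TwoF.Defs
import Cfsg.Agent.Omega.TwoF.Rk
import Cfsg.Agent.Omega.Lie.HeisCover
import Cfsg.Agent.Mrg.Omega.TwoF.SignLift

section


/-!
# TABLE 2F: from the forms of `Lie.HeisCover` (`Heis.LB`) and `TwoF.Rk` (`Rk.RK`) to `TwoF.Defs`
-/

set_option autoImplicit false

namespace Cfsg.Agent.Omega.TwoF

open Subgroup

universe u v

/-- `(LB K n)` of `Lie.HeisCover` gives `(LB K n)`. -/
theorem LB.of_heis {K : Type v} [Group K] {n : ℕ} (h : Lie.Heis.LB.{v, u, u} K n) : LB.{u, v} K n :=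
  fun L _ _ π hπ V _ _ φ h2 h1 =>
    h L π hπ.surj hπ.cent hπ.odd hπ.perf V (fun x => ⟨1, by rw [pow_one]; exact h2 x⟩) φ h1

/-- `RkAut K a` of `TwoF.RkPSL` (or any other file) gives `(RK K a)`. -/
theorem RK.of_mul_self {K : Type v} [Group K] {a : ℕ}
    (h : ∀ A : Subgroup (MulAut K), (∀ x ∈ A, x * x = 1) → Nat.card A ≤ 2 ^ a) : RK K a :=
  fun A hA => h A fun x hx => by rw [← pow_two]; exact hA x hx

/-- `(RK K a)` of `TwoF.Rk` gives `(RK K a)`. -/
theorem RK.of_rk {K : Type v} [Group K] [Finite K] (hK : center K = ⊥) {a : ℕ} (h : Rk.RK.{v} K a) : RK K a := by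
  intro A hA
  have hinj : Function.Injective (MulAut.conj : K →* MulAut K) := by
    rw [injective_iff_map_eq_one]
    intro g hg
    rw [← mem_bot, ← hK, mem_center_iff]
    intro x
    have h2 := DFunLike.congr_fun hg x
    simp only [MulAut.conj_apply, MulAut.one_apply] at h2
    exact (mul_inv_eq_iff_eq_mul.1 h2).symm
  have hn : (MulAut.conj : K →* MulAut K).range.Normal := by
    constructor
    rintro _ ⟨k, rfl⟩ φ
    refine ⟨φ k, ?_⟩
    ext x
    simp
  refine h (MulAut K) (MulAut.conj : K →* MulAut K).range ⟨(MonoidHom.ofInjective hinj).symm⟩ ?_ A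
    fun x hx => by rw [← pow_two]; exact hA x hx
  rw [eq_bot_iff]
  intro φ hφ
  rw [mem_bot]
  ext x
  rw [MulAut.one_apply]
  apply hinj
  have h1 : MulAut.conj x * φ = φ * MulAut.conj x := mem_centralizer_iff.mp hφ _ ⟨x, rfl⟩
  have h2 : MulAut.conj (φ x) = φ * MulAut.conj x * φ⁻¹ := by
    ext y
    simp
  rw [h2, ← h1, mul_inv_cancel_right]

end Cfsg.Agent.Omega.TwoF

end

section


/-!
# EH3: elementary abelian 2-subgroups of `Aut (PSL_n(q))`, `q` even, `n = 2, 3` (helper234)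

* `Rep M` : `M : A → GL_n(F)`, `M x * M x = 1`, `x` is induced by `M x`, for a group `A` of linear automorphisms of
  exponent 2; `Rep.map_mul`, `Rep.inj`;
* `two_card` : `n = 2` : `|A| ≤ q` for linear `A`;
* `rkAut_two_four` : `RkAut PSL₂(4) 3`;
* `three_types` : `n = 3` : a linear `A` has a common centre or a common axis;
* `rkAut_three` : `RkAut PSL₃(2^k) m`, if `k + 2 ≤ m`, `2 k ≤ m`.
-/

set_option autoImplicit false
set_option linter.unusedSectionVars false

namespace Cfsg.Agent.Omega.EH3.Rank1.RkPslEven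

open Matrix Cfsg.Agent.Omega.TwoF Cfsg.Agent.Omega.TwoF.RkLin Cfsg.Agent.Omega.TwoF.RkPSL
open Cfsg.Agent.ClassicalGeometry.AutPSL.Root Cfsg.Agent.ClassicalGeometry.AutPSL.Auto
  Cfsg.Agent.ClassicalGeometry.AutPSL.Main Cfsg.Agent.Schreier.ClassPSL

variable {F : Type*} [Field F] [Fintype F] {n : ℕ}

theorem eq_one_of_sq (h2 : (2 : F) = 0) {r : F} (h : r * r = 1) : r = 1 := by
  have h1 : (r - 1) * (r - 1) = 0 := by linear_combination h + (1 - r) * h2
  have := mul_self_eq_zero.1 h1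
  exact sub_eq_zero.1 this

theorem exists_sqrt (h2 : (2 : F) = 0) (r : F) : ∃ s : F, s * s = r := by
  have hinj : Function.Injective fun s : F => s * s := by
    intro s t hst
    have hst' : s * s = t * t := hst
    have h1 : (s - t) * (s - t) = 0 := by linear_combination hst' + (t * t - s * t) * h2
    have := mul_self_eq_zero.1 h1
    exact sub_eq_zero.1 this
  exact Finite.surjective_of_injective hinj r

/-- the scalar matrix -/
def sc (n : ℕ) (u : Fˣ) : GL (Fin n) F := Matrix.GeneralLinearGroup.scalar (Fin n) u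

theorem coe_sc (u : Fˣ) : (sc n u : Matrix (Fin n) (Fin n) F) = scalar (Fin n) (u : F) := rfl

theorem cj_sc (u : Fˣ) : cj (sc n u) = 1 := cj_eq_one_of_scalar (r := (u : F)) (coe_sc u).symm

theorem sc_mul (u : Fˣ) (C : GL (Fin n) F) : sc n u * C = C * sc n u := by
  apply Units.ext
  rw [Units.val_mul, Units.val_mul, coe_sc]
  ext i j
  simp [Matrix.scalar, mul_comm]

/-- `C`, `D` induce the same automorphism iff they differ by a scalar -/
theorem exists_sc (hn : 2 ≤ n) {C D : GL (Fin n) F} (h : lift (cj C) = lift (cj D)) : ∃ u : Fˣ, C = sc n u * D := by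
  have hnt : Nontrivial (Fin n) := Fin.nontrivial_iff_two_le.2 hn
  have h1 : lift (cj (C * D⁻¹) * fld (1 : F ≃+* F)) = lift (fld (1 : F ≃+* F)) := by
    rw [map_one fld, mul_one, map_one, map_mul cj, map_mul, h, map_inv cj, map_inv, mul_inv_cancel]
  obtain ⟨⟨r, hr⟩, -⟩ := injective_aux h1
  have hr0 : r ≠ 0 := by
    rintro rfl
    have h3 : IsUnit ((C * D⁻¹ : GL (Fin n) F) : Matrix (Fin n) (Fin n) F) := (C * D⁻¹).isUnit
    rw [← hr, map_zero] at h3
    have : Nontrivial (Matrix (Fin n) (Fin n) F) := by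
      refine ⟨⟨0, 1, fun h => ?_⟩⟩
      have := congrArg (fun A : Matrix (Fin n) (Fin n) F => A ⟨0, by omega⟩ ⟨0, by omega⟩) h
      simp at this
    exact not_isUnit_zero h3
  refine ⟨Units.mk0 r hr0, ?_⟩
  rw [← mul_inv_eq_iff_eq_mul]
  apply Units.ext
  rw [coe_sc]
  exact hr.symm

theorem sc_sq_one (h2 : (2 : F) = 0) (hn : 1 ≤ n) {u : Fˣ} (h : sc n u * sc n u = 1) : u = 1 := by
  apply Units.ext
  refine eq_one_of_sq h2 ?_
  have h1 := congrArg (fun A : GL (Fin n) F => (A : Matrix (Fin n) (Fin n) F) ⟨0, by omega⟩ ⟨0, by omega⟩) h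
  have h3 : ((sc n u * sc n u : GL (Fin n) F) : Matrix (Fin n) (Fin n) F) =
      scalar (Fin n) ((u : F) * (u : F)) := by
    rw [Units.val_mul, coe_sc, ← map_mul]
  have h1' : ((sc n u * sc n u : GL (Fin n) F) : Matrix (Fin n) (Fin n) F) ⟨0, by omega⟩ ⟨0, by omega⟩ =
    ((1 : GL (Fin n) F) : Matrix (Fin n) (Fin n) F) ⟨0, by omega⟩ ⟨0, by omega⟩ := h1
  rw [h3] at h1'
  simpa [Matrix.scalar] using h1'

theorem uniq (h2 : (2 : F) = 0) (hn : 2 ≤ n) {C D : GL (Fin n) F} (hC : C * C = 1) (hD : D * D = 1)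
    (h : lift (cj C) = lift (cj D)) : C = D := by
  obtain ⟨u, hu⟩ := exists_sc hn h
  have h1 : sc n u * sc n u = 1 := by
    have h3 : C * C = sc n u * sc n u * (D * D) := by
      rw [hu]
      calc sc n u * D * (sc n u * D) = sc n u * (D * sc n u) * D := by simp only [mul_assoc]
        _ = sc n u * (sc n u * D) * D := by rw [← sc_mul u D]
        _ = _ := by simp only [mul_assoc]
    rw [hC, hD, mul_one] at h3
    exact h3.symm
  have := sc_sq_one h2 (by omega) h1
  subst this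
  rw [hu]
  have : sc n (1 : Fˣ) = (1 : GL (Fin n) F) := map_one _
  rw [this, one_mul]

theorem exists_rep (h2 : (2 : F) = 0) (hn : 2 ≤ n) {x : MulAut (Matrix.ProjectiveSpecialLinearGroup (Fin n) F)}
    (hx : x * x = 1) (h : ∃ C : GL (Fin n) F, x = lift (cj C)) :
    ∃ C : GL (Fin n) F, C * C = 1 ∧ x = lift (cj C) := by
  obtain ⟨C, rfl⟩ := h
  have h1 : lift (cj (C * C)) = lift (cj (1 : GL (Fin n) F)) := by
    rw [map_mul cj, map_mul, hx, map_one cj, map_one]
  obtain ⟨u, hu⟩ := exists_sc hn h1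
  rw [mul_one] at hu
  obtain ⟨s, hs⟩ := exists_sqrt h2 ((u⁻¹ : Fˣ) : F)
  have hs0 : s ≠ 0 := by
    rintro rfl
    rw [mul_zero] at hs
    exact (u⁻¹).ne_zero hs.symm
  have hsu : Units.mk0 s hs0 * Units.mk0 s hs0 = u⁻¹ := Units.ext hs
  refine ⟨sc n (Units.mk0 s hs0) * C, ?_, ?_⟩
  · calc sc n (Units.mk0 s hs0) * C * (sc n (Units.mk0 s hs0) * C)
        = sc n (Units.mk0 s hs0) * (C * sc n (Units.mk0 s hs0)) * C := by simp only [mul_assoc]
      _ = sc n (Units.mk0 s hs0) * (sc n (Units.mk0 s hs0) * C) * C := by rw [← sc_mul _ C]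
      _ = (sc n (Units.mk0 s hs0) * sc n (Units.mk0 s hs0)) * (C * C) := by simp only [mul_assoc]
      _ = sc n u⁻¹ * sc n u := by
        rw [hu]
        unfold sc
        rw [← map_mul, hsu]
      _ = 1 := by
        unfold sc
        rw [← map_mul, inv_mul_cancel, map_one]
  · rw [map_mul cj, cj_sc, one_mul]

section rep

variable {A : Subgroup (MulAut (Matrix.ProjectiveSpecialLinearGroup (Fin n) F))}

/-- unipotent representatives -/
structure Rep (M : A → GL (Fin n) F) : Prop where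
  sq : ∀ x, M x * M x = 1
  eq : ∀ x : A, (x : MulAut (Matrix.ProjectiveSpecialLinearGroup (Fin n) F)) = lift (cj (M x))

theorem exists_Rep (h2 : (2 : F) = 0) (hn : 2 ≤ n) (hA : ∀ x ∈ A, x * x = 1)
    (h : ∀ x ∈ A, ∃ C : GL (Fin n) F, x = lift (cj C)) : ∃ M : A → GL (Fin n) F, Rep M := by
  choose M hM1 hM2 using fun x : A => exists_rep h2 hn (hA x x.2) (h x x.2)
  exact ⟨M, hM1, hM2⟩

variable {M : A → GL (Fin n) F}

theorem comm_of_sq (hA : ∀ x ∈ A, x * x = 1) {x y : MulAut (Matrix.ProjectiveSpecialLinearGroup (Fin n) F)}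
    (hx : x ∈ A) (hy : y ∈ A) : x * y = y * x := by
  have h1 := hA _ (mul_mem hx hy)
  have h3 := hA _ hx
  have h4 := hA _ hy
  calc x * y = x * (x * y * (x * y)) * y := by rw [h1, mul_one]
    _ = (x * x) * (y * x) * (y * y) := by simp only [mul_assoc]
    _ = y * x := by rw [h3, h4, one_mul, mul_one]

theorem Rep.comm (hM : Rep M) (h2 : (2 : F) = 0) (hn : 2 ≤ n) (hA : ∀ x ∈ A, x * x = 1) (x y : A) :
    M x * M y = M y * M x := by
  have h1 : M x * M y * (M x)⁻¹ = M y := by
    refine uniq h2 hn ?_ (hM.sq y) ?_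
    · calc M x * M y * (M x)⁻¹ * (M x * M y * (M x)⁻¹) = M x * (M y * M y) * (M x)⁻¹ := by group
        _ = 1 := by rw [hM.sq, mul_one, mul_inv_cancel]
    · rw [map_mul cj, map_mul cj, map_mul, map_mul, map_inv cj, map_inv, ← hM.eq, ← hM.eq,
        comm_of_sq hA x.2 y.2, mul_inv_cancel_right]
  rw [mul_inv_eq_iff_eq_mul] at h1
  exact h1

theorem Rep.map_mul (hM : Rep M) (h2 : (2 : F) = 0) (hn : 2 ≤ n) (hA : ∀ x ∈ A, x * x = 1) (x y : A) :
    M (x * y) = M x * M y := by
  refine uniq h2 hn (hM.sq _) ?_ ?_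
  · calc M x * M y * (M x * M y) = M x * (M y * M x) * M y := by simp only [mul_assoc]
      _ = M x * (M x * M y) * M y := by rw [hM.comm h2 hn hA x y]
      _ = (M x * M x) * (M y * M y) := by simp only [mul_assoc]
      _ = 1 := by rw [hM.sq, hM.sq, mul_one]
  · rw [_root_.map_mul cj, _root_.map_mul, ← hM.eq, ← hM.eq, ← hM.eq]
    rfl

theorem Rep.inj (hM : Rep M) : Function.Injective M := by
  intro x y h
  apply Subtype.ext
  rw [hM.eq, hM.eq, h]

/-- `M x - 1` -/
def NN (M : A → GL (Fin n) F) (x : A) : Matrix (Fin n) (Fin n) F := (M x : Matrix (Fin n) (Fin n) F) - 1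

theorem coe_M (M : A → GL (Fin n) F) (x : A) : (M x : Matrix (Fin n) (Fin n) F) = 1 + NN M x := by
  unfold NN
  abel

theorem add_self' (h2 : (2 : F) = 0) (N : Matrix (Fin n) (Fin n) F) : N + N = 0 := by
  ext i j
  rw [Matrix.add_apply, Matrix.zero_apply]
  linear_combination (N i j) * h2

theorem Rep.NN_sq (hM : Rep M) (h2 : (2 : F) = 0) (x : A) : NN M x * NN M x = 0 := by
  have h1 := congrArg (fun B : GL (Fin n) F => (B : Matrix (Fin n) (Fin n) F)) (hM.sq x)
  have h3 : (M x : Matrix (Fin n) (Fin n) F) * (M x : Matrix (Fin n) (Fin n) F) = 1 := h1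
  rw [coe_M] at h3
  have h4 : (1 + NN M x) * (1 + NN M x) = 1 + (NN M x + NN M x) + NN M x * NN M x := by noncomm_ring
  rw [h4, add_self' h2, add_zero] at h3
  have h5 := sub_eq_zero.2 h3
  rwa [add_sub_cancel_left] at h5

theorem Rep.NN_comm (hM : Rep M) (h2 : (2 : F) = 0) (hn : 2 ≤ n) (hA : ∀ x ∈ A, x * x = 1) (x y : A) :
    NN M x * NN M y = NN M y * NN M x := by
  have h1 := congrArg (fun B : GL (Fin n) F => (B : Matrix (Fin n) (Fin n) F)) (hM.comm h2 hn hA x y)
  have h3 : (M x : Matrix (Fin n) (Fin n) F) * (M y : Matrix (Fin n) (Fin n) F) =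
    (M y : Matrix (Fin n) (Fin n) F) * (M x : Matrix (Fin n) (Fin n) F) := h1
  rw [coe_M, coe_M] at h3
  have h4 : (1 + NN M x) * (1 + NN M y) - (1 + NN M y) * (1 + NN M x) = NN M x * NN M y - NN M y * NN M x := by
    noncomm_ring
  rw [h3, sub_self] at h4
  exact (sub_eq_zero.1 h4.symm)

theorem Rep.NN_mul (hM : Rep M) (h2 : (2 : F) = 0) (hn : 2 ≤ n) (hA : ∀ x ∈ A, x * x = 1) (x y : A) :
    NN M (x * y) = NN M x + NN M y + NN M x * NN M y := by
  have h1 := congrArg (fun B : GL (Fin n) F => (B : Matrix (Fin n) (Fin n) F)) (hM.map_mul h2 hn hA x y)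
  have h3 : (M (x * y) : Matrix (Fin n) (Fin n) F) =
    (M x : Matrix (Fin n) (Fin n) F) * (M y : Matrix (Fin n) (Fin n) F) := h1
  rw [coe_M, coe_M, coe_M] at h3
  have h4 : (1 + NN M x) * (1 + NN M y) = 1 + (NN M x + NN M y + NN M x * NN M y) := by noncomm_ring
  rw [h4] at h3
  exact add_left_cancel h3

theorem Rep.NN_inj (hM : Rep M) : Function.Injective (NN M) := by
  intro x y h
  apply hM.inj
  apply Units.ext
  rw [coe_M, coe_M, h]

theorem Rep.NN_one (hM : Rep M) (h2 : (2 : F) = 0) (hn : 2 ≤ n) : NN M 1 = 0 := by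
  have h1 : M 1 = 1 := by
    refine uniq h2 hn (hM.sq 1) (one_mul 1) ?_
    rw [← hM.eq, map_one cj, map_one]
    rfl
  unfold NN
  rw [h1, Units.val_one, sub_self]

theorem Rep.NN_ne (hM : Rep M) (h2 : (2 : F) = 0) (hn : 2 ≤ n) {x : A} (hx : x ≠ 1) : NN M x ≠ 0 := by
  intro h
  apply hx
  apply hM.NN_inj
  rw [h, hM.NN_one h2 hn]

/-! ### dimension 2 -/

/-- `n = 2` -/
theorem two_card {A : Subgroup (MulAut (Matrix.ProjectiveSpecialLinearGroup (Fin 2) F))} (h2 : (2 : F) = 0)
    (hA : ∀ x ∈ A, x * x = 1) (h : ∀ x ∈ A, ∃ C : GL (Fin 2) F, x = lift (cj C)) :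
    Nat.card A ≤ Nat.card F := by
  obtain ⟨M, hM⟩ := exists_Rep h2 le_rfl hA h
  by_cases hall : ∀ x : A, x = 1
  · have : Subsingleton A := ⟨fun x y => by rw [hall x, hall y]⟩
    exact (Finite.card_le_one_iff_subsingleton.2 this).trans Nat.card_pos
  push Not at hall
  obtain ⟨x0, hx0⟩ := hall
  have hN0 := hM.NN_ne h2 le_rfl hx0
  have hsq0 := hM.NN_sq h2 x0
  -- every `NN M x` is a multiple of `NN M x0`
  have key : ∀ x : A, ∃ c : F, NN M x = c • NN M x0 := by
    intro x
    have hsq := hM.NN_sq h2 x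
    have hcm := hM.NN_comm h2 le_rfl hA x x0
    generalize NN M x = N at hsq hcm ⊢
    generalize NN M x0 = P at hN0 hsq0 hcm ⊢
    have e : ∀ (B C : Matrix (Fin 2) (Fin 2) F) i j, (B * C) i j = B i 0 * C 0 j + B i 1 * C 1 j := by
      intro B C i j
      rw [Matrix.mul_apply, Fin.sum_univ_two]
    have sqe : ∀ {x y : F}, x * x = y * y → x = y := by
      intro x y hxy
      have h1 : (x - y) * (x - y) = 0 := by linear_combination hxy + (y * y - x * y) * h2
      exact sub_eq_zero.1 (mul_self_eq_zero.1 h1)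
    have s00 := congrArg (fun B : Matrix (Fin 2) (Fin 2) F => B 0 0) hsq
    have s11 := congrArg (fun B : Matrix (Fin 2) (Fin 2) F => B 1 1) hsq
    have t00 := congrArg (fun B : Matrix (Fin 2) (Fin 2) F => B 0 0) hsq0
    have t11 := congrArg (fun B : Matrix (Fin 2) (Fin 2) F => B 1 1) hsq0
    have c00 := congrArg (fun B : Matrix (Fin 2) (Fin 2) F => B 0 0) hcm
    simp only [e, Matrix.zero_apply] at s00 s11 t00 t11 c00
    have hN : N 1 1 = N 0 0 := sqe (by linear_combination s11 - s00)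
    have hP : P 1 1 = P 0 0 := sqe (by linear_combination t11 - t00)
    by_cases hq : P 0 1 = 0
    · by_cases hr : P 1 0 = 0
      · exfalso
        apply hN0
        have hp : P 0 0 = 0 := by
          rw [hq, zero_mul, add_zero] at t00
          exact mul_self_eq_zero.1 t00
        ext i j
        fin_cases i <;> fin_cases j
        · exact hp
        · exact hq
        · exact hr
        · exact hP.trans hp
      · have hb : N 0 1 = 0 := by
          have h1 : N 0 1 * P 1 0 = 0 := by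
            rw [hq] at c00
            linear_combination c00
          exact (mul_eq_zero.1 h1).resolve_right hr
        have ha : N 0 0 = 0 := by
          rw [hb, zero_mul, add_zero] at s00
          exact mul_self_eq_zero.1 s00
        have hp : P 0 0 = 0 := by
          rw [hq, zero_mul, add_zero] at t00
          exact mul_self_eq_zero.1 t00
        refine ⟨N 1 0 / P 1 0, ?_⟩
        ext i j
        rw [Matrix.smul_apply, smul_eq_mul]
        fin_cases i <;> fin_cases j
        · show N 0 0 = _ * P 0 0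
          rw [ha, hp, mul_zero]
        · show N 0 1 = _ * P 0 1
          rw [hb, hq, mul_zero]
        · show N 1 0 = _ * P 1 0
          field_simp
        · show N 1 1 = _ * P 1 1
          rw [hN, hP, ha, hp, mul_zero]
    · have hb : N 1 0 = N 0 1 / P 0 1 * P 1 0 := by
        field_simp
        linear_combination -c00
      have ha : N 0 0 = N 0 1 / P 0 1 * P 0 0 := by
        apply sqe
        have h1 : N 0 0 * N 0 0 = N 0 1 * N 1 0 := by linear_combination s00 - N 0 1 * N 1 0 * h2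
        have h3 : P 0 0 * P 0 0 = P 0 1 * P 1 0 := by linear_combination t00 - P 0 1 * P 1 0 * h2
        have h4 : N 0 1 / P 0 1 * P 0 0 * (N 0 1 / P 0 1 * P 0 0) = N 0 1 / P 0 1 * (N 0 1 / P 0 1) * (P 0 0 * P 0 0) := by
          ring
        rw [h1, h4, h3, hb]
        field_simp
      refine ⟨N 0 1 / P 0 1, ?_⟩
      ext i j
      rw [Matrix.smul_apply, smul_eq_mul]
      fin_cases i <;> fin_cases j
      · exact ha
      · show N 0 1 = _ * P 0 1
        field_simp
      · exact hb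
      · show N 1 1 = _ * P 1 1
        rw [hN, hP]
        exact ha
  choose c hc using key
  refine Nat.card_le_card_of_injective c ?_
  intro x y hxy
  apply hM.NN_inj
  rw [hc x, hc y, hxy]

end rep

/-! ### linear automorphisms: index at most 2 -/

/-- diagonal and field automorphisms -/
theorem card_semi_le (hn : 2 ≤ n)
    (A : Subgroup (MulAut (Matrix.ProjectiveSpecialLinearGroup (Fin n) F)))
    (hA : ∀ x ∈ A, x * x = 1)
    (h : ∀ x ∈ A, ∃ (C : GL (Fin n) F) (σ : F ≃+* F), x = lift (cj C * fld σ)) :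
    Nat.card A ≤ 2 * Nat.card (A ⊓ (MonoidHom.range (lift.comp cj)) :
      Subgroup (MulAut (Matrix.ProjectiveSpecialLinearGroup (Fin n) F))) := by
  apply card_le_two_mul
  intro x hx hxn y hy hyn
  obtain ⟨C, σ, hC⟩ := h x hx
  obtain ⟨D, τ, hD⟩ := h y hy
  have hσ : σ * σ = 1 := field_sq hn (by rw [← hC]; exact hA x hx)
  have hτ : τ * τ = 1 := field_sq hn (by rw [← hD]; exact hA y hy)
  have hσ1 : σ ≠ 1 := by
    rintro rfl
    exact hxn ⟨hx, C, by rw [hC, map_one, mul_one]; rfl⟩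
  have hτ1 : τ ≠ 1 := by
    rintro rfl
    exact hyn ⟨hy, D, by rw [hD, map_one, mul_one]; rfl⟩
  have hστ := field_inv_unique hσ hτ hσ1 hτ1
  refine ⟨mul_mem hx hy, C * Matrix.GeneralLinearGroup.map (σ : F →+* F) D, ?_⟩
  rw [hC, hD, semi_mul, ← hστ, hσ, map_one, mul_one]
  rfl

/-- `Aut (PSL₂(4))` -/
theorem rkAut_two_four (h4 : Fintype.card F = 4) (h2 : (2 : F) = 0) :
    RkAut (Matrix.ProjectiveSpecialLinearGroup (Fin 2) F) 3 := by
  obtain ⟨p, hp⟩ := CharP.exists F
  have hpp : Fact p.Prime := ⟨CharP.char_is_prime F p⟩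
  intro A hA
  have h1 := card_semi_le le_rfl A hA (fun x _ => surj_two p x)
  have h3 := two_card (A := A ⊓ (MonoidHom.range (lift.comp cj))) h2 (fun x hx => hA x hx.1) (by
    rintro x ⟨-, C, hC⟩
    exact ⟨C, hC.symm⟩)
  rw [Nat.card_eq_fintype_card (α := F), h4] at h3
  omega

/-! ### rank one matrices -/

section rone

/-- a matrix of square zero of dimension 3 has rank at most one -/
theorem exists_vec {N : Matrix (Fin 3) (Fin 3) F} (h : N * N = 0) : ∃ v f : Fin 3 → F, N = vecMulVec v f := by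
  have h1 : LinearMap.range (Matrix.toLin' N) ≤ LinearMap.ker (Matrix.toLin' N) := by
    rintro _ ⟨v, rfl⟩
    rw [LinearMap.mem_ker, ← LinearMap.comp_apply, ← Matrix.toLin'_mul, h, map_zero, LinearMap.zero_apply]
  have h2 := LinearMap.finrank_range_add_finrank_ker (Matrix.toLin' N)
  have h3 := Submodule.finrank_mono h1
  have h4 : Module.finrank F (Fin 3 → F) = 3 := by simp
  rw [h4] at h2
  have h5 : Module.finrank F (LinearMap.range (Matrix.toLin' N)) ≤ 1 := by omega
  obtain ⟨v, hv⟩ := finrank_le_one_iff.1 h5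
  choose c hc using fun j : Fin 3 => hv ⟨Matrix.toLin' N (Pi.single j 1), ⟨_, rfl⟩⟩
  refine ⟨v, c, ?_⟩
  ext i j
  have h6 := congrArg (fun w : LinearMap.range (Matrix.toLin' N) => (w : Fin 3 → F) i) (hc j)
  have h7 : c j * (v : Fin 3 → F) i = N i j := by
    have h8 : (Matrix.toLin' N (Pi.single j 1)) i = N i j := by
      rw [Matrix.toLin'_apply, Matrix.mulVec_single_one]
      rfl
    rw [← h8]
    exact h6
  rw [vecMulVec_apply, ← h7, mul_comm]

/-- proportional vectors -/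
def Par (v w : Fin 3 → F) : Prop := ∀ i j, v i * w j = v j * w i

theorem Par.symm {v w : Fin 3 → F} (h : Par v w) : Par w v := fun i j => by rw [mul_comm, ← h i j, mul_comm]

theorem Par.exists {v w : Fin 3 → F} (h : Par v w) (hv : v ≠ 0) : ∃ c : F, w = c • v := by
  obtain ⟨i, hi⟩ : ∃ i, v i ≠ 0 := by
    by_contra hcon
    push Not at hcon
    exact hv (funext hcon)
  refine ⟨w i / v i, funext fun j => ?_⟩
  rw [Pi.smul_apply, smul_eq_mul]
  have := h i j
  field_simp
  linear_combination this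

theorem Par.smul (v : Fin 3 → F) (c : F) : Par v (c • v) := fun i j => by
  rw [Pi.smul_apply, Pi.smul_apply, smul_eq_mul, smul_eq_mul]
  ring

theorem Par.trans {u v w : Fin 3 → F} (h : Par u v) (h' : Par v w) (hv : v ≠ 0) : Par u w := by
  obtain ⟨c, rfl⟩ := h.symm.exists hv
  obtain ⟨d, rfl⟩ := h'.exists hv
  intro i j
  simp only [Pi.smul_apply, smul_eq_mul]
  ring

theorem vec_ne {v f : Fin 3 → F} (h : vecMulVec v f ≠ 0) : v ≠ 0 ∧ f ≠ 0 := by
  constructor
  · rintro rfl
    exact h (by rw [zero_vecMulVec])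
  · rintro rfl
    exact h (by rw [vecMulVec_zero])

/-- if the sum of two matrices of rank one has rank at most one, then they have the same centre or the same axis -/
theorem par_or {v f v' f' v'' f'' : Fin 3 → F} (h : vecMulVec v f + vecMulVec v' f' = vecMulVec v'' f'') :
    Par v v' ∨ Par f f' := by
  have e : ∀ i j, v i * f j + v' i * f' j = v'' i * f'' j := by
    intro i j
    have := congrArg (fun B : Matrix (Fin 3) (Fin 3) F => B i j) h
    simpa [vecMulVec_apply] using this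
  by_contra hcon
  rw [not_or] at hcon
  obtain ⟨h1, h2⟩ := hcon
  unfold Par at h1 h2
  push Not at h1 h2
  obtain ⟨i, j, hij⟩ := h1
  obtain ⟨k, l, hkl⟩ := h2
  have h3 : (v i * v' j - v j * v' i) * (f k * f' l - f l * f' k) = 0 := by
    linear_combination (e j l) * (v i * f k + v' i * f' k) + (v'' j * f'' l) * (e i k) -
      (e j k) * (v i * f l + v' i * f' l) - (v'' j * f'' k) * (e i l)
  rcases mul_eq_zero.1 h3 with h4 | h4
  · exact hij (sub_eq_zero.1 h4)
  · exact hkl (sub_eq_zero.1 h4)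

/-! #### counting -/

theorem vmv_mul (v f v' f' : Fin 3 → F) : vecMulVec v f * vecMulVec v' f' = (f ⬝ᵥ v') • vecMulVec v f' := by
  rw [vecMulVec_mul_vecMulVec]
  ext i j
  simp only [vecMulVec_apply, Matrix.smul_apply, Pi.smul_apply, smul_eq_mul]
  ring

theorem dot_eq_zero {v f : Fin 3 → F} (h : vecMulVec v f * vecMulVec v f = 0) (h0 : vecMulVec v f ≠ 0) :
    f ⬝ᵥ v = 0 := by
  rw [vmv_mul] at h
  rcases smul_eq_zero.1 h with h1 | h1
  · exact h1
  · exact absurd h1 h0

/-- vectors orthogonal to `v` -/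
theorem card_perp {v : Fin 3 → F} (hv : v ≠ 0) : Nat.card {f : Fin 3 → F // f ⬝ᵥ v = 0} ≤ Nat.card F ^ 2 := by
  obtain ⟨i, hi⟩ : ∃ i, v i ≠ 0 := by
    by_contra hcon
    push Not at hcon
    exact hv (funext hcon)
  have h1 : Nat.card (Fin 2 → F) = Nat.card F ^ 2 := by
    rw [Nat.card_fun, Nat.card_eq_fintype_card (α := Fin 2), Fintype.card_fin]
  rw [← h1]
  refine Nat.card_le_card_of_injective (fun f => fun j => f.1 (i.succAbove j)) ?_
  intro f g hfg
  apply Subtype.ext
  have h2 : ∀ j, j ≠ i → f.1 j = g.1 j := by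
    intro j hj
    obtain ⟨k, rfl⟩ := Fin.exists_succAbove_eq hj
    exact congrFun hfg k
  have h3 : f.1 i * v i = g.1 i * v i := by
    have hf := f.2
    have hg := g.2
    rw [dotProduct, Fin.sum_univ_succAbove _ i] at hf hg
    have h4 : ∑ k : Fin 2, f.1 (i.succAbove k) * v (i.succAbove k) = ∑ k : Fin 2, g.1 (i.succAbove k) * v (i.succAbove k) :=
      Finset.sum_congr rfl fun k _ => by rw [h2 _ (Fin.succAbove_ne i k)]
    rw [h4] at hf
    linear_combination hf - hg
  funext j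
  by_cases hj : j = i
  · rw [hj]
    exact mul_right_cancel₀ hi h3
  · exact h2 j hj

variable {X : Type*} [Finite X]

theorem count {N : X → Matrix (Fin 3) (Fin 3) F} (hinj : Function.Injective N) (hsq : ∀ x, N x * N x = 0)
    {v : Fin 3 → F} (h : ∀ x, ∃ f, N x = vecMulVec v f) :
    Nat.card X ≤ Nat.card F ^ 2 ∧ (Nat.card X = Nat.card F ^ 2 → ∀ x (c : F), ∃ y, N y = c • N x) := by
  by_cases hv : v = 0
  · have h0 : ∀ x, N x = 0 := by
      intro x
      obtain ⟨f, hf⟩ := h x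
      rw [hf, hv, zero_vecMulVec]
    refine ⟨?_, fun _ x c => ⟨x, by rw [h0, smul_zero]⟩⟩
    have : Subsingleton X := ⟨fun x y => hinj (by rw [h0, h0])⟩
    exact (Finite.card_le_one_iff_subsingleton.2 this).trans (Nat.one_le_pow _ _ Nat.card_pos)
  · have h1 : ∀ x, ∃ f, N x = vecMulVec v f ∧ f ⬝ᵥ v = 0 := by
      intro x
      by_cases h0 : N x = 0
      · exact ⟨0, by rw [h0, vecMulVec_zero], zero_dotProduct _⟩
      · obtain ⟨f, hf⟩ := h x
        have h3 := hsq x
        rw [hf] at h3 h0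
        exact ⟨f, hf, dot_eq_zero h3 h0⟩
    choose f hf1 hf2 using h1
    let φ : X → {f : Fin 3 → F // f ⬝ᵥ v = 0} := fun x => ⟨f x, hf2 x⟩
    have hφ : Function.Injective φ := by
      intro x y hxy
      apply hinj
      rw [hf1, hf1, show f x = f y from congrArg Subtype.val hxy]
    refine ⟨(Nat.card_le_card_of_injective φ hφ).trans (card_perp hv), fun hc x c => ?_⟩
    have hb : Function.Bijective φ := by
      refine Function.Injective.bijective_of_nat_card_le hφ ?_
      rw [hc]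
      exact card_perp hv
    obtain ⟨y, hy⟩ := hb.2 ⟨c • f x, by rw [smul_dotProduct, hf2, smul_zero]⟩
    refine ⟨y, ?_⟩
    have hy' : f y = c • f x := congrArg Subtype.val hy
    rw [hf1 y, hf1 x, hy']
    ext i j
    simp only [vecMulVec_apply, Matrix.smul_apply, Pi.smul_apply, smul_eq_mul]
    ring

theorem count_both {N : X → Matrix (Fin 3) (Fin 3) F} (hinj : Function.Injective N)
    {v g : Fin 3 → F} (h : ∀ x, ∃ f, N x = vecMulVec v f) (h' : ∀ x, ∃ w, N x = vecMulVec w g) :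
    Nat.card X ≤ Nat.card F := by
  by_cases hall : ∀ x, N x = 0
  · have : Subsingleton X := ⟨fun x y => hinj (by rw [hall, hall])⟩
    exact (Finite.card_le_one_iff_subsingleton.2 this).trans Nat.card_pos
  push Not at hall
  obtain ⟨x0, hx0⟩ := hall
  obtain ⟨f0, hf0⟩ := h x0
  obtain ⟨w0, hw0⟩ := h' x0
  have hv : v ≠ 0 := (vec_ne (hf0 ▸ hx0)).1
  have hg : g ≠ 0 := (vec_ne (hw0 ▸ hx0)).2
  obtain ⟨i, hi⟩ : ∃ i, v i ≠ 0 := by
    by_contra hcon
    push Not at hcon
    exact hv (funext hcon)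
  have key : ∀ x, ∃ c : F, N x = c • vecMulVec v g := by
    intro x
    obtain ⟨f, hf⟩ := h x
    obtain ⟨w, hw⟩ := h' x
    have h1 : ∀ i j, v i * f j = w i * g j := by
      intro i j
      have := congrArg (fun B : Matrix (Fin 3) (Fin 3) F => B i j) (hf.symm.trans hw)
      simpa [vecMulVec_apply] using this
    refine ⟨w i / v i, ?_⟩
    rw [hf]
    ext k j
    rw [vecMulVec_apply, Matrix.smul_apply, vecMulVec_apply, smul_eq_mul]
    have h3 : f j = w i / v i * g j := by
      field_simp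
      linear_combination h1 i j
    rw [h3]
    ring
  choose c hc using key
  refine Nat.card_le_card_of_injective c ?_
  intro x y hxy
  apply hinj
  rw [hc x, hc y, hxy]

end rone

section three

variable {A : Subgroup (MulAut (Matrix.ProjectiveSpecialLinearGroup (Fin 3) F))} {M : A → GL (Fin 3) F}

theorem Rep.NN_prod (hM : Rep M) (h2 : (2 : F) = 0) (hA : ∀ x ∈ A, x * x = 1) (x y : A) :
    NN M x * NN M y = 0 := by
  by_cases hx : NN M x = 0
  · rw [hx, zero_mul]
  by_cases hy : NN M y = 0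
  · rw [hy, mul_zero]
  have hcm := hM.NN_comm h2 (by norm_num) hA x y
  have hxs := hM.NN_sq h2 x
  have hys := hM.NN_sq h2 y
  obtain ⟨v, f, e⟩ := exists_vec hxs
  obtain ⟨v', f', e'⟩ := exists_vec hys
  rw [e] at hcm hxs hx ⊢
  rw [e'] at hcm hys hy ⊢
  have hfv := dot_eq_zero hxs hx
  have hfv' := dot_eq_zero hys hy
  obtain ⟨hv, hf⟩ := vec_ne hx
  obtain ⟨hv', hf'⟩ := vec_ne hy
  rw [vmv_mul] at hcm ⊢
  rw [vmv_mul] at hcm
  by_contra hne
  have hc : f ⬝ᵥ v' ≠ 0 := by
    intro h0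
    rw [h0, zero_smul] at hne
    exact hne rfl
  have e1 : ∀ i j, (f ⬝ᵥ v') * (v i * f' j) = (f' ⬝ᵥ v) * (v' i * f j) := by
    intro i j
    have := congrArg (fun B : Matrix (Fin 3) (Fin 3) F => B i j) hcm
    simpa [vecMulVec_apply] using this
  have e2 : ∀ i, (f' ⬝ᵥ v) * (f ⬝ᵥ v') * v' i = 0 := by
    intro i
    have h3 : (f ⬝ᵥ v') * v i * (f' ⬝ᵥ v') = (f' ⬝ᵥ v) * v' i * (f ⬝ᵥ v') := by
      have h4 : ∀ (g u : Fin 3 → F), g ⬝ᵥ u = g 0 * u 0 + g 1 * u 1 + g 2 * u 2 := by
        intro g u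
        rw [dotProduct, Fin.sum_univ_three]
      have e10 := e1 i 0
      have e11 := e1 i 1
      have e12 := e1 i 2
      generalize (f' ⬝ᵥ v) = c' at e10 e11 e12 ⊢
      have h5 : (f ⬝ᵥ v') * v i * (f' ⬝ᵥ v') =
          (f ⬝ᵥ v') * (v i * f' 0) * v' 0 + (f ⬝ᵥ v') * (v i * f' 1) * v' 1 + (f ⬝ᵥ v') * (v i * f' 2) * v' 2 := by
        rw [h4 f' v']
        ring
      rw [h5, e10, e11, e12, h4 f v']
      ring
    rw [hfv', mul_zero] at h3
    linear_combination -h3
  have h6 : (f' ⬝ᵥ v) * (f ⬝ᵥ v') = 0 := by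
    by_contra h0
    apply hv'
    funext i
    exact (mul_eq_zero.1 (e2 i)).resolve_left h0
  have h7 : f' ⬝ᵥ v = 0 := (mul_eq_zero.1 h6).resolve_right hc
  apply hy
  have hf'0 : f' = 0 ∨ v = 0 := by
    by_contra hcon
    rw [not_or] at hcon
    obtain ⟨i, hi⟩ : ∃ i, v i ≠ 0 := by
      by_contra hcon'
      push Not at hcon'
      exact hcon.2 (funext hcon')
    apply hcon.1
    funext j
    have := e1 i j
    rw [h7, zero_mul] at this
    exact ((mul_eq_zero.1 ((mul_eq_zero.1 this).resolve_left hc)).resolve_left hi)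
  rcases hf'0 with h8 | h8
  · rw [h8, vecMulVec_zero]
  · exact absurd h8 hv

theorem Rep.NN_add (hM : Rep M) (h2 : (2 : F) = 0) (hA : ∀ x ∈ A, x * x = 1) (x y : A) :
    NN M (x * y) = NN M x + NN M y := by
  rw [hM.NN_mul h2 (by norm_num) hA, hM.NN_prod h2 hA, add_zero]

/-- **common centre or common axis** -/
theorem Rep.types (hM : Rep M) (h2 : (2 : F) = 0) (hA : ∀ x ∈ A, x * x = 1) :
    (∃ v : Fin 3 → F, ∀ x, ∃ f, NN M x = vecMulVec v f) ∨ (∃ f : Fin 3 → F, ∀ x, ∃ v, NN M x = vecMulVec v f) := by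
  by_cases hall : ∀ x, NN M x = 0
  · exact Or.inl ⟨0, fun x => ⟨0, by rw [hall, zero_vecMulVec]⟩⟩
  push Not at hall
  obtain ⟨x0, hx0⟩ := hall
  choose v f e using fun x => exists_vec (hM.NN_sq h2 x)
  have hpair : ∀ x y, Par (v x) (v y) ∨ Par (f x) (f y) := by
    intro x y
    refine par_or (v'' := v (x * y)) (f'' := f (x * y)) ?_
    rw [← e, ← e, ← e, hM.NN_add h2 hA]
  have hne := vec_ne (e x0 ▸ hx0)
  by_contra hcon
  rw [not_or] at hcon
  push Not at hcon
  obtain ⟨hC, hB⟩ := hcon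
  obtain ⟨x1, h1⟩ := hC (v x0)
  obtain ⟨x2, h3⟩ := hB (f x0)
  -- `x1` has another centre, `x2` another axis
  have hx1 : ¬ Par (v x0) (v x1) := by
    intro hP
    obtain ⟨c, hc⟩ := hP.exists hne.1
    refine h1 (c • f x1) ?_
    rw [e x1, hc]
    ext i j
    simp only [vecMulVec_apply, Pi.smul_apply, smul_eq_mul]
    ring
  have hx2 : ¬ Par (f x0) (f x2) := by
    intro hP
    obtain ⟨c, hc⟩ := hP.exists hne.2
    refine h3 (c • v x2) ?_
    rw [e x2, hc]
    ext i j
    simp only [vecMulVec_apply, Pi.smul_apply, smul_eq_mul]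
    ring
  have hf1 : Par (f x0) (f x1) := (hpair x0 x1).resolve_left hx1
  have hv2 : Par (v x0) (v x2) := (hpair x0 x2).resolve_right hx2
  have hn1 : NN M x1 ≠ 0 := fun h0 => h1 0 (by rw [h0, vecMulVec_zero])
  have hn2 : NN M x2 ≠ 0 := fun h0 => h3 0 (by rw [h0, zero_vecMulVec])
  have hne1 := vec_ne (e x1 ▸ hn1)
  have hne2 := vec_ne (e x2 ▸ hn2)
  rcases hpair x1 x2 with h4 | h4
  · exact hx1 (hv2.trans h4.symm hne2.1)
  · exact hx2 (hf1.trans h4 hne1.2)

/-- graph automorphisms exchange centres and axes -/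
theorem Rep.graph (hM : Rep M) (h2 : (2 : F) = 0) {g : MulAut (Matrix.ProjectiveSpecialLinearGroup (Fin 3) F)}
    {C : GL (Fin 3) F} {σ : F ≃+* F} (hg : g = lift (cj C * fld σ * itr)) (x : A)
    (hc : g * (x : MulAut (Matrix.ProjectiveSpecialLinearGroup (Fin 3) F)) * g⁻¹ = x) :
    NN M x = (C : Matrix (Fin 3) (Fin 3) F) * ((NN M x)ᵀ.map (σ : F →+* F)) * ((C⁻¹ : GL (Fin 3) F) : Matrix (Fin 3) (Fin 3) F) := by
  have hinv : (M x)⁻¹ = M x := inv_eq_of_mul_eq_one_left (hM.sq x)
  set D : GL (Fin 3) F := C * Matrix.GeneralLinearGroup.map (σ : F →+* F) (ctr (M x)) * C⁻¹ with hD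
  have hctr : (ctr (M x) : Matrix (Fin 3) (Fin 3) F) = (M x : Matrix (Fin 3) (Fin 3) F)ᵀ := by
    show (((M x)⁻¹ : GL (Fin 3) F) : Matrix (Fin 3) (Fin 3) F)ᵀ = _
    rw [hinv]
  have hctr2 : ctr (M x) * ctr (M x) = 1 := by
    apply Units.ext
    rw [Units.val_mul, hctr, ← transpose_mul, ← Units.val_mul, hM.sq, Units.val_one, transpose_one]
  have h1 : g * (x : MulAut (Matrix.ProjectiveSpecialLinearGroup (Fin 3) F)) * g⁻¹ = lift (cj D) := by
    rw [mul_inv_eq_iff_eq_mul, hM.eq, hg, ← _root_.map_mul, ← _root_.map_mul]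
    congr 1
    calc cj C * fld σ * itr * cj (M x) = cj C * fld σ * (itr * cj (M x)) := by simp only [mul_assoc]
      _ = cj C * (fld σ * cj (ctr (M x))) * itr := by rw [itr_mul_cj]; simp only [mul_assoc]
      _ = cj C * cj (Matrix.GeneralLinearGroup.map (σ : F →+* F) (ctr (M x))) * fld σ * itr := by
        rw [fld_mul_cj]; simp only [mul_assoc]
      _ = cj D * (cj C * fld σ * itr) := by
        rw [hD, _root_.map_mul cj, _root_.map_mul cj]
        simp only [mul_assoc]
        rw [← mul_assoc (cj C⁻¹) (cj C), ← _root_.map_mul cj, inv_mul_cancel, map_one, one_mul]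
  rw [hc, hM.eq] at h1
  have h3 : M x = D := by
    refine uniq h2 (by norm_num) (hM.sq x) ?_ h1
    rw [hD]
    calc C * Matrix.GeneralLinearGroup.map (σ : F →+* F) (ctr (M x)) * C⁻¹ *
          (C * Matrix.GeneralLinearGroup.map (σ : F →+* F) (ctr (M x)) * C⁻¹)
        = C * (Matrix.GeneralLinearGroup.map (σ : F →+* F) (ctr (M x)) *
          Matrix.GeneralLinearGroup.map (σ : F →+* F) (ctr (M x))) * C⁻¹ := by group
      _ = 1 := by rw [← _root_.map_mul, hctr2, map_one, mul_one, mul_inv_cancel]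
  have h4 := congrArg (fun B : GL (Fin 3) F => (B : Matrix (Fin 3) (Fin 3) F)) h3
  have h5 : (M x : Matrix (Fin 3) (Fin 3) F) = (C : Matrix (Fin 3) (Fin 3) F) *
      ((M x : Matrix (Fin 3) (Fin 3) F)ᵀ.map (σ : F →+* F)) * ((C⁻¹ : GL (Fin 3) F) : Matrix (Fin 3) (Fin 3) F) := by
    refine h4.trans ?_
    show ((C * Matrix.GeneralLinearGroup.map (σ : F →+* F) (ctr (M x)) * C⁻¹ : GL (Fin 3) F) :
      Matrix (Fin 3) (Fin 3) F) = _
    rw [Units.val_mul, Units.val_mul]
    rw [← hctr]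
    rfl
  have h6 : ((M x : Matrix (Fin 3) (Fin 3) F)ᵀ.map (σ : F →+* F)) = 1 + (NN M x)ᵀ.map (σ : F →+* F) := by
    rw [coe_M, transpose_add, transpose_one, Matrix.map_add _ (map_add _), Matrix.map_one _ (map_zero _) (map_one _)]
  rw [h6, mul_add, mul_one, add_mul, ← Units.val_mul, mul_inv_cancel, Units.val_one, coe_M] at h5
  exact add_left_cancel h5

/-- field automorphisms -/
theorem Rep.field (hM : Rep M) (h2 : (2 : F) = 0) {g : MulAut (Matrix.ProjectiveSpecialLinearGroup (Fin 3) F)}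
    {C : GL (Fin 3) F} {σ : F ≃+* F} (hg : g = lift (cj C * fld σ)) (x : A)
    (hc : g * (x : MulAut (Matrix.ProjectiveSpecialLinearGroup (Fin 3) F)) * g⁻¹ = x) :
    NN M x = (C : Matrix (Fin 3) (Fin 3) F) * ((NN M x).map (σ : F →+* F)) * ((C⁻¹ : GL (Fin 3) F) : Matrix (Fin 3) (Fin 3) F) := by
  set D : GL (Fin 3) F := C * Matrix.GeneralLinearGroup.map (σ : F →+* F) (M x) * C⁻¹ with hD
  have h1 : g * (x : MulAut (Matrix.ProjectiveSpecialLinearGroup (Fin 3) F)) * g⁻¹ = lift (cj D) := by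
    rw [mul_inv_eq_iff_eq_mul, hM.eq, hg, ← _root_.map_mul, ← _root_.map_mul]
    congr 1
    calc cj C * fld σ * cj (M x) = cj C * (fld σ * cj (M x)) := by simp only [mul_assoc]
      _ = cj C * cj (Matrix.GeneralLinearGroup.map (σ : F →+* F) (M x)) * fld σ := by
        rw [fld_mul_cj]; simp only [mul_assoc]
      _ = cj D * (cj C * fld σ) := by
        rw [hD, _root_.map_mul cj, _root_.map_mul cj]
        simp only [mul_assoc]
        rw [← mul_assoc (cj C⁻¹) (cj C), ← _root_.map_mul cj, inv_mul_cancel, map_one, one_mul]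
  rw [hc, hM.eq] at h1
  have h3 : M x = D := by
    refine uniq h2 (by norm_num) (hM.sq x) ?_ h1
    rw [hD]
    calc C * Matrix.GeneralLinearGroup.map (σ : F →+* F) (M x) * C⁻¹ *
          (C * Matrix.GeneralLinearGroup.map (σ : F →+* F) (M x) * C⁻¹)
        = C * (Matrix.GeneralLinearGroup.map (σ : F →+* F) (M x) *
          Matrix.GeneralLinearGroup.map (σ : F →+* F) (M x)) * C⁻¹ := by group
      _ = 1 := by rw [← _root_.map_mul, hM.sq, map_one, mul_one, mul_inv_cancel]
  have h4 := congrArg (fun B : GL (Fin 3) F => (B : Matrix (Fin 3) (Fin 3) F)) h3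
  have h5 : (M x : Matrix (Fin 3) (Fin 3) F) = (C : Matrix (Fin 3) (Fin 3) F) *
      ((M x : Matrix (Fin 3) (Fin 3) F).map (σ : F →+* F)) * ((C⁻¹ : GL (Fin 3) F) : Matrix (Fin 3) (Fin 3) F) := by
    refine h4.trans ?_
    show ((C * Matrix.GeneralLinearGroup.map (σ : F →+* F) (M x) * C⁻¹ : GL (Fin 3) F) :
      Matrix (Fin 3) (Fin 3) F) = _
    rw [Units.val_mul, Units.val_mul]
    rfl
  have h6 : ((M x : Matrix (Fin 3) (Fin 3) F).map (σ : F →+* F)) = 1 + (NN M x).map (σ : F →+* F) := by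
    rw [coe_M, Matrix.map_add _ (map_add _), Matrix.map_one _ (map_zero _) (map_one _)]
  rw [h6, mul_add, mul_one, add_mul, ← Units.val_mul, mul_inv_cancel, Units.val_one, coe_M] at h5
  exact add_left_cancel h5

end three

/-- the bound, `n = 3` -/
theorem card_three (h2 : (2 : F) = 0) {k : ℕ} (hq : Fintype.card F = 2 ^ k)
    (A : Subgroup (MulAut (Matrix.ProjectiveSpecialLinearGroup (Fin 3) F)))
    (hA : ∀ x ∈ A, x * x = 1) : Nat.card A ≤ 4 * 2 ^ k ∨ Nat.card A ≤ 2 ^ (2 * k) := by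
  obtain ⟨p, hp⟩ := CharP.exists F
  have hpp : Fact p.Prime := ⟨CharP.char_is_prime F p⟩
  set R : Subgroup (MulAut (Matrix.ProjectiveSpecialLinearGroup (Fin 3) F)) :=
    MonoidHom.range (lift.comp cj) with hR
  let A1 : Subgroup (MulAut (Matrix.ProjectiveSpecialLinearGroup (Fin 3) F)) := A ⊓ R
  have hA1 : ∀ x ∈ A1, x * x = 1 := fun x hx => hA x hx.1
  have hF : Nat.card F = 2 ^ k := by rw [Nat.card_eq_fintype_card, hq]
  obtain ⟨M, hM⟩ := exists_Rep (A := A1) h2 (by norm_num) hA1 (by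
    rintro x ⟨-, C, hC⟩
    exact ⟨C, hC.symm⟩)
  have hlin : ∀ B ≤ A, (∀ x ∈ B, ∃ (C : GL (Fin 3) F) (σ : F ≃+* F), x = lift (cj C * fld σ)) →
      Nat.card B ≤ 2 * Nat.card A1 := by
    intro B hB h
    refine (card_semi_le (by norm_num) B (fun x hx => hA x (hB hx)) h).trans ?_
    exact Nat.mul_le_mul_left 2 (Nat.card_le_card_of_injective _ (Subgroup.inclusion_injective (inf_le_inf_right R hB)))
  by_cases hq1 : Nat.card A1 ≤ 2 ^ k
  · left
    have := card_graph le_rfl A (k := 2 * 2 ^ k) (fun B hB h => (hlin B hB h).trans (Nat.mul_le_mul_left 2 hq1))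
    omega
  right
  have hcm : ∀ g ∈ A, ∀ x : A1, g * (x : MulAut (Matrix.ProjectiveSpecialLinearGroup (Fin 3) F)) * g⁻¹ = x := by
    intro g hg x
    rw [comm_of_sq hA hg x.2.1, mul_inv_cancel_right]
  have hboth : ¬ ((∃ v : Fin 3 → F, ∀ x, ∃ f, NN M x = vecMulVec v f) ∧
      (∃ f : Fin 3 → F, ∀ x, ∃ v, NN M x = vecMulVec v f)) := by
    rintro ⟨⟨v, hv⟩, ⟨f, hf⟩⟩
    have := count_both hM.NN_inj hv hf
    rw [hF] at this
    exact hq1 this
  -- no graph automorphisms
  have hsemi : ∀ x ∈ A, ∃ (C : GL (Fin 3) F) (σ : F ≃+* F), x = lift (cj C * fld σ) := by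
    intro g hg
    refine (surj_three p le_rfl g).resolve_right ?_
    rintro ⟨C, σ, hC⟩
    apply hboth
    rcases hM.types h2 hA1 with ⟨v, hv⟩ | ⟨f, hf⟩
    · refine ⟨⟨v, hv⟩, (σ : F →+* F) ∘ v ᵥ* ((C⁻¹ : GL (Fin 3) F) : Matrix (Fin 3) (Fin 3) F), fun x => ?_⟩
      obtain ⟨f, hf⟩ := hv x
      refine ⟨(C : Matrix (Fin 3) (Fin 3) F) *ᵥ ((σ : F →+* F) ∘ f), ?_⟩
      have h1 := hM.graph h2 hC x (hcm g hg x)
      rw [hf] at h1 ⊢
      rw [h1]
      have h3 : (vecMulVec v f)ᵀ.map (σ : F →+* F) = vecMulVec ((σ : F →+* F) ∘ f) ((σ : F →+* F) ∘ v) := by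
        ext i j
        simp [vecMulVec_apply, mul_comm]
      rw [h3, mul_vecMulVec, vecMulVec_mul]
    · refine ⟨⟨(C : Matrix (Fin 3) (Fin 3) F) *ᵥ ((σ : F →+* F) ∘ f), fun x => ?_⟩, ⟨f, hf⟩⟩
      obtain ⟨v, hv⟩ := hf x
      refine ⟨(σ : F →+* F) ∘ v ᵥ* ((C⁻¹ : GL (Fin 3) F) : Matrix (Fin 3) (Fin 3) F), ?_⟩
      have h1 := hM.graph h2 hC x (hcm g hg x)
      rw [hv] at h1 ⊢
      rw [h1]
      have h3 : (vecMulVec v f)ᵀ.map (σ : F →+* F) = vecMulVec ((σ : F →+* F) ∘ f) ((σ : F →+* F) ∘ v) := by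
        ext i j
        simp [vecMulVec_apply]
      rw [h3, mul_vecMulVec, vecMulVec_mul]
  -- `|A1| ≤ q²`, closed under scalars in case of equality
  have hcount : Nat.card A1 ≤ Nat.card F ^ 2 ∧
      (Nat.card A1 = Nat.card F ^ 2 → ∀ x (c : F), ∃ y, NN M y = c • NN M x) := by
    rcases hM.types h2 hA1 with ⟨v, hv⟩ | ⟨f, hf⟩
    · exact count hM.NN_inj (hM.NN_sq h2) hv
    · have h1 := count (N := fun x => (NN M x)ᵀ) (fun x y hxy => hM.NN_inj (Matrix.transpose_injective hxy))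
        (fun x => by rw [← transpose_mul, hM.NN_sq h2, transpose_zero]) (v := f) (fun x => by
          obtain ⟨v, hv⟩ := hf x
          refine ⟨v, ?_⟩
          rw [hv]
          ext i j
          simp [vecMulVec_apply, mul_comm])
      refine ⟨h1.1, fun hc x c => ?_⟩
      obtain ⟨y, hy⟩ := h1.2 hc x c
      refine ⟨y, Matrix.transpose_injective ?_⟩
      rw [hy, transpose_smul]
  rw [hF, ← pow_mul, mul_comm k 2] at hcount
  obtain ⟨hle, hcl⟩ := hcount
  rcases hle.lt_or_eq with hlt | heq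
  · have h1 := hlin A le_rfl hsemi
    have h3 : IsPGroup 2 A1 := fun x => ⟨1, by
      apply Subtype.ext
      rw [pow_one, pow_two]
      exact hA1 x x.2⟩
    have : Fact (Nat.Prime 2) := ⟨Nat.prime_two⟩
    obtain ⟨m, hm⟩ := h3.exists_card_eq
    rw [hm] at hlt h1
    have h4 := (Nat.pow_lt_pow_iff_right (by norm_num)).1 hlt
    refine h1.trans ?_
    calc 2 * 2 ^ m = 2 ^ (m + 1) := by rw [pow_succ, mul_comm]
      _ ≤ 2 ^ (2 * k) := Nat.pow_le_pow_right two_pos h4
  · -- no field automorphisms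
    have hAR : A ≤ A1 := by
      intro g hg
      refine ⟨hg, ?_⟩
      obtain ⟨C, σ, hC⟩ := hsemi g hg
      obtain ⟨x, hx⟩ : ∃ x : A1, NN M x ≠ 0 := by
        by_contra hcon
        push Not at hcon
        apply hq1
        have : Subsingleton A1 := ⟨fun x y => hM.NN_inj (by rw [hcon, hcon])⟩
        exact (Finite.card_le_one_iff_subsingleton.2 this).trans (Nat.one_le_two_pow)
      have hσ : σ = 1 := by
        ext c
        obtain ⟨y, hy⟩ := hcl heq x c
        have h1 := hM.field h2 hC x (hcm g hg x)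
        have h3 := hM.field h2 hC y (hcm g hg y)
        rw [hy] at h3
        have h4 : (c • NN M x).map (σ : F →+* F) = σ c • (NN M x).map (σ : F →+* F) := by
          ext i j
          simp [Matrix.map_apply]
        rw [h4, mul_smul_comm, smul_mul_assoc, ← h1] at h3
        have h5 : (c - σ c) • NN M x = 0 := by rw [sub_smul, ← h3, sub_self]
        have h6 := (smul_eq_zero.1 h5).resolve_right hx
        show σ c = c
        exact (sub_eq_zero.1 h6).symm
      subst hσ
      exact ⟨C, by rw [hC, map_one, mul_one]; rfl⟩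
    refine (Nat.card_le_card_of_injective _ (Subgroup.inclusion_injective hAR)).trans ?_
    exact heq.le

/-- `Aut (PSL₃(2^k))` -/
theorem rkAut_three (h2 : (2 : F) = 0) {k m : ℕ} (hq : Fintype.card F = 2 ^ k) (h1 : k + 2 ≤ m) (h3 : 2 * k ≤ m) :
    RkAut (Matrix.ProjectiveSpecialLinearGroup (Fin 3) F) m := by
  intro A hA
  rcases card_three h2 hq A hA with h | h
  · refine h.trans ?_
    calc 4 * 2 ^ k = 2 ^ (k + 2) := by rw [pow_add]; ring
      _ ≤ 2 ^ m := Nat.pow_le_pow_right two_pos h1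
  · exact h.trans (Nat.pow_le_pow_right two_pos h3)

end Cfsg.Agent.Omega.EH3.Rank1.RkPslEven

end

section


/-!
# TABLE 2F: small tools for the sporadic rows (helper703)

* `center_eq_bot` : a finite simple group whose order is not a prime has trivial centre;
* `fact_two_le` : `¬ 2 ^ (e + 1) ∣ n` bounds the exponent of 2 in `n`;
* `rk_of_card` : `m_2(Aut K)` is at most the exponent of 2 in `|Aut K|`;
* `rk_of_inner`, `rk_of_index` : from `|K|` and the index of the inner automorphisms.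
-/

set_option autoImplicit false

namespace Cfsg.Agent.Omega.TwoF.SimpleTool

open Subgroup

universe u v

theorem center_eq_bot {K : Type*} [Group K] [Finite K] [IsSimpleGroup K] (h : ¬ (Nat.card K).Prime) :
    center K = ⊥ := by
  rcases (inferInstance : (center K).Normal).eq_bot_or_eq_top with h1 | h1
  · exact h1
  · exfalso
    apply h
    have h2 : ∀ a b : K, a * b = b * a := fun a b => by
      have h3 : b ∈ center K := by rw [h1]; exact mem_top _
      exact mem_center_iff.1 h3 a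
    let inst : CommGroup K := { (inferInstance : Group K) with mul_comm := h2 }
    exact @IsSimpleGroup.prime_card K inst _

theorem fact_two_le {n e : ℕ} (h0 : n ≠ 0) (h : ¬ 2 ^ (e + 1) ∣ n) : n.factorization 2 ≤ e := by
  by_contra hcon
  exact h ((Nat.prime_two.pow_dvd_iff_le_factorization h0).2 (by omega))

theorem rk_of_card {K : Type u} [Group K] [Finite K] {e : ℕ}
    (he : (Nat.card (MulAut K)).factorization 2 ≤ e) : Rk.RK.{v} K e := by
  refine Rk.rk_of_subgroup (t := 0) (m := 0) he ⊥ (by rw [pow_zero]; exact card_bot) ?_ le_rfl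
  intro B hB _
  rw [le_bot_iff.1 hB, pow_zero]
  exact card_bot.le

theorem index_of_inner {K : Type u} [Group K] (hi : ∀ φ : MulAut K, φ ∈ (MulAut.conj : K →* MulAut K).range) :
    (MulAut.conj : K →* MulAut K).range.index = 1 := by
  rw [index_eq_one, eq_top_iff]
  exact fun φ _ => hi φ

/-- all automorphisms inner -/
theorem rk_of_inner {K : Type u} [Group K] [Finite K] (hc : center K = ⊥)
    (hi : ∀ φ : MulAut K, φ ∈ (MulAut.conj : K →* MulAut K).range) {e : ℕ} (he : ¬ 2 ^ (e + 1) ∣ Nat.card K) :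
    Rk.RK.{v} K e := by
  apply rk_of_card
  rw [Rk.card_mulAut hc (index_of_inner hi), one_mul]
  exact fact_two_le Nat.card_pos.ne' he

/-- the inner automorphisms have index dividing `n` -/
theorem rk_of_index {K : Type u} [Group K] [Finite K] (hc : center K = ⊥) {n : ℕ}
    (hi : (MulAut.conj : K →* MulAut K).range.index ∣ n) {e : ℕ} (he : ¬ 2 ^ (e + 1) ∣ n * Nat.card K) :
    Rk.RK.{v} K e := by
  apply rk_of_card
  apply fact_two_le Nat.card_pos.ne'
  exact fun h => he (h.trans (Rk.card_mulAut_le hc hi))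

end Cfsg.Agent.Omega.TwoF.SimpleTool

end
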