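import Cfsg.Agent.Mrg.Omega.TwoF.SignLift
import Cfsg.Agent.Omega.TwoF.Rk
import Cfsg.Agent.S0249
import Cfsg.Agent.Lib.Zsigmondy
import Cfsg.Agent.S0280
import Mathlib
import Cfsg.Agent.ClassicalGeometry.SympGamma
import Cfsg.Agent.ClassicalGeometry.SympAutExists
import Cfsg.Agent.ClassicalGeometry.SympAutRecog

section


/-!
# TABLE 2F: the rows `PSL_n(q)`, `q` odd

`LB`: every nontrivial action of a perfect odd cover of `K` on a finite abelian `2`-group `V` has `|V| ≥ 2^m`.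
`RK`: elementary abelian `2`-groups of automorphisms of `K` have order at most `2^a`.
-/

set_option autoImplicit false

universe u v w

namespace Cfsg.Agent.Omega.TwoF.RowPsl

open Matrix Cfsg.Agent.Omega.Lie.Heis Cfsg.Agent.Omega.TwoF.SignLift Cfsg.Agent.Omega.TwoF.LBPsl
open Cfsg.Agent.Omega.TwoF.RkLin Cfsg.Agent.Omega.TwoF.RkPSL
open Cfsg.Agent.ClassicalGeometry.AutPSL.Root

theorem _root_.Cfsg.Agent.Omega.TwoF.RkPSL.RkAut.rk {K : Type*} [Group K] {a : ℕ} (h : RkAut K a) :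
    Rk.RK.{u} K a := by
  intro X _ _ N _ hN hC A hA
  obtain ⟨e⟩ := hN
  exact h.of_normal e hC A hA

/-- A lower bound for the order of `2` modulo an odd prime. -/
theorem le_orderOf {p k : ℕ} (hp : p.Prime) (hp2 : p ≠ 2)
    (h : ∀ d, 0 < d → d < k → (2 : ZMod p) ^ d ≠ 1) : k ≤ orderOf (2 : ZMod p) := by
  haveI : Fact p.Prime := ⟨hp⟩
  by_contra hlt
  push Not at hlt
  have h2 : (2 : ZMod p) ≠ 0 := by
    intro h0
    have h1 : ((2 : ℕ) : ZMod p) = 0 := by exact_mod_cast h0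
    rw [ZMod.natCast_eq_zero_iff] at h1
    exact hp2 ((Nat.prime_dvd_prime_iff_eq hp Nat.prime_two).1 h1)
  have h3 : (2 : ZMod p) ^ (p - 1) = 1 := ZMod.pow_card_sub_one_eq_one h2
  have h4 : 0 < orderOf (2 : ZMod p) := by
    rw [orderOf_pos_iff, isOfFinOrder_iff_pow_eq_one]
    exact ⟨p - 1, by have := hp.two_le; omega, h3⟩
  exact h _ h4 hlt (pow_orderOf_eq_one _)

theorem two_le_order {p : ℕ} (hp : p.Prime) (hp2 : p ≠ 2) : 2 ≤ orderOf (2 : ZMod p) := by
  apply le_orderOf hp hp2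
  intro d h0 h1 h
  have hd : d = 1 := by omega
  rw [hd, pow_one] at h
  haveI : Fact p.Prime := ⟨hp⟩
  have h3 : (1 : ZMod p) = 0 := by
    have : (2 : ZMod p) = 1 + 1 := by norm_num
    rw [this] at h
    simpa using h
  exact one_ne_zero h3

theorem three_le_order {p : ℕ} (hp : p.Prime) (h5 : 5 ≤ p) : 3 ≤ orderOf (2 : ZMod p) := by
  apply le_orderOf hp (by omega)
  intro d h0 h1 h
  have h6 : ((2 ^ d : ℕ) : ZMod p) = ((1 : ℕ) : ZMod p) := by push_cast; exact h
  rw [ZMod.natCast_eq_natCast_iff] at h6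
  have h7 : (2 ^ d) % p = 1 % p := h6
  have hd : d = 1 ∨ d = 2 := by omega
  rcases hd with rfl | rfl
  · rw [Nat.mod_eq_of_lt (by omega), Nat.mod_eq_of_lt (by omega)] at h7
    omega
  · rw [Nat.mod_eq_of_lt (by omega), Nat.mod_eq_of_lt (by omega)] at h7
    omega

theorem order_five : 4 ≤ orderOf (2 : ZMod 5) := by
  apply le_orderOf (by norm_num) (by norm_num)
  intro d h0 h1
  interval_cases d <;> decide

theorem order_thirteen : 12 ≤ orderOf (2 : ZMod 13) := by
  apply le_orderOf (by norm_num) (by norm_num)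
  intro d h0 h1
  interval_cases d <;> decide

/-- `ord_r(2) · r ≥ 20` for a prime `r ≥ 5`. -/
theorem twenty_le {r : ℕ} (hr : r.Prime) (h5 : 5 ≤ r) : 20 ≤ orderOf (2 : ZMod r) * r := by
  by_cases h : r = 5
  · subst h
    have := order_five
    omega
  · have h7 : 7 ≤ r := by
      by_contra hlt
      have : r = 6 := by omega
      subst this
      exact absurd hr (by norm_num)
    have := three_le_order hr h5
    nlinarith

section

variable {F : Type*} [Field F] [Fintype F] {n : ℕ}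

/-- The Heisenberg bound for `PSL_n`. -/
theorem lb {r : ℕ} (hr : r.Prime) [CharP F r] (hr2 : r ≠ 2) (hn : 3 ≤ n) {m : ℕ}
    (hm : m ≤ orderOf (2 : ZMod r) * r ^ (n - 2)) :
    LB.{_, v, w} (Matrix.ProjectiveSpecialLinearGroup (Fin n) F) m := by
  have hs : IsSimpleGroup (Matrix.ProjectiveSpecialLinearGroup (Fin n) F) :=
    Cfsg.Agent.S0249.result n hn
  obtain ⟨k, rfl⟩ : ∃ k, n = k + 2 := ⟨n - 2, by omega⟩
  have hpl : (0 : Fin (k + 2)) ≠ Fin.last (k + 1) := by
    rw [Ne, Fin.ext_iff]; simp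
  let e : Fin k → Fin (k + 2) := fun i => i.castSucc.succ
  have he : Function.Injective e := fun i j h => by
    have := Fin.succ_injective _ h
    exact Fin.castSucc_injective _ this
  have hp : ∀ i, (0 : Fin (k + 2)) ≠ e i := fun i => (Fin.succ_ne_zero _).symm
  have hl : ∀ i, e i ≠ Fin.last (k + 1) := fun i => by
    rw [Ne, Fin.ext_iff]
    simp only [e, Fin.val_succ, Fin.val_castSucc, Fin.val_last]
    have := i.2
    omega
  have hS := (signHeis (F := F) hr hpl he hp hl).map pr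
  refine LB.sign (by omega) hS hr2 ?_ hm
  intro h1
  rw [pr_eq_one_iff, Matrix.SpecialLinearGroup.mem_center_iff] at h1
  obtain ⟨c, -, hc⟩ := h1
  have h3 := congrFun (congrFun hc 0) (Fin.last (k + 1))
  have h4 : (E hpl (1 : F) : Matrix (Fin (k + 2)) (Fin (k + 2)) F) 0 (Fin.last (k + 1)) = 1 := by
    rw [E, coe_tr, Matrix.add_apply, Matrix.one_apply_ne hpl, vecMulVec_apply, zero_add]
    simp
  rw [h4, Matrix.scalar_apply, Matrix.diagonal_apply_ne _ hpl] at h3
  exact zero_ne_one h3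

/-- An element of order `13` in `SL_3(3)`. -/
def M13 : Matrix (Fin 3) (Fin 3) (ZMod 3) := !![0, 0, 1; 1, 0, 1; 0, 1, 0]

theorem M13_det : M13.det = 1 := by decide

theorem M13_pow : M13 ^ 13 = 1 := by decide

/-- `13` divides the order of `PSL_3(3^f)`. -/
theorem thirteen_dvd [CharP F 3] :
    13 ∣ Nat.card (Matrix.ProjectiveSpecialLinearGroup (Fin 3) F) := by
  let f : ZMod 3 →+* F := ZMod.castHom (dvd_refl 3) F
  let A : Matrix.SpecialLinearGroup (Fin 3) (ZMod 3) := ⟨M13, M13_det⟩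
  have hA : A ^ 13 = 1 := by
    apply Subtype.ext
    rw [Matrix.SpecialLinearGroup.coe_pow]
    exact M13_pow
  let g : Matrix.SpecialLinearGroup (Fin 3) F := Matrix.SpecialLinearGroup.map f A
  have hg : (g : Matrix (Fin 3) (Fin 3) F) = M13.map f := rfl
  have h1 : g ^ 13 = 1 := by
    show (Matrix.SpecialLinearGroup.map f A) ^ 13 = 1
    rw [← map_pow, hA, map_one]
  have h2 : pr g ≠ 1 := by
    intro h
    rw [pr_eq_one_iff, Matrix.SpecialLinearGroup.mem_center_iff] at h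
    obtain ⟨c, -, hc⟩ := h
    have h3 := congrFun (congrFun hc 1) 0
    rw [hg] at h3
    simp [M13, Matrix.scalar] at h3
  haveI : Fact (Nat.Prime 13) := ⟨by norm_num⟩
  have h3 : orderOf (pr g) = 13 := orderOf_eq_prime (by rw [← map_pow, h1, map_one]) h2
  rw [← h3]
  exact orderOf_dvd_natCard _

/-- **TABLE 2F, row `PSL_n(q)`, `q` odd, `n ≥ 3`.** -/
theorem row (h2 : (2 : F) ≠ 0) (hn : 3 ≤ n) :
    ∃ m a, LB.{_, v, w} (Matrix.ProjectiveSpecialLinearGroup (Fin n) F) m ∧
      Rk.RK.{u} (Matrix.ProjectiveSpecialLinearGroup (Fin n) F) a ∧ 2 * a + 2 < m ∧ 12 ≤ m ∧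
      (¬ (n = 3 ∧ (3 : F) = 0) → 2 * a + 4 < m) := by
  obtain ⟨r, hcr⟩ := CharP.exists F
  have hr : r.Prime := CharP.char_is_prime F r
  have hr2 : r ≠ 2 := by
    rintro rfl
    exact h2 (by exact_mod_cast CharP.cast_eq_zero F 2)
  have hr3 : 3 ≤ r := by
    have := hr.two_le
    omega
  have hrk : Rk.RK.{u} (Matrix.ProjectiveSpecialLinearGroup (Fin n) F) (rk n + 2) :=
    (rkAut h2 hn).rk
  by_cases h3 : n = 3
  · subst h3
    have hk : rk 3 = 2 := by decide
    rw [hk] at hrk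
    by_cases h5 : r = 3
    · subst h5
      haveI hs : IsSimpleGroup (Matrix.ProjectiveSpecialLinearGroup (Fin 3) F) :=
        Cfsg.Agent.S0249.result 3 le_rfl
      haveI : Finite (Matrix.ProjectiveSpecialLinearGroup (Fin 3) F) :=
        Finite.of_surjective _ pr_surjective
      refine ⟨12, 4, LB.prime (p := 13) (by norm_num) (by norm_num) thirteen_dvd order_thirteen,
        hrk, by norm_num, le_rfl, fun h => ?_⟩
      exact absurd ⟨rfl, by exact_mod_cast CharP.cast_eq_zero F 3⟩ h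
    · have h5' : 5 ≤ r := by
        by_contra hlt
        have : r = 4 := by omega
        subst this
        exact absurd hr (by norm_num)
      refine ⟨20, 4, lb hr hr2 le_rfl ?_, hrk, by norm_num, by norm_num, fun _ => by norm_num⟩
      simpa using twenty_le hr h5'
  · obtain ⟨k, rfl⟩ : ∃ k, n = k + 4 := ⟨n - 4, by omega⟩
    have hkey : ∀ k : ℕ, 2 * (k + 4 + 2) + 4 < 2 * 3 ^ (k + 2) := by
      intro k
      induction k with
      | zero => norm_num
      | succ k ih =>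
        rw [pow_succ]
        omega
    have h6 : 2 * 3 ^ (k + 2) ≤ orderOf (2 : ZMod r) * r ^ (k + 4 - 2) :=
      Nat.mul_le_mul (two_le_order hr hr2)
        (by rw [show k + 4 - 2 = k + 2 by omega]; exact Nat.pow_le_pow_left hr3 _)
    have h7 := hkey k
    refine ⟨2 * 3 ^ (k + 2), k + 4 + 2, lb hr hr2 hn h6, hrk.mono (by have := rk_le (k + 4); omega),
      by omega, by omega, fun _ => h7⟩

/-- **TABLE 2F, row `PSL_2(q)`, `q` odd**: the 2-rank of the automorphism group is at most 3. -/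
theorem row_two (h2 : (2 : F) ≠ 0) :
    Rk.RK.{u} (Matrix.ProjectiveSpecialLinearGroup (Fin 2) F) 3 := (rkAut_two h2).rk

end

end Cfsg.Agent.Omega.TwoF.RowPsl

end

section


/-!
# `PSU_4(3^f)`, `f ≥ 2`: a prime divisor `r` with `ord_r(2) ≥ 13`

`r` is a primitive prime divisor of `3^{4f} - 1` (of `3^{6f} - 1` for `f = 3, 4, 22`).
-/

set_option autoImplicit false

namespace Cfsg.Agent.Omega.TwoF.LBPsuFour

open Cfsg

/-- The odd primes `r` with `ord_r(2) ≤ 12`. -/
theorem small_primes {r d : ℕ} (hr : r.Prime) (h0 : 0 < d) (hd : d ≤ 12) (h : r ∣ 2 ^ d - 1) :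
    r ∈ [3, 5, 7, 11, 13, 17, 23, 31, 73, 89, 127] := by
  have key : ∀ m ∈ [3, 5, 7, 11, 13, 17, 23, 31, 73, 89, 127], m.Prime → True := fun _ _ _ => trivial
  have h1 : ∀ (l : List ℕ), r ∣ l.prod → (∀ m ∈ l, Nat.Prime m) → r ∈ l := by
    intro l hl hp
    obtain ⟨m, hm, hrm⟩ := (Prime.dvd_prod_iff hr.prime).1 hl
    rwa [(Nat.prime_dvd_prime_iff_eq hr (hp m hm)).1 hrm]
  have h2 : ∀ l : List ℕ, (∀ m ∈ l, Nat.Prime m) → 2 ^ d - 1 = l.prod →
      (∀ m ∈ l, m ∈ [3, 5, 7, 11, 13, 17, 23, 31, 73, 89, 127]) →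
      r ∈ [3, 5, 7, 11, 13, 17, 23, 31, 73, 89, 127] := by
    intro l hp hl hsub
    exact hsub r (h1 l (hl ▸ h) hp)
  interval_cases d
  · exact h2 [] (by simp) (by norm_num) (by simp)
  · exact h2 [3] (by norm_num) (by norm_num) (by simp)
  · exact h2 [7] (by norm_num) (by norm_num) (by simp)
  · exact h2 [3, 5] (by norm_num) (by norm_num) (by simp)
  · exact h2 [31] (by norm_num) (by norm_num) (by simp)
  · exact h2 [3, 3, 7] (by norm_num) (by norm_num) (by simp)
  · exact h2 [127] (by norm_num) (by norm_num) (by simp)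
  · exact h2 [3, 5, 17] (by norm_num) (by norm_num) (by simp)
  · exact h2 [7, 73] (by norm_num) (by norm_num) (by simp)
  · exact h2 [3, 11, 31] (by norm_num) (by norm_num) (by simp)
  · exact h2 [23, 89] (by norm_num) (by norm_num) (by simp)
  · exact h2 [3, 3, 5, 7, 13] (by norm_num) (by norm_num) (by simp)

/-- A primitive prime divisor `r` of `3^n - 1` with `ord_r(2) ≤ 12` has `n` in a short list. -/
theorem mem_list {r n d : ℕ} (hr : r.Prime) (h3 : ¬ r ∣ 3) (hn : ∀ m, r ∣ 3 ^ m - 1 ↔ n ∣ m)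
    (h0 : 0 < d) (hd : d ≤ 12) (h : r ∣ 2 ^ d - 1) : n ∈ [4, 6, 5, 3, 16, 11, 30, 12, 88, 126] := by
  have h1 := small_primes hr h0 hd h
  have hdvd : ∀ a b : ℕ, r ∣ 3 ^ a - 1 → (∀ c ∈ Nat.properDivisors a, ¬ r ∣ 3 ^ c - 1) → 0 < a → n = a := by
    intro a _ h4 h5 h6
    have h7 := (hn a).1 h4
    by_contra hne
    have h8 : n ∈ Nat.properDivisors a := by
      rw [Nat.mem_properDivisors]
      exact ⟨h7, lt_of_le_of_ne (Nat.le_of_dvd h6 h7) hne⟩
    exact h5 n h8 ((hn n).2 dvd_rfl)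
  have hmod : ∀ a : ℕ, (3 ^ a) % r = 1 % r → r ∣ 3 ^ a - 1 := fun a h4 =>
    (Nat.modEq_iff_dvd' (Nat.one_le_pow _ _ (by norm_num))).1 (Nat.ModEq.symm h4)
  have hmod' : ∀ a : ℕ, r ∣ 3 ^ a - 1 → (3 ^ a) % r = 1 % r := fun a h4 =>
    (Nat.ModEq.symm ((Nat.modEq_iff_dvd' (Nat.one_le_pow _ _ (by norm_num))).2 h4))
  simp only [List.mem_cons, List.not_mem_nil, or_false] at h1
  rcases h1 with rfl | rfl | rfl | rfl | rfl | rfl | rfl | rfl | rfl | rfl | rfl
  · exact absurd dvd_rfl h3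
  · have := hdvd 4 0 (hmod 4 (by decide)) (fun c hc h => by
      have h9 := hmod' c h
      revert c; decide) (by norm_num)
    simp [this]
  · have := hdvd 6 0 (hmod 6 (by decide)) (fun c hc h => by
      have h9 := hmod' c h
      revert c; decide) (by norm_num)
    simp [this]
  · have := hdvd 5 0 (hmod 5 (by decide)) (fun c hc h => by
      have h9 := hmod' c h
      revert c; decide) (by norm_num)
    simp [this]
  · have := hdvd 3 0 (hmod 3 (by decide)) (fun c hc h => by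
      have h9 := hmod' c h
      revert c; decide) (by norm_num)
    simp [this]
  · have := hdvd 16 0 (hmod 16 (by decide)) (fun c hc h => by
      have h9 := hmod' c h
      revert c; decide) (by norm_num)
    simp [this]
  · have := hdvd 11 0 (hmod 11 (by decide)) (fun c hc h => by
      have h9 := hmod' c h
      revert c; decide) (by norm_num)
    simp [this]
  · have := hdvd 30 0 (hmod 30 (by decide)) (fun c hc h => by
      have h9 := hmod' c h
      revert c; decide) (by norm_num)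
    simp [this]
  · have := hdvd 12 0 (hmod 12 (by decide)) (fun c hc h => by
      have h9 := hmod' c h
      revert c; decide) (by norm_num)
    simp [this]
  · have := hdvd 88 0 (hmod 88 (by decide)) (fun c hc h => by
      have h9 := hmod' c h
      revert c; decide) (by norm_num)
    simp [this]
  · have := hdvd 126 0 (hmod 126 (by decide)) (fun c hc h => by
      have h9 := hmod' c h
      revert c; decide) (by norm_num)
    simp [this]

/-- The prime. -/
theorem exists_prime {q f : ℕ} (hf : 2 ≤ f) (hq : q = 3 ^ f) {F : Type*} [Field F] [Fintype F]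
    (hF : Fintype.card F = q ^ 2) :
    ∃ r, r.Prime ∧ r ≠ 2 ∧ r ∣ Nat.card (PSU 4 F q) ∧ 13 ≤ orderOf (2 : ZMod r) := by
  obtain ⟨n, hn, hn'⟩ : ∃ n, (n = 4 * f ∨ n = 6 * f) ∧ n ∉ [4, 6, 5, 3, 16, 11, 30, 12, 88, 126] := by
    by_cases h : f = 3 ∨ f = 4 ∨ f = 22
    · refine ⟨6 * f, Or.inr rfl, ?_⟩
      rcases h with rfl | rfl | rfl <;> decide
    · refine ⟨4 * f, Or.inl rfl, ?_⟩
      simp only [List.mem_cons, List.not_mem_nil, or_false]
      omega
  have hn8 : 8 ≤ n := by rcases hn with h | h <;> omega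
  obtain ⟨r, hr, hrn, -, hr3⟩ := Cfsg.Agent.Lib.Zsigmondy.exists_primitive (a := 3) (n := n)
    (by norm_num) (by omega) (fun h => by omega) (fun h => by omega)
  have hr2 : r ≠ 2 := by
    rintro rfl
    have h1 : (2 : ℕ) ∣ 3 ^ 1 - 1 := by norm_num
    have h2 := Nat.le_of_dvd (by norm_num) ((hrn 1).1 h1)
    omega
  refine ⟨r, hr, hr2, ?_, ?_⟩
  · have h1 := Cfsg.Agent.S0280.result hF 4 (by norm_num)
    have h2 : r ∣ q ^ (4 * (4 - 1) / 2) * ∏ i ∈ Finset.range 4,
        (if Even i then q ^ (i + 1) + 1 else q ^ (i + 1) - 1) := by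
      apply Dvd.dvd.mul_left
      rcases hn with h | h
      · have h3 : r ∣ q ^ 4 - 1 := by
          rw [hq, ← pow_mul, mul_comm f 4, ← h]
          exact (hrn n).2 dvd_rfl
        have h9 := Finset.dvd_prod_of_mem (fun i => if Even i then q ^ (i + 1) + 1 else q ^ (i + 1) - 1)
          (Finset.mem_range.2 (show 3 < 4 by norm_num))
        simp only [show ¬ Even 3 by decide, if_false] at h9
        exact h3.trans h9
      · have h3 : r ∣ q ^ 6 - 1 := by
          rw [hq, ← pow_mul, mul_comm f 6, ← h]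
          exact (hrn n).2 dvd_rfl
        have h4 : ¬ r ∣ q ^ 3 - 1 := by
          rw [hq, ← pow_mul, hrn]
          intro h5
          have := Nat.le_of_dvd (by omega) h5
          omega
        have h5 : q ^ 6 - 1 = (q ^ 3 - 1) * (q ^ 3 + 1) := by
          have h6 : 1 ≤ q ^ 3 := Nat.one_le_pow _ _ (by rw [hq]; positivity)
          obtain ⟨a, ha⟩ : ∃ a, q ^ 3 = a + 1 := ⟨q ^ 3 - 1, by omega⟩
          have h7 : q ^ 6 = (q ^ 3) ^ 2 := by rw [← pow_mul]
          rw [h7, ha]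
          have h8 : (a + 1) ^ 2 = a * (a + 2) + 1 := by ring
          rw [h8, Nat.add_sub_cancel, Nat.add_sub_cancel]
        rw [h5] at h3
        have h6 := (hr.dvd_mul.1 h3).resolve_left h4
        have h9 := Finset.dvd_prod_of_mem (fun i => if Even i then q ^ (i + 1) + 1 else q ^ (i + 1) - 1)
          (Finset.mem_range.2 (show 2 < 4 by norm_num))
        simp only [show Even 2 by decide, if_true] at h9
        exact h6.trans h9
    rw [← h1] at h2
    rcases hr.dvd_mul.1 h2 with h3 | h3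
    · exfalso
      have h4 : r ∣ 2 ^ 2 := h3.trans (Nat.gcd_dvd_left 4 (q + 1))
      exact hr2 ((Nat.prime_dvd_prime_iff_eq hr Nat.prime_two).1 (hr.dvd_of_dvd_pow h4))
    · rcases hr.dvd_mul.1 h3 with h4 | h4
      · exfalso
        have h5 : r ∣ 3 ^ (2 * f) - 1 := by
          have h6 : 3 ^ (2 * f) - 1 = (q + 1) * (q - 1) := by
            rw [mul_comm 2 f, pow_mul, ← hq]
            have := Nat.sq_sub_sq q 1
            rwa [one_pow] at this
          rw [h6]
          exact h4.mul_right _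
        have h7 := Nat.le_of_dvd (by omega) ((hrn (2 * f)).1 h5)
        rcases hn with h | h <;> omega
      · exact h4
  · apply RowPsl.le_orderOf hr hr2
    intro d h0 hd h
    apply hn'
    apply mem_list hr hr3 hrn h0 (d := d) (by omega)
    have h1 : ((2 ^ d : ℕ) : ZMod r) = ((1 : ℕ) : ZMod r) := by push_cast; exact h
    rw [ZMod.natCast_eq_natCast_iff] at h1
    exact (Nat.modEq_iff_dvd' (Nat.one_le_pow _ _ (by norm_num))).1 h1.symm

end Cfsg.Agent.Omega.TwoF.LBPsuFour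

end

section


/-!
# Weights of a coprime abelian subgroup over the algebraic closure

`ρ : G →* Matrix ι ι (ZMod ℓ)`, `A ≤ G` finite of order prime to `ℓ`, `K ⊇ 𝔽_ℓ` algebraically closed.
The set of weights `χ : A →* Kˣ` (`Wt`) has at most `|ι|` elements (`card_le`), is closed under `N_G(A)` (`Wt.conj`), under the
Frobenius (`Wt.frob`) and, if there is an invariant nondegenerate form, under inversion (`Wt.dual`); if `A` is abelian and
acts nontrivially there is a nontrivial weight (`exists_wt`).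
-/

set_option autoImplicit false
set_option linter.unusedSectionVars false
set_option linter.style.haveILetI false

namespace Cfsg.Agent.Omega.TwoF.Weight

open Matrix

section Mat

variable {ℓ : ℕ} {K : Type*} [Field K] [Algebra (ZMod ℓ) K] {G : Type*} [Group G] {ι : Type*} [Fintype ι]
  [DecidableEq ι] (ρ : G →* Matrix ι ι (ZMod ℓ))

variable (K) in
/-- the action over `K` -/
noncomputable def act (g : G) : Matrix ι ι K := (ρ g).map (algebraMap (ZMod ℓ) K)

theorem act_one : act K ρ 1 = 1 := by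
  rw [act, map_one]
  exact Matrix.map_one _ (map_zero _) (map_one _)

theorem act_mul (g h : G) : act K ρ (g * h) = act K ρ g * act K ρ h := by
  rw [act, map_mul, Matrix.map_mul]
  rfl

/-- `χ` is a weight of `A` -/
def Wt (A : Subgroup G) (χ : A →* Kˣ) : Prop :=
  ∃ w : ι → K, w ≠ 0 ∧ ∀ a : A, act K ρ a *ᵥ w = (χ a : K) • w

variable {ρ}

/-- the projection to the weight space of `ψ`, times `|A|` -/
noncomputable def proj (ρ : G →* Matrix ι ι (ZMod ℓ)) {A : Subgroup G} [Fintype A] (ψ : A →* Kˣ) (w : ι → K) : ι → K :=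
  ∑ a : A, ((ψ a)⁻¹ : Kˣ) • (act K ρ a *ᵥ w)

theorem proj_of_ne {A : Subgroup G} [Fintype A] {ψ χ : A →* Kˣ} (h : χ ≠ ψ) {w : ι → K}
    (hw : ∀ a : A, act K ρ a *ᵥ w = (χ a : K) • w) : proj ρ ψ w = 0 := by
  have h1 : ∑ a : A, ((Units.coeHom K).comp (ψ⁻¹ * χ)) a = 0 := by
    refine sum_hom_units_eq_zero _ fun h2 => h ?_
    have h3 : ψ⁻¹ * χ = 1 := by
      ext a
      have := DFunLike.congr_fun h2 a
      simpa using this
    exact (inv_mul_eq_one.1 h3).symm
  have h2 : proj ρ ψ w = (∑ a : A, ((Units.coeHom K).comp (ψ⁻¹ * χ)) a) • w := by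
    rw [Finset.sum_smul]
    refine Finset.sum_congr rfl fun a _ => ?_
    rw [hw, Units.smul_def, smul_smul]
    simp
  rw [h2, h1, zero_smul]

theorem proj_of_eq {A : Subgroup G} [Fintype A] {χ : A →* Kˣ} {w : ι → K}
    (hw : ∀ a : A, act K ρ a *ᵥ w = (χ a : K) • w) : proj ρ χ w = (Nat.card A : K) • w := by
  rw [proj]
  have : ∀ a : A, ((χ a)⁻¹ : Kˣ) • (act K ρ a *ᵥ w) = w := by
    intro a
    rw [hw, Units.smul_def, smul_smul]
    simp
  simp only [this, Finset.sum_const, Finset.card_univ, Nat.card_eq_fintype_card, Nat.cast_smul_eq_nsmul]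

theorem proj_mem {A : Subgroup G} [Fintype A] (ψ : A →* Kˣ) (w : ι → K) (b : A) :
    act K ρ b *ᵥ proj ρ ψ w = (ψ b : K) • proj ρ ψ w := by
  rw [proj, Matrix.mulVec_sum, Finset.smul_sum]
  refine Fintype.sum_equiv (Equiv.mulLeft b) _ _ fun a => ?_
  rw [Equiv.coe_mulLeft, Units.smul_def, Units.smul_def, Matrix.mulVec_smul, Matrix.mulVec_mulVec, ← act_mul, smul_smul]
  congr 1
  rw [← Units.val_mul, map_mul, _root_.mul_inv_rev, mul_left_comm, mul_inv_cancel, mul_one]

theorem linearIndependent {A : Subgroup G} [Finite A] (hc : (Nat.card A : K) ≠ 0) (w : {χ : A →* Kˣ // Wt ρ A χ} → ι → K)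
    (hw0 : ∀ χ, w χ ≠ 0) (hw : ∀ χ, ∀ a : A, act K ρ a *ᵥ w χ = (χ.1 a : K) • w χ) : LinearIndependent K w := by
  classical
  letI : Fintype A := Fintype.ofFinite A
  rw [linearIndependent_iff']
  intro s g hs ψ hψ
  have h1 : proj ρ ψ.1 (∑ i ∈ s, g i • w i) = g ψ • ((Nat.card A : K) • w ψ) := by
    have h2 : proj ρ ψ.1 (∑ i ∈ s, g i • w i) = ∑ i ∈ s, g i • proj ρ ψ.1 (w i) := by
      simp only [proj, Matrix.mulVec_sum, Finset.smul_sum]
      rw [Finset.sum_comm]
      refine Finset.sum_congr rfl fun i _ => Finset.sum_congr rfl fun a _ => ?_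
      rw [Matrix.mulVec_smul, smul_comm]
    rw [h2, Finset.sum_eq_single ψ]
    · rw [proj_of_eq (hw ψ)]
    · intro i _ hi
      rw [proj_of_ne (fun h => hi (Subtype.ext h)) (hw i), smul_zero]
    · intro h
      exact absurd hψ h
  rw [hs] at h1
  have h3 : proj ρ ψ.1 (0 : ι → K) = 0 := by simp [proj]
  rw [h3, smul_smul] at h1
  rcases smul_eq_zero.1 h1.symm with h | h
  · rcases mul_eq_zero.1 h with h | h
    · exact h
    · exact absurd h hc
  · exact absurd h (hw0 ψ)

/-- **at most `dim V` weights** -/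
theorem card_le {A : Subgroup G} [Finite A] (hc : (Nat.card A : K) ≠ 0) {S : Set (A →* Kˣ)} (hS : ∀ χ ∈ S, Wt ρ A χ) :
    S.Finite ∧ S.ncard ≤ Fintype.card ι := by
  classical
  choose w hw0 hw using fun χ : {χ : A →* Kˣ // Wt ρ A χ} => χ.2
  have h := linearIndependent hc w hw0 hw
  have hf : Finite {χ : A →* Kˣ // Wt ρ A χ} := h.finite
  have hfin : {χ : A →* Kˣ | Wt ρ A χ}.Finite := Set.toFinite _
  refine ⟨hfin.subset hS, (Set.ncard_le_ncard hS hfin).trans ?_⟩
  letI := Fintype.ofFinite {χ : A →* Kˣ // Wt ρ A χ}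
  have h1 := h.fintype_card_le_finrank
  rw [Module.finrank_fintype_fun_eq_card, ← Nat.card_eq_fintype_card] at h1
  exact h1

/-- conjugation -/
theorem Wt.conj {A : Subgroup G} {χ χ' : A →* Kˣ} (h : Wt ρ A χ) (g : G)
    (hg : ∀ a' : A, ∃ a : A, (a' : G) * g = g * a ∧ χ' a' = χ a) : Wt ρ A χ' := by
  obtain ⟨w, hw0, hw⟩ := h
  refine ⟨act K ρ g *ᵥ w, fun h0 => hw0 ?_, fun a' => ?_⟩
  · have h1 : act K ρ g⁻¹ *ᵥ (act K ρ g *ᵥ w) = w := by
      rw [Matrix.mulVec_mulVec, ← act_mul, inv_mul_cancel, act_one, Matrix.one_mulVec]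
    rw [← h1, h0, Matrix.mulVec_zero]
  · obtain ⟨a, ha, hχ⟩ := hg a'
    rw [Matrix.mulVec_mulVec, ← act_mul, ha, act_mul, ← Matrix.mulVec_mulVec, hw, Matrix.mulVec_smul, hχ]

/-- Frobenius -/
theorem Wt.frob [Fact ℓ.Prime] {A : Subgroup G} {χ : A →* Kˣ} (h : Wt ρ A χ) : Wt ρ A (χ ^ ℓ) := by
  obtain ⟨w, hw0, hw⟩ := h
  haveI : CharP K ℓ := charP_of_injective_algebraMap (algebraMap (ZMod ℓ) K).injective ℓ
  refine ⟨fun i => w i ^ ℓ, fun h0 => hw0 ?_, fun a => ?_⟩
  · funext i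
    have := congrFun h0 i
    exact pow_eq_zero_iff (Fact.out : ℓ.Prime).ne_zero |>.1 this
  · funext i
    have h1 := congrFun (hw a) i
    have h2 : (act K ρ a *ᵥ fun i => w i ^ ℓ) i = ((act K ρ a *ᵥ w) i) ^ ℓ := by
      simp only [Matrix.mulVec, dotProduct]
      rw [sum_pow_char]
      refine Finset.sum_congr rfl fun j _ => ?_
      rw [mul_pow]
      congr 1
      rw [act, Matrix.map_apply, ← map_pow, ZMod.pow_card]
    rw [h2, h1]
    simp [mul_pow]

/-- duality -/
theorem Wt.dual {A : Subgroup G} [Finite A] (hc : (Nat.card A : K) ≠ 0) {χ : A →* Kˣ} (h : Wt ρ A χ)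
    {B : Matrix ι ι (ZMod ℓ)} (hB : ∀ a ∈ A, (ρ a)ᵀ * B * ρ a = B) (hdet : IsUnit B.det) : Wt ρ A χ⁻¹ := by
  classical
  letI : Fintype A := Fintype.ofFinite A
  obtain ⟨w, hw0, hw⟩ := h
  let BK : Matrix ι ι K := B.map (algebraMap (ZMod ℓ) K)
  have hBK : ∀ a ∈ A, (act K ρ a)ᵀ * BK * act K ρ a = BK := by
    intro a ha
    change ((ρ a).map _)ᵀ * B.map _ * (ρ a).map _ = B.map _
    rw [← Matrix.transpose_map, ← Matrix.map_mul, ← Matrix.map_mul, hB a ha]
  have hdK : IsUnit BK.det := by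
    have : BK.det = algebraMap (ZMod ℓ) K B.det := (RingHom.map_det _ _).symm
    rw [this]
    exact hdet.map _
  -- the functional `u ↦ wᵀ B u`
  have hf0 : w ᵥ* BK ≠ 0 := by
    intro h0
    apply hw0
    have h1 : (w ᵥ* BK) ᵥ* BK⁻¹ = w := by
      rw [Matrix.vecMul_vecMul, Matrix.mul_nonsing_inv _ hdK, Matrix.vecMul_one]
    rw [← h1, h0, Matrix.zero_vecMul]
  have hfa : ∀ (a : A) (u : ι → K), (w ᵥ* BK) ⬝ᵥ (act K ρ a *ᵥ u) = ((χ a)⁻¹ : Kˣ) • ((w ᵥ* BK) ⬝ᵥ u) := by
    intro a u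
    have h1 : w = ((χ a)⁻¹ : Kˣ) • (act K ρ a *ᵥ w) := by
      rw [hw, Units.smul_def, smul_smul]
      simp
    have h2 : (act K ρ a *ᵥ w) ᵥ* BK ⬝ᵥ (act K ρ a *ᵥ u) = (w ᵥ* BK) ⬝ᵥ u := by
      conv_rhs => rw [← hBK a a.2]
      rw [← Matrix.vecMul_vecMul, ← Matrix.vecMul_vecMul, Matrix.vecMul_transpose, Matrix.dotProduct_mulVec]
    conv_lhs => rw [h1]
    rw [Matrix.smul_vecMul, smul_dotProduct, h2]
  obtain ⟨u, hu⟩ : ∃ u : ι → K, (w ᵥ* BK) ⬝ᵥ u ≠ 0 := by
    by_contra hcon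
    push Not at hcon
    exact hf0 (dotProduct_eq_zero _ hcon)
  refine ⟨proj ρ χ⁻¹ u, fun h0 => ?_, fun a => proj_mem _ _ a⟩
  have h1 : (w ᵥ* BK) ⬝ᵥ proj ρ χ⁻¹ u = (Nat.card A : K) * ((w ᵥ* BK) ⬝ᵥ u) := by
    rw [proj, dotProduct_sum]
    have : ∀ a : A, (w ᵥ* BK) ⬝ᵥ (((χ⁻¹ a)⁻¹ : Kˣ) • (act K ρ a *ᵥ u)) = (w ᵥ* BK) ⬝ᵥ u := by
      intro a
      rw [dotProduct_smul, hfa, smul_smul]
      simp
    simp only [this, Finset.sum_const, Finset.card_univ, Nat.card_eq_fintype_card, nsmul_eq_mul]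
  rw [h0, dotProduct_zero] at h1
  rcases mul_eq_zero.1 h1.symm with h | h
  · exact hc h
  · exact hu h

section Exists

variable [IsAlgClosed K]

/-- a common eigenvector in an invariant subspace -/
theorem exists_common {A : Subgroup G} (hA : ∀ a ∈ A, ∀ b ∈ A, a * b = b * a) (n : ℕ) :
    ∀ U : Submodule K (ι → K), Module.finrank K U ≤ n → U ≠ ⊥ → (∀ a ∈ A, ∀ w ∈ U, act K ρ a *ᵥ w ∈ U) →
      ∃ w ∈ U, w ≠ 0 ∧ ∀ a ∈ A, ∃ μ : K, act K ρ a *ᵥ w = μ • w := by
  induction n with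
  | zero =>
    intro U hn hU
    exact absurd (Submodule.finrank_eq_zero.1 (Nat.le_zero.1 hn)) hU
  | succ n ih =>
    intro U hn hU hinv
    by_cases hall : ∀ a ∈ A, ∃ μ : K, ∀ w ∈ U, act K ρ a *ᵥ w = μ • w
    · obtain ⟨w, hw, hw0⟩ := Submodule.exists_mem_ne_zero_of_ne_bot hU
      exact ⟨w, hw, hw0, fun a ha => (hall a ha).imp fun μ h => h w hw⟩
    · push Not at hall
      obtain ⟨a, ha, hne⟩ := hall
      haveI : Nontrivial U := Submodule.nontrivial_iff_ne_bot.2 hU
      let f : Module.End K U := (Matrix.mulVecLin (act K ρ a)).restrict (fun w hw => hinv a ha w hw)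
      obtain ⟨μ, hμ⟩ := Module.End.exists_eigenvalue f
      obtain ⟨u, hu⟩ := hμ.exists_hasEigenvector
      have hu1 : act K ρ a *ᵥ (u : ι → K) = μ • (u : ι → K) := congrArg Subtype.val hu.apply_eq_smul
      let U' : Submodule K (ι → K) :=
        { carrier := {w | w ∈ U ∧ act K ρ a *ᵥ w = μ • w}
          zero_mem' := ⟨zero_mem _, by rw [Matrix.mulVec_zero, smul_zero]⟩
          add_mem' := fun {x y} hx hy => ⟨add_mem hx.1 hy.1, by rw [Matrix.mulVec_add, hx.2, hy.2, smul_add]⟩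
          smul_mem' := fun c x hx => ⟨U.smul_mem c hx.1, by rw [Matrix.mulVec_smul, hx.2, smul_comm]⟩ }
      have hle : U' ≤ U := fun _ h => h.1
      have hne' : U' ≠ U := by
        intro h
        obtain ⟨w, hw, hwne⟩ := hne μ
        rw [← h] at hw
        exact hwne hw.2
      have hlt : Module.finrank K U' < Module.finrank K U := Submodule.finrank_lt_finrank_of_lt (lt_of_le_of_ne hle hne')
      obtain ⟨w, hw, h1, h2⟩ := ih U' (by omega) (by
          intro h
          apply hu.2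
          have : (u : ι → K) ∈ U' := ⟨u.2, hu1⟩
          rw [h, Submodule.mem_bot] at this
          exact Subtype.ext this)
        (fun b hb w hw => ⟨hinv b hb w hw.1, by
          rw [Matrix.mulVec_mulVec, ← act_mul, hA a ha b hb, act_mul, ← Matrix.mulVec_mulVec, hw.2,
            Matrix.mulVec_smul]⟩)
      exact ⟨w, hw.1, h1, h2⟩

/-- the character of a common eigenvector -/
theorem exists_char {A : Subgroup G} {w : ι → K} (hw0 : w ≠ 0) (hw : ∀ a ∈ A, ∃ μ : K, act K ρ a *ᵥ w = μ • w) :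
    ∃ χ : A →* Kˣ, ∀ a : A, act K ρ a *ᵥ w = (χ a : K) • w := by
  choose μ hμ using fun a : A => hw a a.2
  have hinj : ∀ x y : K, x • w = y • w → x = y := fun x y h => smul_left_injective K hw0 h
  let f : A →* K :=
    { toFun := μ
      map_one' := hinj _ _ (by rw [← hμ, OneMemClass.coe_one, act_one, Matrix.one_mulVec, one_smul])
      map_mul' := fun a b => hinj _ _ (by
        rw [← hμ, Subgroup.coe_mul, act_mul, ← Matrix.mulVec_mulVec, hμ, Matrix.mulVec_smul, hμ, smul_smul, mul_comm]) }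
  exact ⟨f.toHomUnits, fun a => hμ a⟩

/-- **nontrivial weights** -/
theorem exists_wt [Fact ℓ.Prime] {A : Subgroup G} [Finite A] (hA : ∀ a ∈ A, ∀ b ∈ A, a * b = b * a) (hc : (Nat.card A : K) ≠ 0)
    {a : A} (ha : ρ a ≠ 1) : ∃ χ : A →* Kˣ, Wt ρ A χ ∧ χ a ≠ 1 := by
  let U : Submodule K (ι → K) := LinearMap.range (Matrix.mulVecLin (act K ρ a - 1))
  have hU : U ≠ ⊥ := by
    intro h
    rw [LinearMap.range_eq_bot] at h
    apply ha
    have h1 : act K ρ a - 1 = 0 := by
      have h0 : Matrix.toLin' (act K ρ a - 1) = 0 := h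
      exact (LinearEquiv.map_eq_zero_iff _).1 h0
    rw [sub_eq_zero] at h1
    have h2 : (ρ a).map (algebraMap (ZMod ℓ) K) = (1 : Matrix ι ι (ZMod ℓ)).map (algebraMap (ZMod ℓ) K) := by
      rw [Matrix.map_one _ (map_zero _) (map_one _)]
      exact h1
    exact Matrix.map_injective (algebraMap (ZMod ℓ) K).injective h2
  obtain ⟨w, ⟨u, hu⟩, hw0, hw⟩ := exists_common (K := K) (ρ := ρ) hA _ U le_rfl hU (by
    rintro b hb _ ⟨u, rfl⟩
    refine ⟨act K ρ b *ᵥ u, ?_⟩
    simp only [Matrix.mulVecLin_apply, Matrix.mulVec_mulVec]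
    rw [sub_mul, mul_sub, one_mul, mul_one, ← act_mul, ← act_mul, hA a a.2 b hb])
  obtain ⟨χ, hχ⟩ := exists_char hw0 hw
  refine ⟨χ, ⟨w, hw0, hχ⟩, fun h1 => hw0 ?_⟩
  have hw1 : act K ρ a *ᵥ w = w := by rw [hχ, h1, Units.val_one, one_smul]
  have key : ∀ n : ℕ, (n : K) • w = act K ρ ((a : G) ^ n) *ᵥ u - u := by
    intro n
    induction n with
    | zero => simp [act_one]
    | succ n ih =>
      have h2 : act K ρ ((a : G) ^ n) *ᵥ w = w := by
        clear ih
        induction n with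
        | zero => simp [act_one]
        | succ n ih => rw [pow_succ, act_mul, ← Matrix.mulVec_mulVec, hw1, ih]
      have h3 : act K ρ (a : G) *ᵥ u = w + u := by
        rw [← hu, Matrix.mulVecLin_apply, Matrix.sub_mulVec, Matrix.one_mulVec, sub_add_cancel]
      rw [Nat.cast_succ, add_smul, one_smul, ih, pow_succ, act_mul, ← Matrix.mulVec_mulVec, h3, Matrix.mulVec_add, h2]
      abel
  have h4 := key (Nat.card A)
  have h5 : (a : G) ^ Nat.card A = 1 := by
    have := pow_card_eq_one' (x := a)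
    exact_mod_cast congrArg Subtype.val this
  rw [h5, act_one, Matrix.one_mulVec, sub_self] at h4
  rcases smul_eq_zero.1 h4 with h | h
  · exact absurd h hc
  · exact h

end Exists

end Mat

/-! ### Actions on a finite elementary abelian `ℓ`-group -/

section Group

variable {ℓ : ℕ} [Fact ℓ.Prime] {V : Type*} [CommGroup V] [Finite V]

/-- the matrix representation on an elementary abelian `ℓ`-group -/
theorem exists_rep (hV : ∀ v : V, v ^ ℓ = 1) :
    ∃ (n : ℕ) (ρ : MulAut V →* Matrix (Fin n) (Fin n) (ZMod ℓ)), Function.Injective ρ ∧ Nat.card V = ℓ ^ n ∧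
      ∀ b : V → V → ZMod ℓ, (∀ u v w, b (u * v) w = b u w + b v w) → (∀ u v w, b u (v * w) = b u v + b u w) →
        (∀ u, (∀ v, b u v = 0) → u = 1) → ∃ B : Matrix (Fin n) (Fin n) (ZMod ℓ), IsUnit B.det ∧
          ∀ g : MulAut V, (∀ u v, b (g u) (g v) = b u v) → (ρ g)ᵀ * B * ρ g = B := by
  classical
  letI : Module (ZMod ℓ) (Additive V) := AddCommGroup.zmodModule (n := ℓ) (fun v => hV v)
  let lin : (Additive V →+ Additive V) → (Additive V →ₗ[ZMod ℓ] Additive V) := fun f => f.toZModLinearMap ℓ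
  let B0 := Module.finBasis (ZMod ℓ) (Additive V)
  let ρ : MulAut V →* Matrix (Fin (Module.finrank (ZMod ℓ) (Additive V))) (Fin (Module.finrank (ZMod ℓ) (Additive V)))
      (ZMod ℓ) :=
    { toFun := fun g => LinearMap.toMatrix B0 B0 (lin (MonoidHom.toAdditive g.toMonoidHom))
      map_one' := LinearMap.toMatrix_one B0
      map_mul' := fun g h => LinearMap.toMatrix_mul B0 (lin (MonoidHom.toAdditive g.toMonoidHom))
        (lin (MonoidHom.toAdditive h.toMonoidHom)) }
  refine ⟨_, ρ, ?_, ?_, ?_⟩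
  · intro g h hgh
    have h1 := (LinearMap.toMatrix B0 B0).injective hgh
    ext v
    exact DFunLike.congr_fun h1 (Additive.ofMul v)
  · have := Module.natCard_eq_pow_finrank (K := ZMod ℓ) (V := Additive V)
    rw [Nat.card_zmod] at this
    exact this
  · intro b hb1 hb2 hnd
    let bl : Additive V →+ Additive V →+ ZMod ℓ :=
      AddMonoidHom.mk' (fun u => AddMonoidHom.mk' (fun v => b u.toMul v.toMul) (fun v w => hb2 _ _ _))
        (fun u v => by ext w; exact hb1 _ _ _)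
    let β : Additive V →ₗ[ZMod ℓ] Additive V →ₗ[ZMod ℓ] ZMod ℓ :=
      AddMonoidHom.toZModLinearMap ℓ
        { toFun := fun u => (bl u).toZModLinearMap ℓ
          map_zero' := by ext v; exact DFunLike.congr_fun (map_zero bl) v
          map_add' := fun u v => by ext w; exact DFunLike.congr_fun (map_add bl u v) w }
    have hβ : ∀ u v, β u v = b u.toMul v.toMul := fun _ _ => rfl
    have hsep : β.SeparatingLeft := by
      intro u hu
      exact hnd u.toMul fun v => hu (Additive.ofMul v)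
    refine ⟨LinearMap.toMatrix₂ B0 B0 β, ?_, fun g hg => ?_⟩
    · rw [isUnit_iff_ne_zero]
      exact (LinearMap.separatingLeft_iff_det_ne_zero B0).1 hsep
    · have h1 := LinearMap.toMatrix₂_compl₁₂ B0 B0 B0 B0 β (lin (MonoidHom.toAdditive g.toMonoidHom))
        (lin (MonoidHom.toAdditive g.toMonoidHom))
      change (LinearMap.toMatrix B0 B0 _)ᵀ * _ * (LinearMap.toMatrix B0 B0 _) = _
      rw [← h1]
      congr 1
      ext u v
      exact hg _ _

end Group

end Cfsg.Agent.Omega.TwoF.Weight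

end

section


/-!
# Elementary abelian `2`-subgroups of `Aut (PSp_2m(q))`, `q` odd, `m ≥ 2`
-/

set_option autoImplicit false
set_option linter.unusedSectionVars false

namespace Cfsg.Agent.Omega.TwoF.RkPSp

open Cfsg Matrix Cfsg.Agent.Omega.TwoF.RkLin Cfsg.Agent.Omega.TwoF.RkPSL
open Cfsg.Agent.ClassicalGeometry.SympBasic
open Cfsg.Agent.ClassicalGeometry.SympAutSemi
open Cfsg.Agent.ClassicalGeometry.SympAutExists
open Cfsg.Agent.ClassicalGeometry.SympGamma

universe u

variable {F : Type*} [Field F] [Fintype F] {m : ℕ}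

local notation "V" => (Fin m ⊕ Fin m → F)

instance : Finite (PSp m F) := by
  have : Finite (Matrix.symplecticGroup (Fin m) F) := Subtype.finite
  exact Quotient.finite _

instance : Finite (MulAut (PSp m F)) := finite_mulAut _

/-- the linear map of a similarity -/
def lin {g : Equiv.Perm V} {l : F} (h : IsSemi g (RingEquiv.refl F) l) : V ≃ₗ[F] V :=
  { g with
    map_add' := h.1
    map_smul' := h.2.1 }

/-- the matrix of a similarity -/
noncomputable def mat {g : Equiv.Perm V} {l : F} (h : IsSemi g (RingEquiv.refl F) l) :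
    GL (Fin m ⊕ Fin m) F where
  val := LinearMap.toMatrix' (lin h).toLinearMap
  inv := LinearMap.toMatrix' (lin h).symm.toLinearMap
  val_inv := by
    rw [← LinearMap.toMatrix'_comp, LinearEquiv.comp_coe, LinearEquiv.symm_trans_self]
    exact LinearMap.toMatrix'_id
  inv_val := by
    rw [← LinearMap.toMatrix'_comp, LinearEquiv.comp_coe, LinearEquiv.self_trans_symm]
    exact LinearMap.toMatrix'_id

theorem mat_mulVec {g : Equiv.Perm V} {l : F} (h : IsSemi g (RingEquiv.refl F) l) (v : V) :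
    (mat h : Matrix (Fin m ⊕ Fin m) (Fin m ⊕ Fin m) F) *ᵥ v = g v :=
  LinearMap.toMatrix'_mulVec _ v

theorem isSemi_refl_mul {g : Equiv.Perm V} {φ ψ : F ≃+* F} {l k : F} (h : IsSemi g φ l)
    (hφ : φ = ψ) (hl : l = k) : IsSemi g ψ k := by
  subst hφ; subst hl; exact h

/-- Similarities only. -/
theorem card_linear (h2 : (2 : F) ≠ 0) (hm : 1 ≤ m)
    (A : Subgroup (MulAut (PSp m F))) (hA : ∀ x ∈ A, x * x = 1)
    (h : ∀ x ∈ A, ∃ (g : semiSim m F) (l : F), IsSemi g.1 (RingEquiv.refl F) l ∧ Psi m F g = x) :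
    Nat.card A ≤ 2 ^ rk (m + m) := by
  choose g l hg hx using fun a : A => h a.1 a.2
  refine card_le_matrix h2 (ι := Fin m ⊕ Fin m) (by rw [Fintype.card_sum, Fintype.card_fin]) (by omega)
    (fun a => mat (hg a)) ?_ (fun a => Subtype.ext (hA a.1 a.2)) ?_
  · intro a b
    have h1 : Psi m F ((g (a * b))⁻¹ * (g a * g b)) = 1 := by
      rw [map_mul, map_inv, map_mul, hx, hx, hx]
      exact inv_mul_cancel _
    obtain ⟨c, hc⟩ := exists_scal_of_Psi_eq_one hm _ h1
    refine ⟨c, ?_⟩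
    apply Matrix.mulVec_injective
    funext v
    rw [← Matrix.mulVec_mulVec, mat_mulVec, mat_mulVec, Matrix.smul_mulVec, mat_mulVec]
    have h3 : (g a).1 ((g b).1 v) = (g (a * b)).1 (((g (a * b))⁻¹ * (g a * g b)).1 v) := by
      show _ = (g (a * b)).1 (((g (a * b)).1)⁻¹ ((g a).1 ((g b).1 v)))
      rw [perm_apply_inv_self]
    rw [h3, hc, scal_apply, (hg (a * b)).2.1]
    rfl
  · rintro a ⟨c, hc⟩
    apply Subtype.ext
    rw [← hx a]
    have h3 : ∀ v : V, (g a).1 v = c • v := by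
      intro v
      rw [← mat_mulVec (hg a), hc, Matrix.smul_mulVec, Matrix.one_mulVec]
    show Psi m F (g a) = 1
    ext1 x
    obtain ⟨y, rfl⟩ := QuotientGroup.mk_surjective x
    rw [Psi_mk, MulAut.one_apply]
    congr 1
    apply rho_injective
    rw [rho_conjHom]
    ext1 v
    rw [Equiv.Perm.mul_apply, Equiv.Perm.mul_apply, h3, rho_apply, ← Matrix.mulVec_smul, ← h3,
      perm_apply_inv_self, rho_apply]

/-- the square of the field automorphism -/
theorem field_sq (hm : 1 ≤ m) {g : semiSim m F} {σ : F ≃+* F} {l : F} (h : IsSemi g.1 σ l)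
    (hg : Psi m F g * Psi m F g = 1) : σ * σ = 1 := by
  rw [← map_mul] at hg
  obtain ⟨c, hc⟩ := exists_scal_of_Psi_eq_one hm _ hg
  have h1 := (h.mul h)
  have h3 : (g * g).1 = scal m F c := hc
  have h4 : g.1 * g.1 = scal m F c := hc
  rw [h4] at h1
  exact (IsSemi.unique hm h1 (isSemi_scal c)).1

/-- **`Aut (PSp_2m(q))`, `q` odd, `m ≥ 2`.** -/
theorem rkAut (h2 : (2 : F) ≠ 0) (hm : 2 ≤ m) : RkAut (PSp m F) (rk (m + m) + 1) := by
  intro A hA
  have hex : ∀ x : MulAut (PSp m F), ∃ (g : semiSim m F) (σ : F ≃+* F) (l : F), l ≠ 0 ∧ IsSemi g.1 σ l ∧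
      Psi m F g = x := by
    intro x
    obtain ⟨g, hg⟩ := exists_semi hm x (Cfsg.Agent.ClassicalGeometry.SympAutRecog.recog_odd hm h2 x)
    obtain ⟨σ, l, hl, h⟩ := g.2
    exact ⟨g, σ, l, hl, h, hg⟩
  let P : Subgroup (MulAut (PSp m F)) :=
    { carrier := {x | ∃ (g : semiSim m F) (l : F), l ≠ 0 ∧ IsSemi g.1 (RingEquiv.refl F) l ∧ Psi m F g = x}
      mul_mem' := by
        rintro _ _ ⟨g, l, hl, h, rfl⟩ ⟨g', l', hl', h', rfl⟩
        refine ⟨g * g', l * l', mul_ne_zero hl hl', ?_, map_mul _ _ _⟩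
        exact h.mul h'
      one_mem' := ⟨1, 1, one_ne_zero, ⟨fun _ _ => rfl, fun _ _ => rfl, fun _ _ => by
        rw [one_mul]; rfl⟩, map_one _⟩
      inv_mem' := by
        rintro _ ⟨g, l, hl, h, rfl⟩
        exact ⟨g⁻¹, _, inv_ne_zero hl, h.inv hl, map_inv _ _⟩ }
  have h1 : Nat.card A ≤ 2 * Nat.card (A ⊓ P : Subgroup _) := by
    apply card_le_two_mul
    intro x hx hxn y hy hyn
    obtain ⟨g, σ, l, hl, h, rfl⟩ := hex x
    obtain ⟨g', σ', l', hl', h', rfl⟩ := hex y
    have hσ : σ * σ = 1 := field_sq (by omega) h (hA _ hx)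
    have hσ' : σ' * σ' = 1 := field_sq (by omega) h' (hA _ hy)
    have hσ1 : σ ≠ 1 := by
      rintro rfl
      exact hxn ⟨hx, g, l, hl, h, rfl⟩
    have hσ1' : σ' ≠ 1 := by
      rintro rfl
      exact hyn ⟨hy, g', l', hl', h', rfl⟩
    have hσσ := field_inv_unique hσ hσ' hσ1 hσ1'
    refine ⟨mul_mem hx hy, g * g', l * σ l', mul_ne_zero hl (by simpa using hl'), ?_, map_mul _ _ _⟩
    refine isSemi_refl_mul (h.mul h') ?_ rfl
    rw [← hσσ]
    exact hσ
  have h3 := card_linear h2 (by omega) (A ⊓ P) (fun x hx => hA x hx.1) (by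
    rintro x ⟨-, g, l, -, h, hx⟩
    exact ⟨g, l, h, hx⟩)
  rw [pow_succ]
  omega

/-- **`Aut (PSp_2m(q))`, `q` odd and not a square, `m ≥ 2`.** -/
theorem rkAut_odd (h2 : (2 : F) ≠ 0) (hm : 2 ≤ m) (hF : ∀ σ : F ≃+* F, σ * σ = 1 → σ = 1) :
    RkAut (PSp m F) (rk (m + m)) := by
  intro A hA
  apply card_linear h2 (by omega) A hA
  intro x hx
  obtain ⟨g, hg⟩ := exists_semi hm x (Cfsg.Agent.ClassicalGeometry.SympAutRecog.recog_odd hm h2 x)
  obtain ⟨σ, l, hl, h⟩ := g.2
  have hσ : σ * σ = 1 := field_sq (by omega) h (by rw [hg]; exact hA x hx)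
  obtain rfl := hF σ hσ
  exact ⟨g, l, h, hg⟩

end Cfsg.Agent.Omega.TwoF.RkPSp

end
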