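import Cfsg.Agent.Mrg.Omega.TwoF.RkPSU
import Cfsg.Agent.Mrg.Omega.TwoF.RowPsl
import Cfsg.Agent.Mrg.Omega.TwoF.Bridge
import Cfsg.Agent.Omega.KFacts
import Cfsg.Agent.ClassicalGeometry.PSL2Solvable
import Cfsg.Agent.LieClassical.HermPerfect
import Cfsg.Agent.S0248
import Cfsg.Agent.Omega.TwoF.Defs
import Mathlib
import Cfsg.Agent.Omega.TwoF.RowTool
import Cfsg.Agent.Lib.NormalAbelian
import Cfsg.Agent.KFacts.M24Two.Out
import Cfsg.Agent.SporadicA.M24Trans
import Cfsg.Agent.S0365
import Cfsg.Prelude.Def_Classification2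

section


/-!
# TABLE 2F: the rows `psl`, `psu`, `u43` of `KFacts.Rows2`
-/

set_option autoImplicit false

universe u v

namespace Cfsg.Agent.Omega.TwoF.RowLU

open Cfsg Cfsg.Agent.Omega.TwoF Cfsg.Agent.Omega.EH3 Cfsg.Agent.Omega.KFacts
open Cfsg.Agent.ClassicalGeometry.AutPSL.Root (pr_surjective)

theorem center_bot_of_perf {K : Type*} [Group K] [IsSimpleGroup K] (h : commutator K = ⊤) :
    Subgroup.center K = ⊥ := by
  rcases IsSimpleGroup.eq_bot_or_eq_top_of_normal (Subgroup.center K) inferInstance with h1 | h1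
  · exact h1
  · exfalso
    have h2 : commutator K = ⊥ := by
      rw [eq_bot_iff, commutator_def, Subgroup.commutator_le]
      intro a _ b _
      rw [Subgroup.mem_bot, commutatorElement_eq_one_iff_mul_comm]
      exact (Subgroup.mem_center_iff.1 (h1 ▸ Subgroup.mem_top b) a)
    exact bot_ne_top (h2.symm.trans h)

theorem perf_of_surjective {G K : Type*} [Group G] [Group K] (f : G →* K)
    (hf : Function.Surjective f) (h : commutator G = ⊤) : commutator K = ⊤ := by
  have h1 := Subgroup.map_commutator (⊤ : Subgroup G) ⊤ f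
  rw [← MonoidHom.range_eq_map, MonoidHom.range_eq_top.2 hf] at h1
  rw [commutator_def, ← h1]
  have h2 : ⁅(⊤ : Subgroup G), ⊤⁆ = ⊤ := h
  rw [h2, ← MonoidHom.range_eq_map, MonoidHom.range_eq_top.2 hf]

section psl

variable {F : Type} [Field F] [Fintype F] {n : ℕ}

theorem simple_psl (hn : 2 ≤ n) (h4 : n = 2 → 4 ≤ Fintype.card F) :
    IsSimpleGroup (Matrix.ProjectiveSpecialLinearGroup (Fin n) F) ∧
      Subgroup.center (Matrix.ProjectiveSpecialLinearGroup (Fin n) F) = ⊥ := by
  by_cases h3 : 3 ≤ n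
  · haveI hs := Cfsg.Agent.S0249.result (F := F) n h3
    exact ⟨hs, center_bot_of_perf (perf_of_surjective _ pr_surjective (Cfsg.Agent.S0248.result n h3))⟩
  · obtain rfl : n = 2 := by omega
    haveI hs : IsSimpleGroup (Matrix.ProjectiveSpecialLinearGroup (Fin 2) F) :=
      Matrix.ProjectiveSpecialLinearGroup.rank_two_simple (by
        rw [Nat.card_eq_fintype_card]; exact h4 rfl)
    refine ⟨hs, ?_⟩
    rcases IsSimpleGroup.eq_bot_or_eq_top_of_normal
      (Subgroup.center (Matrix.ProjectiveSpecialLinearGroup (Fin 2) F)) inferInstance with h1 | h1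
    · exact h1
    · exfalso
      refine Cfsg.Agent.ClassicalGeometry.PSL2Solvable.not_isSolvable_psl F (h4 rfl)
        (Group.isSolvable_of_comm fun a b => ?_)
      exact (Subgroup.mem_center_iff.1 (h1 ▸ Subgroup.mem_top b) a)

theorem psl_row (h2 : (2 : F) ≠ 0) (hn : 2 ≤ n) (h4 : n = 2 → 4 ≤ Fintype.card F) :
    RowEH3.{u} (Matrix.ProjectiveSpecialLinearGroup (Fin n) F) := by
  obtain ⟨hs, hc⟩ := simple_psl hn h4
  haveI : Finite (Matrix.ProjectiveSpecialLinearGroup (Fin n) F) := Finite.of_surjective _ pr_surjective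
  by_cases h3 : 3 ≤ n
  · obtain ⟨m, a, hl, hr, hlt, -, -⟩ := RowPsl.row.{0, u, u} (F := F) h2 h3
    exact RowEH3.of_dead hc (Dead2.of_lb (LB.of_heis hl) (RK.of_rk hc hr) hlt)
  · obtain rfl : n = 2 := by omega
    exact RowEH3.of_rk hc ((RK.of_rk hc (RowPsl.row_two.{0} (F := F) h2)).mono (by norm_num))

end psl

/-- **The row `psl`.** -/
theorem psl : KFacts.Row.{u} fun K _ => OddChar @IsPSLChar K ∧ ¬ IsLieTypeChar 2 K := by
  rintro K _ ⟨⟨p, hp, hp2, F, _, _, _, n, hn, h4, ⟨e⟩⟩, -⟩
  have h2 : (2 : F) ≠ 0 := by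
    intro h0
    have h1 : ((2 : ℕ) : F) = 0 := by exact_mod_cast h0
    rw [CharP.cast_eq_zero_iff F p] at h1
    exact hp2 ((Nat.prime_dvd_prime_iff_eq hp Nat.prime_two).1 h1)
  exact (psl_row h2 hn h4).equiv e

section psu

variable {F : Type} [Field F] [Fintype F] {n q : ℕ}

theorem ne_two (hF : Fintype.card F = q ^ 2) (h2 : (2 : F) ≠ 0) : q ≠ 2 := by
  rintro rfl
  obtain ⟨p, hp⟩ := CharP.exists F
  obtain ⟨k, hpp, hk⟩ := FiniteField.card F p
  have h1 : p ∣ 2 ^ 2 := by
    rw [← hF, hk]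
    exact dvd_pow_self p k.pos.ne'
  have h3 : p = 2 := (Nat.prime_dvd_prime_iff_eq hpp Nat.prime_two).1 (hpp.dvd_of_dvd_pow h1)
  subst h3
  exact h2 (by exact_mod_cast CharP.cast_eq_zero F 2)

theorem simple_psu (hF : Fintype.card F = q ^ 2) (h2 : (2 : F) ≠ 0) (hn : 3 ≤ n) :
    IsSimpleGroup (PSU n F q) ∧ Subgroup.center (PSU n F q) = ⊥ := by
  have h32 : ¬ (n = 3 ∧ q = 2) := fun h => ne_two hF h2 h.2
  haveI hs := Cfsg.Agent.S0283.result hF n hn h32
  exact ⟨hs, center_bot_of_perf (perf_of_surjective _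
    (Cfsg.Agent.ClassicalGeometry.UnitAutBasic.pr_surjective (n := n) (F := F) (q := q))
    (Cfsg.Agent.LieClassical.HermPerfect.commutator_SU_eq_top hF hn h32))⟩

theorem rk_psu (hF : Fintype.card F = q ^ 2) (h2 : (2 : F) ≠ 0) (hn : 3 ≤ n) :
    RK (PSU n F q) (RkLin.rk n + 1) := RK.of_mul_self (RkPSU.rkAut hF h2 hn)

theorem psu_row {p : ℕ} (hp : p.Prime) [CharP F p] (hF : Fintype.card F = q ^ 2) (h2 : (2 : F) ≠ 0)
    (hn : 3 ≤ n) (h43 : ¬ (n = 4 ∧ q = 3)) : RowEH3.{u} (PSU n F q) := by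
  obtain ⟨hs, hc⟩ := simple_psu hF h2 hn
  have hp2 : p ≠ 2 := by
    rintro rfl
    exact h2 (by exact_mod_cast CharP.cast_eq_zero F 2)
  have hr := rk_psu hF h2 hn
  by_cases h3 : n = 3
  · subst h3
    exact RowEH3.of_rk hc (hr.mono (by decide))
  by_cases h4 : n = 4
  · subst h4
    have h5 : RkLin.rk 4 + 1 = 5 := by decide
    rw [h5] at hr
    by_cases hp3 : p = 3
    · subst hp3
      obtain ⟨f, hf⟩ : ∃ f, q = 3 ^ f := by
        obtain ⟨a, _, ha⟩ := FiniteField.card F 3
        have h6 : q ∣ 3 ^ (a : ℕ) := by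
          rw [← ha, hF]
          exact dvd_pow_self q (by norm_num)
        obtain ⟨f, _, hf⟩ := (Nat.dvd_prime_pow Nat.prime_three).1 h6
        exact ⟨f, hf⟩
      have hf2 : 2 ≤ f := by
        by_contra hlt
        have h6 : f = 0 ∨ f = 1 := by omega
        rcases h6 with rfl | rfl
        · rw [pow_zero] at hf
          subst hf
          have := Fintype.one_lt_card (α := F)
          rw [hF] at this
          norm_num at this
        · exact h43 ⟨rfl, by rw [hf, pow_one]⟩
      obtain ⟨r, hr1, hr2, hr3, hr4⟩ := LBPsuFour.exists_prime hf2 hf hF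
      haveI : Finite (PSU 4 F q) := RkPSU.finite_PSU
      exact RowEH3.of_dead hc (Dead2.of_lb (LB.of_heis
        (Cfsg.Agent.Omega.Lie.Heis.LB.prime hr1 hr2 hr3 hr4)) hr (by norm_num))
    · have hp5 : 5 ≤ p := by
        have := hp.two_le
        by_contra hlt
        have h6 : p = 4 := by omega
        subst h6
        exact absurd hp (by norm_num)
      exact RowEH3.of_dead hc (Dead2.of_lb (LB.of_heis
        (RowPsu.lb_one (k := 2) hF h2 hp hp2 (by norm_num) (m := 20) (RowPsl.twenty_le hp hp5))) hr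
        (by norm_num))
  · obtain ⟨k, rfl⟩ : ∃ k, n = k + 3 + 2 := ⟨n - 5, by omega⟩
    have hp3 : 3 ≤ p := by
      have := hp.two_le
      omega
    have hkey : ∀ k : ℕ, 2 * (k + 3 + 2 + 1) + 2 < 2 * 3 ^ (k + 3) := by
      intro k
      induction k with
      | zero => norm_num
      | succ k ih =>
        rw [show k + 1 + 3 = (k + 3) + 1 by omega, pow_succ]
        omega
    have h6 : 2 * 3 ^ (k + 3) ≤ orderOf (2 : ZMod p) * p ^ (k + 3) :=
      Nat.mul_le_mul (RowPsl.two_le_order hp hp2) (Nat.pow_le_pow_left hp3 _)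
    refine RowEH3.of_dead hc (Dead2.of_lb (LB.of_heis
      (RowPsu.lb_five (k := k + 3) hF h2 hp hp2 (by omega) h6)) (hr.mono (b := k + 3 + 2 + 1) ?_) (hkey k))
    have := RkLin.rk_le (k + 3 + 2)
    omega

end psu

/-- **The row `psu`.** -/
theorem psu : KFacts.Row.{u} fun K _ => OddChar @IsPSUChar K ∧ ¬ IsLieTypeChar 2 K ∧ ¬ IsUFourThree K := by
  rintro K _ ⟨⟨p, hp, hp2, F, _, _, _, n, q, hF, hn, h32, ⟨e⟩⟩, -, h43⟩
  have h2 : (2 : F) ≠ 0 := by
    intro h0
    have h1 : ((2 : ℕ) : F) = 0 := by exact_mod_cast h0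
    rw [CharP.cast_eq_zero_iff F p] at h1
    exact hp2 ((Nat.prime_dvd_prime_iff_eq hp Nat.prime_two).1 h1)
  refine (psu_row hp hF h2 hn ?_).equiv e
  rintro ⟨rfl, rfl⟩
  exact h43 ⟨F, _, _, by rw [hF]; norm_num, ⟨e⟩⟩

/-- **The row `u43`.** -/
theorem u43 (K : Type u) [Group K] (h : IsUFourThree K) : Tight K 12 5 := by
  obtain ⟨F, _, _, hF, ⟨e⟩⟩ := h
  have hF' : Fintype.card F = 3 ^ 2 := by rw [hF]; norm_num
  have h2 : (2 : F) ≠ 0 := by
    intro h0
    obtain ⟨p, hp⟩ := CharP.exists F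
    obtain ⟨k, hpp, hk⟩ := FiniteField.card F p
    have h1 : ((2 : ℕ) : F) = 0 := by exact_mod_cast h0
    rw [CharP.cast_eq_zero_iff F p] at h1
    have h3 := (Nat.prime_dvd_prime_iff_eq hpp Nat.prime_two).1 h1
    subst h3
    have h4 : 2 ∣ 9 := by
      rw [← hF, hk]
      exact dvd_pow_self 2 k.pos.ne'
    norm_num at h4
  have hr := rk_psu hF' h2 (show 3 ≤ 4 by norm_num)
  have h5 : RkLin.rk 4 + 1 = 5 := by decide
  rw [h5] at hr
  exact ⟨Or.inl rfl, hr.equiv e, by norm_num⟩

end Cfsg.Agent.Omega.TwoF.RowLU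

end

section


/-!
# TABLE 2F: the lower bound for self-dual modules from one prime (helper834)

`LBs.prime`: `p` an odd prime divisor of `|K|`, `-1` not a power of `2` modulo `p`: `|V| ≥ 2 ^ (2 ord_p(2))` for every
nontrivial module with an invariant nondegenerate alternating form of every odd cover.
-/

set_option autoImplicit false

namespace Cfsg.Agent.Omega.TwoF

open Subgroup

universe u v

/-- the image of a nontrivial action of an odd cover of a simple group has order divisible by the order of the group -/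
theorem OddCover.card_dvd_range {L : Type*} {K : Type*} [Group L] [Group K] [IsSimpleGroup K] {π : L →* K}
    (h : OddCover π) {M : Type*} [Group M] {φ : L →* M} (hφ : φ ≠ 1) : Nat.card K ∣ Nat.card φ.range := by
  have hn : (φ.ker.map π).Normal := Subgroup.Normal.map inferInstance π h.surj
  have hle : φ.ker ≤ π.ker := by
    rcases hn.eq_bot_or_eq_top with h1 | h1
    · exact (Subgroup.map_eq_bot_iff _).1 h1
    · exfalso
      apply hφ
      have h2 : commutator L ≤ φ.ker := by
        rw [commutator_def, commutator_le]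
        intro a _ b _
        have key : ∀ a : L, ∃ n ∈ φ.ker, ∃ z ∈ center L, a = n * z := by
          intro a
          have h3 : π a ∈ φ.ker.map π := by rw [h1]; exact mem_top _
          obtain ⟨n, hn, hna⟩ := h3
          refine ⟨n, hn, n⁻¹ * a, h.cent ?_, by group⟩
          rw [MonoidHom.mem_ker, map_mul, map_inv, hna, inv_mul_cancel]
        obtain ⟨n, hn, z, hz, rfl⟩ := key a
        obtain ⟨m, hm, y, hy, rfl⟩ := key b
        rw [MonoidHom.mem_ker] at hn hm ⊢
        have h4 : φ z * φ y = φ y * φ z := by rw [← map_mul, ← map_mul, mem_center_iff.1 hy z]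
        rw [map_commutatorElement, commutatorElement_def, map_mul, map_mul, hn, hm, one_mul, one_mul, h4]
        group
      ext x
      have h5 : x ∈ φ.ker := h2 (by rw [h.perf]; exact mem_top _)
      exact MonoidHom.mem_ker.1 h5
  -- the induced map `φ.range → K`
  have h3 : Nat.card K ∣ Nat.card (L ⧸ φ.ker) :=
    Subgroup.card_dvd_of_surjective (QuotientGroup.lift φ.ker π hle)
      (QuotientGroup.lift_surjective_of_surjective φ.ker π h.surj hle)
  rwa [Nat.card_congr (QuotientGroup.quotientKerEquivRange φ).toEquiv] at h3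

/-- **One prime, self-dual modules.** -/
theorem LBs.prime {K : Type v} [Group K] [IsSimpleGroup K] {p m : ℕ} (hp : p.Prime) (hp2 : p ≠ 2)
    (hpK : p ∣ Nat.card K) (hneg : ∀ j : ℕ, (2 : ZMod p) ^ j ≠ -1) (hm : m ≤ 2 * orderOf (2 : ZMod p)) :
    LBs.{u} K m := by
  intro L _ _ π hπ V _ _ φ b hb hi h2 h1
  have : Fact p.Prime := ⟨hp⟩
  have h3 : p ∣ Nat.card φ.range := hpK.trans (hπ.card_dvd_range h1)
  have hfin : Finite φ.range := Finite.of_surjective _ φ.rangeRestrict_surjective
  obtain ⟨e, he⟩ := exists_prime_orderOf_dvd_card' p h3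
  have hsd : Weight.SelfDual 2 (φ.range.subtype : φ.range →* MulAut V) := by
    refine ⟨b, hb.add_left, hb.add_right, hb.nondeg, ?_⟩
    rintro ⟨_, g, rfl⟩ x y
    exact hi g x y
  have h4 := Weight.pow_two_orderOf_le (ℓ := 2) (φ := (φ.range.subtype : φ.range →* MulAut V)) h2 hsd
    (n := p) (r := p) (k := 0) (by rw [zero_add, pow_one]) hp hp2 (e := e) (by rw [← he]; exact pow_orderOf_eq_one e)
    (by
      rw [pow_zero, pow_one]
      intro h5
      have h6 : e = 1 := Subtype.ext h5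
      rw [h6, orderOf_one] at he
      exact hp.ne_one he.symm)
    (by exact_mod_cast hneg)
  exact (Nat.pow_le_pow_right two_pos (by exact_mod_cast hm)).trans h4

/-- `-1` is not a power of `2` modulo `23` -/
theorem neg_23 (j : ℕ) : (2 : ZMod 23) ^ j ≠ -1 := by
  have h11 : (2 : ZMod 23) ^ 11 = 1 := by decide
  rw [← Nat.div_add_mod j 11, pow_add, pow_mul, h11, one_pow, one_mul]
  have h := Nat.mod_lt j (by norm_num : 0 < 11)
  interval_cases j % 11 <;> decide

theorem orderOf_23 : orderOf (2 : ZMod 23) = 11 := by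
  have : Fact (Nat.Prime 11) := ⟨by norm_num⟩
  exact orderOf_eq_prime (by decide) (by decide)

/-- **`23` divides `|K|`**: self-dual modules of dimension at least `22`. -/
theorem LBs.of_23 {K : Type v} [Group K] [IsSimpleGroup K] (h : 23 ∣ Nat.card K) : LBs.{u} K 22 :=
  LBs.prime (p := 23) (by norm_num) (by norm_num) h neg_23 (by rw [orderOf_23])

end Cfsg.Agent.Omega.TwoF

end

section


/-!
# EH3: lower bound for modules from a primitive prime (helper234)

`lb_of_prim` : `p` prime divisor of `|K|` (`K` simple) with `p ∤ 2^d - 1` for `0 < d < n` : `LB K n`.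
-/

set_option autoImplicit false

namespace Cfsg.Agent.Omega.EH3.Rank1

open Subgroup TwoF

universe u v

/-- a nontrivial automorphism of odd prime order `p` of an elementary abelian 2-group of order `< 2^n` -/
theorem card_of_prim {V : Type*} [CommGroup V] [Finite V] (h2 : ∀ x : V, x ^ 2 = 1) {p n : ℕ} (hp : p.Prime)
    (hp2 : p ≠ 2) (hprim : ∀ d, 0 < d → d < n → ¬ p ∣ 2 ^ d - 1) {e : MulAut V} (he : e ^ p = 1) (he1 : e ≠ 1) :
    2 ^ n ≤ Nat.card V := by
  have : Fact p.Prime := ⟨hp⟩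
  have : Fact (Nat.Prime 2) := ⟨Nat.prime_two⟩
  -- the fixed points
  let C : Subgroup V :=
    { carrier := {v | e v = v}
      one_mem' := map_one e
      mul_mem' := fun {x y} hx hy => by
        show e (x * y) = x * y
        rw [map_mul, show e x = x from hx, show e y = y from hy]
      inv_mem' := fun {x} hx => by
        show e x⁻¹ = x⁻¹
        rw [map_inv, show e x = x from hx] }
  have hV : IsPGroup 2 V := fun x => ⟨1, by rw [pow_one]; exact h2 x⟩
  obtain ⟨m, hm⟩ := hV.exists_card_eq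
  obtain ⟨c, hc⟩ := (hV.to_subgroup C).exists_card_eq
  have hCV : Nat.card C ≤ Nat.card V := Nat.card_le_card_of_injective _ C.subtype_injective
  have hne : Nat.card C ≠ Nat.card V := by
    intro h
    apply he1
    have hCt : C = ⊤ := by
      apply Subgroup.eq_top_of_card_eq
      exact h
    ext v
    have : v ∈ C := by rw [hCt]; exact mem_top v
    exact this
  have hcm : c < m := by
    rw [hm, hc] at hCV hne
    have h1 := (Nat.pow_le_pow_iff_right (by norm_num)).1 hCV
    have h3 : c ≠ m := fun h => hne (by rw [h])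
    omega
  -- the action of `⟨e⟩`
  let A : Subgroup (MulAut V) := zpowers e
  have hA : IsPGroup p A := by
    have h1 : orderOf e ∣ p ^ 1 := by rw [pow_one]; exact orderOf_dvd_of_pow_eq_one he
    obtain ⟨k, -, hk⟩ := (Nat.dvd_prime_pow hp).1 h1
    exact IsPGroup.of_card (n := k) (by rw [Nat.card_zpowers, hk])
  have h1 : Nat.card V ≡ Nat.card (MulAction.fixedPoints A V) [MOD p] := hA.card_modEq_card_fixedPoints V
  have h3 : Nat.card (MulAction.fixedPoints A V) = Nat.card C := by
    apply Nat.card_congr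
    refine Equiv.subtypeEquivRight fun v => ?_
    constructor
    · intro hv
      exact hv ⟨e, mem_zpowers e⟩
    · intro hv
      rintro ⟨_, k, rfl⟩
      show (e ^ k) v = v
      have hs : e ∈ MulAction.stabilizer (MulAut V) v := hv
      exact (zpow_mem hs k : e ^ k ∈ MulAction.stabilizer (MulAut V) v)
  rw [h3, hm, hc] at h1
  have h4 : p ∣ 2 ^ c * (2 ^ (m - c) - 1) := by
    have h5 := (Nat.modEq_iff_dvd' (Nat.pow_le_pow_right two_pos hcm.le)).1 h1.symm
    have h6 : 2 ^ c * (2 ^ (m - c) - 1) = 2 ^ m - 2 ^ c := by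
      rw [Nat.mul_sub, ← pow_add, mul_one]
      congr 2
      omega
    rw [h6]
    exact h5
  rcases hp.dvd_mul.1 h4 with h5 | h5
  · exfalso
    have h6 := hp.dvd_of_dvd_pow h5
    exact hp2 ((Nat.prime_dvd_prime_iff_eq hp Nat.prime_two).1 h6)
  · rw [hm]
    apply Nat.pow_le_pow_right two_pos
    by_contra hlt
    push Not at hlt
    exact hprim (m - c) (by omega) (by omega) h5

/-- **lower bound from a primitive prime** -/
theorem lb_of_prim {K : Type v} [Group K] [IsSimpleGroup K] {p n : ℕ} (hp : p.Prime) (hp2 : p ≠ 2)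
    (hpK : p ∣ Nat.card K) (hprim : ∀ d, 0 < d → d < n → ¬ p ∣ 2 ^ d - 1) : LB.{u} K n := by
  intro L _ _ π hπ V _ _ φ h2 h1
  have : Fact p.Prime := ⟨hp⟩
  have h3 : p ∣ Nat.card φ.range := hpK.trans (hπ.card_dvd_range h1)
  have hfin : Finite φ.range := Finite.of_surjective _ φ.rangeRestrict_surjective
  obtain ⟨e, he⟩ := exists_prime_orderOf_dvd_card' p h3
  refine card_of_prim h2 hp hp2 hprim (e := (e : MulAut V)) ?_ ?_
  · have h4 := pow_orderOf_eq_one e
    rw [he] at h4
    have h5 := congrArg Subtype.val h4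
    rwa [SubmonoidClass.coe_pow] at h5
  · intro h4
    have h5 : e = 1 := Subtype.ext h4
    rw [h5, orderOf_one] at he
    exact hp.ne_one he.symm

end Cfsg.Agent.Omega.EH3.Rank1

end

section


/-!
# TABLE 2F: the counting kill (helper416)

`K` with trivial centre, `|Out K|₂ ≤ 2`, `z` the only involution of the centre of a Sylow 2-subgroup `S₀` of `K`, and
`m_2(Aut K) ≤ a`. In the configuration `Conf2` the image `X'` of `X` in `K` is normalised by a Sylow 2-subgroup, so it
contains a conjugate `y` of `z`; the stabiliser of the vector normalises `X'`, so it contains at least a fraction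
`1 / (|X'| - 1)` of its elements in `C_K(y)`. Hence `|K : C_K(z)| ≤ (|V| - 1)(|X'| - 1) < 2 ^ (3 a + 2)`.
-/

set_option autoImplicit false

namespace Cfsg.Agent.Omega.TwoF.Count

open Subgroup

open scoped Pointwise

universe u v

section Rho

variable {H : Type*} [Group H] {L : Subgroup H} {K : Type*} [Group K] {π : L →* K} {ρ : H →* MulAut K}

/-- on `L` the homomorphism `ρ` is conjugation -/
theorem rho_coe [L.Normal] (h : OddCover π) (hρ : ∀ (x : H) (l l' : L), (l' : H) = x * l * x⁻¹ → ρ x (π l) = π l')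
    (l : L) : ρ (l : H) = MulAut.conj (π l) := by
  ext k
  obtain ⟨m, rfl⟩ := h.surj k
  rw [hρ l m (l * m * l⁻¹) (by simp), MulAut.conj_apply, map_mul, map_mul, map_inv]

/-- elements acting trivially on `K` centralise `L` -/
theorem mem_centralizer_of_rho [L.Normal] (h : OddCover π) (hK : center K = ⊥)
    (hρ : ∀ (x : H) (l l' : L), (l' : H) = x * l * x⁻¹ → ρ x (π l) = π l') {x : H} (hx : ρ x = 1) :
    x ∈ centralizer (L : Set H) := by
  have hcomm : ∀ l : L, ∃ z ∈ center L, (x : H) * l * (x : H)⁻¹ = l * z := by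
    intro l
    have h1 := hρ x l ⟨(x : H) * l * (x : H)⁻¹, Normal.conj_mem inferInstance _ l.2 _⟩ rfl
    rw [hx, MulAut.one_apply] at h1
    refine ⟨l⁻¹ * ⟨(x : H) * l * (x : H)⁻¹, Normal.conj_mem inferInstance _ l.2 _⟩, ?_, ?_⟩
    · rw [← h.ker_eq hK, MonoidHom.mem_ker, map_mul, map_inv, ← h1, inv_mul_cancel]
    · simp
  choose z hz hz' using hcomm
  have hzmul : ∀ l m : L, z (l * m) = z l * z m := by
    intro l m
    apply Subtype.ext
    have e1 := hz' (l * m)
    have e2 := hz' l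
    have e3 := hz' m
    have e4 := mem_center_iff.mp (hz l) m
    have e4' : (m : H) * (z l : H) = (z l : H) * (m : H) := congrArg Subtype.val e4
    push_cast at e1 ⊢
    have e5 : (x : H) * ((l : H) * m) * (x : H)⁻¹ = ((x : H) * l * (x : H)⁻¹) * ((x : H) * m * (x : H)⁻¹) := by
      group
    rw [e5, e2, e3] at e1
    have e6 : (l : H) * (z l : H) * ((m : H) * (z m : H)) = (l : H) * (m : H) * ((z l : H) * (z m : H)) := by
      rw [mul_assoc, ← mul_assoc (z l : H), ← e4', mul_assoc (m : H), ← mul_assoc (l : H)]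
    rw [e6] at e1
    exact (mul_left_cancel e1).symm
  let ζ : L →* center L :=
    { toFun := fun l => ⟨z l, hz l⟩
      map_one' := by
        apply Subtype.ext
        have := hzmul 1 1
        rw [mul_one] at this
        exact (left_eq_mul.mp this)
      map_mul' := fun l m => Subtype.ext (hzmul l m) }
  have hζ : ∀ l, ζ l = 1 := by
    intro l
    have h1 : commutator L ≤ ζ.ker := by
      rw [_root_.commutator_def, commutator_le]
      intro a _ b _
      have hc : ∀ s t : center L, s * t = t * s := fun s t => Subtype.ext (mem_center_iff.mp t.2 s)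
      rw [MonoidHom.mem_ker, map_commutatorElement, commutatorElement_def, hc (ζ a), mul_assoc, mul_assoc]
      simp
    rw [h.perf] at h1
    exact h1 (mem_top l)
  rw [mem_centralizer_iff]
  intro l hl
  have h1 := hz' ⟨l, hl⟩
  have h2 : z ⟨l, hl⟩ = 1 := congrArg Subtype.val (hζ ⟨l, hl⟩)
  rw [h2] at h1
  simp only [OneMemClass.coe_one, mul_one] at h1
  rw [mul_inv_eq_iff_eq_mul] at h1
  exact h1.symm

end Rho

/-- a Sylow 2-subgroup of a normal subgroup inside a given Sylow 2-subgroup -/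
theorem exists_sylow_le {H : Type*} [Group H] [Finite H] (L : Subgroup H) [hL : L.Normal] (S : Sylow 2 H) :
    ∃ T : Sylow 2 L, ∀ t : L, t ∈ (T : Subgroup L) → (t : H) ∈ (S : Subgroup H) := by
  have : Fact (Nat.Prime 2) := ⟨Nat.prime_two⟩
  obtain ⟨T₀⟩ : Nonempty (Sylow 2 L) := inferInstance
  have h1 : IsPGroup 2 ((T₀ : Subgroup L).map L.subtype) := T₀.isPGroup'.map _
  obtain ⟨S', hS'⟩ := h1.exists_le_sylow
  obtain ⟨g, hg⟩ := MulAction.exists_smul_eq H S' S
  refine ⟨(MulAut.conjNormal g : MulAut L) • T₀, ?_⟩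
  intro t ht
  obtain ⟨t₀, ht₀, rfl⟩ := (show t ∈ (MulAut.conjNormal g : MulAut L) • (T₀ : Subgroup L) from ht)
  rw [← hg]
  refine ⟨(t₀ : H), hS' ⟨t₀, ht₀, rfl⟩, ?_⟩
  rfl

/-- a 2-subgroup normalised by a Sylow 2-subgroup contains a central element -/
theorem exists_central {K : Type*} [Group K] [Finite K] (T : Sylow 2 K) {X : Subgroup K} (hX : IsPGroup 2 X)
    (hne : X ≠ ⊥) (hn : ∀ t ∈ T, ∀ x ∈ X, t * x * t⁻¹ ∈ X) :
    ∃ y ∈ X, y ≠ 1 ∧ y ∈ T ∧ ∀ t ∈ T, t * y = y * t := by
  have : Fact (Nat.Prime 2) := ⟨Nat.prime_two⟩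
  have hle : (T : Subgroup K) ≤ normalizer (X : Set K) := by
    intro t ht
    rw [mem_normalizer_iff]
    intro x
    constructor
    · exact fun hx => hn t ht x hx
    · intro hx
      have := hn t⁻¹ (inv_mem ht) _ hx
      simpa [mul_assoc] using this
  have hXT : X ≤ (T : Subgroup K) := by
    have h1 : IsPGroup 2 ((T : Subgroup K) ⊔ X : Subgroup K) := T.isPGroup'.to_sup_of_normal_right' hX hle
    have h2 : ((T : Subgroup K) ⊔ X : Subgroup K) = T := T.is_maximal' h1 le_sup_left
    rw [← h2]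
    exact le_sup_right
  have hnil : Group.IsNilpotent (T : Subgroup K) := T.isPGroup'.isNilpotent
  have hnorm : (X.subgroupOf (T : Subgroup K)).Normal := ⟨fun x hx t => hn t t.2 x hx⟩
  have hne' : X.subgroupOf (T : Subgroup K) ≠ ⊥ := by
    rw [Ne, subgroupOf_eq_bot, disjoint_iff, inf_eq_left.2 hXT]
    exact hne
  have h3 := Cfsg.Agent.Lib.NormalAbelian.normal_inf_center_ne_bot (X.subgroupOf (T : Subgroup K)) hne'
  obtain ⟨y, hy, hy1⟩ := ((X.subgroupOf (T : Subgroup K) ⊓ center (T : Subgroup K)).bot_or_exists_ne_one).resolve_left h3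
  refine ⟨y, hy.1, fun h => hy1 (Subtype.ext h), y.2, fun t ht => ?_⟩
  exact congrArg Subtype.val (mem_center_iff.1 hy.2 ⟨t, ht⟩)

section Main

variable {K : Type v} [Group K] [Finite K]

/-- the size of `A ∩ Inn K` -/
theorem card_le_two_mul (hout : ¬ 4 ∣ (MulAut.conj : K →* MulAut K).range.index) {A : Subgroup (MulAut K)}
    (hA : IsPGroup 2 A) : Nat.card A ≤ 2 * Nat.card (A ⊓ (MulAut.conj : K →* MulAut K).range : Subgroup (MulAut K)) := by
  have : Fact (Nat.Prime 2) := ⟨Nat.prime_two⟩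
  set I := (MulAut.conj : K →* MulAut K).range with hI
  have hn : I.Normal := by
    refine ⟨?_⟩
    rintro _ ⟨x, rfl⟩ α
    refine ⟨α x, ?_⟩
    ext y
    simp [MulAut.conj_apply]
  have h1 : I.relIndex A ∣ I.index := relIndex_dvd_index_of_normal _ _
  obtain ⟨k, hk⟩ := hA.index (I.subgroupOf A)
  have hk' : I.relIndex A = 2 ^ k := hk
  have hk1 : k ≤ 1 := by
    by_contra hcon
    apply hout
    rw [hk'] at h1
    exact (pow_dvd_pow 2 (by omega : 2 ≤ k)).trans h1
  have h2 : Nat.card (A ⊓ I : Subgroup (MulAut K)) * I.relIndex A = Nat.card A := by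
    have h3 := (I.subgroupOf A).card_mul_index
    rw [← h3]
    congr 1
    rw [← Subgroup.inf_subgroupOf_left, Nat.card_congr (subgroupOfEquivOfLe (inf_le_left : A ⊓ I ≤ A)).toEquiv]
  rw [← h2, hk']
  rcases Nat.lt_or_ge k 1 with h | h
  · have : k = 0 := by omega
    subst this
    rw [pow_zero, mul_one]
    omega
  · have : k = 1 := by omega
    subst this
    rw [pow_one, mul_comm]

/-- a conjugate of `z` in `X` -/
theorem exists_conj {z : K} (hz : ∃ S : Sylow 2 K, ∀ y ∈ S, (∀ x ∈ S, x * y = y * x) → y = 1 ∨ y = z) (T : Sylow 2 K)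
    {X : Subgroup K} (hX : IsPGroup 2 X) (hne : X ≠ ⊥) (hn : ∀ t ∈ T, ∀ x ∈ X, t * x * t⁻¹ ∈ X) :
    ∃ g : K, g * z * g⁻¹ ∈ X := by
  have : Fact (Nat.Prime 2) := ⟨Nat.prime_two⟩
  obtain ⟨y, hyX, hy1, hyT, hyc⟩ := exists_central T hX hne hn
  obtain ⟨S, hS⟩ := hz
  obtain ⟨g, hg⟩ := MulAction.exists_smul_eq K S T
  have hT : ∀ x, x ∈ T ↔ g⁻¹ * x * g ∈ S := by
    intro x
    rw [← hg]
    constructor
    · rintro ⟨s, hs, rfl⟩
      change g⁻¹ * (g * s * g⁻¹) * g ∈ (S : Subgroup K)
      have : g⁻¹ * (g * s * g⁻¹) * g = s := by group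
      rw [this]
      exact hs
    · intro h
      refine ⟨_, h, ?_⟩
      change g * (g⁻¹ * x * g) * g⁻¹ = x
      group
  refine ⟨g, ?_⟩
  have h0 : ∀ x ∈ S, x * (g⁻¹ * y * g) = (g⁻¹ * y * g) * x := by
    intro x hx
    have h1 : g * x * g⁻¹ ∈ T := (hT _).2 (by
      have : g⁻¹ * (g * x * g⁻¹) * g = x := by group
      rwa [this])
    have h2 := hyc _ h1
    calc x * (g⁻¹ * y * g) = g⁻¹ * ((g * x * g⁻¹) * y) * g := by group
      _ = g⁻¹ * (y * (g * x * g⁻¹)) * g := by rw [h2]
      _ = (g⁻¹ * y * g) * x := by group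
  rcases hS (g⁻¹ * y * g) ((hT y).1 hyT) h0 with h | h
  · exact absurd (by
      have : y = g * (g⁻¹ * y * g) * g⁻¹ := by group
      rw [this, h]; group) hy1
  · rw [← h]
    have : g * (g⁻¹ * y * g) * g⁻¹ = y := by group
    rwa [this]

/-- the orbit bound -/
theorem index_le {K : Type*} [Group K] [Finite K] {P X : Subgroup K} {y : K} (hy : y ∈ X) (hy1 : y ≠ 1)
    (hn : ∀ p ∈ P, ∀ x ∈ X, p * x * p⁻¹ ∈ X) :
    (centralizer ({y} : Set K)).index ≤ (Nat.card X - 1) * P.index := by
  classical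
  have h1 : (centralizer ({y} : Set K)).index ≤ (P ⊓ centralizer ({y} : Set K)).index :=
    Nat.le_of_dvd (Nat.pos_of_ne_zero index_ne_zero_of_finite) (index_dvd_of_le inf_le_right)
  have h2 : (P ⊓ centralizer ({y} : Set K)).index = (P ⊓ centralizer ({y} : Set K)).relIndex P * P.index :=
    (relIndex_mul_index inf_le_left).symm
  refine h1.trans ?_
  rw [h2]
  refine Nat.mul_le_mul_right _ ?_
  -- cosets of the centraliser inject into `X \ {1}`
  have h3 : (P ⊓ centralizer ({y} : Set K)).relIndex P = Nat.card (P ⧸ (P ⊓ centralizer ({y} : Set K)).subgroupOf P) := rfl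
  have h4 : Nat.card {x : X // x ≠ 1} = Nat.card X - 1 := by
    let _ := Fintype.ofFinite X
    rw [Nat.card_eq_fintype_card, Nat.card_eq_fintype_card, Fintype.card_subtype_compl, Fintype.card_subtype_eq]
  rw [h3, ← h4]
  let f : (P ⧸ (P ⊓ centralizer ({y} : Set K)).subgroupOf P) → {x : X // x ≠ 1} := fun q =>
    ⟨⟨(q.out : K) * y * (q.out : K)⁻¹, hn _ q.out.2 y hy⟩, fun h => hy1 (by
      have h5 : (q.out : K) * y * (q.out : K)⁻¹ = 1 := congrArg Subtype.val h
      have h6 : y = (q.out : K)⁻¹ * ((q.out : K) * y * (q.out : K)⁻¹) * q.out := by group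
      rw [h6, h5]; group)⟩
  refine Nat.card_le_card_of_injective f ?_
  intro q q' h
  have h5 : (q.out : K) * y * (q.out : K)⁻¹ = (q'.out : K) * y * (q'.out : K)⁻¹ :=
    congrArg (fun w : {x : X // x ≠ 1} => ((w : X) : K)) h
  rw [← QuotientGroup.out_eq' q, ← QuotientGroup.out_eq' q', QuotientGroup.eq, mem_subgroupOf]
  refine ⟨(q.out⁻¹ * q'.out).2, ?_⟩
  refine mem_centralizer_singleton_iff.2 ?_
  change ((q.out : K)⁻¹ * (q'.out : K)) * y = y * ((q.out : K)⁻¹ * (q'.out : K))
  calc ((q.out : K)⁻¹ * (q'.out : K)) * y = (q.out : K)⁻¹ * ((q'.out : K) * y * (q'.out : K)⁻¹) * q'.out := by group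
    _ = (q.out : K)⁻¹ * ((q.out : K) * y * (q.out : K)⁻¹) * q'.out := by rw [← h5]
    _ = y * ((q.out : K)⁻¹ * (q'.out : K)) := by group

/-- the stabiliser of a vector -/
def stab {L V : Type*} [Group L] [Group V] (φ : L →* MulAut V) (a : V) : Subgroup L where
  carrier := {l | φ l a = a}
  one_mem' := by simp
  mul_mem' := fun {x y} (hx : φ x a = a) (hy : φ y a = a) => by
    change φ (x * y) a = a
    rw [map_mul, MulAut.mul_apply, hy, hx]
  inv_mem' := fun {x} (hx : φ x a = a) => by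
    change φ x⁻¹ a = a
    have h1 : φ x⁻¹ (φ x a) = a := by rw [← MulAut.mul_apply, ← map_mul, inv_mul_cancel, map_one, MulAut.one_apply]
    rwa [hx] at h1

theorem index_stab_le {L V : Type*} [Group L] [Group V] [Finite V] (φ : L →* MulAut V) {a : V} (ha : a ≠ 1) :
    (stab φ a).index ≤ Nat.card V - 1 := by
  classical
  have h3 : (stab φ a).index = Nat.card (L ⧸ stab φ a) := rfl
  have h4 : Nat.card {x : V // x ≠ 1} = Nat.card V - 1 := by
    let _ := Fintype.ofFinite V
    rw [Nat.card_eq_fintype_card, Nat.card_eq_fintype_card, Fintype.card_subtype_compl, Fintype.card_subtype_eq]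
  rw [h3, ← h4]
  let f : (L ⧸ stab φ a) → {x : V // x ≠ 1} := fun q =>
    ⟨φ q.out a, fun h => ha ((φ q.out).injective (by rw [h, map_one]))⟩
  refine Nat.card_le_card_of_injective f ?_
  intro q q' h
  have h5 : φ q.out a = φ q'.out a := congrArg Subtype.val h
  rw [← QuotientGroup.out_eq' q, ← QuotientGroup.out_eq' q', QuotientGroup.eq]
  change φ (q.out⁻¹ * q'.out) a = a
  rw [map_mul, MulAut.mul_apply, ← h5, ← MulAut.mul_apply, ← map_mul, inv_mul_cancel, map_one, MulAut.one_apply]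

/-- **The counting kill.** -/
theorem kill2 (hc : center K = ⊥) (hout : ¬ 4 ∣ (MulAut.conj : K →* MulAut K).range.index) {z : K}
    (hz : ∃ S : Sylow 2 K, ∀ y ∈ S, (∀ x ∈ S, x * y = y * x) → y = 1 ∨ y = z) (hz1 : z ≠ 1) {a : ℕ} (hr : RK K a)
    (hn : 2 ^ (3 * a + 2) ≤ (centralizer ({z} : Set K)).index) : Kill2.{u} K := by
  have : Fact (Nat.Prime 2) := ⟨Nat.prime_two⟩
  intro H V _ _ _ _ φ b L X v π hπ h
  have := h.normal
  obtain ⟨ρ, hρ⟩ := hπ.exists_hom hc
  have hρL := rho_coe hπ hρ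
  have hci := RowTool.conj_injective hc
  have hX2 : IsPGroup 2 X := fun x => ⟨1, Subtype.ext (by simpa using h.X_two x x.2)⟩
  -- the image of `X`
  let A : Subgroup (MulAut K) := X.map ρ
  have hinj : ∀ x ∈ X, ρ x = 1 → x = 1 := by
    intro x hx h1
    have h2 : x ∈ X ⊓ centralizer (L : Set H) := ⟨hx, mem_centralizer_of_rho hπ hc hρ h1⟩
    rwa [h.cent, mem_bot] at h2
  have hcardA : Nat.card A = Nat.card X := by
    have hi : Function.Injective (ρ.subgroupMap X) := by
      rw [injective_iff_map_eq_one]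
      intro x hx
      exact Subtype.ext (hinj x x.2 (congrArg Subtype.val hx))
    exact (Nat.card_congr (Equiv.ofBijective _ ⟨hi, ρ.subgroupMap_surjective X⟩)).symm
  have hA2 : IsPGroup 2 A := hX2.map ρ
  -- the subgroup of `K`
  let X' : Subgroup K := A.comap (MulAut.conj : K →* MulAut K)
  have hX'2 : IsPGroup 2 X' := hA2.comap_of_injective _ hci
  have hcardX' : Nat.card X' = Nat.card (A ⊓ (MulAut.conj : K →* MulAut K).range : Subgroup (MulAut K)) := by
    have e : X'.map (MulAut.conj : K →* MulAut K) = A ⊓ (MulAut.conj : K →* MulAut K).range := by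
      rw [Subgroup.map_comap_eq, inf_comm]
    rw [← e]
    exact Nat.card_congr (X'.equivMapOfInjective _ hci).toEquiv
  have hcX : Nat.card X ≤ 2 * Nat.card X' := by
    rw [hcardX', ← hcardA]
    exact card_le_two_mul hout hA2
  have hXX : Nat.card X' ≤ Nat.card X := by
    rw [hcardX', ← hcardA]
    exact Subgroup.card_le_of_le inf_le_left
  have h16 : 16 ≤ Nat.card X := by
    have h1 := h.twelve.trans h.card_le
    by_contra hcon
    push Not at hcon
    have h2 : Nat.card X ^ 2 ≤ 15 ^ 2 := Nat.pow_le_pow_left (by omega) 2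
    omega
  have hne : X' ≠ ⊥ := by
    intro h1
    have h2 : Nat.card X' = 1 := by rw [h1, card_bot]
    omega
  -- conjugation by elements of `L` fixing `v`
  have hnorm : ∀ l : L, φ l v = v → ∀ x ∈ X', π l * x * (π l)⁻¹ ∈ X' := by
    intro l hl x hx
    change MulAut.conj (π l * x * (π l)⁻¹) ∈ A
    obtain ⟨y, hy, hyx⟩ := (show MulAut.conj x ∈ A from hx)
    rw [map_mul, map_mul, map_inv, ← hρL l, ← hyx]
    exact ⟨l * y * (l : H)⁻¹, h.X_norm _ hl y hy, by rw [map_mul, map_mul, map_inv]⟩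
  obtain ⟨S, hS⟩ := h.syl
  obtain ⟨T, hT⟩ := exists_sylow_le L S
  let T' : Sylow 2 K := T.mapSurjective hπ.surj
  obtain ⟨g, hg⟩ := exists_conj hz T' hX'2 hne (by
    rintro _ ⟨t, ht, rfl⟩ x hx
    exact hnorm t (hS t (hT t ht)) x hx)
  -- the stabiliser
  let P : Subgroup K := (stab (φ.comp L.subtype) v).map π
  have h1 := index_le (P := P) hg (fun e => hz1 (by
    have : z = g⁻¹ * (g * z * g⁻¹) * g := by group
    rw [this, e]; group)) (by
    rintro _ ⟨l, hl, rfl⟩ x hx
    exact hnorm l hl x hx)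
  have h2 : (centralizer ({g * z * g⁻¹} : Set K)).index = (centralizer ({z} : Set K)).index := by
    have e : centralizer ({g * z * g⁻¹} : Set K) = (centralizer ({z} : Set K)).map (MulAut.conj g).toMonoidHom := by
      ext x
      rw [mem_centralizer_singleton_iff]
      constructor
      · intro hx
        refine ⟨g⁻¹ * x * g, ?_, ?_⟩
        · rw [SetLike.mem_coe, mem_centralizer_singleton_iff]
          calc g⁻¹ * x * g * z = g⁻¹ * (x * (g * z * g⁻¹)) * g := by group
            _ = g⁻¹ * ((g * z * g⁻¹) * x) * g := by rw [hx]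
            _ = z * (g⁻¹ * x * g) := by group
        · change g * (g⁻¹ * x * g) * g⁻¹ = x
          group
      · rintro ⟨y, hy, rfl⟩
        rw [SetLike.mem_coe, mem_centralizer_singleton_iff] at hy
        change (g * y * g⁻¹) * (g * z * g⁻¹) = (g * z * g⁻¹) * (g * y * g⁻¹)
        calc (g * y * g⁻¹) * (g * z * g⁻¹) = g * (y * z) * g⁻¹ := by group
          _ = g * (z * y) * g⁻¹ := by rw [hy]
          _ = _ := by group
    rw [e]
    exact index_map_equiv _ (MulAut.conj g)
  have h3 : P.index ≤ Nat.card V - 1 :=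
    (Nat.le_of_dvd (Nat.pos_of_ne_zero index_ne_zero_of_finite) (index_map_dvd _ hπ.surj)).trans
      (index_stab_le (φ.comp L.subtype) h.a_ne)
  rw [h2] at h1
  have h4 : Nat.card X ≤ 2 ^ a := hr.card_le hπ hc h.X_two h.cent
  have h5 : Nat.card V ≤ 2 ^ (2 * a + 2) := h.card_le.trans (by
    calc 4 * Nat.card X ^ 2 ≤ 4 * (2 ^ a) ^ 2 := Nat.mul_le_mul_left 4 (Nat.pow_le_pow_left h4 2)
      _ = 2 ^ (2 * a + 2) := by ring)
  have h6 : (centralizer ({z} : Set K)).index < 2 ^ (3 * a + 2) := by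
    have hp : 0 < Nat.card V := Nat.card_pos
    have hp' : 0 < Nat.card X' := Nat.card_pos
    calc (centralizer ({z} : Set K)).index ≤ (Nat.card X' - 1) * P.index := h1
      _ ≤ (Nat.card X' - 1) * (Nat.card V - 1) := Nat.mul_le_mul_left _ h3
      _ ≤ 2 ^ a * (Nat.card V - 1) := Nat.mul_le_mul_right _ (by omega)
      _ < 2 ^ a * Nat.card V := Nat.mul_lt_mul_of_pos_left (by omega) (by positivity)
      _ ≤ 2 ^ a * 2 ^ (2 * a + 2) := Nat.mul_le_mul_left _ h5
      _ = 2 ^ (3 * a + 2) := by rw [← pow_add]; congr 1; omega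
  omega

end Main

end Cfsg.Agent.Omega.TwoF.Count

end

section


/-!
# TABLE 2F: the row `M24` (helper834)

`|V| ≥ 2 ^ 22` for self-dual modules (the prime 23), `m_2(Aut M24) ≤ 8` (`|Aut M24|₂ = 2 ^ 10`, an element of
order 8).
-/

set_option autoImplicit false

namespace Cfsg.Agent.Omega.TwoF.RowM24

open Subgroup Cfsg
open Cfsg.Agent.KFacts.M24Pair.Letters

universe u v w

/-- an element of order 8 -/
noncomputable def g8 : M24 := ev [7, 9, 17]

theorem g8_pow (n : ℕ) : g8 ^ n = ev (List.replicate n [7, 9, 17]).flatten := by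
  induction n with
  | zero => rw [List.replicate_zero, List.flatten_nil, ev_nil, pow_zero]
  | succ n ih => rw [List.replicate_succ, List.flatten_cons, ev_append, ← ih, pow_succ', g8]

theorem orderOf_g8 : orderOf g8 = 2 ^ 3 := by
  have : Fact (Nat.Prime 2) := ⟨Nat.prime_two⟩
  apply orderOf_eq_prime_pow (n := 2)
  · rw [g8_pow, ← ev_nil]
    exact wne (by decide +kernel)
  · rw [g8_pow, ← ev_nil]
    exact weq (by decide +kernel)

theorem center_eq : center M24 = ⊥ := by
  have := Cfsg.Agent.S0365.result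
  rcases (inferInstance : (center M24).Normal).eq_bot_or_eq_top with h1 | h1
  · exact h1
  · exfalso
    have hc : ∀ x y : M24, x * y = y * x := fun x y => by
      have h2 : y ∈ center M24 := by rw [h1]; exact mem_top y
      exact mem_center_iff.1 h2 x
    let : CommGroup M24 := { (inferInstance : Group M24) with mul_comm := hc }
    have h3 : (Nat.card M24).Prime := IsSimpleGroup.prime_card
    rw [Cfsg.Agent.SporadicA.M24Trans.card_M24] at h3
    norm_num at h3

theorem card_mulAut : Nat.card (MulAut M24) = 244823040 := by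
  have h := Rk.card_mulAut center_eq (n := 1) (by
    rw [index_eq_one, eq_top_iff]
    intro α _
    obtain ⟨k, hk⟩ := Cfsg.Agent.KFacts.M24Two.Out.exists_conj α
    exact ⟨k, hk.symm⟩)
  rw [h, Cfsg.Agent.SporadicA.M24Trans.card_M24, one_mul]

/-- **RK**: `m_2(Aut M24) ≤ 8`. -/
theorem rk : Rk.RK.{u} M24 8 := by
  refine Rk.rk_of_elt (e := 10) (k := 3) ?_ g8 orderOf_g8 (by norm_num)
  rw [card_mulAut]
  by_contra hcon
  have h1 : 2 ^ 11 ∣ 244823040 :=
    (Nat.prime_two.pow_dvd_iff_le_factorization (by norm_num)).2 (by omega)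
  norm_num at h1

/-- **LBs**: `|V| ≥ 2 ^ 22` for self-dual modules. -/
theorem lbs : LBs.{u} M24 22 := by
  have := Cfsg.Agent.S0365.result
  refine LBs.of_23 ?_
  rw [Cfsg.Agent.SporadicA.M24Trans.card_M24]
  norm_num

theorem dead2 : Dead2.{u} M24 := ⟨22, 8, lbs, RowTool.toRK center_eq rk, Or.inl (by norm_num)⟩

/-- **the row `M24` of TABLE 2F** -/
theorem row (K : Type u) [Group K] (h : Spor.IsoM24 K) : Kill2.{u} K := by
  obtain ⟨e⟩ := h
  have := Cfsg.Agent.S0365.result
  exact (dead2.{u}.kill center_eq inferInstance).equiv e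

end Cfsg.Agent.Omega.TwoF.RowM24

end
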