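import Cfsg.Agent.Omega.TwoF.Defs
import Cfsg.Agent.StandardComponent.AltAut
import Cfsg.Agent.Omega.TwoF.AltDeg
import Cfsg.Agent.Omega.TwoF.AltPure
import Cfsg.Agent.Omega.EH3.Row

section


/-!
# Elementary abelian 2-subgroups of symmetric groups

* `card_sq_le`: `E ≤ Sym Ω` elementary abelian 2-group supported in `S`: `|E|² ≤ 2 ^ |S|`;
* `rk_alt`: `RK A_n ⌊n / 2⌋`, `n ≥ 7`.
-/

set_option autoImplicit false

namespace Cfsg.Agent.Omega.TwoF.AltRk

open Equiv Equiv.Perm Subgroup

universe u w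

variable {Ω : Type u} [DecidableEq Ω] [Fintype Ω]

theorem sq_le_two_pow {m : ℕ} (h : m = 2 ∨ 4 ≤ m) : m ^ 2 ≤ 2 ^ m := by
  rcases h with rfl | h
  · norm_num
  · induction m, h using Nat.le_induction with
    | base => norm_num
    | succ m hm ih =>
      rw [pow_succ 2]
      nlinarith

theorem comm_of_sq {G : Type w} [Group G] {x y : G} (hx : x * x = 1) (hy : y * y = 1)
    (hxy : x * y * (x * y) = 1) : x * y = y * x := by
  have e1 : x⁻¹ = x := inv_eq_of_mul_eq_one_left hx
  have e2 : y⁻¹ = y := inv_eq_of_mul_eq_one_left hy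
  have e3 : (x * y)⁻¹ = x * y := inv_eq_of_mul_eq_one_left hxy
  rw [← e3, mul_inv_rev, e1, e2]

/-- **elementary abelian 2-subgroups of `Sym Ω`** -/
theorem card_sq_le : ∀ (n : ℕ) (E : Subgroup (Perm Ω)) (S : Finset Ω), S.card ≤ n → (∀ x ∈ E, x * x = 1) →
    (∀ x ∈ E, ∀ a, a ∉ S → x a = a) → Nat.card E ^ 2 ≤ 2 ^ S.card := by
  classical
  intro n
  induction n using Nat.strong_induction_on with
  | _ n ih =>
  intro E S hn h2 hS
  by_cases h1 : ∀ x ∈ E, ∀ a, x a = a
  · have : E = ⊥ := by
      rw [eq_bot_iff]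
      intro x hx
      rw [mem_bot]
      ext a
      exact h1 x hx a
    rw [this, card_bot, one_pow]
    exact Nat.one_le_two_pow
  push Not at h1
  obtain ⟨x₀, hx₀, a, ha⟩ := h1
  have hcomm : ∀ x ∈ E, ∀ y ∈ E, x * y = y * x := fun x hx y hy =>
    comm_of_sq (h2 x hx) (h2 y hy) (h2 _ (E.mul_mem hx hy))
  have haS : a ∈ S := by
    by_contra h
    exact ha (hS x₀ hx₀ a h)
  -- the orbit
  let O : Finset Ω := Finset.univ.filter fun b => b ∈ MulAction.orbit E a
  have hO : ∀ b, b ∈ O ↔ ∃ x ∈ E, x a = b := by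
    intro b
    simp only [O, Finset.mem_filter, Finset.mem_univ, true_and, MulAction.mem_orbit_iff]
    constructor
    · rintro ⟨x, hx⟩; exact ⟨x, x.2, hx⟩
    · rintro ⟨x, hx, e⟩; exact ⟨⟨x, hx⟩, e⟩
  have hOcard : Nat.card (MulAction.orbit E a) = O.card := by
    rw [← Nat.card_eq_card_finite_toFinset (Set.toFinite (MulAction.orbit E a)) |>.symm]
    congr 1
    ext b
    simp [O]
  have hOS : O ⊆ S := by
    intro b hb
    obtain ⟨x, hx, rfl⟩ := (hO b).mp hb
    by_contra h
    have h3 := hS x hx _ h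
    rw [x.injective h3] at h
    exact h haS
  have hmul : Nat.card E = O.card * Nat.card (MulAction.stabilizer E a) := by
    rw [← hOcard, Nat.card_congr (MulAction.orbitEquivQuotientStabilizer E a)]
    exact Subgroup.card_eq_card_quotient_mul_card_subgroup _
  have h2p : IsPGroup 2 E := fun x => ⟨1, Subtype.ext (by
    rw [pow_one, pow_two]; exact h2 x x.2)⟩
  have := Fact.mk Nat.prime_two
  obtain ⟨k, hk⟩ := IsPGroup.iff_card.mp h2p
  have hOdvd : O.card ∣ 2 ^ k := by
    rw [← hk, hmul]; exact dvd_mul_right _ _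
  obtain ⟨j, -, hj⟩ := (Nat.dvd_prime_pow Nat.prime_two).mp hOdvd
  have hO2 : 1 < O.card := by
    rw [Finset.one_lt_card]
    exact ⟨a, (hO a).mpr ⟨1, E.one_mem, rfl⟩, x₀ a, (hO _).mpr ⟨x₀, hx₀, rfl⟩, Ne.symm ha⟩
  have hO4 : O.card = 2 ∨ 4 ≤ O.card := by
    rw [hj] at hO2 ⊢
    rcases j with _ | _ | j
    · simp at hO2
    · left; rfl
    · right
      rw [pow_succ, pow_succ, mul_assoc]
      have := Nat.one_le_two_pow (n := j)
      omega
  -- the stabiliser
  set E' : Subgroup (Perm Ω) := (MulAction.stabilizer E a).map E.subtype with hE'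
  have hE'card : Nat.card E' = Nat.card (MulAction.stabilizer E a) :=
    (Nat.card_congr ((MulAction.stabilizer E a).equivMapOfInjective E.subtype E.subtype_injective).toEquiv).symm
  have hE'mem : ∀ y ∈ E', y ∈ E ∧ y a = a := by
    rintro _ ⟨y, hy, rfl⟩
    exact ⟨y.2, hy⟩
  have key := ih (S \ O).card (by
      have h3 := Finset.card_sdiff_of_subset hOS
      have h4 := Finset.card_le_card hOS
      omega) E' (S \ O) le_rfl (fun y hy => h2 y (hE'mem y hy).1) (by
      intro y hy b hb
      by_cases hbS : b ∈ S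
      · have hbO : b ∈ O := by
          by_contra h
          exact hb (Finset.mem_sdiff.mpr ⟨hbS, h⟩)
        obtain ⟨x, hx, rfl⟩ := (hO b).mp hbO
        have h3 := hcomm y (hE'mem y hy).1 x hx
        have h4 : y (x a) = x (y a) := DFunLike.congr_fun h3 a
        rw [h4, (hE'mem y hy).2]
      · exact hS y (hE'mem y hy).1 b hbS)
  rw [hmul, mul_pow, ← hE'card]
  have h3 := Finset.card_sdiff_of_subset hOS
  have h4 := Finset.card_le_card hOS
  calc O.card ^ 2 * Nat.card E' ^ 2 ≤ 2 ^ O.card * 2 ^ (S \ O).card := Nat.mul_le_mul (sq_le_two_pow hO4) key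
    _ = 2 ^ S.card := by rw [← pow_add]; congr 1; omega

theorem card_le (E : Subgroup (Perm Ω)) (h2 : ∀ x ∈ E, x * x = 1) : Nat.card E ≤ 2 ^ (Fintype.card Ω / 2) := by
  have h1 := card_sq_le _ E Finset.univ le_rfl h2 (fun x _ a ha => absurd (Finset.mem_univ a) ha)
  rw [Finset.card_univ] at h1
  have h2p : IsPGroup 2 E := fun x => ⟨1, Subtype.ext (by
    rw [pow_one, pow_two]; exact h2 x x.2)⟩
  have := Fact.mk Nat.prime_two
  obtain ⟨k, hk⟩ := IsPGroup.iff_card.mp h2p
  rw [hk, ← pow_mul] at h1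
  have h3 := (Nat.pow_le_pow_iff_right (by norm_num : 1 < 2)).mp h1
  rw [hk]
  exact Nat.pow_le_pow_right (by norm_num) (by omega)

theorem rk_of_hom {n : ℕ} (ψ : MulAut (alternatingGroup (Fin n)) →* Perm (Fin n))
    (hψ : Function.Injective ψ) : RK (alternatingGroup (Fin n)) (n / 2) := by
  refine RK.of_injective ψ hψ ?_
  intro A hA
  have := card_le A (fun x hx => by rw [← pow_two]; exact hA x hx)
  rwa [Fintype.card_fin] at this

theorem exists_psi {n : ℕ} (hn : 7 ≤ n) : ∃ ψ : MulAut (alternatingGroup (Fin n)) →* Perm (Fin n),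
    Function.Injective ψ ∧ ∀ (e : MulAut (alternatingGroup (Fin n))) (x : alternatingGroup (Fin n)),
      ((e x : alternatingGroup (Fin n)) : Perm (Fin n)) = ψ e * x * (ψ e)⁻¹ := by
  obtain ⟨ψ, hψ⟩ := Cfsg.Agent.StandardComponent.AltAut.exists_autHom n hn
  refine ⟨ψ, ?_, hψ⟩
  rw [injective_iff_map_eq_one]
  intro e he
  ext x : 2
  rw [hψ, he]
  simp

theorem rk_alt {n : ℕ} (hn : 7 ≤ n) : RK (alternatingGroup (Fin n)) (n / 2) := by
  obtain ⟨ψ, h, -⟩ := exists_psi hn
  exact rk_of_hom ψ h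

end Cfsg.Agent.Omega.TwoF.AltRk

end

section


/-!
# The natural module of the alternating group

`H` acts on `V`, permuting the 3-cycles of `A_Ω` through `σ : H → Sym Ω`; `V` is of natural type, `N = {0, v₀}`.

* `ε a b`: the vectors `E a b v₀`; `smul_ep`: `h • ε a b = ε (σ h a) (σ h b)`;
* `ev o B = ∑_{b ∈ B} ε o b`; for even `B` it does not depend on `o`; `ev_eq_zero`: the kernel is `∅`, `Ω`;
* `exists_ev`: if `H` is irreducible, every vector is `ev o B`, `B` even;
* `card_le_four`: a normal elementary abelian 2-subgroup of the stabiliser of a vector has order at most 4.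
-/

set_option autoImplicit false
set_option linter.unusedSectionVars false

namespace Cfsg.Agent.Omega.TwoF.AltKill

open Equiv Equiv.Perm AltCyc AltSplit AltSix AltNat AltPure AltDeg

universe u w x

variable {Ω : Type u} [DecidableEq Ω] [Fintype Ω]
variable {V : Type w} [AddCommGroup V] [Two V] [DistribMulAction (alternatingGroup Ω) V]
variable {H : Type x} [Group H] [DistribMulAction H V]

theorem conjN (s : Perm Ω) (a b c : Ω) :
    (MulAut.conjNormal s (C a b c) : alternatingGroup Ω) = C (s a) (s b) (s c) := by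
  by_cases h : a ≠ b ∧ b ≠ c
  · apply Subtype.ext
    rw [MulAut.conjNormal_apply, C_coe (s.injective.ne h.1) (s.injective.ne h.2), Equiv.swap_apply_apply,
      Equiv.swap_apply_apply, C_coe h.1 h.2]
    group
  · have h' : ¬ (s a ≠ s b ∧ s b ≠ s c) := by simpa using h
    rw [C, dif_neg h, C, dif_neg h', map_one]

/-- `H` acts on `V` and on `A_Ω` through `σ` -/
structure Act (V : Type w) [AddCommGroup V] [DistribMulAction (alternatingGroup Ω) V] [DistribMulAction H V]
    (σ : H →* Perm Ω) (ι : alternatingGroup Ω →* H) : Prop where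
  conj : ∀ (h : H) (g : alternatingGroup Ω) (v : V),
    h • g • v = (MulAut.conjNormal (σ h) g : alternatingGroup Ω) • h • v
  act : ∀ (g : alternatingGroup Ω) (v : V), ι g • v = g • v
  coe : ∀ g : alternatingGroup Ω, σ (ι g) = g

variable {σ : H →* Perm Ω} {ι : alternatingGroup Ω →* H}

theorem smulF (hA : Act V σ ι) (h : H) (a b c : Ω) (v : V) :
    h • F a b c v = F (σ h a) (σ h b) (σ h c) (h • v) := by
  rw [F_apply, F_apply, smul_add, hA.conj, hA.conj, conjN, conjN]

theorem inv_univ (M : AddSubgroup V) (hM : M = ⊤) : Inv (Finset.univ : Finset Ω) M := by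
  subst hM
  exact fun _ _ _ _ => trivial

section Nat

variable {p q r : Ω} {v₀ : V}

/-- the situation: natural type, `N = {0, v₀}` -/
structure Nt1 (p q r : Ω) (v₀ : V) : Prop where
  card : 6 ≤ Fintype.card Ω
  natl : Natl (Finset.univ : Finset Ω) (⊤ : AddSubgroup V)
  D : D3 p q r
  mem : v₀ ∈ NN (Finset.univ : Finset Ω) (⊤ : AddSubgroup V) p q r
  ne : v₀ ≠ 0
  eq : ∀ v ∈ NN (Finset.univ : Finset Ω) (⊤ : AddSubgroup V) p q r, v = 0 ∨ v = v₀

/-- `ε a b` -/
noncomputable def ep (p q : Ω) (v₀ : V) (a b : Ω) : V :=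
  if a = b then 0 else E (Finset.univ : Finset Ω) p q a b v₀

theorem ep_self (a : Ω) : ep p q v₀ a a = 0 := if_pos rfl

theorem ep_of_ne {a b : Ω} (h : a ≠ b) : ep p q v₀ a b = E (Finset.univ : Finset Ω) p q a b v₀ := if_neg h

variable (hN : Nt1 p q r v₀)

include hN

theorem cardU : 6 ≤ (Finset.univ : Finset Ω).card := by rw [Finset.card_univ]; exact hN.card

theorem ep_ne {a b : Ω} (h : a ≠ b) : ep p q v₀ a b ≠ 0 := by
  rw [ep_of_ne h]
  intro h0
  exact hN.ne (E_inj (cardU hN) (inv_univ _ rfl) hN.natl hN.D (Finset.mem_univ _) (Finset.mem_univ _)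
    (Finset.mem_univ _) hN.mem h (Finset.mem_univ _) (Finset.mem_univ _) h0)

theorem ep_symm (a b : Ω) : ep p q v₀ a b = ep p q v₀ b a := by
  by_cases h : a = b
  · rw [h]
  rw [ep_of_ne h, ep_of_ne (Ne.symm h)]
  exact (E_swap (cardU hN) (inv_univ _ rfl) hN.natl hN.D (Finset.mem_univ _) (Finset.mem_univ _)
    (Finset.mem_univ _) hN.mem h (Finset.mem_univ _) (Finset.mem_univ _)).symm

theorem ep_add (a b c : Ω) : ep p q v₀ a b + ep p q v₀ b c = ep p q v₀ a c := by
  by_cases hab : a = b
  · rw [hab, ep_self, zero_add]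
  by_cases hbc : b = c
  · rw [hbc, ep_self, add_zero]
  by_cases hac : a = c
  · rw [hac, ep_self, ep_symm hN b c, aa]
  rw [ep_of_ne hab, ep_of_ne hbc, ep_of_ne hac]
  exact E_add (cardU hN) (inv_univ _ rfl) hN.natl hN.D (Finset.mem_univ _) (Finset.mem_univ _)
    (Finset.mem_univ _) hN.mem ⟨hab, hac, hbc⟩ (Finset.mem_univ _) (Finset.mem_univ _) (Finset.mem_univ _)

theorem smul_ep_alt (g : alternatingGroup Ω) (a b : Ω) :
    g • ep p q v₀ a b = ep p q v₀ ((g : Perm Ω) a) ((g : Perm Ω) b) := by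
  by_cases h : a = b
  · rw [h, ep_self, ep_self, smul_zero]
  rw [ep_of_ne h, ep_of_ne ((g : Perm Ω).injective.ne h)]
  exact smul_E (cardU hN) (inv_univ _ rfl) hN.natl hN.D (Finset.mem_univ _) (Finset.mem_univ _)
    (Finset.mem_univ _) hN.mem h (Finset.mem_univ _) (Finset.mem_univ _) (sup_univ g)

theorem ep_base : ep p q v₀ p q = v₀ := by
  rw [ep_of_ne hN.D.1]
  exact E_base (cardU hN) (inv_univ _ rfl) hN.natl hN.D (Finset.mem_univ _) (Finset.mem_univ _)
    (Finset.mem_univ _) hN.mem

/-- `h • v₀` -/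
theorem smul_v₀ (hA : Act V σ ι) (h : H) : h • v₀ = ep p q v₀ (σ h p) (σ h q) := by
  obtain ⟨k, -, k1, k2, k3⟩ := exists_move (S := (Finset.univ : Finset Ω)) (by have := cardU hN; omega) hN.D
    (hN.D.map (σ h)) (Finset.mem_univ _) (Finset.mem_univ _) (Finset.mem_univ _) (Finset.mem_univ _)
    (Finset.mem_univ _) (Finset.mem_univ _)
  have hw : k⁻¹ • h • v₀ ∈ NN (Finset.univ : Finset Ω) (⊤ : AddSubgroup V) p q r := by
    refine ⟨trivial, ?_, ?_⟩
    · have h1 : h • v₀ = F (σ h p) (σ h q) (σ h r) (h • v₀) := by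
        rw [← smulF hA, hN.mem.2.1]
      have h2 := smul_F k⁻¹ (σ h p) (σ h q) (σ h r) (h • v₀)
      rw [← h1, ← k1, ← k2, ← k3] at h2
      have e : ∀ a : Ω, ((k⁻¹ : alternatingGroup Ω) : Perm Ω) ((k : Perm Ω) a) = a := fun a =>
        (k : Perm Ω).symm_apply_apply a
      rw [e, e, e] at h2
      exact h2.symm
    · intro g _ g1 g2 g3
      -- `g' = k g k⁻¹`, `g'' = g'` conjugated back by `σ h`
      set g'' : alternatingGroup Ω := MulAut.conjNormal (σ h)⁻¹ (k * g * k⁻¹) with hg''
      have hgg : (MulAut.conjNormal (σ h) g'' : alternatingGroup Ω) = k * g * k⁻¹ := by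
        rw [hg'', ← MulAut.mul_apply, ← map_mul, mul_inv_cancel, map_one, MulAut.one_apply]
      have e : ∀ a b : Ω, (g : Perm Ω) a = b → (k : Perm Ω) a = σ h a → (k : Perm Ω) b = σ h b →
          (g'' : Perm Ω) a = b := by
        intro a b h1 h2 h3
        rw [hg'', MulAut.conjNormal_apply]
        show (σ h).symm ((k : Perm Ω) ((g : Perm Ω) ((k : Perm Ω).symm (σ h a)))) = b
        rw [← h2, Equiv.symm_apply_apply, h1, h3, Equiv.symm_apply_apply]
      have h4 := hN.mem.2.2 g'' (sup_univ _) (e p q g1 k1 k2) (e q p g2 k2 k1) (e r r g3 k3 k3)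
      have h5 := hA.conj h g'' v₀
      rw [h4, hgg] at h5
      rw [mul_smul, mul_smul] at h5
      have h6 := congrArg (k⁻¹ • ·) h5
      simp only [inv_smul_smul] at h6
      exact h6.symm
  have hne : k⁻¹ • h • v₀ ≠ 0 := by
    intro h0
    rw [smul_eq_zero_iff_eq, smul_eq_zero_iff_eq] at h0
    exact hN.ne h0
  have h1 := (hN.eq _ hw).resolve_left hne
  rw [inv_smul_eq_iff] at h1
  have h2 := smul_ep_alt hN k p q
  rw [ep_base hN, k1, k2, ← h1] at h2
  exact h2

theorem smul_ep (hA : Act V σ ι) (h : H) (a b : Ω) :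
    h • ep p q v₀ a b = ep p q v₀ (σ h a) (σ h b) := by
  by_cases hab : a = b
  · rw [hab, ep_self, ep_self, smul_zero]
  obtain ⟨g, -, g1, g2⟩ := exists_move2 (cardU hN) hN.D (Finset.mem_univ _) (Finset.mem_univ _)
    (Finset.mem_univ _) hab (Finset.mem_univ _) (Finset.mem_univ _)
  have h1 := smul_ep_alt hN g p q
  rw [ep_base hN, g1, g2] at h1
  rw [← h1, hA.conj, smul_v₀ hN hA, smul_ep_alt hN]
  have e : ∀ c : Ω, ((MulAut.conjNormal (σ h) g : alternatingGroup Ω) : Perm Ω) (σ h c) = σ h ((g : Perm Ω) c) := by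
    intro c
    rw [MulAut.conjNormal_apply]
    show σ h ((g : Perm Ω) ((σ h).symm (σ h c))) = _
    rw [Equiv.symm_apply_apply]
  rw [e, e, g1, g2]

/-- `ε` of a set -/
noncomputable def ev (p q : Ω) (v₀ : V) (o : Ω) (B : Finset Ω) : V :=
  ∑ b, if b ∈ B then ep p q v₀ o b else 0

theorem ev_eq (o : Ω) (B : Finset Ω) : ev p q v₀ o B = ∑ b ∈ B, ep p q v₀ o b := by
  rw [ev, Finset.sum_ite_mem, Finset.univ_inter]

theorem ev_add (o : Ω) (B B' : Finset Ω) : ev p q v₀ o B + ev p q v₀ o B' = ev p q v₀ o (symmDiff B B') := by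
  rw [ev, ev, ev, ← Finset.sum_add_distrib]
  refine Finset.sum_congr rfl fun b _ => ?_
  by_cases h1 : b ∈ B <;> by_cases h2 : b ∈ B' <;> simp [Finset.mem_symmDiff, h1, h2, aa]

theorem even_nsmul {n : ℕ} (hn : Even n) (v : V) : n • v = 0 := by
  obtain ⟨k, rfl⟩ := hn
  rw [← two_mul, mul_comm, mul_nsmul, two_nsmul]
  rw [← nsmul_add, aa, nsmul_zero]

/-- independence of the base point -/
theorem ev_base {B : Finset Ω} (hB : Even B.card) (o o' : Ω) : ev p q v₀ o B = ev p q v₀ o' B := by
  rw [ev_eq hN, ev_eq hN]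
  have h1 : ∑ b ∈ B, ep p q v₀ o b = ∑ b ∈ B, (ep p q v₀ o o' + ep p q v₀ o' b) :=
    Finset.sum_congr rfl fun b _ => (ep_add hN o o' b).symm
  rw [h1, Finset.sum_add_distrib, Finset.sum_const, even_nsmul hN hB, zero_add]

theorem smul_ev (hA : Act V σ ι) (h : H) (o : Ω) {B : Finset Ω} (hB : Even B.card) :
    h • ev p q v₀ o B = ev p q v₀ o (B.map (σ h).toEmbedding) := by
  have h1 : h • ev p q v₀ o B = ev p q v₀ (σ h o) (B.map (σ h).toEmbedding) := by
    rw [ev_eq hN, ev_eq hN, Finset.smul_sum, Finset.sum_map]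
    exact Finset.sum_congr rfl fun b _ => smul_ep hN hA h o b
  rw [h1]
  exact ev_base hN (by rwa [Finset.card_map]) _ _

theorem ev_pair {a b : Ω} (hab : a ≠ b) (o : Ω) : ev p q v₀ o {a, b} = ep p q v₀ a b := by
  rw [ev_eq hN, Finset.sum_pair hab, ep_symm hN o a, ep_add hN]

/-- **the kernel** -/
theorem ev_eq_zero {B : Finset Ω} (hB : Even B.card) {o : Ω} (h0 : ev p q v₀ o B = 0) :
    B = ∅ ∨ B = Finset.univ := by
  by_contra hn
  push Not at hn
  obtain ⟨s, hs⟩ := hn.1
  obtain ⟨m, hm⟩ : ∃ m, m ∉ B := by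
    by_contra h
    push Not at h
    exact hn.2 (Finset.eq_univ_iff_forall.mpr h)
  have hsm : s ≠ m := fun e => hm (e ▸ hs)
  rw [ev_base hN hB o s] at h0
  have h1 : ∑ j ∈ Finset.univ \ {s, m}, E (Finset.univ : Finset Ω) p q s j (if j ∈ B then v₀ else 0) = 0 := by
    refine Eq.trans ?_ h0
    rw [ev, ← Finset.sum_subset (s₁ := Finset.univ \ {s, m}) (Finset.subset_univ _)]
    · refine Finset.sum_congr rfl fun j hj => ?_
      simp only [Finset.mem_sdiff, Finset.mem_insert, Finset.mem_singleton, not_or] at hj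
      by_cases hjB : j ∈ B
      · rw [if_pos hjB, if_pos hjB, ep_of_ne (Ne.symm hj.2.1)]
      · rw [if_neg hjB, if_neg hjB, map_zero]
    · intro j _ hj
      simp only [Finset.mem_sdiff, Finset.mem_univ, true_and, Finset.mem_insert, Finset.mem_singleton,
        not_not] at hj
      rcases hj with rfl | rfl
      · rw [if_pos hs, ep_self]
      · rw [if_neg hm]
  have hx : ∀ j : Ω, (if j ∈ B then v₀ else 0) ∈ NN (Finset.univ : Finset Ω) (⊤ : AddSubgroup V) p q r := by
    intro j
    split_ifs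
    · exact hN.mem
    · exact (NN _ _ p q r).zero_mem
  -- another element of `B`
  obtain ⟨j, hj, hjs⟩ : ∃ j ∈ B, j ≠ s := by
    by_contra h
    push Not at h
    have h2 : B = {s} := Finset.eq_singleton_iff_unique_mem.mpr ⟨hs, h⟩
    rw [h2, Finset.card_singleton] at hB
    exact absurd hB (by decide)
  have hjm : j ≠ m := fun e => hm (e ▸ hj)
  have h2 := sum_eq_zero (cardU hN) (inv_univ _ rfl) hN.natl hN.D (Finset.mem_univ _) (Finset.mem_univ _)
    (Finset.mem_univ _) (Finset.mem_univ s) (Finset.mem_univ m) hsm hx h1 (j := j) (by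
      simp only [Finset.mem_sdiff, Finset.mem_univ, true_and, Finset.mem_insert, Finset.mem_singleton, not_or]
      exact ⟨hjs, hjm⟩)
  rw [if_pos hj] at h2
  exact hN.ne h2

theorem even_symmDiff {B B' : Finset Ω} (hB : Even B.card) (hB' : Even B'.card) : Even (symmDiff B B').card := by
  have h1 : (symmDiff B B').card = (B \ B').card + (B' \ B).card := by
    rw [symmDiff, Finset.sup_eq_union]
    apply Finset.card_union_of_disjoint
    rw [Finset.disjoint_left]
    intro x hx hx'
    rw [Finset.mem_sdiff] at hx hx'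
    exact hx.2 hx'.1
  have h2 := Finset.card_sdiff_add_card_inter B B'
  have h3 := Finset.card_sdiff_add_card_inter B' B
  rw [Finset.inter_comm] at h3
  rw [h1]
  rw [Nat.even_iff] at *
  omega

theorem ev_inj {B B' : Finset Ω} (hB : Even B.card) (hB' : Even B'.card) {o : Ω}
    (h : ev p q v₀ o B = ev p q v₀ o B') : B = B' ∨ B = Finset.univ \ B' := by
  have h1 : ev p q v₀ o (symmDiff B B') = 0 := by rw [← ev_add hN, h, aa]
  rcases ev_eq_zero hN (even_symmDiff hN hB hB') h1 with h2 | h2
  · left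
    exact symmDiff_eq_bot.mp h2
  · right
    ext x
    have h3 : x ∈ symmDiff B B' := by rw [h2]; exact Finset.mem_univ x
    rw [Finset.mem_symmDiff] at h3
    simp only [Finset.mem_sdiff, Finset.mem_univ, true_and]
    tauto

/-- every vector is `ev o B` -/
theorem exists_ev (hA : Act V σ ι) (hirr : ∀ W : AddSubgroup V, (∀ h : H, ∀ v ∈ W, h • v ∈ W) → W = ⊥ ∨ W = ⊤)
    (o : Ω) (v : V) : ∃ B : Finset Ω, Even B.card ∧ ev p q v₀ o B = v := by
  let W : AddSubgroup V :=
    { carrier := {v | ∃ B : Finset Ω, Even B.card ∧ ev p q v₀ o B = v}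
      zero_mem' := ⟨∅, by simp, by rw [ev_eq hN, Finset.sum_empty]⟩
      add_mem' := by
        rintro _ _ ⟨B, hB, rfl⟩ ⟨B', hB', rfl⟩
        exact ⟨symmDiff B B', even_symmDiff hN hB hB', (ev_add hN o B B').symm⟩
      neg_mem' := by
        rintro _ ⟨B, hB, rfl⟩
        exact ⟨B, hB, (AltSplit.neg_eq' _).symm⟩ }
  rcases hirr W (by
    rintro h _ ⟨B, hB, rfl⟩
    exact ⟨B.map (σ h).toEmbedding, by rwa [Finset.card_map], (smul_ev hN hA h o hB).symm⟩) with h1 | h1
  · exfalso
    have h2 : ep p q v₀ p q ∈ W := ⟨{p, q}, by rw [Finset.card_pair hN.D.1]; decide, ev_pair hN hN.D.1 o⟩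
    rw [h1, AddSubgroup.mem_bot] at h2
    exact ep_ne hN hN.D.1 h2
  · have h2 : v ∈ W := by rw [h1]; trivial
    exact h2

omit hN in
/-- an involution of `X` is trivial on a block with at least five points -/
theorem fix_of_block
    (hA : Act V σ ι) {X : Subgroup H} {v : V} (hX2 : ∀ x ∈ X, x * x = 1)
    (hXn : ∀ h : H, h • v = v → ∀ x ∈ X, h * x * h⁻¹ ∈ X) {D : Finset Ω} (hD5 : 5 ≤ D.card)
    (hD : ∀ g : alternatingGroup Ω, Sup D g → g • v = v) {x : H} (hx : x ∈ X) {i : Ω} (hi : i ∈ D)
    (hxi : σ x i ∈ D) : σ x i = i := by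
  by_contra hne
  set s := σ x with hs
  set j := s i with hj
  have hss : ∀ a, s (s a) = a := by
    intro a
    have h1 : s * s = 1 := by rw [hs, ← map_mul, hX2 x hx, map_one]
    exact DFunLike.congr_fun h1 a
  have hsj : s j = i := hss i
  obtain ⟨k, hk, hk'⟩ := exists_not_mem (S := D) {i, j} (lt_of_le_of_lt (Finset.card_le_two) (by omega))
  obtain ⟨l, hl, hl'⟩ := exists_not_mem (S := D) {i, j, k, s k} (lt_of_le_of_lt (Finset.card_le_four) (by omega))
  simp only [Finset.mem_insert, Finset.mem_singleton, not_or] at hk' hl'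
  obtain ⟨ki, kj⟩ := hk'
  obtain ⟨li, lj, lk, lsk⟩ := hl'
  have hDc : D3 j k l := ⟨Ne.symm kj, Ne.symm lj, Ne.symm lk⟩
  set c : alternatingGroup Ω := C j k l with hc
  have hcv : ι c • v = v := by rw [hA.act]; exact hD c (sup_C hxi hk hl)
  have hy : ι c * x * (ι c)⁻¹ ∈ X := hXn _ hcv x hx
  have hcomm : x * (ι c * x * (ι c)⁻¹) = ι c * x * (ι c)⁻¹ * x :=
    AltRk.comm_of_sq (hX2 x hx) (hX2 _ hy) (hX2 _ (X.mul_mem hx hy))
  have h1 := congrArg σ hcomm
  simp only [map_mul, map_inv, hA.coe] at h1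
  have h2 : s ((c : Perm Ω) (s ((c : Perm Ω).symm i))) = (c : Perm Ω) (s ((c : Perm Ω).symm (s i))) :=
    DFunLike.congr_fun h1 i
  have e1 : (c : Perm Ω).symm i = i := by
    rw [Equiv.symm_apply_eq, hc, C_of_ne (Ne.symm hne) (Ne.symm ki) (Ne.symm li)]
  have e2 : (c : Perm Ω).symm j = l := by
    rw [Equiv.symm_apply_eq, hc, C_c hDc]
  have e3 : (c : Perm Ω) j = k := by rw [hc, C_a hDc]
  rw [e1, ← hj, e2, e3] at h2
  -- `s k = c (s l)`
  by_cases h3 : s l = l
  · rw [h3, hc, C_c hDc] at h2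
    have h4 := hss k
    rw [h2, hsj] at h4
    exact ki h4.symm
  · have n1 : s l ≠ j := by
      intro e
      have h4 := hss l
      rw [e, hsj] at h4
      exact li h4.symm
    have n2 : s l ≠ k := by
      intro e
      have h4 := hss l
      rw [e] at h4
      exact lsk h4.symm
    rw [hc, C_of_ne n1 n2 h3] at h2
    exact lk (s.injective h2).symm

/-- **the stabiliser of a vector has no large normal elementary abelian 2-subgroup** -/
theorem card_le_four [Finite H] (hn : 9 ≤ Fintype.card Ω) (hA : Act V σ ι)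
    (hirr : ∀ W : AddSubgroup V, (∀ h : H, ∀ v ∈ W, h • v ∈ W) → W = ⊥ ∨ W = ⊤)
    {X : Subgroup H} {v : V} (hX2 : ∀ x ∈ X, x * x = 1) (hXv : ∀ x ∈ X, x • v = v)
    (hXn : ∀ h : H, h • v = v → ∀ x ∈ X, h * x * h⁻¹ ∈ X) (hXi : ∀ x ∈ X, σ x = 1 → x = 1) :
    Nat.card X ≤ 4 := by
  obtain ⟨B, hB, hBv⟩ := exists_ev hN hA hirr p v
  -- the elements of `A_Ω` preserving `B`
  have hfix : ∀ g : alternatingGroup Ω, B.map (g : Perm Ω).toEmbedding = B → g • v = v := by
    intro g hg
    rw [← hA.act, ← hBv, smul_ev hN hA _ _ hB, hA.coe, hg]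
  have hmapS : ∀ g : alternatingGroup Ω, ∀ D : Finset Ω, (∀ a ∈ D, (g : Perm Ω) a ∈ D) →
      D.map (g : Perm Ω).toEmbedding = D := by
    intro g D h
    apply Finset.eq_of_subset_of_card_le
    · intro x hx
      rw [Finset.mem_map] at hx
      obtain ⟨a, ha, rfl⟩ := hx
      exact h a ha
    · rw [Finset.card_map]
  have hDB : ∀ g : alternatingGroup Ω, Sup B g → g • v = v := fun g hg => hfix g (hmapS g B fun a ha => hg.mem ha)
  have hDC : ∀ g : alternatingGroup Ω, Sup (Finset.univ \ B) g → g • v = v := by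
    intro g hg
    refine hfix g (hmapS g B fun a ha => ?_)
    rw [hg a (by simp [ha])]
    exact ha
  -- elements of `X`
  have hXB : ∀ x ∈ X, B.map (σ x).toEmbedding = B ∨ B.map (σ x).toEmbedding = Finset.univ \ B := by
    intro x hx
    refine ev_inj hN (o := p) (by rwa [Finset.card_map]) hB ?_
    rw [← smul_ev hN hA x p hB, hBv, hXv x hx]
  have hcardC : (Finset.univ \ B).card = Fintype.card Ω - B.card := by
    rw [Finset.card_sdiff_of_subset (Finset.subset_univ B), Finset.card_univ]
  have hBle : B.card ≤ Fintype.card Ω := Finset.card_le_univ B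
  -- general facts on preserved blocks
  have mapmem : ∀ (x : H) (D : Finset Ω), D.map (σ x).toEmbedding = D → ∀ a ∈ D, σ x a ∈ D := by
    intro x D h a ha
    have : σ x a ∈ D.map (σ x).toEmbedding := Finset.mem_map.mpr ⟨a, ha, rfl⟩
    rwa [h] at this
  have mapC : ∀ x : H, B.map (σ x).toEmbedding = B → ∀ a, a ∉ B → σ x a ∉ B := by
    intro x h a ha ha'
    rw [← h, Finset.mem_map] at ha'
    obtain ⟨b, hb, e⟩ := ha'
    exact ha ((σ x).injective e ▸ hb)
  by_cases h4 : B.card ≤ 4 ∨ (Finset.univ \ B).card ≤ 4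
  · -- one small block
    have hBx : ∀ x ∈ X, B.map (σ x).toEmbedding = B := by
      intro x hx
      refine (hXB x hx).resolve_right fun h => ?_
      have h5 := congrArg Finset.card h
      rw [Finset.card_map] at h5
      omega
    have hE2 : ∀ y ∈ X.map σ, y * y = 1 := by
      rintro _ ⟨x, hx, rfl⟩
      rw [← map_mul, hX2 x hx, map_one]
    have hEcard : Nat.card (X.map σ) = Nat.card X := by
      refine (Nat.card_congr (Equiv.ofBijective (fun x : X => (⟨σ x, x, x.2, rfl⟩ : X.map σ)) ⟨?_, ?_⟩)).symm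
      · intro x y hxy
        have h5 : σ x = σ y := congrArg Subtype.val hxy
        have h6 : σ ((x : H)⁻¹ * y) = 1 := by rw [map_mul, map_inv, h5, inv_mul_cancel]
        have h7 := hXi _ (X.mul_mem (X.inv_mem x.2) y.2) h6
        exact Subtype.ext (inv_mul_eq_one.mp h7)
      · rintro ⟨_, x, hx, rfl⟩
        exact ⟨⟨x, hx⟩, rfl⟩
    have key : ∀ S : Finset Ω, S.card ≤ 4 → (∀ x ∈ X, ∀ a, a ∉ S → σ x a = a) → Nat.card X ≤ 4 := by
      intro S hS hS'
      have h5 := AltRk.card_sq_le _ (X.map σ) S le_rfl hE2 (by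
        rintro _ ⟨x, hx, rfl⟩ a ha
        exact hS' x hx a ha)
      rw [hEcard] at h5
      have h6 : Nat.card X ^ 2 ≤ 2 ^ 4 := h5.trans (Nat.pow_le_pow_right (by norm_num) hS)
      nlinarith
    rcases h4 with h4 | h4
    · refine key B h4 fun x hx a ha => ?_
      exact fix_of_block hA hX2 hXn (D := Finset.univ \ B) (by omega) hDC hx (by simp [ha])
        (by simp [mapC x (hBx x hx) a ha])
    · refine key (Finset.univ \ B) h4 fun x hx a ha => ?_
      have ha' : a ∈ B := by simpa using ha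
      exact fix_of_block hA hX2 hXn (D := B) (by omega) hDB hx ha' (mapmem x B (hBx x hx) a ha')
  · push Not at h4
    -- an element preserving `B` is trivial
    have hone : ∀ x ∈ X, B.map (σ x).toEmbedding = B → x = 1 := by
      intro x hx hxB
      refine hXi x hx ?_
      ext a
      by_cases ha : a ∈ B
      · exact fix_of_block hA hX2 hXn (D := B) (by omega) hDB hx ha (mapmem x B hxB a ha)
      · exact fix_of_block hA hX2 hXn (D := Finset.univ \ B) (by omega) hDC hx (by simp [ha])
          (by simp [mapC x hxB a ha])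
    have htwo : ∀ x ∈ X, ∀ y ∈ X, x ≠ 1 → y ≠ 1 → x = y := by
      intro x hx y hy hx1 hy1
      have ex := (hXB x hx).resolve_left fun h => hx1 (hone x hx h)
      have ey := (hXB y hy).resolve_left fun h => hy1 (hone y hy h)
      have h5 : B.map (σ (x * y)).toEmbedding = B := by
        have h6 : B.map (σ (x * y)).toEmbedding = (B.map (σ y).toEmbedding).map (σ x).toEmbedding := by
          ext a
          simp only [Finset.mem_map, map_mul]
          constructor
          · rintro ⟨b, hb, rfl⟩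
            exact ⟨σ y b, ⟨b, hb, rfl⟩, rfl⟩
          · rintro ⟨_, ⟨b, hb, rfl⟩, rfl⟩
            exact ⟨b, hb, rfl⟩
        rw [h6, ey]
        apply Finset.eq_of_subset_of_card_le
        · intro a ha
          rw [Finset.mem_map] at ha
          obtain ⟨b, hb, rfl⟩ := ha
          by_contra h7
          have h8 : σ x b ∈ B.map (σ x).toEmbedding := by
            rw [ex]
            simpa using h7
          rw [Finset.mem_map] at h8
          obtain ⟨b', hb', e⟩ := h8
          have h9 : b' = b := (σ x).injective e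
          rw [h9] at hb'
          simp only [Finset.mem_sdiff, Finset.mem_univ, true_and] at hb
          exact hb hb'
        · have h7 := congrArg Finset.card ey
          rw [Finset.card_map] at h7
          rw [Finset.card_map, ← h7]
      have h6 := hone _ (X.mul_mem hx hy) h5
      rw [mul_eq_one_iff_eq_inv] at h6
      rw [h6]
      exact inv_eq_of_mul_eq_one_left (hX2 y hy)
    have h5 : Nat.card X ≤ Nat.card (Fin 2) := by
      classical
      refine Nat.card_le_card_of_injective (fun x : X => if x = 1 then (0 : Fin 2) else 1) ?_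
      intro x y hxy
      by_cases hx : x = 1
      · by_cases hy : y = 1
        · rw [hx, hy]
        · simp [hx, hy] at hxy
      · by_cases hy : y = 1
        · simp [hx, hy] at hxy
        · exact Subtype.ext (htwo x x.2 y y.2 (fun h => hx (Subtype.ext h)) fun h => hy (Subtype.ext h))
    rw [Nat.card_fin] at h5
    omega

end Nat

end Cfsg.Agent.Omega.TwoF.AltKill

end

section


/-!
# Odd covers of alternating groups of degree at least 8 are trivial

`π : L → A_Ω` a perfect central extension with kernel of odd order, `|Ω| ≥ 8`: then `π` is injective.  Every 3-cycle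
has a unique lift which is inverted by the lifts of the elements `a ↔ b`, `c ↦ c` (`Good`); the lifts `x_i` of the
cycles `(p q i)` satisfy Carmichael's relations `x_i³ = (x_i x_j)² = 1`.
-/

set_option autoImplicit false
set_option linter.unusedSectionVars false

namespace Cfsg.Agent.Omega.TwoF.AltCover

open Equiv Equiv.Perm Subgroup AltCyc

universe u w

open scoped commutatorElement

/-! ### Carmichael's relations -/

section Carmichael

variable {L : Type w} [Group L] {ι : Type u} {x : ι → L}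

/-- the relations -/
structure Car (x : ι → L) : Prop where
  cube : ∀ i, x i * x i * x i = 1
  sq : ∀ i j, i ≠ j → x i * x j * (x i * x j) = 1

variable (h : Car x)

include h

theorem Car.sq_eq (i : ι) : x i * x i = (x i)⁻¹ := eq_inv_of_mul_eq_one_left (h.cube i)

theorem Car.mul_eq {i j : ι} (hij : i ≠ j) : x i * x j = (x j)⁻¹ * (x i)⁻¹ := by
  rw [← mul_inv_rev]; exact eq_inv_of_mul_eq_one_left (h.sq i j hij)

/-- the union of the cosets -/
def CU (x : ι → L) (H : Subgroup L) (T : Set ι) (m : ι) (g : L) : Prop :=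
  g ∈ H ∨ (∃ k ∈ H, g = k * x m) ∨ (∃ k ∈ H, g = k * (x m)⁻¹) ∨ ∃ k ∈ H, ∃ j ∈ T, g = k * (x m)⁻¹ * x j

theorem Car.closed {H : Subgroup L} {T : Set ι} {m : ι} (hm : m ∉ T) (hH : ∀ i ∈ T, x i ∈ H) {g : L}
    (hg : CU x H T m g) {k : ι} (hk : k ∈ T ∨ k = m) : CU x H T m (g * x k) := by
  have hmk : ∀ j ∈ T, m ≠ j := fun j hj e => hm (e ▸ hj)
  rcases hg with hg | ⟨a, ha, rfl⟩ | ⟨a, ha, rfl⟩ | ⟨a, ha, j, hj, rfl⟩
  · rcases hk with hk | rfl
    · exact Or.inl (H.mul_mem hg (hH k hk))
    · exact Or.inr (Or.inl ⟨g, hg, rfl⟩)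
  · rcases hk with hk | rfl
    · refine Or.inr (Or.inr (Or.inl ⟨a * (x k)⁻¹, H.mul_mem ha (H.inv_mem (hH k hk)), ?_⟩))
      rw [mul_assoc, h.mul_eq (hmk k hk), mul_assoc]
    · refine Or.inr (Or.inr (Or.inl ⟨a, ha, ?_⟩))
      rw [mul_assoc, h.sq_eq]
  · rcases hk with hk | rfl
    · exact Or.inr (Or.inr (Or.inr ⟨a, ha, k, hk, rfl⟩))
    · exact Or.inl (by rw [inv_mul_cancel_right]; exact ha)
  · have hjH := hH j hj
    have e1 := h.mul_eq (hmk j hj)
    have e2 := h.mul_eq (hmk j hj).symm
    rcases hk with hk | rfl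
    · by_cases hkj : k = j
      · subst hkj
        refine Or.inr (Or.inl ⟨a * x k, H.mul_mem ha hjH, ?_⟩)
        have e3 : (x m)⁻¹ * x k * x k = x k * x m := by
          rw [mul_assoc, h.sq_eq, e2]
        rw [mul_assoc a, mul_assoc a, e3, mul_assoc]
      · refine Or.inr (Or.inr (Or.inr ⟨a * (x k * (x j)⁻¹), H.mul_mem ha (H.mul_mem (hH k hk) (H.inv_mem hjH)), j,
          hj, ?_⟩))
        have e3 := h.mul_eq (hmk k hk).symm
        have e4 := h.mul_eq (Ne.symm hkj)
        -- `x_j x_k = x_k⁻¹ x_j⁻¹`, `x_m⁻¹ x_k⁻¹ = x_k x_m`, `x_m x_j⁻¹ = x_m x_j x_j`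
        have e5 : (x m)⁻¹ * x j * x k = x k * (x j)⁻¹ * (x m)⁻¹ * x j := by
          calc (x m)⁻¹ * x j * x k = (x m)⁻¹ * (x j * x k) := mul_assoc _ _ _
            _ = (x m)⁻¹ * (x k)⁻¹ * (x j)⁻¹ := by rw [e4, mul_assoc]
            _ = x k * x m * (x j)⁻¹ := by rw [← e3]
            _ = x k * (x m * x j) * x j := by rw [← h.sq_eq j]; simp only [mul_assoc]
            _ = x k * (x j)⁻¹ * (x m)⁻¹ * x j := by rw [e1]; simp only [mul_assoc]
        calc a * (x m)⁻¹ * x j * x k = a * ((x m)⁻¹ * x j * x k) := by simp only [mul_assoc]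
          _ = _ := by rw [e5]; simp only [mul_assoc]
    · refine Or.inr (Or.inr (Or.inr ⟨a * (x j)⁻¹, H.mul_mem ha (H.inv_mem hjH), j, hj, ?_⟩))
      have e5 : (x k)⁻¹ * x j * x k = (x j)⁻¹ * (x k)⁻¹ * x j := by
        calc (x k)⁻¹ * x j * x k = (x k)⁻¹ * (x k)⁻¹ * (x j)⁻¹ := by rw [mul_assoc, e2, mul_assoc]
          _ = x k * (x j)⁻¹ := by rw [← mul_inv_rev, h.sq_eq, inv_inv]
          _ = (x k * x j) * x j := by rw [← h.sq_eq j, mul_assoc]
          _ = _ := by rw [e1]
      calc a * (x k)⁻¹ * x j * x k = a * ((x k)⁻¹ * x j * x k) := by simp only [mul_assoc]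
        _ = _ := by rw [e5]; simp only [mul_assoc]

end Carmichael

/-! ### Generation of the alternating group by the cycles `(p q i)` -/

section Gen

variable {Ω : Type u} [DecidableEq Ω] [Fintype Ω]

theorem mem_closure_pq {p q : Ω} (hpq : p ≠ q) (g : alternatingGroup Ω) :
    g ∈ closure {g : alternatingGroup Ω | ∃ i, i ≠ p ∧ i ≠ q ∧ g = C p q i} := by
  classical
  set K := closure {g : alternatingGroup Ω | ∃ i, i ≠ p ∧ i ≠ q ∧ g = C p q i} with hK
  have hC : ∀ i, i ≠ p → i ≠ q → C p q i ∈ K := fun i hi hi' => subset_closure ⟨i, hi, hi', rfl⟩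
  have key : ∀ (n : ℕ) (T : Finset Ω) (g : alternatingGroup Ω), T.card ≤ n → p ∉ T → q ∉ T →
      Sup (insert p (insert q T)) g → g ∈ K := by
    intro n
    induction n with
    | zero =>
      intro T g hT _ _ hg
      have hT' : T = ∅ := Finset.card_eq_zero.mp (by omega)
      subst hT'
      have hfix : ∀ x, x ≠ p → x ≠ q → (g : Perm Ω) x = x := by
        intro x h1 h2
        exact hg x (by simp [h1, h2])
      have h1 : (g : Perm Ω) = 1 ∨ (g : Perm Ω) = Equiv.swap p q := by
        by_cases hp : (g : Perm Ω) p = p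
        · left
          ext x
          by_cases hxp : x = p
          · rw [hxp, hp]; rfl
          by_cases hxq : x = q
          · rw [hxq]
            by_contra hne
            have h2 : (g : Perm Ω) q ≠ q := hne
            have h3 : (g : Perm Ω) q ≠ p := by
              intro e
              rw [← hp] at e
              exact hpq ((g : Perm Ω).injective e).symm
            have h4 := hfix _ h3 h2
            exact h2 ((g : Perm Ω).injective h4)
          exact hfix x hxp hxq
        · right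
          have hpq' : (g : Perm Ω) p = q := by
            by_contra hne
            exact hp ((g : Perm Ω).injective (hfix _ hp hne))
          have hqp : (g : Perm Ω) q = p := by
            by_contra hne
            have h2 : (g : Perm Ω) q ≠ q := by
              intro e
              rw [← hpq'] at e
              exact hpq ((g : Perm Ω).injective (by rw [hpq'] at e ⊢; exact e)).symm
            exact h2 ((g : Perm Ω).injective (hfix _ hne h2))
          ext x
          by_cases hxp : x = p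
          · rw [hxp, hpq', swap_apply_left]
          by_cases hxq : x = q
          · rw [hxq, hqp, swap_apply_right]
          rw [hfix x hxp hxq, swap_apply_of_ne_of_ne hxp hxq]
      rcases h1 with h1 | h1
      · have : g = 1 := Subtype.ext h1
        rw [this]; exact K.one_mem
      · have h2 := mem_alternatingGroup.mp g.2
        rw [h1, sign_swap hpq] at h2
        exact absurd h2 (by decide)
    | succ n ih =>
      intro T g hT hpT hqT hg
      by_cases hTe : T = ∅
      · exact ih T g (by simp [hTe]) hpT hqT hg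
      obtain ⟨m, hm⟩ := Finset.nonempty_of_ne_empty hTe
      have hmp : m ≠ p := fun e => hpT (e ▸ hm)
      have hmq : m ≠ q := fun e => hqT (e ▸ hm)
      have hDm : D3 p q m := ⟨hpq, hmp.symm, hmq.symm⟩
      -- an element of `K` moving `g m` back to `m`
      obtain ⟨k, hk, hks, hkm⟩ : ∃ k ∈ K, Sup (insert p (insert q T)) k ∧
          (k : Perm Ω) ((g : Perm Ω) m) = m := by
        have hpS : p ∈ insert p (insert q T) := Finset.mem_insert_self _ _
        have hqS : q ∈ insert p (insert q T) := Finset.mem_insert_of_mem (Finset.mem_insert_self _ _)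
        have hTS : ∀ j ∈ T, j ∈ insert p (insert q T) := fun j hj =>
          Finset.mem_insert_of_mem (Finset.mem_insert_of_mem hj)
        have hgm := hg.mem (hTS m hm)
        rw [Finset.mem_insert, Finset.mem_insert] at hgm
        rcases hgm with e | e | hj
        · refine ⟨C p q m * C p q m, K.mul_mem (hC m hmp hmq) (hC m hmp hmq),
            (sup_C hpS hqS (hTS m hm)).mul (sup_C hpS hqS (hTS m hm)), ?_⟩
          show (C p q m : Perm Ω) ((C p q m : Perm Ω) ((g : Perm Ω) m)) = m
          rw [e, C_a hDm, C_b hDm]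
        · refine ⟨C p q m, hC m hmp hmq, sup_C hpS hqS (hTS m hm), ?_⟩
          rw [e, C_b hDm]
        · set j := (g : Perm Ω) m with hjdef
          have hjp : j ≠ p := fun e => hpT (e ▸ hj)
          have hjq : j ≠ q := fun e => hqT (e ▸ hj)
          have hDj : D3 p q j := ⟨hpq, hjp.symm, hjq.symm⟩
          refine ⟨C p q m * C p q m * C p q j, K.mul_mem (K.mul_mem (hC m hmp hmq) (hC m hmp hmq)) (hC j hjp hjq),
            ((sup_C hpS hqS (hTS m hm)).mul (sup_C hpS hqS (hTS m hm))).mul (sup_C hpS hqS (hTS j hj)), ?_⟩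
          show (C p q m : Perm Ω) ((C p q m : Perm Ω) ((C p q j : Perm Ω) j)) = m
          rw [C_c hDj, C_a hDm, C_b hDm]
      have h1 : k * g ∈ K := by
        refine ih (T.erase m) (k * g) (by rw [Finset.card_erase_of_mem hm]; omega)
          (fun h => hpT (Finset.mem_of_mem_erase h)) (fun h => hqT (Finset.mem_of_mem_erase h)) ?_
        intro x hx
        by_cases hxm : x = m
        · rw [hxm]; exact hkm
        · refine (hks.mul hg) x fun hx' => hx ?_
          rw [Finset.mem_insert, Finset.mem_insert] at hx' ⊢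
          rcases hx' with h | h | h
          · exact Or.inl h
          · exact Or.inr (Or.inl h)
          · exact Or.inr (Or.inr (Finset.mem_erase.mpr ⟨hxm, h⟩))
      have h2 := K.mul_mem (K.inv_mem hk) h1
      rwa [inv_mul_cancel_left] at h2
  refine key _ (Finset.univ \ {p, q}) g le_rfl (by simp) (by simp) ?_
  intro x hx
  exfalso
  apply hx
  simp only [Finset.mem_insert, Finset.mem_sdiff, Finset.mem_univ, Finset.mem_singleton, true_and, not_or]
  tauto

end Gen

/-! ### Lifts -/

section Lift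

variable {Ω : Type u} [DecidableEq Ω] [Fintype Ω]
variable {L : Type w} [Group L] [Finite L] {π : L →* alternatingGroup Ω}

theorem eq_one_of_sq (ho : Odd (Nat.card π.ker)) {z : L} (hz : z ∈ π.ker) (h2 : z * z = 1) : z = 1 := by
  have h1 : orderOf (⟨z, hz⟩ : π.ker) ∣ 2 := orderOf_dvd_of_pow_eq_one (by
    rw [pow_two]; exact Subtype.ext h2)
  have h3 : orderOf (⟨z, hz⟩ : π.ker) ∣ Nat.card π.ker := orderOf_dvd_natCard _
  have h4 : orderOf (⟨z, hz⟩ : π.ker) = 1 := by
    have := Nat.dvd_gcd h1 h3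
    rw [Nat.Coprime.gcd_eq_one (Nat.coprime_two_left.mpr ho)] at this
    exact Nat.dvd_one.mp this
  exact congrArg Subtype.val (orderOf_eq_one_iff.mp h4)

theorem exists_sqrt (ho : Odd (Nat.card π.ker)) {z : L} (hz : z ∈ π.ker) : ∃ w ∈ π.ker, w * w = z := by
  obtain ⟨k, hk⟩ := ho
  refine ⟨z ^ (k + 1), π.ker.pow_mem hz _, ?_⟩
  have h1 : z ^ Nat.card π.ker = 1 := by
    have := pow_card_eq_one' (x := (⟨z, hz⟩ : π.ker))
    exact congrArg Subtype.val this
  rw [← pow_add, show k + 1 + (k + 1) = Nat.card π.ker + 1 by omega, pow_succ, h1, one_mul]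

variable (hs : Function.Surjective π) (hc : π.ker ≤ center L) (ho : Odd (Nat.card π.ker))

include hc in
theorem ker_comm {z : L} (hz : z ∈ π.ker) (g : L) : g * z = z * g := mem_center_iff.mp (hc hz) g

/-- `g` moves `a ↔ b`, `c ↦ c` -/
def Flip (π : L →* alternatingGroup Ω) (a b c : Ω) (g : L) : Prop :=
  (π g : Perm Ω) a = b ∧ (π g : Perm Ω) b = a ∧ (π g : Perm Ω) c = c

/-- the canonical lift of `C a b c` -/
structure Good (π : L →* alternatingGroup Ω) (a b c : Ω) (x : L) : Prop where
  map : π x = C a b c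
  flip : ∀ g, Flip π a b c g → g * x * g⁻¹ = x⁻¹

include hs hc ho

/-- elements of the centraliser supported off the cycle commute with its lifts -/
theorem comm_lift {S : Finset Ω} (hS : 5 ≤ S.card) {a b c : Ω} (ha : a ∉ S) (hb : b ∉ S) (hcS : c ∉ S) {x : L}
    (hx : π x = C a b c) {g : L} (hg : Sup S (π g)) : g * x = x * g := by
  -- commutators with `x` are central
  have hθ : ∀ g : L, Sup S (π g) → g * x * g⁻¹ * x⁻¹ ∈ π.ker := by
    intro g hg
    rw [MonoidHom.mem_ker, map_mul, map_mul, map_mul, map_inv, map_inv, hx, comm_C hg ha hb hcS]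
    group
  suffices h : ∀ g' : alternatingGroup Ω, Sup S g' → ∀ g : L, π g = g' → g * x = x * g from h _ hg g rfl
  intro g' hg'
  refine (sup_induction (P := fun g' => Sup S g' ∧ ∀ g : L, π g = g' → g * x = x * g) ?_ ?_ hg').2
  · exact ⟨Sup.one, fun g hg => (ker_comm hc (MonoidHom.mem_ker.mpr hg) x).symm⟩
  · rintro d hd e he f hf hD g' hg' ⟨-, ih⟩
    refine ⟨(sup_C hd he hf).mul hg', ?_⟩
    intro g hg
    obtain ⟨y, hy⟩ := hs (C d e f)
    have hyx : y * x = x * y := by
      obtain ⟨t', ht', t1, t2, t3⟩ := exists_move hS hD hD.swap' hd he hf he hd hf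
      obtain ⟨t, rfl⟩ := hs t'
      have hyS : Sup S (π y) := by rw [hy]; exact sup_C hd he hf
      have h1 := hθ y hyS
      have h2 := hθ t ht'
      -- `t y t⁻¹ = y⁻¹ k`
      have h3 : y * (t * y * t⁻¹) ∈ π.ker := by
        rw [MonoidHom.mem_ker, map_mul, map_mul, map_mul, map_inv, hy, AltCyc.conj, t1, t2, t3, ← C_rot hD.swap']
        exact C_mul_inv hD
      set z := y * x * y⁻¹ * x⁻¹ with hz
      set s := t * x * t⁻¹ * x⁻¹ with hs'
      set k := y * (t * y * t⁻¹) with hk
      have cz := fun w => ker_comm hc h1 w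
      have cs := fun w => ker_comm hc h2 w
      have ck := fun w => ker_comm hc h3 w
      have e1 : y * x = z * x * y := by rw [hz]; group
      have e2 : t * x = s * x * t := by rw [hs']; group
      have e3 : t * y = y⁻¹ * k * t := by rw [hk]; group
      -- compute `t (y x)` in two ways
      have e4 : y⁻¹ * x = z⁻¹ * x * y⁻¹ := by
        have : x * y⁻¹ = y⁻¹ * (z * x) := by
          rw [eq_inv_mul_iff_mul_eq, ← mul_assoc, e1, mul_assoc, mul_assoc, mul_inv_cancel, mul_one]
        rw [← mul_assoc, cz] at this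
        rw [mul_assoc z⁻¹, this, mul_assoc z, inv_mul_cancel_left]
      have e5 : t * (y * x) = z * s * x * (y⁻¹ * k) * t := by
        rw [e1]
        calc t * (z * x * y) = (t * z) * x * y := by simp only [mul_assoc]
          _ = z * (t * x) * y := by rw [cz t]; simp only [mul_assoc]
          _ = z * s * x * (t * y) := by rw [e2]; simp only [mul_assoc]
          _ = _ := by rw [e3]; simp only [mul_assoc]
      have e6 : t * (y * x) = z⁻¹ * s * x * (y⁻¹ * k) * t := by
        calc t * (y * x) = (t * y) * x := by rw [mul_assoc]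
          _ = y⁻¹ * k * (t * x) := by rw [e3]; simp only [mul_assoc]
          _ = y⁻¹ * (k * s) * x * t := by rw [e2]; simp only [mul_assoc]
          _ = (y⁻¹ * s) * k * x * t := by rw [cs k]; simp only [mul_assoc]
          _ = s * y⁻¹ * (k * x) * t := by rw [cs y⁻¹]; simp only [mul_assoc]
          _ = s * (y⁻¹ * x) * k * t := by rw [← ck x]; simp only [mul_assoc]
          _ = (s * z⁻¹) * x * y⁻¹ * k * t := by rw [e4]; simp only [mul_assoc]
          _ = _ := by rw [← cs z⁻¹]; simp only [mul_assoc]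
      have e7 : z * z = 1 := by
        rw [e5] at e6
        have h8 : z = z⁻¹ := by simpa only [mul_left_inj] using e6
        rw [mul_eq_one_iff_eq_inv]
        exact h8
      have e8 := eq_one_of_sq ho h1 e7
      rw [e1, e8, one_mul]
    -- `g = y g₂`
    have h4 := ih (y⁻¹ * g) (by rw [map_mul, map_inv, hy, hg, inv_mul_cancel_left])
    calc g * x = y * (y⁻¹ * g * x) := by group
      _ = (y * x) * (y⁻¹ * g) := by rw [h4]; group
      _ = x * g := by rw [hyx]; group

variable (hn : 8 ≤ Fintype.card Ω)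

include hn

theorem card_compl {a b c : Ω} : 5 ≤ ((Finset.univ : Finset Ω) \ {a, b, c}).card := by
  have h1 := Finset.le_card_sdiff ({a, b, c} : Finset Ω) Finset.univ
  have h2 : ({a, b, c} : Finset Ω).card ≤ 3 := Finset.card_le_three
  rw [Finset.card_univ] at h1
  omega

theorem comm_lift' {a b c : Ω} {x : L} (hx : π x = C a b c) {g : L} (h1 : (π g : Perm Ω) a = a)
    (h2 : (π g : Perm Ω) b = b) (h3 : (π g : Perm Ω) c = c) : g * x = x * g := by
  refine comm_lift hs hc ho (S := Finset.univ \ {a, b, c}) (card_compl hs hc ho hn) (by simp) (by simp) (by simp) hx ?_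
  intro y hy
  simp only [Finset.mem_sdiff, Finset.mem_univ, Finset.mem_insert, Finset.mem_singleton, true_and, not_not] at hy
  rcases hy with rfl | rfl | rfl <;> assumption

/-- one flip is enough -/
theorem good_of_one {a b c : Ω} {x : L} (hx : π x = C a b c) {g₀ : L} (h0 : Flip π a b c g₀)
    (h : g₀ * x * g₀⁻¹ = x⁻¹) : Good π a b c x := by
  refine ⟨hx, ?_⟩
  intro g hg
  obtain ⟨h1, h2, h3⟩ := h0
  obtain ⟨g1, g2, g3⟩ := hg
  have hcm := comm_lift' hs hc ho hn hx (g := g₀⁻¹ * g)
    (by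
      rw [map_mul, map_inv]
      show (π g₀ : Perm Ω).symm ((π g : Perm Ω) a) = a
      rw [g1, ← h1, Equiv.symm_apply_apply])
    (by
      rw [map_mul, map_inv]
      show (π g₀ : Perm Ω).symm ((π g : Perm Ω) b) = b
      rw [g2, ← h2, Equiv.symm_apply_apply])
    (by
      rw [map_mul, map_inv]
      show (π g₀ : Perm Ω).symm ((π g : Perm Ω) c) = c
      rw [g3]
      conv_lhs => rw [← h3]
      rw [Equiv.symm_apply_apply])
  calc g * x * g⁻¹ = g₀ * (g₀⁻¹ * g * x) * g⁻¹ := by group
    _ = g₀ * x * g₀⁻¹ := by rw [hcm]; group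
    _ = x⁻¹ := h

theorem exists_flip {a b c : Ω} (hD : D3 a b c) : ∃ g, Flip π a b c g := by
  obtain ⟨t, -, t1, t2, t3⟩ := exists_move (S := Finset.univ) (by rw [Finset.card_univ]; omega) hD hD.swap'
    (Finset.mem_univ _) (Finset.mem_univ _) (Finset.mem_univ _) (Finset.mem_univ _) (Finset.mem_univ _)
    (Finset.mem_univ _)
  obtain ⟨g, rfl⟩ := hs t
  exact ⟨g, t1, t2, t3⟩

theorem exists_good {a b c : Ω} (hD : D3 a b c) : ∃ x, Good π a b c x := by
  obtain ⟨g, hg⟩ := exists_flip hs hc ho hn hD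
  obtain ⟨x, hx⟩ := hs (C a b c)
  have h1 : x * (g * x * g⁻¹) ∈ π.ker := by
    rw [MonoidHom.mem_ker, map_mul, map_mul, map_mul, map_inv, hx, AltCyc.conj, hg.1, hg.2.1, hg.2.2,
      C_rot hD.swap.rot, C_rot hD.swap]
    exact C_mul_inv hD
  obtain ⟨w, hw, hw'⟩ := exists_sqrt ho h1
  have cw := fun y => ker_comm hc hw y
  refine ⟨x * w⁻¹, good_of_one hs hc ho hn (g₀ := g) ?_ hg ?_⟩
  · rw [map_mul, map_inv, MonoidHom.mem_ker.mp hw, inv_one, mul_one, hx]
  · have e1 : g * x * g⁻¹ = x⁻¹ * (w * w) := by rw [hw']; group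
    have e2 : g * w⁻¹ * g⁻¹ = w⁻¹ := by
      rw [ker_comm hc (π.ker.inv_mem hw) g]; group
    calc g * (x * w⁻¹) * g⁻¹ = (g * x * g⁻¹) * (g * w⁻¹ * g⁻¹) := by group
      _ = x⁻¹ * w := by rw [e1, e2]; group
      _ = (x * w⁻¹)⁻¹ := by rw [mul_inv_rev, inv_inv, cw]

omit hs hn in
theorem good_unique {a b c : Ω} {x y g : L} (hx : Good π a b c x) (hy : Good π a b c y)
    (hg : Flip π a b c g) : x = y := by
  have h1 : x⁻¹ * y ∈ π.ker := by
    rw [MonoidHom.mem_ker, map_mul, map_inv, hx.map, hy.map, inv_mul_cancel]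
  set z := x⁻¹ * y with hz
  have cz := fun w => ker_comm hc h1 w
  have e1 : y = x * z := by rw [hz]; group
  have e2 := hx.flip g hg
  have e3 := hy.flip g hg
  have e4 : g * y * g⁻¹ = x⁻¹ * z := by
    rw [e1]
    calc g * (x * z) * g⁻¹ = (g * x * g⁻¹) * (g * z * g⁻¹) := by group
      _ = x⁻¹ * z := by rw [e2, cz g]; group
  rw [e3, e1, mul_inv_rev] at e4
  have e5 : z * z = 1 := by
    have h2 : x⁻¹ * z⁻¹ = x⁻¹ * z := by
      rw [← e4, ker_comm hc (π.ker.inv_mem h1)]
    have h3 := mul_left_cancel h2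
    rw [mul_eq_one_iff_eq_inv]
    exact h3.symm
  have e6 := eq_one_of_sq ho h1 e5
  rw [e1, e6, mul_one]

omit hs hn in
theorem good_cube {a b c : Ω} {x g : L} (hD : D3 a b c) (hx : Good π a b c x) (hg : Flip π a b c g) :
    x * x * x = 1 := by
  have h1 : x * x * x ∈ π.ker := by
    rw [MonoidHom.mem_ker, map_mul, map_mul, hx.map, C_sq hD, ← C_inv hD, inv_mul_cancel]
  have e1 : g * (x * x * x) * g⁻¹ = (g * x * g⁻¹) * (g * x * g⁻¹) * (g * x * g⁻¹) := by group
  rw [hx.flip g hg, ker_comm hc h1 g, mul_inv_cancel_right] at e1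
  refine eq_one_of_sq ho h1 ?_
  calc x * x * x * (x * x * x) = (x⁻¹ * x⁻¹ * x⁻¹) * (x * x * x) := by rw [← e1]
    _ = 1 := by group

theorem good_sq {p q i j : Ω} {x y : L} (hDi : D3 p q i) (hDj : D3 p q j) (hij : i ≠ j)
    (hx : Good π p q i x) (hy : Good π p q j y) : x * y * (x * y) = 1 := by
  obtain ⟨t, ht, t1, t2, t3⟩ := exists_move (S := Finset.univ \ {j})
    (by
      have := Finset.le_card_sdiff ({j} : Finset Ω) Finset.univ
      rw [Finset.card_univ, Finset.card_singleton] at this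
      omega) hDi hDi.swap' (by simp [hDj.2.1]) (by simp [hDj.2.2]) (by simp [hij]) (by simp [hDj.2.2])
      (by simp [hDj.2.1]) (by simp [hij])
  obtain ⟨g, rfl⟩ := hs t
  have t4 : (π g : Perm Ω) j = j := ht j (by simp)
  have h1 : x * y * (x * y) ∈ π.ker := by
    rw [MonoidHom.mem_ker, map_mul, map_mul, hx.map, hy.map]
    exact AltPure.C_mul_C_sq hDi hDj hij
  have e1 := hx.flip g ⟨t1, t2, t3⟩
  have e2 := hy.flip g ⟨t1, t2, t4⟩
  have e3 : g * (x * y * (x * y)) * g⁻¹ = x⁻¹ * y⁻¹ * (x⁻¹ * y⁻¹) := by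
    rw [← e1, ← e2]; group
  rw [ker_comm hc h1 g, mul_inv_cancel_right] at e3
  have e4 : x * (x * y * (x * y)) = (x * y * (x * y)) * x := ker_comm hc h1 x
  have e5 : x * (x * y * (x * y)) = (x * y * (x * y))⁻¹ * x := by
    rw [e3]
    conv_rhs => rw [← e3]
    group
  have e6 : x * y * (x * y) = (x * y * (x * y))⁻¹ := by
    rw [e4] at e5
    exact mul_right_cancel e5
  exact eq_one_of_sq ho h1 (by rw [mul_eq_one_iff_eq_inv]; exact e6)

/-- **odd covers of `A_n`, `n ≥ 8`, are trivial** -/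
theorem injective_of (hperf : commutator L = ⊤) : Function.Injective π := by
  classical
  obtain ⟨p, -, -⟩ := exists_not_mem (S := (Finset.univ : Finset Ω)) ∅ (by
    rw [Finset.card_empty, Finset.card_univ]; omega)
  obtain ⟨q, -, hq⟩ := exists_not_mem (S := (Finset.univ : Finset Ω)) {p} (by
    rw [Finset.card_singleton, Finset.card_univ]; omega)
  have hpq : p ≠ q := fun e => hq (by simp [e])
  have hD : ∀ i : {i : Ω // i ≠ p ∧ i ≠ q}, D3 p q i := fun i => ⟨hpq, i.2.1.symm, i.2.2.symm⟩
  choose x hx using fun i : {i : Ω // i ≠ p ∧ i ≠ q} => exists_good hs hc ho hn (hD i)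
  have hcar : Car x := by
    refine ⟨fun i => ?_, fun i j hij => ?_⟩
    · obtain ⟨g, hg⟩ := exists_flip hs hc ho hn (hD i)
      exact good_cube hc ho (hD i) (hx i) hg
    · exact good_sq hs hc ho hn (hD i) (hD j) (fun e => hij (Subtype.ext e)) (hx i) (hx j)
  -- injectivity on the group generated by the `x i`
  have key : ∀ T : Finset {i : Ω // i ≠ p ∧ i ≠ q}, ∀ g ∈ closure (x '' (T : Set {i : Ω // i ≠ p ∧ i ≠ q})),
      π g = 1 → g = 1 := by
    intro T
    induction T using Finset.induction_on with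
    | empty =>
      intro g hg _
      rw [Finset.coe_empty, Set.image_empty, Subgroup.closure_empty] at hg
      exact mem_bot.mp hg
    | insert m T hm ih =>
      have hH : ∀ i ∈ (T : Set {i : Ω // i ≠ p ∧ i ≠ q}), x i ∈ closure (x '' (T : Set {i : Ω // i ≠ p ∧ i ≠ q})) :=
        fun i hi => subset_closure ⟨i, hi, rfl⟩
      have hm' : m ∉ (T : Set {i : Ω // i ≠ p ∧ i ≠ q}) := hm
      have hCU : ∀ g ∈ closure (x '' ((insert m T : Finset _) : Set {i : Ω // i ≠ p ∧ i ≠ q})),
          CU x (closure (x '' (T : Set {i : Ω // i ≠ p ∧ i ≠ q}))) T m g := by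
        intro g hg
        induction hg using closure_induction_right with
        | one => exact Or.inl (one_mem _)
        | mul_right g hg y hy ih' =>
          obtain ⟨k, hk, rfl⟩ := hy
          rw [Finset.coe_insert, Set.mem_insert_iff] at hk
          exact hcar.closed hm' hH ih' (by tauto)
        | mul_inv_cancel g hg y hy ih' =>
          obtain ⟨k, hk, rfl⟩ := hy
          rw [Finset.coe_insert, Set.mem_insert_iff] at hk
          rw [← hcar.sq_eq, ← mul_assoc]
          exact hcar.closed hm' hH (hcar.closed hm' hH ih' (by tauto)) (by tauto)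
      -- the group generated by the `x i`, `i ∈ T`, fixes `m`
      have hfix : ∀ g ∈ closure (x '' (T : Set {i : Ω // i ≠ p ∧ i ≠ q})), (π g : Perm Ω) m = m := by
        have hle : closure (x '' (T : Set {i : Ω // i ≠ p ∧ i ≠ q})) ≤
            (MulAction.stabilizer (Perm Ω) (m : Ω)).comap ((alternatingGroup Ω).subtype.comp π) := by
          rw [closure_le]
          rintro _ ⟨i, hi, rfl⟩
          show (π (x i) : Perm Ω) m = m
          rw [(hx i).map]
          exact C_of_ne m.2.1 m.2.2 fun e => hm (by rwa [Subtype.ext e])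
        intro g hg
        exact hle hg
      have hxm : (π ((x m)⁻¹) : Perm Ω) m = q := by
        rw [map_inv, (hx m).map, C_inv (hD m), C_b (hD m).swap]
      intro g hg h1
      rcases hCU g hg with hg' | ⟨k, hk, rfl⟩ | ⟨k, hk, rfl⟩ | ⟨k, hk, j, hj, rfl⟩
      · exact ih g hg' h1
      · exfalso
        have h2 : (π (k * x m) : Perm Ω) m = m := by rw [h1]; rfl
        rw [map_mul] at h2
        have h3 : (π k : Perm Ω) ((π (x m) : Perm Ω) m) = m := h2
        rw [(hx m).map, C_c (hD m)] at h3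
        have h4 := hfix k hk
        rw [← h4] at h3
        have h5 := (π k : Perm Ω).injective h3
        exact m.2.1 h5.symm
      · exfalso
        have h2 : (π (k * (x m)⁻¹) : Perm Ω) m = m := by rw [h1]; rfl
        rw [map_mul] at h2
        have h3 : (π k : Perm Ω) ((π ((x m)⁻¹) : Perm Ω) m) = m := h2
        rw [hxm] at h3
        have h4 := hfix k hk
        exact m.2.2 ((π k : Perm Ω).injective (h4.trans h3.symm))
      · exfalso
        have h2 : (π (k * (x m)⁻¹ * x j) : Perm Ω) m = m := by rw [h1]; rfl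
        rw [map_mul, map_mul] at h2
        have h3 : (π k : Perm Ω) ((π ((x m)⁻¹) : Perm Ω) ((π (x j) : Perm Ω) m)) = m := h2
        have h6 : (π (x j) : Perm Ω) m = m := by
          rw [(hx j).map]
          exact C_of_ne m.2.1 m.2.2 fun e => hm (by rwa [Subtype.ext e])
        rw [h6, hxm] at h3
        have h4 := hfix k hk
        exact m.2.2 ((π k : Perm Ω).injective (h4.trans h3.symm))
  -- the whole group
  set H := closure (x '' ((Finset.univ : Finset {i : Ω // i ≠ p ∧ i ≠ q}) : Set {i : Ω // i ≠ p ∧ i ≠ q})) with hH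
  have hmap : ∀ g : alternatingGroup Ω, ∃ h ∈ H, π h = g := by
    intro g
    have h1 : closure {g : alternatingGroup Ω | ∃ i, i ≠ p ∧ i ≠ q ∧ g = C p q i} ≤ H.map π := by
      rw [closure_le]
      rintro _ ⟨i, hi, hi', rfl⟩
      exact ⟨x ⟨i, hi, hi'⟩, subset_closure ⟨_, by simp, rfl⟩, (hx ⟨i, hi, hi'⟩).map⟩
    exact h1 (mem_closure_pq hpq g)
  have htop : ∀ g : L, g ∈ H := by
    have h1 : commutator L ≤ H := by
      rw [_root_.commutator_def, commutator_le]
      intro g _ g' _
      obtain ⟨h, hh, e⟩ := hmap (π g)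
      obtain ⟨h', hh', e'⟩ := hmap (π g')
      have z1 : h⁻¹ * g ∈ π.ker := by rw [MonoidHom.mem_ker, map_mul, map_inv, e, inv_mul_cancel]
      have z2 : h'⁻¹ * g' ∈ π.ker := by rw [MonoidHom.mem_ker, map_mul, map_inv, e', inv_mul_cancel]
      have c1 := fun w => ker_comm hc z1 w
      have c2 := fun w => ker_comm hc z2 w
      have h2 : ⁅g, g'⁆ = ⁅h, h'⁆ := by
        generalize hz : h⁻¹ * g = z at *
        generalize hz' : h'⁻¹ * g' = z' at *
        have e1 : g = h * z := by rw [← hz]; group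
        have e2 : g' = h' * z' := by rw [← hz']; group
        rw [e1, e2, commutatorElement_def, commutatorElement_def, mul_inv_rev, mul_inv_rev]
        calc h * z * (h' * z') * (z⁻¹ * h⁻¹) * (z'⁻¹ * h'⁻¹)
            = h * (z * h') * (z' * (z⁻¹ * h⁻¹) * z'⁻¹) * h'⁻¹ := by simp only [mul_assoc]
          _ = h * (h' * z) * ((z⁻¹ * h⁻¹) * z' * z'⁻¹) * h'⁻¹ := by rw [c2 (z⁻¹ * h⁻¹), c1 h']
          _ = h * h' * h⁻¹ * h'⁻¹ := by group
      rw [h2]
      exact H.mul_mem (H.mul_mem (H.mul_mem hh hh') (H.inv_mem hh)) (H.inv_mem hh')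
    intro g
    exact h1 (by rw [hperf]; trivial)
  rw [injective_iff_map_eq_one]
  exact fun g hg => key _ g (htop g) hg

end Lift

end Cfsg.Agent.Omega.TwoF.AltCover

end

section


/-!
# The row `A_n`, `n ≥ 7`, of TABLE 2F

* `kill_add`: `H` irreducible on `V`, `A_Ω` normal in `H`, `2 ^ 10 ≤ |V| ≤ 2 ^ (2 ⌊|Ω| / 2⌋ + 2)`, `|Ω| ≥ 9`: there is
  no normal elementary abelian 2-subgroup `X` of the stabiliser of a vector with `|V| ≤ 4 |X|²`;
* `kill_alt`: `Kill2 (alternatingGroup (Fin n))`, `n ≥ 7`; `row_alt`: `RowEH3 (alternatingGroup (Fin n))`.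
-/

set_option autoImplicit false
set_option linter.unusedSectionVars false

namespace Cfsg.Agent.Omega.TwoF.AltRow

open Equiv Equiv.Perm AltCyc AltSplit AltSix AltNat AltPure AltDeg AltKill

universe u w x

section Add

variable {Ω : Type u} [DecidableEq Ω] [Fintype Ω]
variable {V : Type w} [AddCommGroup V] [Two V] [DistribMulAction (alternatingGroup Ω) V]
variable {H : Type x} [Group H] [DistribMulAction H V]
variable {σ : H →* Perm Ω} {ι : alternatingGroup Ω →* H}

theorem three_pow_lt : ∀ m : ℕ, 7 ≤ m → 2 ^ (m + 4) < 3 ^ m := by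
  intro m hm
  induction m, hm using Nat.le_induction with
  | base => norm_num
  | succ m hm ih =>
    have h1 : 2 ^ (m + 1 + 4) = 2 ^ (m + 4) * 2 := by rw [show m + 1 + 4 = (m + 4) + 1 by ring, pow_succ]
    have h2 : 3 ^ (m + 1) = 3 ^ m * 3 := pow_succ _ _
    have h3 : 0 < 3 ^ m := by positivity
    omega

theorem two_elts [Finite V] {N : AddSubgroup V} (hN : Nat.card N ≤ 2) {v₀ : V} (h0 : v₀ ∈ N) (hne : v₀ ≠ 0) :
    ∀ v ∈ N, v = 0 ∨ v = v₀ := by
  intro v hv
  by_contra hn
  push Not at hn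
  have h1 : Nat.card (Fin 3) ≤ Nat.card N := by
    refine Nat.card_le_card_of_injective (![⟨0, N.zero_mem⟩, ⟨v₀, h0⟩, ⟨v, hv⟩] : Fin 3 → N) ?_
    intro i j hij
    have hij' := congrArg Subtype.val hij
    fin_cases i <;> fin_cases j <;> simp at hij' ⊢
    all_goals first
      | exact absurd hij' hne
      | exact absurd hij'.symm hne
      | exact absurd hij' hn.1
      | exact absurd hij'.symm hn.1
      | exact absurd hij' hn.2
      | exact absurd hij'.symm hn.2
  rw [Nat.card_fin] at h1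
  omega

/-- natural type -/
theorem natl_univ [Finite V] (hn : 9 ≤ Fintype.card Ω) (hA : Act V σ ι)
    (hirr : ∀ W : AddSubgroup V, (∀ h : H, ∀ v ∈ W, h • v ∈ W) → W = ⊥ ∨ W = ⊤)
    (h10 : 2 ^ 10 ≤ Nat.card V) (hup : Nat.card V ≤ 2 ^ (2 * (Fintype.card Ω / 2) + 2)) :
    Natl (Finset.univ : Finset Ω) (⊤ : AddSubgroup V) := by
  have hU : (Finset.univ : Finset Ω).card = Fintype.card Ω := Finset.card_univ
  have hM : Inv (Finset.univ : Finset Ω) (⊤ : AddSubgroup V) := inv_univ _ rfl
  have htop : Nat.card (⊤ : AddSubgroup V) = Nat.card V := AddSubgroup.card_top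
  by_cases h9 : Fintype.card Ω = 9
  · rcases nine (hU.trans h9) hM (by rw [htop]; rw [h9] at hup; exact hup) with h | h
    · exact h
    · by_contra hN
      obtain ⟨a, -, b, -, c, -, d, -, e, -, f, -, hD, v, -, hv⟩ := exists_of_not_natl hN
      have heq : ∀ {a b c d e f : Ω}, D3 a b c → D3 d e f → ∀ v : V, F a b c v = F d e f v :=
        fun {a b c d e f} h1 h2 v => h a (Finset.mem_univ _) b (Finset.mem_univ _) c (Finset.mem_univ _) h1 d
          (Finset.mem_univ _) e (Finset.mem_univ _) f (Finset.mem_univ _) h2 v trivial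
      have hW := hirr (cm ⊤ a b c) (by
        intro h v hv
        refine ⟨trivial, ?_⟩
        have h1 := smulF hA h a b c v
        have h2 : F a b c v = v := hv.2
        rw [h2] at h1
        rw [heq hD.1 (hD.1.map (σ h))]
        exact h1.symm)
      rcases hW with hW | hW
      · have h1 := F_mem_cm hM hD.1 (Finset.mem_univ a) (Finset.mem_univ b) (Finset.mem_univ c)
          (v := F d e f v) trivial
        rw [hW, AddSubgroup.mem_bot] at h1
        exact hv h1
      · have hpr : Pr (Finset.univ : Finset Ω) (⊤ : AddSubgroup V) := by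
          intro x _ y _ z _ hD' w _
          rw [heq hD' hD.1]
          have h1 : w ∈ cm (⊤ : AddSubgroup V) a b c := by rw [hW]; trivial
          exact h1.2
        obtain ⟨y, hy⟩ := pure_nine hM hpr (by omega)
        rw [htop] at hy
        rw [h9] at hup
        rw [hy] at h10 hup
        have h1 : 2 < y := by
          by_contra hlt
          have := Nat.pow_le_pow_left (show y ≤ 2 by omega) 8
          omega
        have h2 := Nat.pow_le_pow_left (show 3 ≤ y by omega) 8
        norm_num at hup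
        omega
  · exact natl_of_card (by omega) hM (by rw [htop, hU]; exact hup)

theorem kill_add [Finite V] [Finite H] (hn : 9 ≤ Fintype.card Ω) (hA : Act V σ ι)
    (hirr : ∀ W : AddSubgroup V, (∀ h : H, ∀ v ∈ W, h • v ∈ W) → W = ⊥ ∨ W = ⊤)
    (hnt : ∃ (g : alternatingGroup Ω) (v : V), g • v ≠ v)
    (h10 : 2 ^ 10 ≤ Nat.card V) (hup : Nat.card V ≤ 2 ^ (2 * (Fintype.card Ω / 2) + 2))
    {X : Subgroup H} {v : V} (hX2 : ∀ x ∈ X, x * x = 1) (hXv : ∀ x ∈ X, x • v = v)
    (hXn : ∀ h : H, h • v = v → ∀ x ∈ X, h * x * h⁻¹ ∈ X) (hXi : ∀ x ∈ X, σ x = 1 → x = 1)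
    (hle : Nat.card V ≤ 4 * Nat.card X ^ 2) : False := by
  have hN := natl_univ hn hA hirr h10 hup
  have hU : (Finset.univ : Finset Ω).card = Fintype.card Ω := Finset.card_univ
  have hM : Inv (Finset.univ : Finset Ω) (⊤ : AddSubgroup V) := inv_univ _ rfl
  have htop : Nat.card (⊤ : AddSubgroup V) = Nat.card V := AddSubgroup.card_top
  have hNt : Nt (Finset.univ : Finset Ω) (⊤ : AddSubgroup V) := by
    by_contra h
    obtain ⟨g, w, hgw⟩ := hnt
    exact hgw (not_nt h (sup_univ g) trivial)
  obtain ⟨p, hp, q, hq, r, hr, hD, w, hw, h0⟩ := hNt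
  obtain ⟨v₀, hv₀, hne⟩ := NN_ne (by omega) hM hN hD hp hq hr (hM.F hp hq hr hw) (F_F hD w) h0
  have hc := card_pow_le (by omega) hM hN hD hp hq hr
  rw [htop, hU] at hc
  have h2 : Nat.card (NN (Finset.univ : Finset Ω) (⊤ : AddSubgroup V) p q r) ≤ 2 := by
    by_contra hlt
    have h3 := Nat.pow_le_pow_left (show 3 ≤ Nat.card (NN (Finset.univ : Finset Ω) (⊤ : AddSubgroup V) p q r) by
      omega) (Fintype.card Ω - 2)
    have h4 := three_pow_lt (Fintype.card Ω - 2) (by omega)
    have h5 : 2 ^ (2 * (Fintype.card Ω / 2) + 2) ≤ 2 ^ (Fintype.card Ω - 2 + 4) :=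
      Nat.pow_le_pow_right (by norm_num) (by omega)
    omega
  have hNt1 : Nt1 p q r v₀ := ⟨by omega, hN, hD, hv₀, hne, two_elts h2 hv₀ hne⟩
  have h4 := card_le_four hNt1 hn hA hirr hX2 hXv hXn hXi
  have h5 : Nat.card X ^ 2 ≤ 4 ^ 2 := Nat.pow_le_pow_left h4 2
  omega

end Add

/-! ### The multiplicative form -/

section Mult

open Subgroup

variable {G : Type x} [Group G] {V : Type w} [CommGroup V]

/-- the additive action -/
abbrev actOf (f : G →* MulAut V) : DistribMulAction G (Additive V) where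
  smul g v := Additive.ofMul (f g v.toMul)
  one_smul v := by
    show Additive.ofMul (f 1 v.toMul) = v
    rw [map_one]; rfl
  mul_smul g h v := by
    show Additive.ofMul (f (g * h) v.toMul) = Additive.ofMul (f g (f h v.toMul))
    rw [map_mul]; rfl
  smul_zero g := by
    show Additive.ofMul (f g 1) = 0
    rw [map_one]; rfl
  smul_add g v w := by
    show Additive.ofMul (f g (v.toMul * w.toMul)) = _
    rw [map_mul]; rfl

theorem kill_nine {n : ℕ} (hn : 9 ≤ n) : Kill2.{u} (alternatingGroup (Fin n)) := by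
  intro H V _ _ _ _ φ b L X a π hπ hc
  have := hc.normal
  obtain ⟨ψ, hψi, hψ⟩ := AltRk.exists_psi (n := n) (by omega)
  have hinj : Function.Injective π := AltCover.injective_of hπ.surj hπ.cent hπ.odd
    (by rw [Fintype.card_fin]; omega) hπ.perf
  let e : L ≃* alternatingGroup (Fin n) := MulEquiv.ofBijective π ⟨hinj, hπ.surj⟩
  let ι : alternatingGroup (Fin n) →* H := L.subtype.comp e.symm.toMonoidHom
  let σ : H →* Perm (Fin n) := ψ.comp ((MulAut.congr e).toMonoidHom.comp MulAut.conjNormal)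
  let iH : DistribMulAction H (Additive V) := actOf φ
  let iA : DistribMulAction (alternatingGroup (Fin n)) (Additive V) := actOf (φ.comp ι)
  have : Two (Additive V) := ⟨fun v => by
    have := hc.two v.toMul
    rw [pow_two] at this
    exact this⟩
  have hσ : ∀ (h : H) (g : alternatingGroup (Fin n)),
      (MulAut.conjNormal (σ h) g : alternatingGroup (Fin n)) = e (MulAut.conjNormal h (e.symm g)) := by
    intro h g
    apply Subtype.ext
    rw [MulAut.conjNormal_apply]
    exact (hψ ((MulAut.congr e) (MulAut.conjNormal h)) g).symm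
  have hι : ∀ g, ((e.symm g : L) : H) = ι g := fun g => rfl
  have hA : Act (Additive V) σ ι := by
    refine ⟨?_, ?_, ?_⟩
    · intro h g v
      show Additive.ofMul (φ h (φ (ι g) v.toMul)) =
        Additive.ofMul (φ (ι (MulAut.conjNormal (σ h) g)) (φ h v.toMul))
      congr 1
      rw [← MulAut.mul_apply, ← MulAut.mul_apply, ← map_mul, ← map_mul]
      congr 2
      rw [hσ, ← hι (e (MulAut.conjNormal h (e.symm g))), e.symm_apply_apply, MulAut.conjNormal_apply, hι]
      group
    · intro g v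
      rfl
    · intro g
      obtain ⟨m, rfl⟩ : ∃ m, n = m + 2 := ⟨n - 2, by omega⟩
      refine Cfsg.Agent.StandardComponent.AltAut.conj_unique (m := m) (by omega) ?_
      intro y
      have h1 := congrArg Subtype.val (hσ (ι g) y)
      rw [MulAut.conjNormal_apply] at h1
      rw [h1]
      have h2 : MulAut.conjNormal (ι g) (e.symm y) = e.symm (g * y * g⁻¹) := by
        apply Subtype.ext
        rw [MulAut.conjNormal_apply, ← hι, map_mul, map_mul, map_inv]
        rfl
      rw [h2, e.apply_symm_apply]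
      rfl
  have hirr : ∀ W : AddSubgroup (Additive V), (∀ h : H, ∀ v ∈ W, h • v ∈ W) → W = ⊥ ∨ W = ⊤ := by
    intro W hW
    let W' : Subgroup V :=
      { carrier := {x | Additive.ofMul x ∈ W}
        one_mem' := W.zero_mem
        mul_mem' := fun {x y} hx hy => W.add_mem hx hy
        inv_mem' := fun {x} hx => W.neg_mem hx }
    rcases hc.irr W' (fun h x hx => hW h _ hx) with h | h
    · left
      rw [eq_bot_iff]
      intro v hv
      have h1 : v.toMul ∈ W' := hv
      rw [h] at h1
      exact h1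
    · right
      rw [eq_top_iff]
      intro v _
      have h1 : v.toMul ∈ W' := by rw [h]; trivial
      exact h1
  have hL : L ≠ ⊥ := by
    rintro rfl
    have : Nontrivial (alternatingGroup (Fin n)) := by
      have : Nontrivial (Fin n) := Fin.nontrivial_iff_two_le.mpr (by omega)
      exact alternatingGroup.nontrivial_of_three_le_card (by rw [Nat.card_eq_fintype_card, Fintype.card_fin]; omega)
    obtain ⟨k, hk⟩ := exists_ne (1 : alternatingGroup (Fin n))
    obtain ⟨l, rfl⟩ := hπ.surj k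
    exact hk (by rw [Subsingleton.elim l 1, map_one])
  have hnt : ∃ (g : alternatingGroup (Fin n)) (v : Additive V), g • v ≠ v := by
    by_contra h
    push Not at h
    apply hc.ne_one hL
    ext l v
    have h1 : Additive.ofMul (φ (ι (e l)) v) = Additive.ofMul v := h (e l) (Additive.ofMul v)
    rw [← hι, e.symm_apply_apply] at h1
    exact h1
  have hnt2 : Nontrivial (alternatingGroup (Fin n)) := by
    obtain ⟨g, v, hgv⟩ := hnt
    exact ⟨g, 1, fun e => hgv (by rw [e, one_smul])⟩
  have hup : Nat.card V ≤ 2 ^ (2 * (n / 2) + 2) :=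
    (Conf2.bounds (n := 0) (r := n / 2) (fun _ _ _ _ _ _ _ _ _ _ _ _ _ _ => Nat.card_pos) (AltRk.rk_alt (by omega))
      (alternatingGroup.center_eq_bot (by rw [Nat.card_eq_fintype_card, Fintype.card_fin]; omega)) hnt2 hπ hc).2.2
  have hcV : Nat.card (Additive V) = Nat.card V := rfl
  refine kill_add (V := Additive V) (by rw [Fintype.card_fin]; exact hn) hA hirr hnt ?_ ?_ (X := X)
    (v := Additive.ofMul a) (fun x hx => by rw [← pow_two]; exact hc.X_two x hx) (fun x hx => hc.X_fix x hx)
    (fun h hh x hx => hc.X_norm h hh x hx) ?_ hc.card_le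
  · exact le_trans (by norm_num) hc.twelve
  · rw [Fintype.card_fin]; exact hup
  · intro x hx hx1
    have h1 : (MulAut.congr e) (MulAut.conjNormal x) = 1 := hψi (by rw [map_one]; exact hx1)
    have h2 : (MulAut.conjNormal x : MulAut L) = 1 := (MulAut.congr e).injective (by rw [h1, map_one])
    have h3 : x ∈ X ⊓ centralizer (L : Set H) := by
      refine ⟨hx, ?_⟩
      show x ∈ centralizer (L : Set H)
      rw [mem_centralizer_iff]
      intro l hl
      have h4 := congrArg Subtype.val (DFunLike.congr_fun h2 (⟨l, hl⟩ : L))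
      rw [MulAut.conjNormal_apply] at h4
      have h5 : x * l * x⁻¹ = l := h4
      rw [mul_inv_eq_iff_eq_mul] at h5
      exact h5.symm
    rw [hc.cent] at h3
    exact mem_bot.mp h3

end Mult

end Cfsg.Agent.Omega.TwoF.AltRow

end
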