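import Cfsg.Agent.Mrg.Omega.TwoF.RowPsl
import Cfsg.Agent.Mrg.Omega.Lie.HeisF
import Cfsg.Agent.Mrg.Omega.TwoF.Bridge
import Cfsg.Agent.ClassicalGeometry.SympAutCentral
import Cfsg.Agent.Omega.KFacts
import Mathlib
import Cfsg.Agent.Omega.EH3.Row
import Cfsg.Agent.StandardComponent.AltAut
import Cfsg.Agent.StdAlt.Six.AutLemmas
import Cfsg.Agent.Mrg.Omega.NOThree.NoOver
import Cfsg.Agent.Lib.SylowNormalInf
import Cfsg.Agent.Lib.NormalAbelian
import Mathlib.LinearAlgebra.Vandermonde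
import Cfsg.Agent.Omega.TwoF.Defs

section


/-!
# TABLE 2F: the row `PSp_2m(q)`, `q` odd, `m ≥ 2`

`LB` (helper938): `ord_p(2) q^(m-1)`; `RK`: `2m - 1` (4 for `m = 2`), plus one if `q` is a square.
-/

set_option autoImplicit false

namespace Cfsg.Agent.Omega.TwoF.RowPSp

open Cfsg Cfsg.Agent.Omega.TwoF.RkLin Cfsg.Agent.Omega.TwoF.RkPSL Cfsg.Agent.Omega.TwoF.RkPSp
open Cfsg.Agent.ClassicalGeometry.SympSiegel
open Cfsg.Agent.ClassicalGeometry.SympAutCentral
open Cfsg.Agent.ClassicalGeometry.SympBasic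

universe u v

theorem two_le_order {p : ℕ} (hp : p.Prime) (hp2 : p ≠ 2) : 2 ≤ orderOf (2 : ZMod p) := by
  haveI : Fact p.Prime := ⟨hp⟩
  have h2 : (2 : ZMod p) ≠ 0 := by
    intro h0
    have h1 : ((2 : ℕ) : ZMod p) = 0 := by exact_mod_cast h0
    rw [ZMod.natCast_eq_zero_iff] at h1
    exact hp2 ((Nat.prime_dvd_prime_iff_eq hp Nat.prime_two).1 h1)
  have h4 : 0 < orderOf (2 : ZMod p) := by
    rw [orderOf_pos_iff, isOfFinOrder_iff_pow_eq_one]
    exact ⟨p - 1, by have := hp.two_le; omega, ZMod.pow_card_sub_one_eq_one h2⟩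
  have h5 : orderOf (2 : ZMod p) ≠ 1 := by
    intro h
    rw [orderOf_eq_one_iff] at h
    have h6 : (1 : ZMod p) = 0 := by
      have : (2 : ZMod p) = 1 + 1 := by norm_num
      rw [this] at h
      simpa using h
    exact one_ne_zero h6
  omega

variable {F : Type v} [Field F] {m : ℕ}

theorem center_eq_bot (hm : 2 ≤ m) : Subgroup.center (PSp m F) = ⊥ := by
  rw [eq_bot_iff]
  intro x hx
  obtain ⟨A, rfl⟩ := QuotientGroup.mk_surjective x
  have h1 : ∀ v : Fin m ⊕ Fin m → F, ∃ a : F, A • v = a • v := by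
    intro v
    by_cases hv : v = 0
    · exact ⟨0, by rw [hv, smul_zero', smul_zero]⟩
    · obtain ⟨a, -, ha⟩ := smul_eq_of_commute hm hv (one_ne_zero (α := F)) (z := A)
        (Subgroup.mem_center_iff.1 hx _)
      exact ⟨a, ha⟩
  obtain ⟨b, -, hb⟩ := exists_scalar h1
  rw [Subgroup.mem_bot, QuotientGroup.eq_one_iff]
  exact mem_center_of_scalar hb

/-- in a field with more than `p` elements there are at least `p²` -/
theorem card_cases [Fintype F] {p : ℕ} [CharP F p] (hp2 : p ≠ 2) :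
    (∀ σ : F ≃+* F, σ = 1) ∨ 9 ≤ Fintype.card F := by
  obtain ⟨n, hp, hn⟩ := FiniteField.card F p
  have h3 : 3 ≤ p := by
    have := hp.two_le
    omega
  by_cases h1 : (n : ℕ) = 1
  · left
    intro σ
    have hsurj : Function.Surjective (Nat.cast : ℕ → F) := by
      have : Fact p.Prime := ⟨hp⟩
      have hinj : Function.Injective (fun i : Fin p => ((i : ℕ) : F)) := by
        intro i j hij
        exact Fin.ext (CharP.natCast_injOn_Iio F p i.2 j.2 hij)
      have hcard : Fintype.card (Fin p) = Fintype.card F := by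
        rw [hn, h1, pow_one, Fintype.card_fin]
      intro x
      obtain ⟨i, hi⟩ := ((Fintype.bijective_iff_injective_and_card _).2 ⟨hinj, hcard⟩).2 x
      exact ⟨i, hi⟩
    ext x
    obtain ⟨k, rfl⟩ := hsurj x
    rw [map_natCast]
    rfl
  · right
    have h4 : 2 ≤ (n : ℕ) := by
      have := n.pos
      omega
    rw [hn]
    calc 9 = 3 ^ 2 := by norm_num
      _ ≤ p ^ 2 := Nat.pow_le_pow_left h3 2
      _ ≤ p ^ (n : ℕ) := Nat.pow_le_pow_right (by omega) h4

/-- **the row `PSp_2m(q)`**, `q` odd. -/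
theorem dead2 {F : Type v} [Field F] [Fintype F] {p : ℕ} [Fact p.Prime] [CharP F p] (hp2 : p ≠ 2) {m : ℕ}
    (hm : 2 ≤ m) : Dead2.{u, v} (PSp m F) := by
  have hp : p.Prime := Fact.out
  have h2 : (2 : F) ≠ 0 := by
    intro h
    have h3 : ((2 : ℕ) : F) = 0 := by exact_mod_cast h
    rw [CharP.cast_eq_zero_iff F p] at h3
    exact hp2 ((Nat.prime_dvd_prime_iff_eq hp Nat.prime_two).1 h3)
  have hlb := LB.of_heis (PspOdd.lb.{v, u, u} (F := F) (p := p) hp2 hm)
  have ho := two_le_order hp hp2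
  have h3 : 3 ≤ Nat.card F := by
    rw [Nat.card_eq_fintype_card]
    obtain ⟨n, -, hn⟩ := FiniteField.card F p
    rw [hn]
    have h4 : p ^ 1 ≤ p ^ (n : ℕ) := Nat.pow_le_pow_right hp.pos n.pos
    have := hp.two_le
    rw [pow_one] at h4
    omega
  rcases Nat.lt_or_ge m 3 with h4 | h4
  · obtain rfl : m = 2 := by omega
    rcases card_cases (F := F) (p := p) hp2 with h5 | h5
    · have h6 := rkAut_odd h2 (le_refl 2) (fun σ _ => h5 σ)
      exact Dead2.of_rk (RK.of_mul_self h6)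
    · refine Dead2.of_lb hlb (RK.of_mul_self (rkAut h2 (le_refl 2))) ?_
      rw [← Nat.card_eq_fintype_card] at h5
      have e : rk (2 + 2) = 4 := by decide
      rw [e, show 2 - 1 = 1 from rfl, pow_one]
      nlinarith
  · refine Dead2.of_lb hlb (RK.of_mul_self (rkAut h2 hm)) ?_
    have e : rk (m + m) = m + m - 1 := by
      rw [rk, if_neg (by omega)]
    rw [e]
    have h6 : ∀ k, 2 * k + 9 ≤ 3 ^ (k + 2) := by
      intro k
      induction k with
      | zero => norm_num
      | succ k ih =>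
        rw [show k + 1 + 2 = (k + 2) + 1 from rfl, pow_succ]
        omega
    have h7 : 3 ^ (m - 1) ≤ Nat.card F ^ (m - 1) := Nat.pow_le_pow_left h3 _
    have h8 := h6 (m - 3)
    rw [show m - 3 + 2 = m - 1 by omega] at h8
    have h9 : 2 * 3 ^ (m - 1) ≤ orderOf (2 : ZMod p) * Nat.card F ^ (m - 1) := Nat.mul_le_mul ho h7
    omega

theorem kill2 {F : Type v} [Field F] [Fintype F] {p : ℕ} [Fact p.Prime] [CharP F p] (hp2 : p ≠ 2) {m : ℕ}
    (hm : 2 ≤ m) : Kill2.{u, v} (PSp m F) := by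
  refine (dead2 (p := p) hp2 hm).kill (center_eq_bot hm) ?_
  by_contra hnt
  rw [not_nontrivial_iff_subsingleton] at hnt
  have h1 : (QuotientGroup.mk (transv (E F ⟨0, by omega⟩) 1) : PSp m F) = QuotientGroup.mk 1 :=
    Subsingleton.elim _ _
  have h3 : transv (0 : Fin m ⊕ Fin m → F) (1 : F) = 1 := by
    apply ext_smul
    intro v
    rw [transv_smul, smul_zero, add_zero, one_smul]
  rw [← h3] at h1
  obtain ⟨a, ha, -⟩ := mk_transv_eq hm (E_ne_zero _) (one_ne_zero) h1
  rw [smul_zero] at ha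
  exact E_ne_zero _ ha

theorem kill (K : Type u) [Group K] (h : KFacts.OddChar @IsPSpChar K) : Kill2.{u} K := by
  obtain ⟨p, hp, hp2, F, _, _, _, m, hm, -, ⟨e⟩⟩ := h
  have : Fact p.Prime := ⟨hp⟩
  exact (kill2.{u, 0} (F := F) (p := p) hp2 hm).equiv e

/-- **the field `psp` of `KFacts.Rows2`.** -/
theorem row (K : Type u) [Group K] (h : KFacts.OddChar @IsPSpChar K ∧ ¬ IsLieTypeChar 2 K) : EH3.RowEH3.{u} K :=
  EH3.RowEH3.of_kill (kill K h.1)

end Cfsg.Agent.Omega.TwoF.RowPSp

end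

section


/-!
# The 2-rank of the symmetric groups (helper416)

`card_sq_le` : an elementary abelian 2-group `A` acting faithfully on a finite set `Ω` has `|A|² ≤ 2 ^ |Ω|`.
-/

set_option autoImplicit false

namespace Cfsg.Agent.Omega.TwoF.PermRank

open MulAction

universe u v

theorem two_mul_le_two_pow {k : ℕ} (hk : 1 ≤ k) : 2 * k ≤ 2 ^ k := by
  induction k, hk using Nat.le_induction with
  | base => norm_num
  | succ n hn ih =>
    rw [pow_succ]
    have : 2 ≤ 2 ^ n := by
      calc 2 = 2 ^ 1 := (pow_one 2).symm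
        _ ≤ 2 ^ n := Nat.pow_le_pow_right (by norm_num) hn
    omega

theorem aux : ∀ (n : ℕ) (A : Type u) [Group A] [Finite A] (_ : ∀ a : A, a * a = 1) (Ω : Type v) [Finite Ω]
    [MulAction A Ω] [FaithfulSMul A Ω], Nat.card Ω = n → Nat.card A ^ 2 ≤ 2 ^ n := by
  intro n
  induction n using Nat.strong_induction_on with
  | _ n ih =>
    intro A _ _ h2 Ω _ _ _ hn
    have hcomm : ∀ a b : A, a * b = b * a := by
      intro a b
      have h1 : (a * b)⁻¹ = a * b := inv_eq_of_mul_eq_one_left (h2 _)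
      have ha : a⁻¹ = a := inv_eq_of_mul_eq_one_left (h2 _)
      have hb : b⁻¹ = b := inv_eq_of_mul_eq_one_left (h2 _)
      rw [mul_inv_rev, ha, hb] at h1
      exact h1.symm
    by_cases htriv : ∀ (a : A) (x : Ω), a • x = x
    · have h1 : Subsingleton A := ⟨fun a b => FaithfulSMul.eq_of_smul_eq_smul fun x : Ω => by rw [htriv, htriv]⟩
      rw [Nat.card_unique, one_pow]
      exact Nat.one_le_two_pow
    · push Not at htriv
      obtain ⟨a₀, x, hx⟩ := htriv
      let B : Subgroup A := stabilizer A x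
      let O : Set Ω := orbit A x
      -- the stabiliser fixes the orbit
      have hBO : ∀ b ∈ B, ∀ y ∈ O, b • y = y := by
        rintro b hb _ ⟨a, rfl⟩
        have hb' : b • x = x := hb
        change b • (a • x) = a • x
        rw [← mul_smul, hcomm, mul_smul, hb']
      -- the action of the stabiliser on the complement
      let Ω' : Type v := {y : Ω // y ∉ O}
      have hinv : ∀ (a : A) (y : Ω), y ∉ O → a • y ∉ O := by
        intro a y hy h
        apply hy
        have h3 : a⁻¹ • (a • y) ∈ O := by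
          obtain ⟨c, hc⟩ := h
          exact ⟨a⁻¹ * c, by
            change (a⁻¹ * c) • x = _
            rw [mul_smul]
            exact congrArg (fun w => a⁻¹ • w) hc⟩
        rwa [inv_smul_smul] at h3
      let act : MulAction B Ω' :=
        { smul := fun b y => ⟨(b : A) • (y : Ω), hinv b y y.2⟩
          one_smul := fun y => Subtype.ext (one_smul A (y : Ω))
          mul_smul := fun b c y => Subtype.ext (mul_smul (b : A) (c : A) (y : Ω)) }
      have hf : FaithfulSMul B Ω' := ⟨by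
        intro b c h
        apply Subtype.ext
        refine FaithfulSMul.eq_of_smul_eq_smul fun y : Ω => ?_
        by_cases hy : y ∈ O
        · rw [hBO b b.2 y hy, hBO c c.2 y hy]
        · exact congrArg Subtype.val (h ⟨y, hy⟩)⟩
      have hcO : Nat.card O = B.index := Nat.card_congr (orbitEquivQuotientStabilizer A x)
      have hsum : Nat.card O + Nat.card Ω' = n := by
        rw [← hn]
        classical
        have := Fintype.ofFinite Ω
        have e : Nat.card {y : Ω // y ∈ O} + Nat.card {y : Ω // ¬ y ∈ O} = Nat.card Ω := by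
          rw [← Nat.card_sum]
          exact Nat.card_congr (Equiv.sumCompl (fun y => y ∈ O))
        exact e
      -- the index is a power of 2
      have hp : IsPGroup 2 A := fun a => ⟨1, by rw [pow_one, pow_two]; exact h2 a⟩
      have : Fact (Nat.Prime 2) := ⟨Nat.prime_two⟩
      obtain ⟨k, hk⟩ := hp.index B
      have hk1 : 1 ≤ k := by
        by_contra hcon
        have hk0 : k = 0 := by omega
        rw [hk0, pow_zero, Subgroup.index_eq_one] at hk
        exact hx (by
          have : a₀ ∈ B := hk ▸ Subgroup.mem_top _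
          exact this)
      have h3 := two_mul_le_two_pow hk1
      have hlt : Nat.card Ω' < n := by
        rw [hcO, hk] at hsum
        have : 0 < 2 ^ k := by positivity
        omega
      have h4 := @ih (Nat.card Ω') hlt B _ _ (fun b => Subtype.ext (h2 b)) Ω' _ act hf rfl
      have h5 := B.card_mul_index
      rw [hk] at h5
      rw [← h5, mul_pow, ← pow_mul]
      rw [hcO, hk] at hsum
      calc Nat.card B ^ 2 * 2 ^ (k * 2) ≤ 2 ^ Nat.card Ω' * 2 ^ (k * 2) := Nat.mul_le_mul_right _ h4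
        _ = 2 ^ (Nat.card Ω' + k * 2) := (pow_add _ _ _).symm
        _ ≤ 2 ^ n := Nat.pow_le_pow_right (by norm_num) (by omega)

/-- **The 2-rank of the symmetric group**: `|A|² ≤ 2 ^ |Ω|`. -/
theorem card_sq_le {A : Type u} [Group A] [Finite A] (h2 : ∀ a : A, a * a = 1) {Ω : Type v} [Finite Ω] [MulAction A Ω]
    [FaithfulSMul A Ω] : Nat.card A ^ 2 ≤ 2 ^ Nat.card Ω := aux _ A h2 Ω rfl

theorem le_of_sq_le {c n : ℕ} (hc : ∃ k, c = 2 ^ k) (h : c ^ 2 ≤ 2 ^ n) : c ≤ 2 ^ (n / 2) := by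
  obtain ⟨k, rfl⟩ := hc
  rw [← pow_mul] at h
  have h1 : k * 2 ≤ n := (Nat.pow_le_pow_iff_right (by norm_num)).1 h
  exact Nat.pow_le_pow_right (by norm_num) (by omega)

theorem card_pow_two {A : Type u} [Group A] [Finite A] (h2 : ∀ a : A, a * a = 1) : ∃ k, Nat.card A = 2 ^ k := by
  have : Fact (Nat.Prime 2) := ⟨Nat.prime_two⟩
  have hp : IsPGroup 2 A := fun a => ⟨1, by rw [pow_one, pow_two]; exact h2 a⟩
  exact IsPGroup.iff_card.1 hp

/-- elementary abelian 2-subgroups of `S_n` have order at most `2 ^ (n / 2)` -/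
theorem card_le_perm {Ω : Type v} [Finite Ω] (A : Subgroup (Equiv.Perm Ω)) (h2 : ∀ a ∈ A, a * a = 1) :
    Nat.card A ≤ 2 ^ (Nat.card Ω / 2) := by
  have h : ∀ a : A, a * a = 1 := fun a => Subtype.ext (h2 a a.2)
  exact le_of_sq_le (card_pow_two h) (card_sq_le (Ω := Ω) h)

/-- elementary abelian 2-subgroups of `A_n` -/
theorem card_le_alt {n : ℕ} (A : Subgroup (alternatingGroup (Fin n))) (h2 : ∀ a ∈ A, a * a = 1) :
    Nat.card A ≤ 2 ^ (n / 2) := by
  have h1 := card_le_perm (A.map (alternatingGroup (Fin n)).subtype) (by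
    rintro _ ⟨a, ha, rfl⟩
    rw [← map_mul, h2 a ha, map_one])
  rw [Nat.card_eq_fintype_card (α := Fin n), Fintype.card_fin] at h1
  rwa [Nat.card_congr (A.equivMapOfInjective _ (alternatingGroup (Fin n)).subtype_injective).toEquiv]

end Cfsg.Agent.Omega.TwoF.PermRank

end

section


/-!
# The row `A_n` (helper974): the 2-rank of `Aut(A_n)` and the rows `n = 5, 6, 7, 9`

* `rk` : `RK A_n (n / 2)` for `n ≥ 5`, `n ≠ 6`; `rk_six` : `RK A_6 4`;
* `row_small` : `RowEH3 A_n`, `5 ≤ n ≤ 9`.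
-/

set_option autoImplicit false
set_option maxRecDepth 100000

namespace Cfsg.Agent.Omega.AltRow

open Equiv Cfsg.Agent.Omega.TwoF Cfsg.Agent.Omega.EH3
open Cfsg.Agent.StandardComponent.AltAut Cfsg.Agent.SporadicRecognition.AltCover

universe u

/-- the 2-rank of `S_n` -/
theorem perm_rk {n : ℕ} {A : Subgroup (Perm (Fin n))} (hA : ∀ x ∈ A, x ^ 2 = 1) :
    Nat.card A ≤ 2 ^ (n / 2) := by
  have h2 : ∀ a : A, a * a = 1 := fun a => Subtype.ext (by
    have := hA a a.2
    rw [pow_two] at this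
    exact this)
  have hf : FaithfulSMul A (Fin n) := ⟨fun {a b} h => Subtype.ext (Equiv.ext fun x => h x)⟩
  have h1 := PermRank.card_sq_le h2 (Ω := Fin n)
  have h3 : Nat.card (Fin n) = n := by rw [Nat.card_eq_fintype_card, Fintype.card_fin]
  rw [h3] at h1
  exact PermRank.le_of_sq_le (PermRank.card_pow_two h2) h1

theorem rk_of_hom {n : ℕ} (ψ : MulAut (alternatingGroup (Fin n)) →* Perm (Fin n))
    (hψ : ∀ (e : MulAut (alternatingGroup (Fin n))) (x : alternatingGroup (Fin n)),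
      ((e x : alternatingGroup (Fin n)) : Perm (Fin n)) = ψ e * x * (ψ e)⁻¹) :
    RK (alternatingGroup (Fin n)) (n / 2) := by
  refine RK.of_injective ψ ?_ fun A hA => perm_rk hA
  rw [injective_iff_map_eq_one]
  intro e he
  ext x : 1
  apply Subtype.ext
  rw [hψ, he]
  show 1 * (x : Perm (Fin n)) * 1⁻¹ = _
  rw [inv_one, mul_one, one_mul]
  rfl

theorem five_three : ∀ x : Perm (Fin 5), x * x * x = 1 → x ≠ 1 → x.support.card = 3 := by
  decide +kernel

theorem exists_autHom_five : ∃ ψ : MulAut (alternatingGroup (Fin 5)) →* Perm (Fin 5),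
    ∀ (e : MulAut (alternatingGroup (Fin 5))) (x : alternatingGroup (Fin 5)),
      ((e x : alternatingGroup (Fin 5)) : Perm (Fin 5)) = ψ e * x * (ψ e)⁻¹ := by
  have h : ∀ e : MulAut (alternatingGroup (Fin 5)), ∃ σ : Perm (Fin 5),
      ∀ x : alternatingGroup (Fin 5), (e x : Perm (Fin 5)) = σ * x * σ⁻¹ := by
    intro e
    apply Cfsg.Agent.StdAlt.Six.exists_conj_of (m := 3) (by norm_num) e
    intro i hi
    have h1 : ((cy 3 i hi : alternatingGroup (Fin 5)) : Perm (Fin 5)).IsThreeCycle :=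
      isThreeCycle_cyc hi
    have h2 : (cy 3 i hi : alternatingGroup (Fin 5)) * cy 3 i hi * cy 3 i hi = 1 := by
      apply Subtype.ext
      have := cube_eq_one h1
      rw [pow_succ, pow_two] at this
      exact this
    have h3 : (cy 3 i hi : alternatingGroup (Fin 5)) ≠ 1 := by
      intro h4
      rw [h4] at h1
      have := h1.card_support
      simp at this
    apply card_support_eq_three_iff.1
    apply five_three
    · have := congrArg (fun x : alternatingGroup (Fin 5) => (x : Perm (Fin 5))) (congrArg e h2)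
      rw [map_mul, map_mul, map_one] at this
      exact this
    · intro h4
      apply h3
      apply e.injective
      rw [map_one]
      exact Subtype.ext h4
  choose f hf using h
  refine ⟨MonoidHom.mk' f fun a b => ?_, hf⟩
  apply conj_unique (m := 3) (by norm_num)
  intro x
  rw [← hf (a * b) x, MulAut.mul_apply, hf a, hf b]
  group

theorem rk {n : ℕ} (h5 : 5 ≤ n) (h6 : n ≠ 6) : RK (alternatingGroup (Fin n)) (n / 2) := by
  by_cases h7 : 7 ≤ n
  · obtain ⟨ψ, hψ⟩ := exists_autHom n h7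
    exact rk_of_hom ψ hψ
  · obtain rfl : n = 5 := by omega
    obtain ⟨ψ, hψ⟩ := exists_autHom_five
    exact rk_of_hom ψ hψ

theorem rk_six : RK (alternatingGroup (Fin 6)) 4 := by
  intro A hA
  let N : Subgroup (MulAut (alternatingGroup (Fin 6))) :=
    { carrier := {α | Cfsg.Agent.StdAlt.Six.NS α}
      one_mem' := ⟨1, fun x => by rw [inv_one, mul_one, one_mul]; rfl⟩
      mul_mem' := fun ha hb => Cfsg.Agent.StdAlt.Six.NS.mul ha hb
      inv_mem' := fun ha => Cfsg.Agent.StdAlt.Six.NS.inv ha }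
  have hN : ∀ α, α ∈ N ↔ Cfsg.Agent.StdAlt.Six.NS α := fun _ => Iff.rfl
  -- `A ∩ N`
  have h1 : Nat.card (A ⊓ N : Subgroup _) ≤ 2 ^ 3 := by
    have hf : ∀ α : (A ⊓ N : Subgroup (MulAut (alternatingGroup (Fin 6)))), ∃ σ : Perm (Fin 6),
        ∀ x : alternatingGroup (Fin 6), ((α : MulAut (alternatingGroup (Fin 6))) x : Perm (Fin 6)) =
          σ * x * σ⁻¹ := fun α => (Subgroup.mem_inf.1 α.2).2
    choose f hf using hf
    let F : (A ⊓ N : Subgroup (MulAut (alternatingGroup (Fin 6)))) →* Perm (Fin 6) :=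
      MonoidHom.mk' f fun a b => by
        apply conj_unique (m := 4) (by norm_num)
        intro x
        rw [← hf (a * b) x, Subgroup.coe_mul, MulAut.mul_apply, hf a, hf b]
        group
    have hF : Function.Injective F := by
      rw [injective_iff_map_eq_one]
      intro e he
      apply Subtype.ext
      ext x : 1
      apply Subtype.ext
      have h2 : f e = 1 := he
      rw [hf, h2, inv_one, mul_one, one_mul]
      rfl
    have h2 := perm_rk (n := 6) (A := F.range) (by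
      rintro _ ⟨x, rfl⟩
      rw [← map_pow]
      have h3 : x ^ 2 = 1 := Subtype.ext (hA x (Subgroup.mem_inf.1 x.2).1)
      rw [h3, map_one])
    rwa [← Nat.card_congr (MonoidHom.ofInjective hF).toEquiv] at h2
  by_cases h2 : A ≤ N
  · rw [inf_eq_left.2 h2] at h1
    exact h1.trans (by norm_num)
  · obtain ⟨α, hα, hαN⟩ := Set.not_subset.1 h2
    -- `A = (A ∩ N) ∪ α (A ∩ N)`
    let g : (A ⊓ N : Subgroup (MulAut (alternatingGroup (Fin 6)))) × Bool → A := fun x =>
      if x.2 then ⟨x.1, (Subgroup.mem_inf.1 x.1.2).1⟩ else ⟨α * x.1, A.mul_mem hα (Subgroup.mem_inf.1 x.1.2).1⟩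
    have hg : Function.Surjective g := by
      rintro ⟨β, hβ⟩
      by_cases h3 : β ∈ N
      · exact ⟨⟨⟨β, Subgroup.mem_inf.2 ⟨hβ, h3⟩⟩, true⟩, rfl⟩
      · have h4 : α⁻¹ * β ∈ N := Cfsg.Agent.StdAlt.Six.NS.mul_of_not
          (fun h => hαN (by have := N.inv_mem h; rwa [inv_inv] at this)) h3
        refine ⟨⟨⟨α⁻¹ * β, Subgroup.mem_inf.2 ⟨A.mul_mem (A.inv_mem hα) hβ, h4⟩⟩, false⟩, ?_⟩
        apply Subtype.ext
        show α * (α⁻¹ * β) = β
        group
    have h3 := Nat.card_le_card_of_surjective g hg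
    rw [Nat.card_prod, Nat.card_eq_fintype_card (α := Bool), Fintype.card_bool] at h3
    omega

theorem center_bot {n : ℕ} (h5 : 5 ≤ n) : Subgroup.center (alternatingGroup (Fin n)) = ⊥ :=
  alternatingGroup.center_eq_bot (by rw [Nat.card_eq_fintype_card, Fintype.card_fin]; omega)

/-- the rows `5 ≤ n ≤ 9` -/
theorem row_small {n : ℕ} (h5 : 5 ≤ n) (h9 : n ≤ 9) : RowEH3.{u} (alternatingGroup (Fin n)) := by
  have : IsSimpleGroup (alternatingGroup (Fin n)) :=
    alternatingGroup.isSimpleGroup (by rw [Nat.card_eq_fintype_card, Fintype.card_fin]; exact h5)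
  by_cases h6 : n = 6
  · subst h6
    exact RowEH3.of_rk (center_bot h5) rk_six
  · exact RowEH3.of_rk (center_bot h5) ((rk h5 h6).mono (by omega))

end Cfsg.Agent.Omega.AltRow

end

section


/-!
# (ML), the K-list end: the rows `A₅` and `A₆` (helper482)

* `card_le_of_rk` : `|A| ≤ 2 ^ a` if `RK S a`; `deadG_of_rk` : the row of the groups with `RK S 2`; `deadG_five`;
* `deadG_six` : the row `A₆`, including all extensions inside `Aut(A₆)`.
-/

set_option autoImplicit false

namespace Cfsg.Agent.Omega.ML.AltSix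

open Subgroup Equiv Cfsg Cfsg.Agent.ZN Cfsg.Agent.Omega.ML.Rows Cfsg.Agent.StdAlt.Six
open Cfsg.Agent.MinSimple.VModule (o2_isPGroup o2_le le_normalizer_o2 o2_le_of_sylow)

universe u

section general

variable {X : Type u} [Group X] {S T A : Subgroup X}

theorem le_T (h : AS S T A) : A ≤ T := (h.low T le_rfl h.ne_top).trans (o2_le T)

/-- the action on a normal subgroup, transported -/
def act {K : Type*} [Group K] (S : Subgroup X) [S.Normal] (e : S ≃* K) : X →* MulAut K :=
  (MulAut.congr e).toMonoidHom.comp (MulAut.conjNormal (H := S))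

/-- the embedding of `K` with image `S` -/
def io {K : Type*} [Group K] (S : Subgroup X) (e : S ≃* K) : K →* X := S.subtype.comp e.symm.toMonoidHom

theorem io_mem {K : Type*} [Group K] (e : S ≃* K) (x : K) : io S e x ∈ S := (e.symm x).2

theorem io_inj {K : Type*} [Group K] (e : S ≃* K) : Function.Injective (io S e) :=
  S.subtype_injective.comp e.symm.injective

theorem io_surj {K : Type*} [Group K] (e : S ≃* K) {s : X} (hs : s ∈ S) : ∃ x, io S e x = s :=
  ⟨e ⟨s, hs⟩, by simp [io]⟩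

theorem act_io {K : Type*} [Group K] [S.Normal] (e : S ≃* K) (g : X) (x : K) :
    g * io S e x * g⁻¹ = io S e (act S e g x) := by
  simp [io, act, MulAut.congr, MulAut.conjNormal_apply]

theorem act_inj {K : Type*} [Group K] [S.Normal] (e : S ≃* K) (hC : centralizer (S : Set X) = ⊥) :
    Function.Injective (act S e) := by
  rw [injective_iff_map_eq_one]
  intro g hg
  have h1 : g ∈ centralizer (S : Set X) := by
    refine mem_centralizer_iff.2 fun s hs => ?_
    obtain ⟨x, rfl⟩ := io_surj e hs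
    have h2 := act_io e g x
    rw [hg, MulAut.one_apply] at h2
    exact (mul_inv_eq_iff_eq_mul.1 h2).symm
  rw [hC] at h1
  exact mem_bot.1 h1

theorem act_of_io {K : Type*} [Group K] [S.Normal] (e : S ≃* K) (u : K) : act S e (io S e u) = MulAut.conj u := by
  ext x
  apply io_inj e
  rw [← act_io, MulAut.conj_apply, map_mul, map_mul, map_inv]

theorem card_le_of_rk [Finite X] (h : AS S T A) {a : ℕ} (hr : Cfsg.Agent.Omega.TwoF.RK S a) :
    Nat.card A ≤ 2 ^ a := by
  have := h.norm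
  have h1 := hr (A.map (act S (MulEquiv.refl S))) ?_
  · rwa [card_map_of_injective (act_inj (MulEquiv.refl S) h.cen)] at h1
  · rintro _ ⟨x, hx, rfl⟩
    rw [← map_pow, pow_two, h.el x hx, map_one]

/-- The groups whose automorphism groups have 2-rank at most two. -/
theorem deadG_of_rk : DeadG.{u} (fun S _ => Cfsg.Agent.Omega.TwoF.RK S 2) :=
  fun _ _ _ _ _ _ h hr => card_le_of_rk h hr

theorem rk_congr {K L : Type*} [Group K] [Group L] (e : K ≃* L) {a : ℕ} (h : Cfsg.Agent.Omega.TwoF.RK L a) :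
    Cfsg.Agent.Omega.TwoF.RK K a := by
  intro A hA
  have h1 := h (A.map (MulAut.congr e).toMonoidHom) ?_
  · rwa [card_map_of_injective (MulAut.congr e).injective] at h1
  · rintro _ ⟨x, hx, rfl⟩
    rw [← map_pow, hA x hx, map_one]

/-- **The row `A₅`.** -/
theorem deadG_five : DeadG.{u} (fun S _ => Nonempty (S ≃* alternatingGroup (Fin 5))) := by
  rintro X _ _ S T A h ⟨e⟩
  exact card_le_of_rk h (rk_congr e (Cfsg.Agent.Omega.AltRow.rk (n := 5) (by norm_num) (by norm_num)))

theorem card_le_two_mul [Finite X] (A P : Subgroup X) (h : ∀ g ∈ A, ∀ k ∈ A, g ∉ P → k ∉ P → g * k ∈ P) :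
    Nat.card A ≤ 2 * Nat.card (A ⊓ P : Subgroup X) := by
  by_cases hAP : A ≤ P
  · rw [inf_eq_left.2 hAP]
    have : 0 < Nat.card A := Nat.card_pos
    omega
  · obtain ⟨a, ha, haP⟩ := SetLike.not_le_iff_exists.1 hAP
    have h2 : (P.subgroupOf A).index = 2 := by
      rw [Subgroup.index_eq_two_iff]
      refine ⟨⟨a, ha⟩, fun b => ?_⟩
      rw [Subgroup.mem_subgroupOf, Subgroup.mem_subgroupOf]
      by_cases hb : (b : X) ∈ P
      · refine Or.inr ⟨hb, fun h' => haP ?_⟩
        have h3 : (b : X)⁻¹ * ((b * ⟨a, ha⟩ : A) : X) ∈ P := P.mul_mem (P.inv_mem hb) h'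
        simpa using h3
      · exact Or.inl ⟨h b b.2 a ha hb haP, hb⟩
    have h3 := (P.subgroupOf A).card_mul_index
    rw [h2] at h3
    have h4 : Nat.card (P.subgroupOf A) = Nat.card (A ⊓ P : Subgroup X) := by
      rw [inf_comm, ← subgroupOf_map_subtype, card_map_of_injective A.subtype_injective]
    omega

end general

/-! ### degree six -/

theorem fix_a0 : ∀ σ : Perm (Fin 6), σ * z0 = z0 * σ → σ * a0 * σ⁻¹ = a0 ∨ σ * a0 * σ⁻¹ = a0 * z0 := by
  decide +kernel

theorem fix_b0 : ∀ σ : Perm (Fin 6), σ * z0 = z0 * σ → σ * b0 * σ⁻¹ = b0 ∨ σ * b0 * σ⁻¹ = b0 * z0 := by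
  decide +kernel

theorem cent_both : ∀ w : Perm (Fin 6), Perm.sign w = 1 → w * z0 = z0 * w →
    c0 * w * c0⁻¹ * z0 = z0 * (c0 * w * c0⁻¹) → d0 * w * d0⁻¹ * z0 = z0 * (d0 * w * d0⁻¹) → w = 1 ∨ w = z0 := by
  decide +kernel

theorem ne_facts : a0 ≠ b0 ∧ a0 ≠ b0 * z0 ∧ a0 * z0 ≠ b0 ∧ a0 * z0 ≠ b0 * z0 ∧ a0 * b0 ≠ b0 * a0 ∧
    a0 * (b0 * z0) ≠ b0 * z0 * a0 ∧ a0 * z0 * b0 ≠ b0 * (a0 * z0) ∧ a0 * z0 * (b0 * z0) ≠ b0 * z0 * (a0 * z0) := by
  decide +kernel

theorem ne_facts' : b0 * z0 ≠ 1 ∧ b0 * z0 ≠ z0 ∧ b0 * z0 ≠ a0 ∧ b0 * z0 ≠ a0 * z0 ∧ a0 ≠ 1 ∧ a0 ≠ z0 := by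
  decide +kernel

theorem perm_facts : c0 * (a0 * z0) * c0⁻¹ = z0 ∧ d0 * (b0 * z0) * d0⁻¹ = b0 := by
  decide +kernel

/-- the four-group `⟨Z0, w⟩` -/
def Fo (w x : A6) : Prop := x = 1 ∨ x = Z0 ∨ x = w ∨ x = w * Z0

section six

variable {X : Type u} [Group X] {S T A : Subgroup X}

/-- the stabiliser of a subset of `A₆` -/
def Sta (S : Subgroup X) [S.Normal] (e : S ≃* A6) (P : A6 → Prop) : Subgroup X where
  carrier := {g | ∀ x, P (act S e g x) ↔ P x}
  mul_mem' {g k} hg hk := fun x => by rw [map_mul, MulAut.mul_apply, hg, hk]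
  one_mem' := fun x => by rw [map_one, MulAut.one_apply]
  inv_mem' {g} hg := fun x => by
    have := hg (act S e g⁻¹ x)
    rw [← MulAut.mul_apply, ← map_mul, mul_inv_cancel, map_one, MulAut.one_apply] at this
    exact this.symm

theorem mem_Sta [S.Normal] {e : S ≃* A6} {P : A6 → Prop} {g : X} :
    g ∈ Sta S e P ↔ ∀ x, P (act S e g x) ↔ P x := Iff.rfl

theorem mem_Sta_of [S.Normal] {e : S ≃* A6} {P : A6 → Prop} {g : X} (h : ∀ x, P x → P (act S e g x))
    (h' : ∀ x, P x → P (act S e g⁻¹ x)) : g ∈ Sta S e P := by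
  intro x
  refine ⟨fun hx => ?_, h x⟩
  have := h' _ hx
  rwa [← MulAut.mul_apply, ← map_mul, inv_mul_cancel, map_one, MulAut.one_apply] at this

theorem mem_Sta_of_cube [S.Normal] {e : S ≃* A6} {P : A6 → Prop} {c : A6} (h3 : c * c * c = 1)
    (h : ∀ x, P x → P (c * x * c⁻¹)) : io S e c ∈ Sta S e P := by
  refine mem_Sta_of (fun x hx => ?_) (fun x hx => ?_)
  · rw [act_of_io, MulAut.conj_apply]; exact h x hx
  · have h1 := h _ (h x hx)
    have h2 : c⁻¹ = c * c := inv_eq_of_mul_eq_one_left h3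
    rw [← map_inv, act_of_io, MulAut.conj_apply, h2]
    have h4 : c * (c * x * c⁻¹) * c⁻¹ = c * c * x * (c * c)⁻¹ := by group
    rwa [h4] at h1

theorem fo_map {α : MulAut A6} {w : A6} (hz : α Z0 = Z0) (hw : α w = w ∨ α w = w * Z0) {x : A6} (hx : Fo w x) :
    Fo w (α x) := by
  rcases hx with rfl | rfl | rfl | rfl
  · exact Or.inl (map_one α)
  · exact Or.inr (Or.inl hz)
  · rcases hw with h | h
    · exact Or.inr (Or.inr (Or.inl h))
    · exact Or.inr (Or.inr (Or.inr h))
  · rw [map_mul, hz]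
    rcases hw with h | h
    · exact Or.inr (Or.inr (Or.inr (by rw [h])))
    · refine Or.inr (Or.inr (Or.inl ?_))
      rw [h, mul_assoc, Z0_sq, mul_one]

theorem ns_a0 {α : MulAut A6} (hz : α Z0 = Z0) (hn : NS α) : α A0 = A0 ∨ α A0 = A0 * Z0 := by
  obtain ⟨σ, hσ⟩ := hn
  have h1 : σ * z0 = z0 * σ := by
    have h2 := hσ Z0
    rw [hz] at h2
    exact (mul_inv_eq_iff_eq_mul.1 h2.symm)
  rcases fix_a0 σ h1 with h | h
  · exact Or.inl (Subtype.ext ((hσ A0).trans h))
  · exact Or.inr (Subtype.ext ((hσ A0).trans h))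

theorem ns_b0 {α : MulAut A6} (hz : α Z0 = Z0) (hn : NS α) : α B0 = B0 ∨ α B0 = B0 * Z0 := by
  obtain ⟨σ, hσ⟩ := hn
  have h1 : σ * z0 = z0 * σ := by
    have h2 := hσ Z0
    rw [hz] at h2
    exact (mul_inv_eq_iff_eq_mul.1 h2.symm)
  rcases fix_b0 σ h1 with h | h
  · exact Or.inl (Subtype.ext ((hσ B0).trans h))
  · exact Or.inr (Subtype.ext ((hσ B0).trans h))

/-- an involution of `T ∩ S` in the centre of `T` -/
theorem exists_z [Finite X] (h : AS S T A) (e : S ≃* A6) : ∃ z ∈ T ⊓ S, z ≠ 1 ∧ z * z = 1 ∧ ∀ t ∈ T, t * z = z * t := by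
  have := h.norm
  have hI : ¬ 2 ∣ T.relIndex S := Cfsg.Agent.Lib.SylowNormalInf.not_dvd_relIndex (h.two.toSylow h.syl) S
  let N : Subgroup T := (T ⊓ S).subgroupOf T
  have hN : N.Normal := by
    refine ⟨fun n hn g => ?_⟩
    rw [mem_subgroupOf] at hn ⊢
    exact ⟨(g * n * g⁻¹).2, h.norm.conj_mem _ hn.2 _⟩
  have hNb : N ≠ ⊥ := by
    intro h1
    have h2 : T ⊓ S = ⊥ := by
      rw [eq_bot_iff]
      intro x hx
      have h3 : (⟨x, hx.1⟩ : T) ∈ N := mem_subgroupOf.2 hx
      rw [h1, mem_bot] at h3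
      exact mem_bot.2 (congrArg Subtype.val h3)
    have h3 := Cfsg.Agent.Lib.SylowNormalInf.card_inf_mul_relIndex T S
    rw [h2, card_bot, one_mul] at h3
    rw [h3, Nat.card_congr e.toEquiv] at hI
    apply hI
    have h4 : orderOf Z0 = 2 := by
      apply orderOf_eq_prime
      · rw [pow_two]; exact Z0_sq
      · exact Z0_ne
    rw [← h4]
    exact orderOf_dvd_natCard Z0
  have hp : Fact (Nat.Prime 2) := ⟨Nat.prime_two⟩
  have hnil : Group.IsNilpotent T := h.two.isNilpotent
  have hne := Cfsg.Agent.Lib.NormalAbelian.normal_inf_center_ne_bot N hNb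
  have h2 : IsPGroup 2 (N ⊓ center T : Subgroup T) := h.two.to_subgroup _
  have hnt : Nontrivial (N ⊓ center T : Subgroup T) := (Subgroup.nontrivial_iff_ne_bot _).2 hne
  obtain ⟨n, hn, hn'⟩ := h2.nontrivial_iff_card.1 hnt
  have h3 : 2 ∣ Nat.card (N ⊓ center T : Subgroup T) := by
    rw [hn']; exact dvd_pow_self 2 hn.ne'
  obtain ⟨z, hz⟩ := exists_prime_orderOf_dvd_card' 2 h3
  have hz1 : z * z = 1 := by rw [← pow_two, ← hz, pow_orderOf_eq_one]
  have hz2 : z ≠ 1 := by
    rintro rfl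
    rw [orderOf_one] at hz
    omega
  refine ⟨((z : T) : X), mem_subgroupOf.1 z.2.1, fun h1 => hz2 (Subtype.ext (Subtype.ext h1)),
    congrArg (fun y : (N ⊓ center T : Subgroup T) => ((y : T) : X)) hz1, fun t ht => ?_⟩
  exact congrArg Subtype.val (mem_center_iff.1 z.2.2 ⟨t, ht⟩)

/-- **normalisation** -/
theorem exists_e [Finite X] (h : AS S T A) (e : S ≃* A6) : ∃ e' : S ≃* A6, io S e' Z0 ∈ T ∧
    ∀ t ∈ T, t * io S e' Z0 = io S e' Z0 * t := by
  obtain ⟨z, hz, hz1, hzz, hzT⟩ := exists_z h e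
  obtain ⟨x, hx⟩ := io_surj e hz.2
  have hx2 : x * x = 1 := io_inj e (by rw [map_mul, hx, hzz, map_one])
  have hx1 : x ≠ 1 := fun h1 => hz1 (by rw [← hx, h1, map_one])
  obtain ⟨w, hw⟩ := exists_conj_Z0 hx2 hx1
  have h1 : io S (e.trans (MulAut.conj w)) Z0 = z := by
    rw [← hx]
    show ((e.symm ((MulAut.conj w).symm Z0) : S) : X) = ((e.symm x : S) : X)
    rw [← hw]
    congr 2
    rw [MulAut.conj_symm_apply]
    group
  exact ⟨e.trans (MulAut.conj w), by rw [h1]; exact hz.1, by rw [h1]; exact hzT⟩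

/-- **The row `A₆`.** -/
theorem card_six [Finite X] (h : AS S T A) (e₀ : S ≃* A6) : Nat.card A ≤ 4 := by
  have hnorm := h.norm
  obtain ⟨e, hzT, hcT⟩ := exists_e h e₀
  have hAT := le_T h
  have hinj := act_inj e h.cen
  -- elements of `T` fix `Z0`
  have hfix : ∀ t ∈ T, act S e t Z0 = Z0 := by
    intro t ht
    apply io_inj e
    rw [← act_io, hcT t ht, mul_inv_cancel_right]
  have hio : ∀ x : A6, io S e x ∈ T → x * Z0 = Z0 * x := by
    intro x hx
    apply io_inj e
    rw [map_mul, map_mul, hcT _ hx]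
  have hodd : ∀ R : Subgroup X, T ≤ R → ¬ 2 ∣ T.relIndex R := fun R hR hd =>
    h.syl (hd.trans (Subgroup.relIndex_dvd_index_of_le hR))
  have hoT : ∀ R : Subgroup X, T ≤ R → o2 R ≤ T := fun R hR => o2_le_of_sylow h.two (hodd R hR)
  -- index of `A ∩ S` in the NS part
  let P : Subgroup X :=
    { carrier := {g | NS (act S e g)}
      one_mem' := by
        show NS (act S e 1)
        rw [map_one]; exact ⟨1, fun x => by rw [inv_one, mul_one, one_mul]; rfl⟩
      mul_mem' := fun {g k} hg hk => by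
        show NS (act S e (g * k))
        rw [map_mul]; exact hg.mul hk
      inv_mem' := fun {g} hg => by
        show NS (act S e g⁻¹)
        rw [map_inv]; exact NS.inv hg }
  have hSP : S ≤ P := by
    intro s hs
    obtain ⟨x, rfl⟩ := io_surj e hs
    show NS (act S e (io S e x))
    rw [act_of_io]; exact NS.conj x
  have hinner : ∀ g, ∀ σ : Perm (Fin 6), Perm.sign σ = 1 → (∀ x : A6, (act S e g x : Perm (Fin 6)) = σ * x * σ⁻¹) →
      g ∈ S := by
    intro g σ hσ hg
    have h1 : g = io S e ⟨σ, Equiv.Perm.mem_alternatingGroup.2 hσ⟩ := by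
      apply hinj
      rw [act_of_io]
      ext x : 1
      apply Subtype.ext
      rw [hg]; rfl
    rw [h1]; exact io_mem e _
  have hPS : ∀ g ∈ A ⊓ P, ∀ k ∈ A ⊓ P, g ∉ S → k ∉ S → g * k ∈ S := by
    rintro g ⟨-, σ, hσ⟩ k ⟨-, τ, hτ⟩ hgS hkS
    have s1 : Perm.sign σ = -1 := (Int.units_eq_one_or _).resolve_left fun h' => hgS (hinner g σ h' hσ)
    have s2 : Perm.sign τ = -1 := (Int.units_eq_one_or _).resolve_left fun h' => hkS (hinner k τ h' hτ)
    refine hinner (g * k) (σ * τ) (by rw [Perm.sign_mul, s1, s2]; decide) fun x => ?_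
    rw [map_mul, MulAut.mul_apply, hσ, hτ]; group
  have hc1 : Nat.card (A ⊓ P : Subgroup X) ≤ 2 * Nat.card (A ⊓ S : Subgroup X) := by
    have := card_le_two_mul (A ⊓ P) S hPS
    rwa [inf_assoc, inf_eq_right.2 hSP] at this
  have hc2 : Nat.card A ≤ 2 * Nat.card (A ⊓ P : Subgroup X) :=
    card_le_two_mul A P fun g _ k _ hg hk => by
      show NS (act S e (g * k))
      rw [map_mul]; exact NS.mul_of_not hg hk
  have hgen : ∀ R : Subgroup X, T ≤ R → ∀ r ∈ R, ∃ u : A6, io S e u ∈ R ∧ ∃ b ∈ A, r = io S e u * b := by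
    intro R hR r hr
    have h1 : r ∈ S ⊔ A := by rw [h.gen]; trivial
    obtain ⟨s, hs, b, hb, rfl⟩ := Subgroup.mem_sup_of_normal_left.1 h1
    obtain ⟨u, rfl⟩ := io_surj e hs
    refine ⟨u, ?_, b, hb, rfl⟩
    have := R.mul_mem hr (R.inv_mem (hR (hAT hb)))
    rwa [mul_inv_cancel_right] at this
  by_cases hNS : ∀ g, NS (act S e g)
  · -- no graph automorphism: two overgroups
    have hAP : A ⊓ P = A := inf_eq_left.2 fun g _ => hNS g
    have hone : ∀ w : A6, (∀ t ∈ T, act S e t w = w ∨ act S e t w = w * Z0) → T ≤ Sta S e (Fo w) := by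
      intro w hw t ht
      exact mem_Sta_of (fun x hx => fo_map (hfix t ht) (hw t ht) hx)
        (fun x hx => fo_map (hfix _ (T.inv_mem ht)) (hw _ (T.inv_mem ht)) hx)
    have hR1 : T ≤ Sta S e (Fo A0) := hone A0 fun t ht => ns_a0 (hfix t ht) (hNS t)
    have hR2 : T ≤ Sta S e (Fo B0) := hone B0 fun t ht => ns_b0 (hfix t ht) (hNS t)
    have f1 : C0 * Z0 * C0⁻¹ = A0 := Subtype.ext conjV_c0.1
    have f2 : C0 * A0 * C0⁻¹ = A0 * Z0 := Subtype.ext conjV_c0.2
    have f3 : D0 * Z0 * D0⁻¹ = B0 * Z0 := Subtype.ext conjV_d0.1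
    have f4 : D0 * B0 * D0⁻¹ = Z0 := Subtype.ext conjV_d0.2
    have f5 : C0 * (A0 * Z0) * C0⁻¹ = Z0 := Subtype.ext perm_facts.1
    have f6 : D0 * (B0 * Z0) * D0⁻¹ = B0 := Subtype.ext perm_facts.2
    obtain ⟨k1, k2, k3, k4, k5, k6⟩ := ne_facts'
    obtain ⟨n1, n2, n3, n4, -⟩ := ne_facts
    have hC : io S e C0 ∈ Sta S e (Fo A0) := by
      refine mem_Sta_of_cube C0_cube ?_
      rintro x (rfl | rfl | rfl | rfl)
      · exact Or.inl (by group)
      · exact Or.inr (Or.inr (Or.inl f1))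
      · exact Or.inr (Or.inr (Or.inr f2))
      · exact Or.inr (Or.inl f5)
    have hD : io S e D0 ∈ Sta S e (Fo B0) := by
      refine mem_Sta_of_cube D0_cube ?_
      rintro x (rfl | rfl | rfl | rfl)
      · exact Or.inl (by group)
      · exact Or.inr (Or.inr (Or.inr f3))
      · exact Or.inr (Or.inl f4)
      · exact Or.inr (Or.inr (Or.inl f6))
    have hT1 : Sta S e (Fo A0) ≠ ⊤ := by
      intro ht
      have h1 : io S e D0 ∈ Sta S e (Fo A0) := by rw [ht]; trivial
      have h2 := (mem_Sta.1 h1 Z0).2 (Or.inr (Or.inl rfl))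
      rw [act_of_io, MulAut.conj_apply, f3] at h2
      rcases h2 with h2 | h2 | h2 | h2
      · exact k1 (congrArg Subtype.val h2)
      · exact k2 (congrArg Subtype.val h2)
      · exact k3 (congrArg Subtype.val h2)
      · exact k4 (congrArg Subtype.val h2)
    have hT2 : Sta S e (Fo B0) ≠ ⊤ := by
      intro ht
      have h1 : io S e C0 ∈ Sta S e (Fo B0) := by rw [ht]; trivial
      have h2 := (mem_Sta.1 h1 Z0).2 (Or.inr (Or.inl rfl))
      rw [act_of_io, MulAut.conj_apply, f1] at h2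
      rcases h2 with h2 | h2 | h2 | h2
      · exact k5 (congrArg Subtype.val h2)
      · exact k6 (congrArg Subtype.val h2)
      · exact n1 (congrArg Subtype.val h2)
      · exact n2 (congrArg Subtype.val h2)
    have hAS : ∀ x : A6, io S e x ∈ A → x = 1 ∨ x = Z0 := by
      intro x hx
      have g1 : io S e (C0 * x * C0⁻¹) ∈ T := by
        rw [map_mul, map_mul, map_inv]
        exact hoT _ hR1 ((mem_normalizer_iff.1 (le_normalizer_o2 _ hC) _).1 (h.low _ hR1 hT1 hx))
      have g2 : io S e (D0 * x * D0⁻¹) ∈ T := by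
        rw [map_mul, map_mul, map_inv]
        exact hoT _ hR2 ((mem_normalizer_iff.1 (le_normalizer_o2 _ hD) _).1 (h.low _ hR2 hT2 hx))
      rcases cent_both x (sign_val x) (congrArg Subtype.val (hio x (hAT hx))) (congrArg Subtype.val (hio _ g1))
        (congrArg Subtype.val (hio _ g2)) with h1 | h1
      · exact Or.inl (Subtype.ext h1)
      · exact Or.inr (Subtype.ext h1)
    have h1 : A ⊓ S ≤ zpowers (io S e Z0) := by
      rintro x ⟨hxA, hxS⟩
      obtain ⟨y, rfl⟩ := io_surj e hxS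
      rcases hAS y hxA with rfl | rfl
      · rw [map_one]; exact one_mem _
      · exact mem_zpowers _
    have h2 : Nat.card (zpowers (io S e Z0)) ≤ 2 := by
      rw [Nat.card_zpowers]
      refine Nat.le_of_dvd (by norm_num) (orderOf_dvd_of_pow_eq_one ?_)
      rw [← map_pow, pow_two, Z0_sq, map_one]
    have h3 := card_le_of_le h1
    rw [hAP] at hc1
    omega
  · -- a graph automorphism in `A`
    push Not at hNS
    obtain ⟨g, hg⟩ := hNS
    obtain ⟨u, -, a, ha, rfl⟩ := hgen ⊤ le_top g trivial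
    have hna : ¬ NS (act S e a) := by
      intro hn
      apply hg
      rw [map_mul, act_of_io]
      exact (NS.conj u).mul hn
    have hza := hfix a (hAT ha)
    have ca := cases_a0 hza hna
    have cb := cases_b0 hza hna
    obtain ⟨n1, n2, n3, n4, m1, m2, m3, m4⟩ := ne_facts
    -- `a v` does not commute with `v`
    have hnc : ∀ v : A6, v * Z0 = Z0 * v → v * v = 1 → v ≠ 1 → v ≠ Z0 → act S e a v * v ≠ v * act S e a v := by
      intro v hv h2 h1 hz
      have q1 : B0 * A0 ≠ A0 * B0 := fun hh => m1 (congrArg Subtype.val hh).symm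
      have q2 : B0 * Z0 * A0 ≠ A0 * (B0 * Z0) := fun hh => m2 (congrArg Subtype.val hh).symm
      have q3 : B0 * (A0 * Z0) ≠ A0 * Z0 * B0 := fun hh => m3 (congrArg Subtype.val hh).symm
      have q4 : B0 * Z0 * (A0 * Z0) ≠ A0 * Z0 * (B0 * Z0) := fun hh => m4 (congrArg Subtype.val hh).symm
      have zz : ∀ w : A6, w * Z0 * Z0 = w := fun w => by rw [mul_assoc, Z0_sq, mul_one]
      rcases cases_inv hv h2 h1 hz with rfl | rfl | rfl | rfl
      · rcases ca with c | c <;> rw [c]
        · exact q1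
        · exact q2
      · rw [map_mul, hza]
        rcases ca with c | c <;> rw [c]
        · exact q4
        · rw [zz]; exact q3
      · rcases cb with c | c <;> rw [c]
        · exact q1.symm
        · exact q3.symm
      · rw [map_mul, hza]
        rcases cb with c | c <;> rw [c]
        · exact q4.symm
        · rw [zz]; exact q2.symm
    have hAS : ∀ x : A6, io S e x ∈ A → x = 1 ∨ x = Z0 := by
      intro x hx
      by_contra hc
      push Not at hc
      have h1 := hio x (hAT hx)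
      have h2 : x * x = 1 := io_inj e (by rw [map_mul, h.el _ hx, map_one])
      refine hnc x h1 h2 hc.1 hc.2 ?_
      have h3 : act S e a x = x := by
        apply io_inj e
        rw [← act_io]
        have h4 : a * io S e x = io S e x * a := by
          have h5 := h.el _ (A.mul_mem ha hx)
          have h6 := h.el _ ha
          have h7 := h.el _ hx
          have h8 : a⁻¹ = a := inv_eq_of_mul_eq_one_left h6
          have h9 : (io S e x)⁻¹ = io S e x := inv_eq_of_mul_eq_one_left h7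
          have h10 : (a * io S e x)⁻¹ = a * io S e x := inv_eq_of_mul_eq_one_left h5
          rw [mul_inv_rev, h8, h9] at h10
          exact h10.symm
        rw [h4, mul_inv_cancel_right]
      rw [h3]
    by_cases hzA : io S e Z0 ∈ A
    · exfalso
      refine h.nmax ⟨centralizer ({io S e Z0} : Set X), ?_, fun R hTR hR r hr => ?_⟩
      · intro ht
        have h1 : io S e C0 ∈ centralizer ({io S e Z0} : Set X) := by rw [ht]; trivial
        rw [mem_centralizer_singleton_iff, ← map_mul, ← map_mul] at h1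
        have h2 := io_inj e h1
        have h3 : C0 * Z0 * C0⁻¹ = A0 := Subtype.ext conjV_c0.1
        rw [h2, mul_inv_cancel_right] at h3
        exact A0_ne_Z0 h3.symm
      · obtain ⟨u, hu, b, hb, rfl⟩ := hgen R hTR r hr
        refine mul_mem ?_ (mem_centralizer_singleton_iff.2 (hcT b (hAT hb)))
        rw [mem_centralizer_singleton_iff, ← map_mul, ← map_mul]
        congr 1
        by_contra hc
        have hn := fun (g : X) (hg : g ∈ R) (y : X) (hy : y ∈ o2 R) =>
          (mem_normalizer_iff.1 (le_normalizer_o2 R hg) y).1 hy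
        have hz : io S e Z0 ∈ o2 R := h.low R hTR hR hzA
        have hv : io S e (u * Z0 * u⁻¹) ∈ o2 R := by
          rw [map_mul, map_mul, map_inv]
          exact hn _ hu _ hz
        have hav : io S e (act S e a (u * Z0 * u⁻¹)) ∈ o2 R := by
          rw [← act_io]
          exact hn _ (hTR (hAT ha)) _ hv
        have hw : io S e (u⁻¹ * act S e a (u * Z0 * u⁻¹) * u) ∈ T := by
          have h1 := hn _ (R.inv_mem hu) _ hav
          rw [inv_inv, ← map_inv, ← map_mul, ← map_mul] at h1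
          exact hoT R hTR h1
        have h1 := hio _ hw
        refine hnc (u * Z0 * u⁻¹) (hio _ (hoT R hTR hv)) ?_ ?_ ?_ ?_
        · calc u * Z0 * u⁻¹ * (u * Z0 * u⁻¹) = u * (Z0 * Z0) * u⁻¹ := by group
            _ = 1 := by rw [Z0_sq]; group
        · intro h2
          apply Z0_ne
          rw [mul_inv_eq_one] at h2
          exact mul_eq_left.1 h2
        · intro h2
          exact hc (mul_inv_eq_iff_eq_mul.1 h2)
        · set y := act S e a (u * Z0 * u⁻¹) with hy
          calc y * (u * Z0 * u⁻¹) = u * (u⁻¹ * y * u * Z0) * u⁻¹ := by group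
            _ = u * (Z0 * (u⁻¹ * y * u)) * u⁻¹ := by rw [h1]
            _ = u * Z0 * u⁻¹ * y := by group
    · have h1 : A ⊓ S = ⊥ := by
        rw [eq_bot_iff]
        rintro x ⟨hxA, hxS⟩
        obtain ⟨y, rfl⟩ := io_surj e hxS
        rcases hAS y hxA with rfl | rfl
        · rw [map_one]; exact mem_bot.2 rfl
        · exact absurd hxA hzA
      rw [h1, card_bot] at hc1
      omega

end six

/-- **The row `A₆`.** -/
theorem deadG_six : DeadG.{u} (fun S _ => Nonempty (S ≃* alternatingGroup (Fin 6))) := by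
  rintro X _ _ S T A h ⟨e⟩
  exact card_six h e

end Cfsg.Agent.Omega.ML.AltSix

end

section


/-!
# (ML), the K-list end: chains of Frobenius groups and their lifts through odd central extensions (helper226)

* `Chain w m` : `w` is of odd prime order; either `2 ^ j - 1` (`0 < j < m`) is prime to its order, or `⟨u⟩⟨w⟩` is a
  Frobenius group of order `p r` and `Chain u m₀` with `m r < m₀ (r - 1) + r`.  For a faithful `F_2`-module
  `dim [M, w] ≥ m` (#17288).
* `InvAt x n` : `x` inverts some `w` with `Chain w m`, `2 n ≤ m + 1`; so `dim [M, x] ≥ n` for involutions `x`.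
* `InvAt.lift`, `Chain.lift` : through central extensions of odd order.
-/

set_option autoImplicit false

namespace Cfsg.Agent.Omega.ML.InvChain

/-- chains of Frobenius groups of order `p r` -/
inductive Chain {G : Type*} [Group G] : G → ℕ → Prop
  | base (u : G) (m : ℕ) (hp : (orderOf u).Prime) (h2 : orderOf u ≠ 2)
      (hm : ∀ j, 0 < j → j < m → ¬ orderOf u ∣ 2 ^ j - 1) : Chain u m
  | step (u w : G) (m m' k : ℕ) (hu : Chain u m) (hp : (orderOf w).Prime) (h2 : orderOf w ≠ 2)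
      (hk : w * u * w⁻¹ = u ^ k) (hne : w * u ≠ u * w)
      (hm : orderOf w * m' < m * (orderOf w - 1) + orderOf w) : Chain w m'

theorem Chain.prime {G : Type*} [Group G] {w : G} {m : ℕ} (h : Chain w m) : (orderOf w).Prime := by
  cases h <;> assumption

theorem Chain.ne_two {G : Type*} [Group G] {w : G} {m : ℕ} (h : Chain w m) : orderOf w ≠ 2 := by
  cases h <;> assumption

theorem Chain.map {G G' : Type*} [Group G] [Group G'] (f : G →* G') (hf : Function.Injective f) {w : G} {m : ℕ}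
    (h : Chain w m) : Chain (f w) m := by
  induction h with
  | base u m hp h2 hm =>
    have e := orderOf_injective f hf u
    exact Chain.base _ m (e ▸ hp) (e ▸ h2) (by rwa [e])
  | step u w m m' k hu hp h2 hk hne hm ih =>
    have e := orderOf_injective f hf w
    refine Chain.step (f u) (f w) m m' k ih (e ▸ hp) (e ▸ h2) ?_ ?_ (by rwa [e])
    · rw [← map_mul, ← map_inv, ← map_mul, hk, map_pow]
    · intro h
      rw [← map_mul, ← map_mul] at h
      exact hne (hf h)

/-- `x` inverts some `w` with `Chain w m`, `2 n ≤ m + 1` -/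
def InvAt {G : Type*} [Group G] (x : G) (n : ℕ) : Prop :=
  ∃ (w : G) (m : ℕ), Chain w m ∧ x * w * x⁻¹ = w⁻¹ ∧ 2 * n ≤ m + 1

theorem InvAt.map {G G' : Type*} [Group G] [Group G'] (f : G →* G') (hf : Function.Injective f) {x : G} {n : ℕ}
    (h : InvAt x n) : InvAt (f x) n := by
  obtain ⟨w, m, hw, hx, hn⟩ := h
  exact ⟨f w, m, hw.map f hf, by rw [← map_mul, ← map_inv, ← map_mul, hx, map_inv], hn⟩

theorem InvAt.mono {G : Type*} [Group G] {x : G} {n n' : ℕ} (h : InvAt x n) (hn : n' ≤ n) : InvAt x n' := by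
  obtain ⟨w, m, hw, hx, h2⟩ := h
  exact ⟨w, m, hw, hx, by omega⟩

/-- conjugates -/
theorem InvAt.conj {G : Type*} [Group G] {x : G} {n : ℕ} (h : InvAt x n) (g : G) : InvAt (g * x * g⁻¹) n := by
  have := h.map (MulAut.conj g).toMonoidHom (MulAut.conj g).injective
  exact this

section lift

variable {G G' : Type*} [Group G] [Group G'] [Finite G] (π : G →* G')

/-- a central element of odd order with `c * c = 1` -/
theorem eq_one_of_sq {c : G} (hodd : Odd (Nat.card π.ker)) (hc : c ∈ π.ker) (h : c * c = 1) : c = 1 := by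
  have h1 : orderOf (⟨c, hc⟩ : π.ker) ∣ 2 := orderOf_dvd_of_pow_eq_one (by
    rw [pow_two]; exact Subtype.ext h)
  have h2 : orderOf (⟨c, hc⟩ : π.ker) ∣ Nat.card π.ker := orderOf_dvd_natCard _
  have h3 : orderOf (⟨c, hc⟩ : π.ker) ∣ 1 := by
    have := Nat.dvd_gcd h1 h2
    rwa [Nat.coprime_two_left.2 hodd] at this
  have h4 := orderOf_eq_one_iff.1 (Nat.dvd_one.1 h3)
  exact congrArg Subtype.val h4

/-- lifting an inverted element -/
theorem lift_inv (hπ : Function.Surjective π) (hcen : ∀ c ∈ π.ker, ∀ g : G, c * g = g * c)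
    (hodd : Odd (Nat.card π.ker)) {x : G} (hx : x * x = 1) {w' : G'} (hp : (orderOf w').Prime)
    (h2 : orderOf w' ≠ 2) (hinv : π x * w' * (π x)⁻¹ = w'⁻¹) :
    ∃ w : G, π w = w' ∧ orderOf w = orderOf w' ∧ x * w * x⁻¹ = w⁻¹ := by
  obtain ⟨s, hs⟩ : ∃ s, orderOf w' + 1 = 2 * s := by
    have := hp.eq_two_or_odd'.resolve_left h2
    obtain ⟨t, ht⟩ := this
    exact ⟨t + 1, by omega⟩
  obtain ⟨v, hv⟩ := hπ (w' ^ s)
  have hx' : π x * π x = 1 := by rw [← map_mul, hx, map_one]
  have hxi : x⁻¹ = x := inv_eq_of_mul_eq_one_right hx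
  have hxi' : (π x)⁻¹ = π x := inv_eq_of_mul_eq_one_right hx'
  have h3 : π x * (w' ^ s)⁻¹ * π x = w' ^ s := by
    have h4 : (π x * w' * (π x)⁻¹) ^ s = (w' ^ s)⁻¹ := by rw [hinv, inv_pow]
    rw [conj_pow] at h4
    rw [← h4, hxi']
    have : π x * (π x * w' ^ s * π x) * π x = (π x * π x) * w' ^ s * (π x * π x) := by group
    rw [this, hx', one_mul, mul_one]
  refine ⟨v * x * v⁻¹ * x, ?_, ?_, ?_⟩
  · rw [map_mul, map_mul, map_mul, map_inv, hv]
    have : w' ^ s * π x * (w' ^ s)⁻¹ * π x = w' ^ s * (π x * (w' ^ s)⁻¹ * π x) := by group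
    rw [this, h3, ← pow_add, ← two_mul, ← hs, pow_succ, pow_orderOf_eq_one, one_mul]
  · set w : G := v * x * v⁻¹ * x with hw
    have hπw : π w = w' := by
      rw [hw, map_mul, map_mul, map_mul, map_inv, hv]
      have : w' ^ s * π x * (w' ^ s)⁻¹ * π x = w' ^ s * (π x * (w' ^ s)⁻¹ * π x) := by group
      rw [this, h3, ← pow_add, ← two_mul, ← hs, pow_succ, pow_orderOf_eq_one, one_mul]
    have hxw : x * w * x⁻¹ = w⁻¹ := by
      rw [hw, hxi]
      have e1 : x * (v * x * v⁻¹ * x) * x = x * v * x * v⁻¹ * (x * x) := by group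
      have e2 : (v * x * v⁻¹ * x)⁻¹ = x⁻¹ * v * x⁻¹ * v⁻¹ := by group
      rw [e1, e2, hx, hxi, mul_one]
    have hk : w ^ orderOf w' ∈ π.ker := by
      rw [MonoidHom.mem_ker, map_pow, hπw, pow_orderOf_eq_one]
    have h5 : x * w ^ orderOf w' * x⁻¹ = (w ^ orderOf w')⁻¹ := by
      rw [← conj_pow, hxw, inv_pow]
    have h6 : x * w ^ orderOf w' * x⁻¹ = w ^ orderOf w' := by
      rw [← hcen _ hk x, mul_inv_cancel_right]
    have h7 : w ^ orderOf w' = 1 := by
      apply eq_one_of_sq π hodd hk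
      rw [h6] at h5
      nth_rw 1 [h5]
      exact inv_mul_cancel _
    have h8 : orderOf w ∣ orderOf w' := orderOf_dvd_of_pow_eq_one h7
    have h9 : orderOf w' ∣ orderOf w := by
      rw [← hπw]
      exact orderOf_map_dvd π w
    exact Nat.dvd_antisymm h8 h9
  · rw [hxi]
    have e1 : x * (v * x * v⁻¹ * x) * x = x * v * x * v⁻¹ * (x * x) := by group
    have e2 : (v * x * v⁻¹ * x)⁻¹ = x⁻¹ * v * x⁻¹ * v⁻¹ := by group
    rw [e1, e2, hx, hxi, mul_one]

/-- lifting the kernel of a Frobenius group of order `p r` -/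
theorem lift_frob (hπ : Function.Surjective π) (hcen : ∀ c ∈ π.ker, ∀ g : G, c * g = g * c)
    {w : G} {u' : G'} {k : ℕ} (hp : (orderOf u').Prime) (hk : π w * u' * (π w)⁻¹ = u' ^ k)
    (hne : π w * u' ≠ u' * π w) :
    ∃ u : G, π u = u' ∧ orderOf u = orderOf u' ∧ w * u * w⁻¹ = u ^ k := by
  set p := orderOf u' with hpd
  have hu1 : u' ≠ 1 := by
    intro h
    rw [hpd, h, orderOf_one] at hp
    exact Nat.not_prime_one hp
  -- `k ≢ 1`
  have hk0 : k ≠ 0 := by
    rintro rfl
    rw [pow_zero, mul_inv_eq_one] at hk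
    exact hu1 (mul_eq_left.1 hk)
  obtain ⟨l, rfl⟩ := Nat.exists_eq_succ_of_ne_zero hk0
  have hl : ¬ p ∣ l := by
    rintro ⟨t, rfl⟩
    apply hne
    rw [Nat.succ_eq_add_one, pow_succ, pow_mul, hpd, pow_orderOf_eq_one, one_pow, one_mul, mul_inv_eq_iff_eq_mul] at hk
    exact hk
  -- the `p`-part of a lift
  obtain ⟨u₀, hu₀⟩ := hπ u'
  have hG : Nat.card G ≠ 0 := Nat.card_pos.ne'
  set n := p ^ (Nat.card G).factorization p with hn
  set m := Nat.card G / n with hm
  have hnm : n * m = Nat.card G := Nat.ordProj_mul_ordCompl_eq_self _ _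
  have hcop : Nat.Coprime p m := Nat.coprime_ordCompl hp hG
  obtain ⟨j, hj1, hj2⟩ : ∃ j, j ≡ 1 [MOD p] ∧ j ≡ 0 [MOD m] :=
    ⟨_, (Nat.chineseRemainder hcop 1 0).2⟩
  obtain ⟨u₁, hπ1, hu₁n⟩ : ∃ u₁ : G, π u₁ = u' ∧ u₁ ^ n = 1 := by
    refine ⟨u₀ ^ j, ?_, ?_⟩
    · rw [map_pow, hu₀]
      have : u' ^ j = u' ^ 1 := by
        rw [pow_eq_pow_iff_modEq]
        exact hj1
      rw [this, pow_one]
    · obtain ⟨t, ht⟩ := (Nat.modEq_zero_iff_dvd).1 hj2
      rw [← pow_mul, ht, show m * t * n = Nat.card G * t by rw [← hnm]; ring, pow_mul, pow_card_eq_one', one_pow]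
  -- the defect
  set c := w * u₁ * w⁻¹ * (u₁ ^ (l + 1))⁻¹ with hc
  have hcker : c ∈ π.ker := by
    rw [MonoidHom.mem_ker, hc, map_mul, map_mul, map_mul, map_inv, map_inv, map_pow, hπ1, hk, mul_inv_cancel]
  have hcc : ∀ g : G, c * g = g * c := hcen c hcker
  have hwu : w * u₁ * w⁻¹ = c * u₁ ^ (l + 1) := by rw [hc]; group
  have hcn : c ^ n = 1 := by
    have h1 : (w * u₁ * w⁻¹) ^ n = 1 := by rw [conj_pow, hu₁n, mul_one, mul_inv_cancel]
    have h2 : Commute c (u₁ ^ (l + 1)) := hcc _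
    rw [hwu, h2.mul_pow, ← pow_mul, mul_comm (l + 1) n, pow_mul, hu₁n, one_pow, mul_one] at h1
    exact h1
  -- the correction
  have hcopl : Nat.Coprime l n := (Nat.Coprime.pow_left _ ((Nat.Prime.coprime_iff_not_dvd hp).2 hl)).symm
  obtain ⟨t, ht⟩ : ∃ t, (c ^ l) ^ t = c :=
    exists_pow_eq_self_of_coprime (hcopl.coprime_dvd_right (orderOf_dvd_of_pow_eq_one hcn))
  set d := c ^ t with hd
  have hdc : ∀ g : G, d * g = g * d := fun g => ((show Commute c g from hcc g).pow_left t).eq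
  have hdl : d ^ l = c := by rw [hd, ← pow_mul, mul_comm t l, pow_mul, ht]
  have hdker : d ∈ π.ker := by rw [hd]; exact Subgroup.pow_mem _ hcker t
  have hwu2 : w * (u₁ * d) * w⁻¹ = (u₁ * d) ^ (l + 1) := by
    have h2 : Commute u₁ d := (hdc u₁).symm
    have e1 : w * (u₁ * d) * w⁻¹ = (w * u₁ * w⁻¹) * d := by
      rw [mul_assoc w, mul_assoc u₁, hdc w⁻¹]
      group
    rw [e1, hwu, h2.mul_pow, pow_succ d, hdl, hcc (u₁ ^ (l + 1)), mul_assoc]
  have hπ2 : π (u₁ * d) = u' := by rw [map_mul, hπ1, MonoidHom.mem_ker.1 hdker, mul_one]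
  refine ⟨u₁ * d, hπ2, ?_, hwu2⟩
  set u := u₁ * d with hu
  have hun : u ^ n = 1 := by
    have h2 : Commute u₁ d := (hdc u₁).symm
    rw [hu, h2.mul_pow, hu₁n, one_mul, hd, ← pow_mul, mul_comm t n, pow_mul, hcn, one_pow]
  have hker : u ^ p ∈ π.ker := by rw [MonoidHom.mem_ker, map_pow, hπ2, hpd, pow_orderOf_eq_one]
  have h3 : w * u ^ p * w⁻¹ = (u ^ p) ^ (l + 1) := by
    rw [← conj_pow, hwu2, ← pow_mul, ← pow_mul, mul_comm]
  have h4 : w * u ^ p * w⁻¹ = u ^ p := by rw [← hcen _ hker w, mul_inv_cancel_right]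
  have h5 : (u ^ p) ^ l = 1 := by
    rw [h4, pow_succ] at h3
    exact mul_eq_right.1 h3.symm
  have h6 : u ^ p = 1 := by
    have h7 : orderOf (u ^ p) ∣ l := orderOf_dvd_of_pow_eq_one h5
    have h8 : orderOf (u ^ p) ∣ n := orderOf_dvd_of_pow_eq_one (by
      rw [← pow_mul, mul_comm, pow_mul, hun, one_pow])
    have h9 := Nat.dvd_gcd h7 h8
    rw [hcopl] at h9
    exact orderOf_eq_one_iff.1 (Nat.dvd_one.1 h9)
  apply Nat.dvd_antisymm
  · exact orderOf_dvd_of_pow_eq_one h6
  · have := orderOf_map_dvd π u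
    rwa [hπ2] at this

/-- **Chains lift through odd central extensions.** -/
theorem Chain.lift (hπ : Function.Surjective π) (hcen : ∀ c ∈ π.ker, ∀ g : G, c * g = g * c) {w' : G'} {m : ℕ}
    (h : Chain w' m) : ∀ w : G, π w = w' → orderOf w = orderOf w' → Chain w m := by
  induction h with
  | base u' m hp h2 hm =>
    intro u _ e
    exact Chain.base u m (e ▸ hp) (e ▸ h2) (by rwa [e])
  | step u' w' m m' k hu hp h2 hk hne hm ih =>
    intro w hw e
    obtain ⟨u, hu1, hu2, hu3⟩ := lift_frob π hπ hcen (w := w) hu.prime (by rw [hw]; exact hk) (by rw [hw]; exact hne)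
    refine Chain.step u w m m' k (ih u hu1 hu2) (e ▸ hp) (e ▸ h2) hu3 ?_ (by rwa [e])
    intro h
    apply hne
    rw [← hw, ← hu1, ← map_mul, ← map_mul, h]

/-- **`InvAt` lifts through odd central extensions.** -/
theorem InvAt.lift (hπ : Function.Surjective π) (hcen : ∀ c ∈ π.ker, ∀ g : G, c * g = g * c)
    (hodd : Odd (Nat.card π.ker)) {x : G} (hx : x * x = 1) {n : ℕ} (h : InvAt (π x) n) : InvAt x n := by
  obtain ⟨w', m, hw, hinv, hn⟩ := h
  obtain ⟨w, h1, h2, h3⟩ := lift_inv π hπ hcen hodd hx hw.prime hw.ne_two hinv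
  exact ⟨w, m, hw.lift π hπ hcen w h1 h2, h3, hn⟩

end lift

end Cfsg.Agent.Omega.ML.InvChain

end

section


/-!
# (ML), the K-list end: inverted elements and Frobenius groups (helper763, #17288)

`H` acts on the finite group `M` of exponent 2 (written multiplicatively).

* `inv_index` : `x² = 1`, `x w x⁻¹ = w⁻¹`, `w` of odd order ⟹ `|M : C_M(w)| ≤ |M : C_M(x)|²`;
* `frob_index` : `u^r = 1`, `r` an odd prime, `w u w⁻¹ = u^s`, `1, s, .., s^(p-1)` distinct modulo `r` ⟹
  `|M : C_M(u)|^(p-1) ≤ |M : C_M(w)|^p`;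
* `ord_index` : `u^r = 1`, `u` nontrivial on `M` ⟹ `2^k ≤ |M : C_M(u)|`, `k = ord_r(2)`;
* `lt_card` : `A` strict, `1 ≠ x ∈ A` ⟹ `|M : C_M(x)| < |A|`;
* `kill` : the combination.
-/

set_option autoImplicit false

namespace Cfsg.Agent.Omega.ML.InvFrob

open Subgroup Cfsg.Agent.ClassTwoFusion.Quad Cfsg.Agent.Omega.NOThree.NoOver Cfsg.Agent.Omega.ML.CD

/-! ### The Vandermonde argument, additive form -/

section add

variable {V : Type*} [AddCommGroup V]

theorem mul_app (f g : AddMonoid.End V) (v : V) : (f * g) v = f (g v) := rfl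

theorem sum_app {ι : Type*} (S : Finset ι) (F : ι → AddMonoid.End V) (v : V) : (∑ i ∈ S, F i) v = ∑ i ∈ S, F i v := by
  classical
  induction S using Finset.induction_on with
  | empty => rfl
  | insert a S ha ih =>
    rw [Finset.sum_insert ha, Finset.sum_insert ha, ← ih]
    rfl

theorem comm_pow {u w : AddMonoid.End V} {s : ℕ} (h : w * u = u ^ s * w) (k : ℕ) : w * u ^ k = u ^ (s * k) * w := by
  induction k with
  | zero => simp
  | succ k ih =>
    rw [pow_succ, ← mul_assoc, ih, mul_assoc, h, ← mul_assoc, ← pow_add, Nat.mul_succ]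

theorem pow_comm_pow {u w : AddMonoid.End V} {s : ℕ} (h : w * u = u ^ s * w) (j k : ℕ) :
    w ^ j * u ^ k = u ^ (s ^ j * k) * w ^ j := by
  induction j with
  | zero => simp
  | succ j ih =>
    rw [pow_succ', mul_assoc, ih, ← mul_assoc, comm_pow h, mul_assoc, pow_succ' s, mul_assoc]

open Polynomial in
/-- The independence of the conjugates of `C_N(w)` under the powers of `u`. -/
theorem vand {u w : AddMonoid.End V} {s r p : ℕ} (N : AddSubgroup V) (hN : ∀ v ∈ N, u v ∈ N)
    (h : w * u = u ^ s * w) (hs1 : 1 ≤ s) (hr0 : 0 < r) (hr : u ^ r = 1)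
    (hinj : ∀ m : ℕ, ¬ r ∣ m → ∀ v ∈ N, (u ^ m) v = v → v = 0)
    (hs : ∀ i j : ℕ, i < j → j < p → ¬ r ∣ s ^ j - s ^ i)
    (c : Fin p → V) (hcN : ∀ i, c i ∈ N) (hc : ∀ i, w (c i) = c i)
    (h0 : ∑ i : Fin p, (u ^ (i : ℕ)) (c i) = 0) : c = 0 := by
  have hw : ∀ (j : ℕ) (i : Fin p), (w ^ j) (c i) = c i := by
    intro j i
    induction j with
    | zero => simp
    | succ j ih => rw [pow_succ, mul_app, hc, ih]
  have h1 : ∀ j : Fin p, ∑ i : Fin p, (u ^ (s ^ (j : ℕ) * (i : ℕ))) (c i) = 0 := by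
    intro j
    have h2 := congrArg (w ^ (j : ℕ)) h0
    rw [map_sum, map_zero] at h2
    rw [← h2]
    refine Finset.sum_congr rfl fun i _ => ?_
    rw [← mul_app, pow_comm_pow h, mul_app, hw]
  -- the Vandermonde matrix
  let y : Fin p → ℤ[X] := fun j => X ^ (s ^ (j : ℕ))
  let A : Matrix (Fin p) (Fin p) ℤ[X] := Matrix.vandermonde y
  have hA : ∀ j i, aeval u (A j i) = u ^ (s ^ (j : ℕ) * (i : ℕ)) := by
    intro j i
    change aeval u ((X ^ (s ^ (j : ℕ))) ^ (i : ℕ)) = _
    rw [← pow_mul, map_pow, aeval_X]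
  have h3 : ∀ k : Fin p, (aeval u A.det) (c k) = 0 := by
    intro k
    have h4 : ∑ j, (aeval u (A.adjugate k j)) (∑ i, (aeval u (A j i)) (c i)) = 0 := by
      refine Finset.sum_eq_zero fun j _ => ?_
      have h5 : ∑ i, (aeval u (A j i)) (c i) = 0 := by
        rw [← h1 j]
        exact Finset.sum_congr rfl fun i _ => by rw [hA]
      rw [h5, map_zero]
    have h6 : ∑ j, (aeval u (A.adjugate k j)) (∑ i, (aeval u (A j i)) (c i)) =
        ∑ i, (aeval u ((A.adjugate * A) k i)) (c i) := by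
      simp_rw [map_sum, Matrix.mul_apply, map_sum, map_mul]
      rw [Finset.sum_comm]
      refine Finset.sum_congr rfl fun i _ => ?_
      rw [sum_app]
      rfl
    rw [h6, Matrix.adjugate_mul] at h4
    rw [← h4]
    rw [Finset.sum_eq_single k]
    · simp
    · intro b _ hb
      simp [Matrix.smul_apply, Matrix.one_apply_ne hb.symm]
    · intro hk
      exact absurd (Finset.mem_univ k) hk
  have hu : ∀ v, u v = 0 → v = 0 := by
    intro v hv
    obtain ⟨n, rfl⟩ : ∃ n, r = n + 1 := ⟨r - 1, by omega⟩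
    have h7 : (u ^ (n + 1)) v = 0 := by rw [pow_succ, mul_app, hv, map_zero]
    rw [hr] at h7
    exact h7
  have hun : ∀ (n : ℕ) (v : V), (u ^ n) v = 0 → v = 0 := by
    intro n
    induction n with
    | zero => intro v hv; exact hv
    | succ n ih =>
      intro v hv
      rw [pow_succ, mul_app] at hv
      exact hu v (ih _ hv)
  have hNn : ∀ (n : ℕ), ∀ v ∈ N, (u ^ n) v ∈ N := by
    intro n
    induction n with
    | zero => intro v hv; exact hv
    | succ n ih =>
      intro v hv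
      rw [pow_succ, mul_app]
      exact ih _ (hN v hv)
  have h8 : ∀ v ∈ N, (aeval u A.det) v ∈ N ∧ ((aeval u A.det) v = 0 → v = 0) := by
    have h9 : A.det = ∏ i : Fin p, ∏ j ∈ Finset.Ioi i, (y j - y i) := Matrix.det_vandermonde y
    rw [h9]
    refine Finset.prod_induction _ (fun q : ℤ[X] => ∀ v ∈ N, (aeval u q) v ∈ N ∧ ((aeval u q) v = 0 → v = 0))
      ?_ ?_ fun i _ => ?_
    · intro a b ha hb v hv
      rw [map_mul, mul_app]
      refine ⟨(ha _ (hb v hv).1).1, fun h10 => (hb v hv).2 ((ha _ (hb v hv).1).2 h10)⟩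
    · intro v hv
      rw [map_one]
      exact ⟨hv, fun h10 => h10⟩
    · refine Finset.prod_induction _ (fun q : ℤ[X] => ∀ v ∈ N, (aeval u q) v ∈ N ∧ ((aeval u q) v = 0 → v = 0))
        ?_ ?_ fun j hj => ?_
      · intro a b ha hb v hv
        rw [map_mul, mul_app]
        refine ⟨(ha _ (hb v hv).1).1, fun h10 => (hb v hv).2 ((ha _ (hb v hv).1).2 h10)⟩
      · intro v hv
        rw [map_one]
        exact ⟨hv, fun h10 => h10⟩
      · intro v hv
        have hij0 : i < j := Finset.mem_Ioi.1 hj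
        have hij : (i : ℕ) < (j : ℕ) := hij0
        have h11 : (aeval u (y j - y i)) v = (u ^ (s ^ (j : ℕ))) v - (u ^ (s ^ (i : ℕ))) v := by
          change (aeval u (X ^ (s ^ (j : ℕ)) - X ^ (s ^ (i : ℕ)) : ℤ[X])) v = _
          rw [map_sub, map_pow, map_pow, aeval_X]
          rfl
        rw [h11]
        refine ⟨N.sub_mem (hNn _ v hv) (hNn _ v hv), fun h12 => ?_⟩
        have hle : s ^ (i : ℕ) ≤ s ^ (j : ℕ) := Nat.pow_le_pow_right hs1 hij.le
        obtain ⟨m, hm⟩ := Nat.exists_eq_add_of_le hle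
        have h13 : ¬ r ∣ m := by
          have := hs i j hij j.2
          rwa [hm, Nat.add_sub_cancel_left] at this
        refine hinj m h13 v hv ?_
        rw [hm, pow_add, mul_app, ← map_sub] at h12
        exact sub_eq_zero.1 (hun _ _ h12)
  funext k
  exact (h8 _ (hcN k)).2 (h3 k)

/-- `|C_N(w)|^p ≤ |N|`. -/
theorem card_pow_le [Finite V] {u w : AddMonoid.End V} {s r p : ℕ} (N : AddSubgroup V) (hN : ∀ v ∈ N, u v ∈ N)
    (h : w * u = u ^ s * w) (hs1 : 1 ≤ s) (hr0 : 0 < r) (hr : u ^ r = 1)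
    (hinj : ∀ m : ℕ, ¬ r ∣ m → ∀ v ∈ N, (u ^ m) v = v → v = 0)
    (hs : ∀ i j : ℕ, i < j → j < p → ¬ r ∣ s ^ j - s ^ i) (C : AddSubgroup V)
    (hCN : C ≤ N) (hC : ∀ v ∈ C, w v = v) : Nat.card C ^ p ≤ Nat.card N := by
  have hNn : ∀ (n : ℕ), ∀ v ∈ N, (u ^ n) v ∈ N := by
    intro n
    induction n with
    | zero => intro v hv; exact hv
    | succ n ih =>
      intro v hv
      rw [pow_succ, mul_app]
      exact ih _ (hN v hv)
  let f : (Fin p → C) → N := fun c => ⟨∑ i : Fin p, (u ^ (i : ℕ)) (c i : V),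
    N.sum_mem fun i _ => hNn _ _ (hCN (c i).2)⟩
  have hf : Function.Injective f := by
    intro c c' hcc
    have h1 : ∑ i : Fin p, (u ^ (i : ℕ)) (c i : V) = ∑ i : Fin p, (u ^ (i : ℕ)) (c' i : V) := congrArg Subtype.val hcc
    have h2 : ∑ i : Fin p, (u ^ (i : ℕ)) ((c i : V) - (c' i : V)) = 0 := by
      simp_rw [map_sub]
      rw [Finset.sum_sub_distrib, h1, sub_self]
    have h3 := vand N hN h hs1 hr0 hr hinj hs (fun i => (c i : V) - (c' i : V))
      (fun i => N.sub_mem (hCN (c i).2) (hCN (c' i).2))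
      (fun i => by rw [map_sub, hC _ (c i).2, hC _ (c' i).2]) h2
    funext i
    exact Subtype.ext (sub_eq_zero.1 (congrFun h3 i))
  have h4 := Nat.card_le_card_of_injective f hf
  rwa [Nat.card_fun, Nat.card_eq_fintype_card (α := Fin p), Fintype.card_fin] at h4

end add

/-! ### The action of `H` on `M`, additively -/

section mul

variable {H : Type*} [Group H] {M : Type*} [CommGroup M] [MulDistribMulAction H M]

/-- The endomorphism of `Additive M` given by `h`. -/
def rho : H →* AddMonoid.End (Additive M) where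
  toFun h := MonoidHom.toAdditive (MulDistribMulAction.toMonoidHom M h)
  map_one' := by
    ext v
    exact one_smul H (Additive.toMul v)
  map_mul' g h := by
    ext v
    exact mul_smul g h (Additive.toMul v)

theorem rho_apply (h : H) (v : Additive M) : rho (M := M) h v = Additive.ofMul (h • Additive.toMul v) := rfl

/-- `h - 1`. -/
def dl (M : Type*) [CommGroup M] [MulDistribMulAction H M] (h : H) : AddMonoid.End (Additive M) := rho (M := M) h - 1

/-- `[M, h]`. -/
def rg (M : Type*) [CommGroup M] [MulDistribMulAction H M] (h : H) : AddSubgroup (Additive M) :=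
  AddMonoidHom.range (dl M h)

/-- `C_M(h)`. -/
def kr (M : Type*) [CommGroup M] [MulDistribMulAction H M] (h : H) : AddSubgroup (Additive M) :=
  AddMonoidHom.ker (dl M h)

theorem mem_kr {h : H} {v : Additive M} : v ∈ kr M h ↔ rho (M := M) h v = v := by
  constructor
  · intro hv
    have h1 : rho (M := M) h v - v = 0 := hv
    exact sub_eq_zero.1 h1
  · intro hv
    exact (sub_eq_zero.2 hv : rho (M := M) h v - v = 0)

theorem card_kr (h : H) : Nat.card (kr M h) = Nat.card (cv M ({h} : Set H)) := by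
  have h1 : ∀ m : M, m ∈ cv M ({h} : Set H) ↔ Additive.ofMul m ∈ kr M h := fun m =>
    (mem_cv_singleton (V := M) (a := h) (v := m)).trans (mem_kr (v := Additive.ofMul m)).symm
  exact (Nat.card_congr (Equiv.subtypeEquiv Additive.ofMul h1)).symm

theorem index_kr [Finite M] (h : H) : (kr M h).index = (cv M ({h} : Set H)).index := by
  have h1 := (kr M h).card_mul_index
  have h2 := (cv M ({h} : Set H)).card_mul_index
  rw [card_kr] at h1
  have h3 : Nat.card (Additive M) = Nat.card M := rfl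
  rw [h3, ← h2] at h1
  exact Nat.eq_of_mul_eq_mul_left Nat.card_pos h1

theorem card_rg [Finite M] (h : H) : Nat.card (rg M h) = (cv M ({h} : Set H)).index := by
  rw [← index_kr]
  exact (AddSubgroup.index_ker _).symm

/-- Coprime action: `C_{[M,u]}(u^m) = 1`. -/
theorem rg_inj {u : H} {r : ℕ} (sq : ∀ m : M, m * m = 1) (hp : r.Prime) (ho : Odd r) (hr : u ^ r = 1) {m : ℕ}
    (hm : ¬ r ∣ m) (v : Additive M) (hv : v ∈ rg M u) (hf : (rho (M := M) u ^ m) v = v) : v = 0 := by
  have hU : rho (M := M) u ^ r = 1 := by rw [← map_pow, hr, map_one]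
  have h1 : Function.IsPeriodicPt (rho (M := M) u) m v := by
    rw [Function.IsPeriodicPt, Function.IsFixedPt, ← AddMonoid.End.coe_pow]
    exact hf
  have h2 : Function.IsPeriodicPt (rho (M := M) u) r v := by
    rw [Function.IsPeriodicPt, Function.IsFixedPt, ← AddMonoid.End.coe_pow, hU]
    rfl
  have h3 := h1.gcd h2
  have h4 : m.gcd r = 1 := ((Nat.Prime.coprime_iff_not_dvd hp).2 hm).symm
  rw [h4] at h3
  have h5 : rho (M := M) u v = v := h3
  obtain ⟨x, hx⟩ := hv
  have hx' : rho (M := M) u x = x + v := by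
    rw [← hx]
    change _ = x + ((rho (M := M) u) x - x)
    abel
  have h6 : ∀ k : ℕ, (rho (M := M) u ^ k) x = x + k • v := by
    intro k
    induction k with
    | zero => rw [pow_zero, zero_smul, add_zero]; rfl
    | succ k ih =>
      rw [pow_succ', mul_app, ih, map_add, map_nsmul, h5, hx', succ_nsmul]
      abel
  have h7 := h6 r
  rw [hU] at h7
  have h8 : r • v = 0 := by
    have h9 : x = x + r • v := h7
    exact (left_eq_add.1 h9)
  have h10 : 2 • v = 0 := by
    rw [two_nsmul]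
    exact sq (Additive.toMul v)
  obtain ⟨n, rfl⟩ := ho
  rw [add_smul, one_smul, mul_comm, mul_smul, h10, smul_zero, zero_add] at h8
  exact h8

/-- (FROB) -/
theorem frob' [Finite M] {u w : H} {s r p : ℕ} (sq : ∀ m : M, m * m = 1) (hp : r.Prime) (ho : Odd r) (hr : u ^ r = 1)
    (hw : w * u * w⁻¹ = u ^ s) (hs1 : 1 ≤ s) (hs : ∀ i j : ℕ, i < j → j < p → ¬ r ∣ s ^ j - s ^ i) (hp1 : 1 ≤ p) :
    (cv M ({u} : Set H)).index ^ (p - 1) ≤ (cv M ({w} : Set H)).index ^ p := by
  have h : rho (M := M) w * rho u = rho u ^ s * rho w := by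
    rw [← map_mul, ← map_pow, ← map_mul, ← hw]
    congr 1
    group
  have hU : rho (M := M) u ^ r = 1 := by rw [← map_pow, hr, map_one]
  have hN : ∀ v ∈ rg M u, rho (M := M) u v ∈ rg M u := by
    rintro v ⟨x, rfl⟩
    exact ⟨rho (M := M) u x, by
      change rho (M := M) u (rho (M := M) u x) - rho (M := M) u x = rho (M := M) u (rho (M := M) u x - x)
      rw [map_sub]⟩
  have h1 := card_pow_le (rg M u) hN h hs1 hp.pos hU (fun m hm v hv hf => rg_inj sq hp ho hr hm v hv hf) hs
    (kr M w ⊓ rg M u) inf_le_right (fun v hv => mem_kr.1 hv.1)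
  have h2 : (kr M w).relIndex (rg M u) * Nat.card ↥(kr M w ⊓ rg M u) = Nat.card (rg M u) := by
    have h3 := AddSubgroup.relIndex_mul_relIndex (⊥ : AddSubgroup (Additive M)) (kr M w ⊓ rg M u) (rg M u) bot_le
      inf_le_right
    rw [AddSubgroup.relIndex_bot_left, AddSubgroup.relIndex_bot_left, AddSubgroup.inf_relIndex_right, mul_comm] at h3
    exact h3
  have h4 : (kr M w).relIndex (rg M u) ≤ (kr M w).index :=
    Nat.le_of_dvd (Nat.pos_of_ne_zero AddSubgroup.FiniteIndex.index_ne_zero)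
      (AddSubgroup.relIndex_dvd_index_of_normal _ _)
  rw [index_kr] at h4
  rw [← card_rg]
  set n := Nat.card (rg M u)
  set c := Nat.card ↥(kr M w ⊓ rg M u)
  set j := (kr M w).relIndex (rg M u)
  have hn : 0 < n := Nat.card_pos
  obtain ⟨q, rfl⟩ : ∃ q, p = q + 1 := ⟨p - 1, by omega⟩
  rw [Nat.add_sub_cancel]
  have h5 : n ^ q * n ≤ (cv M ({w} : Set H)).index ^ (q + 1) * n := by
    calc n ^ q * n = (j * c) ^ (q + 1) := by rw [h2, pow_succ]
      _ = j ^ (q + 1) * c ^ (q + 1) := mul_pow _ _ _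
      _ ≤ (cv M ({w} : Set H)).index ^ (q + 1) * n := Nat.mul_le_mul (Nat.pow_le_pow_left h4 _) h1
  exact Nat.le_of_mul_le_mul_right h5 hn

end mul

/-! ### The statements for a group `M` of exponent two -/

section main

variable {H : Type*} [Group H] {M : Type*} [Group M] [MulDistribMulAction H M]

theorem comm_of_sq (sq : ∀ m : M, m * m = 1) (a b : M) : a * b = b * a := by
  have h1 : a * b * (a * b) = 1 := sq _
  calc a * b = (b * b) * (a * b) * (a * a) := by rw [sq, sq, one_mul, mul_one]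
    _ = b * (b * (a * b) * a) * a := by group
    _ = b * (b * (a * b * (a * b)) * b⁻¹) * a := by group
    _ = b * a := by rw [h1]; group

/-- **(FROB)** `|M : C_M(u)|^(p-1) ≤ |M : C_M(w)|^p`. -/
theorem frob_index [Finite M] {u w : H} {s r p : ℕ} (sq : ∀ m : M, m * m = 1) (hp : r.Prime) (ho : Odd r)
    (hr : u ^ r = 1) (hw : w * u * w⁻¹ = u ^ s) (hs1 : 1 ≤ s)
    (hs : ∀ i j : ℕ, i < j → j < p → ¬ r ∣ s ^ j - s ^ i) (hp1 : 1 ≤ p) :
    (cv M ({u} : Set H)).index ^ (p - 1) ≤ (cv M ({w} : Set H)).index ^ p := by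
  let _ : CommGroup M := { (inferInstance : Group M) with mul_comm := comm_of_sq sq }
  exact frob' sq hp ho hr hw hs1 hs hp1

theorem card_cv_conj (g x : H) : Nat.card (cv M ({g * x * g⁻¹} : Set H)) = Nat.card (cv M ({x} : Set H)) := by
  refine Nat.card_congr ⟨fun v => ⟨g⁻¹ • (v : M), ?_⟩, fun v => ⟨g • (v : M), ?_⟩, ?_, ?_⟩
  · rw [mem_cv_singleton]
    have h1 := mem_cv_singleton.1 v.2
    rw [mul_smul, mul_smul] at h1
    exact (eq_inv_smul_iff.2 h1)
  · rw [mem_cv_singleton]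
    have h1 := mem_cv_singleton.1 v.2
    rw [mul_smul, mul_smul, inv_smul_smul, h1]
  · intro v; exact Subtype.ext (smul_inv_smul g _)
  · intro v; exact Subtype.ext (inv_smul_smul g _)

theorem index_cv_conj [Finite M] (g x : H) : (cv M ({g * x * g⁻¹} : Set H)).index = (cv M ({x} : Set H)).index := by
  have h1 := (cv M ({g * x * g⁻¹} : Set H)).card_mul_index
  have h2 := (cv M ({x} : Set H)).card_mul_index
  rw [card_cv_conj, ← h2] at h1
  exact Nat.eq_of_mul_eq_mul_left Nat.card_pos h1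

/-- **(INV)** `|M : C_M(w)| ≤ |M : C_M(x)|²`. -/
theorem inv_index [Finite M] {x w : H} {n : ℕ} (hx : x * x = 1) (hw : x * w * x⁻¹ = w⁻¹) (ho : Odd n) (hn : w ^ n = 1) :
    (cv M ({w} : Set H)).index ≤ (cv M ({x} : Set H)).index ^ 2 := by
  have h1 : cv M ({x} : Set H) ⊓ cv M ({w * x * w⁻¹} : Set H) ≤ cv M ({w} : Set H) := by
    rintro v ⟨hv1, hv2⟩
    have h2 := mem_cv_singleton.1 hv1
    have h3 := mem_cv_singleton.1 hv2
    rw [mem_cv_singleton]
    have h4 : x * (w * x * w⁻¹) = w⁻¹ ^ 2 := by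
      have hx' : x = x⁻¹ := eq_inv_of_mul_eq_one_left hx
      calc x * (w * x * w⁻¹) = (x * w * x⁻¹) * w⁻¹ := by
            rw [← hx']; group
        _ = w⁻¹ ^ 2 := by rw [hw, pow_two]
    have h5 : (w⁻¹ ^ 2) • v = v := by rw [← h4, mul_smul, h3, h2]
    obtain ⟨k, rfl⟩ := ho
    have h6 : ∀ j : ℕ, ((w⁻¹ ^ 2) ^ j) • v = v := by
      intro j
      induction j with
      | zero => rw [pow_zero, one_smul]
      | succ j ih => rw [pow_succ, mul_smul, h5, ih]
    have h7 : w = (w⁻¹ ^ 2) ^ k := by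
      rw [← pow_mul, inv_pow]
      rw [pow_succ] at hn
      exact eq_inv_of_mul_eq_one_right hn
    rw [h7]
    exact h6 k
  calc (cv M ({w} : Set H)).index ≤ (cv M ({x} : Set H) ⊓ cv M ({w * x * w⁻¹} : Set H)).index :=
        Nat.le_of_dvd (Nat.pos_of_ne_zero Subgroup.FiniteIndex.index_ne_zero) (Subgroup.index_dvd_of_le h1)
    _ ≤ (cv M ({x} : Set H)).index * (cv M ({w * x * w⁻¹} : Set H)).index := Subgroup.index_inf_le
    _ = (cv M ({x} : Set H)).index ^ 2 := by rw [index_cv_conj, pow_two]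

theorem isPGroup_two (sq : ∀ m : M, m * m = 1) : IsPGroup 2 M := fun m => ⟨1, by rw [pow_one, pow_two, sq]⟩

theorem index_pow [Finite M] (sq : ∀ m : M, m * m = 1) (N : Subgroup M) : ∃ k, N.index = 2 ^ k :=
  (isPGroup_two sq).index N

/-- **(ORD)** -/
theorem ord_index [Finite M] {u : H} {r k : ℕ} (sq : ∀ m : M, m * m = 1) (hp : r.Prime) (ho : Odd r)
    (hr : u ^ r = 1) (hu : ∃ m : M, u • m ≠ m) (hk : ∀ n : ℕ, 0 < n → r ∣ 2 ^ n - 1 → k ≤ n) :
    2 ^ k ≤ (cv M ({u} : Set H)).index := by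
  have : Fact r.Prime := ⟨hp⟩
  have h1 : IsPGroup r (zpowers u) := by
    intro g
    obtain ⟨i, hi⟩ := mem_zpowers_iff.1 g.2
    refine ⟨1, Subtype.ext ?_⟩
    rw [pow_one, SubgroupClass.coe_pow, ← hi, ← zpow_natCast, ← zpow_mul, mul_comm, zpow_mul, zpow_natCast, hr,
      one_zpow]
    rfl
  have h2 := h1.card_modEq_card_fixedPoints M
  have h3 : Nat.card (MulAction.fixedPoints (zpowers u) M) = Nat.card (cv M ({u} : Set H)) := by
    refine Nat.card_congr (Equiv.subtypeEquivRight fun m => ?_)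
    constructor
    · intro hm
      exact mem_cv_singleton.2 (hm ⟨u, mem_zpowers u⟩)
    · intro hm g
      have hm' : m ∈ cv M ((zpowers u : Subgroup H) : Set H) := by rwa [← QData.cv_singleton]
      exact hm' g g.2
  rw [h3, ← (cv M ({u} : Set H)).card_mul_index] at h2
  obtain ⟨j, hj⟩ := index_pow sq (cv M ({u} : Set H))
  obtain ⟨c, hc⟩ := IsPGroup.iff_card.1 ((isPGroup_two sq).to_subgroup (cv M ({u} : Set H)))
  rw [hj]
  refine Nat.pow_le_pow_right (by norm_num) (hk j ?_ ?_)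
  · rcases Nat.eq_zero_or_pos j with h4 | h4
    · rw [h4, pow_zero, index_eq_one] at hj
      obtain ⟨m, hm⟩ := hu
      exact absurd (mem_cv_singleton.1 (hj ▸ mem_top m : m ∈ cv M ({u} : Set H))) hm
    · exact h4
  · rw [hc, hj] at h2
    have h5 : 2 ^ c * 1 ≡ 2 ^ c * 2 ^ j [MOD r] := by rw [mul_one]; exact h2.symm
    have h6 : Nat.gcd r (2 ^ c) = 1 := by
      refine Nat.Coprime.pow_right _ ?_
      exact ho.coprime_two_right
    have h7 : 1 ≡ 2 ^ j [MOD r] := Nat.ModEq.cancel_left_of_coprime h6 h5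
    exact (Nat.modEq_iff_dvd' Nat.one_le_two_pow).1 h7

/-- `A` strict, `x ∈ A`: `|M : C_M(x)| < |A|`. -/
theorem lt_card [Finite H] [Finite M] {A : Subgroup H} (hA : Strict (fab M 1 1) A) (h1 : A ≠ ⊥) {x : H} (hx : x ∈ A) :
    (cv M ({x} : Set H)).index < Nat.card A := by
  have h2 := hA ⊥ (bot_lt_iff_ne_bot.2 h1)
  have h3 : Nat.card M < Nat.card A * Nat.card (cv M (A : Set H)) := by
    have h4 : fab M 1 1 (⊥ : Subgroup H) = Nat.card M := by
      rw [fab, cv_bot, Subgroup.card_bot]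
      simp
    have h5 : fab M 1 1 A = Nat.card A * Nat.card (cv M (A : Set H)) := by rw [fab, pow_one, pow_one]
    rwa [h4, h5] at h2
  have h6 : (cv M (A : Set H)).index < Nat.card A := by
    rw [← (cv M (A : Set H)).card_mul_index, mul_comm] at h3
    exact Nat.lt_of_mul_lt_mul_right h3
  refine lt_of_le_of_lt ?_ h6
  exact Nat.le_of_dvd (Nat.pos_of_ne_zero Subgroup.FiniteIndex.index_ne_zero)
    (Subgroup.index_dvd_of_le (cv_anti (Set.singleton_subset_iff.2 hx)))

/-! ### Numerical forms -/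

/-- (INV), exponents: `2c ≤ b + 1`. -/
theorem inv_pow [Finite M] {x w : H} {n b c : ℕ} (sq : ∀ m : M, m * m = 1) (hx : x * x = 1) (hw : x * w * x⁻¹ = w⁻¹)
    (ho : Odd n) (hn : w ^ n = 1) (hb : 2 ^ b ≤ (cv M ({w} : Set H)).index) (hc : 2 * c ≤ b + 1) :
    2 ^ c ≤ (cv M ({x} : Set H)).index := by
  have h1 := hb.trans (inv_index (M := M) hx hw ho hn)
  obtain ⟨k, hk⟩ := index_pow sq (cv M ({x} : Set H))
  rw [hk] at h1 ⊢
  rw [← pow_mul] at h1
  have h2 := (Nat.pow_le_pow_iff_right (by norm_num : 1 < 2)).1 h1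
  exact Nat.pow_le_pow_right (by norm_num) (by omega)

/-- (FROB), exponents: `p b < a (p - 1) + p`. -/
theorem frob_pow [Finite M] {u w : H} {s r p a b : ℕ} (sq : ∀ m : M, m * m = 1) (hp : r.Prime) (ho : Odd r)
    (hr : u ^ r = 1) (hw : w * u * w⁻¹ = u ^ s) (hs1 : 1 ≤ s)
    (hs : ∀ i j : ℕ, i < j → j < p → ¬ r ∣ s ^ j - s ^ i) (hp1 : 1 ≤ p)
    (ha : 2 ^ a ≤ (cv M ({u} : Set H)).index) (hb : p * b < a * (p - 1) + p) :
    2 ^ b ≤ (cv M ({w} : Set H)).index := by
  have h1 := frob_index (M := M) sq hp ho hr hw hs1 hs hp1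
  have h2 : 2 ^ (a * (p - 1)) ≤ (cv M ({w} : Set H)).index ^ p := by
    rw [pow_mul]
    exact (Nat.pow_le_pow_left ha _).trans h1
  obtain ⟨k, hk⟩ := index_pow sq (cv M ({w} : Set H))
  rw [hk] at h2 ⊢
  rw [← pow_mul] at h2
  have h3 := (Nat.pow_le_pow_iff_right (by norm_num : 1 < 2)).1 h2
  refine Nat.pow_le_pow_right (by norm_num) ?_
  by_contra h4
  have h5 : k + 1 ≤ b := by omega
  have h6 : p * (k + 1) ≤ p * b := Nat.mul_le_mul_left _ h5
  have h7 : p * (k + 1) = k * p + p := by ring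
  omega

/-- `A` strict, `x ∈ A`, `2^c ≤ |M : C_M(x)|`: `2^c < |A|`. -/
theorem lt_card_of [Finite H] [Finite M] {A : Subgroup H} (hA : Strict (fab M 1 1) A) (h1 : A ≠ ⊥) {x : H} (hx : x ∈ A)
    {c : ℕ} (hc : 2 ^ c ≤ (cv M ({x} : Set H)).index) : 2 ^ c < Nat.card A := hc.trans_lt (lt_card hA h1 hx)

end main

/-! ### The orders of 2 modulo small primes -/

theorem ord_5 : ∀ n : ℕ, 0 < n → 5 ∣ 2 ^ n - 1 → 4 ≤ n := by
  intro n h1 h2
  by_contra h3
  interval_cases n <;> revert h2 <;> decide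

theorem ord_7 : ∀ n : ℕ, 0 < n → 7 ∣ 2 ^ n - 1 → 3 ≤ n := by
  intro n h1 h2
  by_contra h3
  interval_cases n <;> revert h2 <;> decide

theorem ord_11 : ∀ n : ℕ, 0 < n → 11 ∣ 2 ^ n - 1 → 10 ≤ n := by
  intro n h1 h2
  by_contra h3
  interval_cases n <;> revert h2 <;> decide

theorem ord_13 : ∀ n : ℕ, 0 < n → 13 ∣ 2 ^ n - 1 → 12 ≤ n := by
  intro n h1 h2
  by_contra h3
  interval_cases n <;> revert h2 <;> decide

theorem ord_17 : ∀ n : ℕ, 0 < n → 17 ∣ 2 ^ n - 1 → 8 ≤ n := by
  intro n h1 h2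
  by_contra h3
  interval_cases n <;> revert h2 <;> decide

theorem ord_19 : ∀ n : ℕ, 0 < n → 19 ∣ 2 ^ n - 1 → 18 ≤ n := by
  intro n h1 h2
  by_contra h3
  interval_cases n <;> revert h2 <;> decide

theorem ord_23 : ∀ n : ℕ, 0 < n → 23 ∣ 2 ^ n - 1 → 11 ≤ n := by
  intro n h1 h2
  by_contra h3
  interval_cases n <;> revert h2 <;> decide

theorem ord_29 : ∀ n : ℕ, 0 < n → 29 ∣ 2 ^ n - 1 → 28 ≤ n := by
  intro n h1 h2
  by_contra h3
  interval_cases n <;> revert h2 <;> decide

theorem ord_31 : ∀ n : ℕ, 0 < n → 31 ∣ 2 ^ n - 1 → 5 ≤ n := by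
  intro n h1 h2
  by_contra h3
  interval_cases n <;> revert h2 <;> decide

end Cfsg.Agent.Omega.ML.InvFrob

end

section


/-!
# (ML), the K-list end: rows killed by one inverted element (helper226; #17288 of helper763)

* `act h` : `H → Aut(K / Z(K))`;  `card_le` : `|A| ≤ 2 ^ n` for `RK (K / Z(K)) n`;
* `exists_mem` : `A ∩ K ≠ 1` if `|Out(K / Z(K))| < 8`;
* `index_lt` : `|M : C_M(x)| < |A|` for `x ∈ A`.
-/

set_option autoImplicit false

namespace Cfsg.Agent.Omega.ML.InvRow

open Subgroup Cfsg Cfsg.Agent.ZN Cfsg.Agent.Omega.NOThree.NoOver Cfsg.Agent.Omega.ML.CD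
open Cfsg.Agent.Omega.ML.Rows Cfsg.Agent.Omega.ML.InvChain Cfsg.Agent.Omega.TwoF
open Cfsg.Agent.ClassTwoFusion.Quad

universe u v

section act

variable {H : Type u} [Group H] {K : Subgroup H} [K.Normal]

/-- the action on `K / Z(K)` -/
noncomputable def act : H →* MulAut (K ⧸ center K) where
  toFun g := QuotientGroup.congr (center K) (center K) (MulAut.conjNormal g : MulAut K)
    (Subgroup.characteristic_iff_map_eq.1 inferInstance _)
  map_one' := by
    ext x
    induction x using QuotientGroup.induction_on with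
    | H k => simp
  map_mul' g g' := by
    ext x
    induction x using QuotientGroup.induction_on with
    | H k =>
      rw [map_mul]
      rfl

theorem act_mk (g : H) (k : K) :
    (act g : MulAut (K ⧸ center K)) (k : K ⧸ center K) = ((MulAut.conjNormal g k : K) : K ⧸ center K) := rfl

theorem mem_centralizer_of_act (hq : IsQuasisimple K) {g : H} (hg : (act g : MulAut (K ⧸ center K)) = 1) :
    g ∈ centralizer (K : Set H) := by
  have h1 : ∀ k : K, (k : H)⁻¹ * (g * k * g⁻¹) ∈ (center K).map K.subtype := by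
    intro k
    have h2 := congrArg (fun φ : MulAut (K ⧸ center K) => φ (k : K ⧸ center K)) hg
    simp only [act_mk, MulAut.one_apply] at h2
    have h3 := QuotientGroup.eq.1 h2.symm
    exact ⟨_, h3, by simp⟩
  -- the homomorphism `k ↦ k⁻¹ g k g⁻¹`
  have hcen : ∀ c ∈ (center K).map K.subtype, ∀ k ∈ K, c * k = k * c := by
    rintro _ ⟨c, hc, rfl⟩ k hk
    exact (congrArg Subtype.val (mem_center_iff.1 hc ⟨k, hk⟩)).symm
  let ψ : K →* H :=
    { toFun := fun k => (k : H)⁻¹ * (g * k * g⁻¹)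
      map_one' := by simp
      map_mul' := by
        intro a b
        have h2 := hcen _ (h1 a) (b : H)⁻¹ (inv_mem b.2)
        have h3 : ((a * b : K) : H)⁻¹ * (g * ((a * b : K) : H) * g⁻¹) =
            (b : H)⁻¹ * ((a : H)⁻¹ * (g * a * g⁻¹)) * (g * b * g⁻¹) := by
          rw [Subgroup.coe_mul]; group
        rw [h3, ← h2]
        group }
  have hcomm : commutator K ≤ ψ.ker := by
    rw [commutator_def, Subgroup.commutator_le]
    intro a _ b _
    rw [MonoidHom.mem_ker, map_commutatorElement, commutatorElement_eq_one_iff_mul_comm]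
    have h2 : ψ b ∈ K := by
      obtain ⟨c, _, hc⟩ := h1 b
      have h3 : ψ b = (c : H) := hc.symm
      rw [h3]
      exact c.2
    exact hcen _ (h1 a) _ h2
  rw [mem_centralizer_iff]
  intro k hk
  have h4 : (⟨k, hk⟩ : K) ∈ ψ.ker := by
    apply hcomm
    have : commutator K = ⊤ := hq.1.1
    rw [this]
    exact mem_top _
  have h5 : k⁻¹ * (g * k * g⁻¹) = 1 := h4
  rw [inv_mul_eq_one] at h5
  rw [eq_mul_inv_iff_mul_eq] at h5
  exact h5

end act

section main

variable {H : Type u} [Group H] [Finite H] {M : Type v} [Group M] [Finite M] [MulDistribMulAction H M]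
  {K T A : Subgroup H}

omit [Finite H] [Finite M] in
/-- an element of `C_H(K)` of square 1 is 1 -/
theorem eq_one (h : In H M K T A) {g : H} (hg : g ∈ centralizer (K : Set H)) (h2 : g * g = 1) : g = 1 := by
  have hc : (⟨g, h.cen hg⟩ : K) ∈ center K := mem_center_iff.2 fun y =>
    Subtype.ext (mem_centralizer_iff.1 hg y y.2)
  have h1 : orderOf (⟨_, hc⟩ : center K) ∣ 2 := orderOf_dvd_of_pow_eq_one (by
    rw [pow_two]; exact Subtype.ext (Subtype.ext h2))
  have h3 := Nat.dvd_gcd h1 (orderOf_dvd_natCard (⟨_, hc⟩ : center K))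
  rw [Nat.coprime_two_left.2 h.odd] at h3
  have h4 := orderOf_eq_one_iff.1 (Nat.dvd_one.1 h3)
  exact congrArg (fun x : center K => ((x : K) : H)) h4

/-- **`|A| ≤ 2 ^ n`.** -/
theorem card_le (h : In H M K T A) {n : ℕ} (hrk : RK (K ⧸ center K) n) : Nat.card A ≤ 2 ^ n := by
  have hN := h.norm
  refine hrk.card_le_of_injective (act.comp A.subtype) ?_ (fun x => ?_)
  · rw [injective_iff_map_eq_one]
    intro a ha
    exact Subtype.ext (eq_one h (mem_centralizer_of_act h.qs ha) (h.el a a.2))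
  · rw [pow_two]
    exact Subtype.ext (h.el x x.2)

omit [Finite M] in
/-- `|H : K| ≤ |Out(K / Z(K))|` -/
theorem index_le (h : In H M K T A) :
    K.index ≤ (MulAut.conj : K ⧸ center K →* MulAut (K ⧸ center K)).range.index := by
  have hN := h.norm
  have : Finite (MulAut (K ⧸ center K)) :=
    Finite.of_injective (fun φ => (φ : K ⧸ center K → K ⧸ center K)) DFunLike.coe_injective
  set R := (MulAut.conj : K ⧸ center K →* MulAut (K ⧸ center K)).range with hR
  have h1 : R.comap (act : H →* MulAut (K ⧸ center K)) ≤ K := by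
    intro g hg
    obtain ⟨s, hs⟩ := hg
    induction s using QuotientGroup.induction_on with
    | H k =>
      have h2 : (act ((k : H)⁻¹ * g) : MulAut (K ⧸ center K)) = 1 := by
        have h3 : (act (k : H) : MulAut (K ⧸ center K)) = MulAut.conj (k : K ⧸ center K) := by
          ext x
          induction x using QuotientGroup.induction_on with
          | H x => 
            rw [act_mk, MulAut.conj_apply]
            rw [← QuotientGroup.mk_mul, ← QuotientGroup.mk_inv, ← QuotientGroup.mk_mul]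
            congr 1
        rw [map_mul, map_inv, h3, ← hs, inv_mul_cancel]
      have h4 := h.cen (mem_centralizer_of_act h.qs h2)
      have h5 := mul_mem k.2 h4
      rwa [mul_inv_cancel_left] at h5
  calc K.index ≤ (R.comap (act : H →* MulAut (K ⧸ center K))).index :=
        Nat.le_of_dvd (Nat.pos_of_ne_zero index_ne_zero_of_finite) (index_dvd_of_le h1)
    _ = R.relIndex (act : H →* MulAut (K ⧸ center K)).range := by rw [index_comap]
    _ ≤ R.relIndex ⊤ := relIndex_le_of_le_right le_top (by rw [relIndex_top_right]; exact index_ne_zero_of_finite)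
    _ = R.index := relIndex_top_right R

/-- **`A ∩ K ≠ 1`.** -/
theorem exists_mem (h : In H M K T A)
    (hout : (MulAut.conj : K ⧸ center K →* MulAut (K ⧸ center K)).range.index < 8) :
    ∃ x ∈ A, x ∈ K ∧ x ≠ 1 := by
  by_contra hc
  push Not at hc
  have h1 : K ⊓ A = ⊥ := by
    rw [eq_bot_iff]
    rintro x ⟨hx1, hx2⟩
    exact hc x hx2 hx1
  have h2 : K.relIndex A = Nat.card A := by rw [← inf_relIndex_right, h1, relIndex_bot_left]
  have h3 : K.relIndex A ≤ K.relIndex ⊤ :=
    relIndex_le_of_le_right le_top (by rw [relIndex_top_right]; exact index_ne_zero_of_finite)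
  rw [relIndex_top_right, h2] at h3
  have h4 := index_le h
  have h5 := h.eight
  omega

/-- the Frobenius condition -/
theorem frob_cond {G : Type*} [Group G] {u w : G} {k : ℕ} (hp : (orderOf u).Prime) (hq : (orderOf w).Prime)
    (hk : w * u * w⁻¹ = u ^ k) (hne : w * u ≠ u * w) :
    1 ≤ k ∧ ∀ i j : ℕ, i < j → j < orderOf w → ¬ orderOf u ∣ k ^ j - k ^ i := by
  have hu1 : u ≠ 1 := by
    rintro rfl
    rw [orderOf_one] at hp
    exact Nat.not_prime_one hp
  have hk0 : k ≠ 0 := by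
    rintro rfl
    rw [pow_zero, mul_inv_eq_one] at hk
    exact hu1 (mul_eq_left.1 hk)
  refine ⟨Nat.one_le_iff_ne_zero.2 hk0, fun i j hij hj hdvd => hne ?_⟩
  have hpow : ∀ n : ℕ, w ^ n * u * (w ^ n)⁻¹ = u ^ k ^ n := by
    intro n
    induction n with
    | zero => simp
    | succ n ih =>
      have e : w ^ (n + 1) * u * (w ^ (n + 1))⁻¹ = w * (w ^ n * u * (w ^ n)⁻¹) * w⁻¹ := by
        rw [pow_succ']; group
      rw [e, ih, ← conj_pow, hk, ← pow_mul, ← pow_succ']
  have hcop : (orderOf u).Coprime (k ^ i) := by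
    refine Nat.Coprime.pow_right _ ((Nat.Prime.coprime_iff_not_dvd hp).2 fun h => ?_)
    have h1 : u ^ k = 1 := orderOf_dvd_iff_pow_eq_one.1 h
    rw [h1, mul_inv_eq_one] at hk
    exact hu1 (mul_eq_left.1 hk)
  have h1 : k ^ j - k ^ i = k ^ i * (k ^ (j - i) - 1) := by
    rw [Nat.mul_sub, ← pow_add, mul_one]
    congr 2
    omega
  rw [h1] at hdvd
  have h2 : orderOf u ∣ k ^ (j - i) - 1 := hcop.dvd_of_dvd_mul_left hdvd
  have h3 : u ^ k ^ (j - i) = u := by
    have h4 : 1 ≤ k ^ (j - i) := Nat.one_le_pow _ _ (Nat.pos_of_ne_zero hk0)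
    have h5 : u ^ k ^ (j - i) = u ^ (k ^ (j - i) - 1 + 1) := by rw [Nat.sub_add_cancel h4]
    rw [h5, pow_succ, orderOf_dvd_iff_pow_eq_one.1 h2, one_mul]
  have h4 := hpow (j - i)
  rw [h3] at h4
  have h5 : Commute (w ^ (j - i)) u := mul_inv_eq_iff_eq_mul.1 h4
  have h6 : (j - i).Coprime (orderOf w) :=
    ((Nat.Prime.coprime_iff_not_dvd hq).2 (Nat.not_dvd_of_pos_of_lt (by omega) (by omega))).symm
  obtain ⟨t, ht⟩ := exists_pow_eq_self_of_coprime h6
  have h7 := h5.pow_left t
  rw [ht] at h7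
  exact h7

omit [Finite H] in
/-- **`dim [M, w] ≥ m`.** -/
theorem chain_big (sq : ∀ m : M, m * m = 1) (faith : ∀ h : H, (∀ m : M, h • m = m) → h = 1) {w : H} {m : ℕ}
    (h : Chain w m) : 2 ^ m ≤ (cv M ({w} : Set H)).index := by
  induction h with
  | base u m hp h2 hm =>
    refine InvFrob.ord_index sq hp (hp.eq_two_or_odd'.resolve_left h2) (pow_orderOf_eq_one u) ?_ ?_
    · by_contra hc
      push Not at hc
      rw [faith u hc, orderOf_one] at hp
      exact Nat.not_prime_one hp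
    · intro n hn hdvd
      by_contra hc
      exact hm n hn (by omega) hdvd
  | step u w m m' k hu hp h2 hk hne hm ih =>
    obtain ⟨h3, h4⟩ := frob_cond hu.prime hp hk hne
    exact InvFrob.frob_pow sq hu.prime (hu.prime.eq_two_or_odd'.resolve_left hu.ne_two) (pow_orderOf_eq_one u) hk h3 h4
      hp.pos ih hm

omit [Finite H] in
/-- **`dim [M, x] ≥ n`.** -/
theorem inv_big (sq : ∀ m : M, m * m = 1) (faith : ∀ h : H, (∀ m : M, h • m = m) → h = 1) {x : H} (hx : x * x = 1)
    {n : ℕ} (h : InvAt x n) : 2 ^ n ≤ (cv M ({x} : Set H)).index := by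
  obtain ⟨w, m, hw, hinv, hn⟩ := h
  exact InvFrob.inv_pow sq hx hinv (hw.prime.eq_two_or_odd'.resolve_left hw.ne_two) (pow_orderOf_eq_one w)
    (chain_big sq faith hw) hn

/-- **Kill by one inverted element.** -/
theorem false_of_inv (h : In H M K T A) {n : ℕ} (hn : Nat.card A ≤ 2 ^ n) {x : K} (hxA : (x : H) ∈ A)
    (hx : InvAt (x : K ⧸ center K) n) : False := by
  have hxx : (x : H) * x = 1 := h.el _ hxA
  have h1 : InvAt x n := by
    refine InvAt.lift (QuotientGroup.mk' (center K)) (QuotientGroup.mk'_surjective _) ?_ ?_ (Subtype.ext hxx) hx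
    · intro c hc g
      rw [QuotientGroup.ker_mk'] at hc
      exact (mem_center_iff.1 hc g).symm
    · rw [QuotientGroup.ker_mk']
      exact h.odd
  have h2 : InvAt (x : H) n := h1.map K.subtype K.subtype_injective
  have h3 := inv_big h.sq h.faith hxx h2
  have h4 := InvFrob.lt_card h.strict (fun h5 => by have := h.eight; rw [h5, Subgroup.card_bot] at this; omega) hxA
  omega

/-- **The row**: `RK S n`, `|Out S| < 8`, `InvAt x n` for all involutions `x` of `S`. -/
theorem dead {𝒮 : ∀ (S : Type u) [Group S], Prop} (h𝒮 : ∀ (S : Type u) [Group S] [Finite S], 𝒮 S → ∃ n, RK S n ∧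
    (MulAut.conj : S →* MulAut S).range.index < 8 ∧ ∀ x : S, x * x = 1 → x ≠ 1 → InvAt x n) : Dead.{u, v} 𝒮 := by
  intro H _ _ M _ _ _ K T A h hS
  have hN := h.norm
  obtain ⟨n, hrk, hout, hinv⟩ := h𝒮 _ hS
  obtain ⟨x, hxA, hxK, hx1⟩ := exists_mem h hout
  refine false_of_inv h (card_le h hrk) (x := ⟨x, hxK⟩) hxA (hinv _ ?_ ?_)
  · rw [← QuotientGroup.mk_mul]
    have h1 : (⟨x, hxK⟩ : K) * ⟨x, hxK⟩ = 1 := Subtype.ext (h.el x hxA)
    rw [h1]
    rfl
  · intro h1
    have h2 : (⟨x, hxK⟩ : K) ∈ center K := (QuotientGroup.eq_one_iff _).1 h1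
    apply hx1
    refine eq_one h (mem_centralizer_iff.2 fun y hy => ?_) (h.el x hxA)
    exact congrArg Subtype.val (mem_center_iff.1 h2 ⟨y, hy⟩)

end main

end Cfsg.Agent.Omega.ML.InvRow

end
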