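import Cfsg.Agent.UGT.EndJ1.Main
import Cfsg.Agent.Mrg.Omega.TwoF.Bridge
import Cfsg.Agent.Omega.KFacts
import Cfsg.Agent.OddHalf.Table.OutBasic


/-!
# TABLE 2F: the row J1

The Sylow 2-subgroups of `J1` are elementary abelian of order 8 and involutory automorphisms are inner: the 2-rank of
`Aut(J1)` is 3.
-/

set_option autoImplicit false

namespace Cfsg.Agent.Omega.TwoF.RowJ1

open Subgroup Cfsg

universe u

/-- Elementary abelian Sylow 2-subgroups of order 8: the 2-rank of the automorphism group is at most 3. -/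
theorem rk_of_syl {K : Type u} [Group K] [Finite K] [IsSimpleGroup K] (hna : ∃ a b : K, a * b ≠ b * a)
    (hc : center K = ⊥) (hsyl : ∀ S : Sylow 2 K, Nat.card S = 8 ∧ ∀ x ∈ (S : Subgroup K), x * x = 1) :
    RK K 3 := by
  classical
  have : Fact (Nat.Prime 2) := ⟨Nat.prime_two⟩
  intro A hA
  have hinj : Function.Injective (MulAut.conj : K →* MulAut K) :=
    Cfsg.Agent.UGT.EndBase.conj_inj hc
  have hin : ∀ α ∈ A, ∃ v : K, α = MulAut.conj v := by
    intro α hα
    by_cases h1 : α = 1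
    · exact ⟨1, by rw [h1, map_one]⟩
    · exact Cfsg.Agent.UGT.EndJ1.Inner.exists_conj hna hsyl α (orderOf_eq_prime (hA α hα) h1)
  -- `A` is the image of `B ≤ K`
  set B : Subgroup K := A.comap (MulAut.conj : K →* MulAut K) with hB
  have hBA : B.map (MulAut.conj : K →* MulAut K) = A := by
    rw [hB, Subgroup.map_comap_eq, inf_eq_right]
    intro α hα
    obtain ⟨v, hv⟩ := hin α hα
    exact ⟨v, hv.symm⟩
  have hBp : IsPGroup 2 B := by
    intro x
    refine ⟨1, Subtype.ext ?_⟩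
    apply hinj
    have h1 := hA _ (show MulAut.conj (x : K) ∈ A from x.2)
    show MulAut.conj (((x : K)) ^ 2 ^ 1) = MulAut.conj 1
    rw [map_pow, map_one, pow_one, h1]
  obtain ⟨S, hS⟩ := hBp.exists_le_sylow
  have h2 : Nat.card A = Nat.card B := by
    rw [← hBA]
    exact (Nat.card_congr (B.equivMapOfInjective _ hinj).toEquiv).symm
  rw [h2]
  have h3 := Subgroup.card_le_of_le hS
  have h4 : Nat.card (S : Subgroup K) = 8 := (hsyl S).1
  rw [h4] at h3
  exact h3.trans (by norm_num)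

theorem facts {K : Type u} [Group K] (h : Spor.IsoJ1 K) :
    Finite K ∧ IsSimpleGroup K ∧ center K = ⊥ ∧ Nontrivial K ∧ RK K 3 := by
  obtain ⟨e⟩ := h
  have hs0 : IsSimpleGroup Spor.J1 := Cfsg.Agent.UGT.EndJ1.Main.simple
  have hJ : Nat.card Spor.J1 = 175560 := Cfsg.Agent.SporadicB.J1.Main.isJ1.2
  have hfin0 : Finite Spor.J1 := Nat.finite_of_card_ne_zero (by rw [hJ]; norm_num)
  have hs : IsSimpleGroup K := e.isSimpleGroup
  have hc : Nat.card K = 175560 := (Nat.card_congr e.toEquiv).trans hJ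
  have hfin : Finite K := Nat.finite_of_card_ne_zero (by rw [hc]; norm_num)
  have hZ : center K = ⊥ := Cfsg.Agent.OddHalf.Table.OutBasic.center_eq_bot (by rw [hc]; norm_num)
  have hZ0 : center Spor.J1 = ⊥ := Cfsg.Agent.OddHalf.Table.OutBasic.center_eq_bot (by rw [hJ]; norm_num)
  refine ⟨hfin, hs, hZ, inferInstance, RK.equiv e (rk_of_syl ?_ hZ0 Cfsg.Agent.UGT.EndJ1.Data.bal.syl)⟩
  by_contra hcon
  push Not at hcon
  exact Cfsg.Agent.UGT.EndJ1.Main.not_comm ⟨⟨hcon⟩⟩

theorem dead {K : Type u} [Group K] (h : Spor.IsoJ1 K) : Dead2.{u} K := by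
  obtain ⟨-, -, -, -, hr⟩ := facts h
  exact Dead2.of_rk (hr.mono (by norm_num))

/-- **The row `J1`.** -/
theorem row : KFacts.KillRow.{u} @Spor.IsoJ1 := by
  intro K _ h
  obtain ⟨-, -, hc, hn, -⟩ := facts h
  exact (dead h).kill hc hn

end Cfsg.Agent.Omega.TwoF.RowJ1
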