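import Cfsg.Agent.Mrg.Omega.TwoF.RowJ1
import Cfsg.Agent.Mrg.Omega.Lie.PairRee
import Cfsg.Agent.Mrg.Omega.NOThree.NoOver

section


/-!
# TABLE 2F: the small Ree groups

The Sylow 2-subgroups are elementary abelian of order 8 and involutory automorphisms are inner: the 2-rank of the
automorphism group is 3.
-/

set_option autoImplicit false

namespace Cfsg.Agent.Omega.TwoF.RowRee

open Subgroup Cfsg

universe u

theorem facts {F : Type} [Field F] [Fintype F] {m : ℕ} (hm : 1 ≤ m) (hF : Fintype.card F = 3 ^ (2 * m + 1)) :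
    center ↥(Cfsg.Lie.twistedG2 F (3 ^ m)) = ⊥ ∧ Nontrivial ↥(Cfsg.Lie.twistedG2 F (3 ^ m)) ∧
      RK ↥(Cfsg.Lie.twistedG2 F (3 ^ m)) 3 := by
  have hfin := Lie.PairRee.finite_ree hm hF
  obtain ⟨hs, hc⟩ := Cfsg.Agent.S1073.result hm hF
  obtain ⟨a, haH, ha1, ha2⟩ := Cfsg.Agent.S1157.exists_involution hF
  obtain ⟨-, hS⟩ := Cfsg.Agent.S1152.result hF a haH ha1 ha2
  have hZ : center ↥(Cfsg.Lie.twistedG2 F (3 ^ m)) = ⊥ := by
    rcases (Subgroup.instNormalCenter (G := ↥(Cfsg.Lie.twistedG2 F (3 ^ m)))).eq_bot_or_eq_top with h1 | h1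
    · exact h1
    · exact absurd ⟨⟨fun a b => by
        have : a ∈ center ↥(Cfsg.Lie.twistedG2 F (3 ^ m)) := by rw [h1]; exact mem_top a
        exact (mem_center_iff.1 this b).symm⟩⟩ hc
  refine ⟨hZ, inferInstance, RowJ1.rk_of_syl ?_ hZ hS⟩
  by_contra hcon
  push Not at hcon
  exact hc ⟨⟨hcon⟩⟩

/-- **The row `²G₂(q)`.** -/
theorem row : KFacts.KillRow.{u} @Cfsg.Lie.IsoRee := by
  rintro K _ ⟨F, _, _, m, hm, hF, ⟨e⟩⟩
  obtain ⟨h1, h2, h3⟩ := facts hm hF
  exact ((Dead2.of_rk (h3.mono (by norm_num))).kill h1 h2).equiv e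

end Cfsg.Agent.Omega.TwoF.RowRee

end

section


/-!
# (ML), K-list end: the rows `²G₂(q)` and `J₁`

`card_le_of_eight` : `S` has elementary abelian Sylow 2-subgroups of order 8 and an involution `t` with
`|O₂(C_S(t))| ≤ 4`; involutory automorphisms of `S` are inner, so `X = S`, and `A ≤ O₂(C_X(t))`.
`deadG` : `DeadG` for the small Ree groups.
-/

set_option autoImplicit false

namespace Cfsg.Agent.Omega.ML.RowRee

open Subgroup Cfsg Cfsg.Agent.Omega.ML.Rows
open Cfsg.Agent.MinSimple.VModule (o2_isPGroup o2_le le_o2 le_normalizer_o2)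
open Cfsg.Agent.ZN (o2)

universe u v

/-- Normal 2-subgroups of `Z₂ × L`, `L` simple and not a 2-group, have order at most 2. -/
theorem card_le_two_of_prod {Z L : Type*} [Group Z] [Group L] [Finite L] [IsSimpleGroup L] (hZ : Nat.card Z = 2)
    (hL : ¬ IsPGroup 2 L) (N : Subgroup (Z × L)) (hN : N.Normal) (h2 : IsPGroup 2 N) : Nat.card N ≤ 2 := by
  have hfZ : Finite Z := Nat.finite_of_card_ne_zero (by rw [hZ]; norm_num)
  have hq : N.map (MonoidHom.snd Z L) = ⊥ := by
    have hn : (N.map (MonoidHom.snd Z L)).Normal :=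
      hN.map _ (fun l => ⟨(1, l), rfl⟩)
    rcases hn.eq_bot_or_eq_top with h | h
    · exact h
    · exfalso
      apply hL
      have h3 : IsPGroup 2 (N.map (MonoidHom.snd Z L)) := h2.map _
      rw [h] at h3
      exact h3.of_equiv Subgroup.topEquiv
  have hinj : Function.Injective ((MonoidHom.fst Z L).comp N.subtype) := by
    rw [← MonoidHom.ker_eq_bot_iff, eq_bot_iff]
    intro x hx
    have h3 : (x : Z × L).2 = 1 := by
      have h4 : (MonoidHom.snd Z L) (x : Z × L) ∈ N.map (MonoidHom.snd Z L) := mem_map_of_mem _ x.2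
      rw [hq, mem_bot] at h4
      exact h4
    have h5 : (x : Z × L).1 = 1 := hx
    exact mem_bot.2 (Subtype.ext (Prod.ext h5 h3))
  rw [← hZ]
  exact Nat.card_le_card_of_injective _ hinj

theorem comm_of_el {G : Type*} [Group G] {T : Subgroup G} (h : ∀ x ∈ T, x * x = 1) {a b : G} (ha : a ∈ T)
    (hb : b ∈ T) : a * b = b * a := by
  have h1 : a⁻¹ = a := inv_eq_of_mul_eq_one_right (h a ha)
  have h2 : b⁻¹ = b := inv_eq_of_mul_eq_one_right (h b hb)
  have h3 : (a * b)⁻¹ = a * b := inv_eq_of_mul_eq_one_right (h _ (mul_mem ha hb))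
  rw [← h3, mul_inv_rev, h1, h2]

/-- Involutory automorphisms are inner: `A ≤ S`. -/
theorem le_of_inner {X : Type u} [Group X] {S T A : Subgroup X} (h : AS S T A)
    (hin : ∀ σ : MulAut S, orderOf σ = 2 → ∃ v : S, σ = MulAut.conj v) : A ≤ S := by
  have hn := h.norm
  intro a ha
  let σ : MulAut S := MulAut.conjNormal a
  have key : ∀ v : S, (∀ s : S, (σ s : X) = v * s * (v : X)⁻¹) → a ∈ S := by
    intro v hv
    have h1 : (v : X)⁻¹ * a ∈ centralizer (S : Set X) := by
      refine mem_centralizer_iff.2 fun s hs => ?_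
      have h2 := hv ⟨s, hs⟩
      rw [MulAut.conjNormal_apply] at h2
      have h3 : a * s = v * s * (v : X)⁻¹ * a := by
        change a * s * a⁻¹ = (v : X) * s * (v : X)⁻¹ at h2
        rw [← h2]
        group
      calc s * ((v : X)⁻¹ * a) = (v : X)⁻¹ * (v * s * (v : X)⁻¹ * a) := by group
        _ = (v : X)⁻¹ * (a * s) := by rw [h3]
        _ = _ := by group
    rw [h.cen, mem_bot] at h1
    have h4 : a = v := by
      calc a = v * ((v : X)⁻¹ * a) := by group
        _ = v := by rw [h1, mul_one]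
    rw [h4]
    exact v.2
  by_cases h1 : σ = 1
  · refine key 1 fun s => ?_
    rw [h1]
    simp
  · have h2 : orderOf σ = 2 := by
      refine orderOf_eq_prime ?_ h1
      rw [pow_two, ← map_mul, h.el a ha, map_one]
    obtain ⟨v, hv⟩ := hin σ h2
    refine key v fun s => ?_
    rw [hv]
    rfl

/-- **Elementary abelian Sylow 2-subgroups of order 8.** -/
theorem card_le_of_eight {X : Type u} [Group X] [Finite X] {S T A : Subgroup X} (h : AS S T A)
    (hna : ∃ a b : S, a * b ≠ b * a)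
    (hsyl : ∀ P : Sylow 2 S, Nat.card P = 8 ∧ ∀ x ∈ (P : Subgroup S), x * x = 1)
    (t : S) (ht1 : t ≠ 1) (ht2 : t * t = 1) (ho : Nat.card (o2 (centralizer ({t} : Set S))) ≤ 4) :
    Nat.card A ≤ 4 := by
  classical
  have hsim := h.simple
  have h2 : Fact (Nat.Prime 2) := ⟨Nat.prime_two⟩
  have hAS : A ≤ S := le_of_inner h fun σ hσ => Cfsg.Agent.UGT.EndJ1.Inner.exists_conj hna hsyl σ hσ
  have htop : S = ⊤ := by
    rw [← h.gen]
    exact (sup_eq_left.2 hAS).symm
  have hTS : T ≤ S := htop ▸ le_top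
  -- `T` as a Sylow subgroup of `S`
  have hT' : IsPGroup 2 (T.subgroupOf S) := h.two.comap_subtype
  have hTi : ¬ 2 ∣ (T.subgroupOf S).index := by
    intro h3
    apply h.syl
    have h4 : (T.subgroupOf S).index = T.index := by
      change T.relIndex S = T.index
      rw [htop, relIndex_top_right]
    rwa [← h4]
  let P : Sylow 2 S := hT'.toSylow hTi
  have hP : (P : Subgroup S) = T.subgroupOf S := rfl
  -- `t` in a Sylow subgroup
  have htp : IsPGroup 2 (zpowers t) := IsPGroup.of_card (n := 1) (by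
    rw [Nat.card_zpowers, pow_one]
    exact orderOf_eq_prime (by rw [pow_two, ht2]) ht1)
  obtain ⟨Q, hQ⟩ := htp.exists_le_sylow
  obtain ⟨g, hg⟩ := MulAction.exists_smul_eq S Q P
  set s : S := g * t * g⁻¹ with hs
  have hsP : s ∈ T.subgroupOf S := by
    rw [← hP, ← hg]
    exact ⟨t, hQ (mem_zpowers t), rfl⟩
  have hs1 : s ≠ 1 := by
    intro h3
    apply ht1
    calc t = g⁻¹ * s * g := by rw [hs]; group
      _ = 1 := by rw [h3]; group
  -- `T` is abelian
  have hTel : ∀ x ∈ T, x * x = 1 := by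
    intro x hx
    have h3 := (hsyl P).2 ⟨x, hTS hx⟩ hx
    exact congrArg Subtype.val h3
  have hsT : (s : X) ∈ T := hsP
  have hTR : T ≤ centralizer ({(s : X)} : Set X) := by
    intro x hx
    rw [mem_centralizer_singleton_iff]
    exact comm_of_el hTel hx hsT
  have hR : centralizer ({(s : X)} : Set X) ≠ ⊤ := by
    intro h3
    apply hs1
    have h4 : (s : X) ∈ centralizer (S : Set X) := by
      refine mem_centralizer_iff.2 fun x _ => ?_
      have h5 : x ∈ centralizer ({(s : X)} : Set X) := h3 ▸ mem_top x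
      exact mem_centralizer_singleton_iff.1 h5
    rw [h.cen, mem_bot] at h4
    exact Subtype.ext h4
  have hA := h.low _ hTR hR
  refine (card_le_of_le hA).trans ?_
  -- transport to `C_S(t)`
  set O := o2 (centralizer ({(s : X)} : Set X)) with hO
  have hOS : O ≤ S := htop ▸ le_top
  have hc1 : Nat.card O = Nat.card ((O.subgroupOf S).map (MulAut.conj g⁻¹).toMonoidHom) := by
    rw [card_map_of_injective (MulAut.conj g⁻¹).injective, Nat.card_congr (subgroupOfEquivOfLe hOS).toEquiv]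
  rw [hc1]
  refine (card_le_of_le ?_).trans ho
  have hgt : g⁻¹ * s * g = t := by rw [hs]; group
  have hmem : ∀ x : S, x ∈ centralizer ({t} : Set S) → (g * x * g⁻¹ : S) ∈ centralizer ({s} : Set S) := by
    intro x hx
    rw [mem_centralizer_singleton_iff] at hx ⊢
    rw [hs]
    calc g * x * g⁻¹ * (g * t * g⁻¹) = g * (x * t) * g⁻¹ := by group
      _ = g * (t * x) * g⁻¹ := by rw [hx]
      _ = _ := by group
  refine le_o2 ?_ ?_ ?_
  · rintro _ ⟨x, hx, rfl⟩
    have hx1 : ((x : S) : X) ∈ centralizer ({(s : X)} : Set X) := o2_le _ hx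
    rw [mem_centralizer_singleton_iff] at hx1 ⊢
    have hx2 : x * s = s * x := Subtype.ext hx1
    change g⁻¹ * x * (g⁻¹)⁻¹ * t = t * (g⁻¹ * x * (g⁻¹)⁻¹)
    rw [← hgt]
    calc g⁻¹ * x * (g⁻¹)⁻¹ * (g⁻¹ * s * g) = g⁻¹ * (x * s) * g := by group
      _ = g⁻¹ * (s * x) * g := by rw [hx2]
      _ = _ := by group
  · exact ((o2_isPGroup _).comap_of_injective S.subtype S.subtype_injective).map _
  · intro x hx
    refine Cfsg.Agent.MinSimple.VModule.mem_normalizer_of_map_le ?_
    rintro _ ⟨_, ⟨w, hw, rfl⟩, rfl⟩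
    have h1 : ((g * x * g⁻¹ : S) : X) ∈ centralizer ({(s : X)} : Set X) := by
      have h2 := hmem x hx
      rw [mem_centralizer_singleton_iff] at h2 ⊢
      exact congrArg Subtype.val h2
    have h3 : ((g * x * g⁻¹ * w * (g * x * g⁻¹)⁻¹ : S) : X) ∈ O :=
      (mem_normalizer_iff.1 (le_normalizer_o2 _ h1) (w : X)).1 hw
    refine ⟨g * x * g⁻¹ * w * (g * x * g⁻¹)⁻¹, h3, ?_⟩
    change g⁻¹ * (g * x * g⁻¹ * w * (g * x * g⁻¹)⁻¹) * (g⁻¹)⁻¹ = x * (g⁻¹ * w * (g⁻¹)⁻¹) * x⁻¹
    group

/-- `O₂(C_S(t))` for `C_S(t) ≅ Z₂ × L`. -/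
theorem card_o2_le_two {S Z L : Type*} [Group S] [Finite S] [Group Z] [Group L] [IsSimpleGroup L]
    (hZ : Nat.card Z = 2) (hL : ¬ IsPGroup 2 L) {t : S} (e : ↥(centralizer ({t} : Set S)) ≃* Z × L) :
    Nat.card (o2 (centralizer ({t} : Set S))) ≤ 2 := by
  have hfZ : Finite Z := Nat.finite_of_card_ne_zero (by rw [hZ]; norm_num)
  have hfL : Finite L := by
    have : Finite (Z × L) := Finite.of_equiv _ e.toEquiv
    exact Finite.of_surjective (Prod.snd : Z × L → L) Prod.snd_surjective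
  set C := centralizer ({t} : Set S) with hC
  have h1 : ((o2 C).subgroupOf C).Normal := normal_subgroupOf_of_le_normalizer (le_normalizer_o2 C)
  have h2 : IsPGroup 2 ((o2 C).subgroupOf C) := (o2_isPGroup C).comap_subtype
  have h3 := card_le_two_of_prod hZ hL (((o2 C).subgroupOf C).map e.toMonoidHom) (h1.map _ e.surjective) (h2.map _)
  rw [card_map_of_injective e.injective, Nat.card_congr (subgroupOfEquivOfLe (o2_le C)).toEquiv] at h3
  exact h3

/-- transport of the hypotheses of `card_le_of_eight` -/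
theorem card_le_of_equiv {X : Type u} [Group X] [Finite X] {S T A : Subgroup X} (h : AS S T A) {K : Type*} [Group K]
    (e : S ≃* K) (hna : ∃ a b : K, a * b ≠ b * a)
    (hsyl : ∀ P : Sylow 2 K, Nat.card P = 8 ∧ ∀ x ∈ (P : Subgroup K), x * x = 1)
    {t : K} (ht1 : t ≠ 1) (ht2 : t * t = 1) {Z L : Type*} [Group Z] [Group L] [IsSimpleGroup L]
    (hZ : Nat.card Z = 2) (hL : ¬ IsPGroup 2 L) (c : ↥(centralizer ({t} : Set K)) ≃* Z × L) :
    Nat.card A ≤ 4 := by
  have hfK : Finite K := Finite.of_equiv _ e.toEquiv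
  refine card_le_of_eight h ?_ ?_ (e.symm t) ?_ ?_ ?_
  · obtain ⟨a, b, hab⟩ := hna
    exact ⟨e.symm a, e.symm b, fun h1 => hab (e.symm.injective (by rw [map_mul, map_mul, h1]))⟩
  · intro P
    have hP : IsPGroup 2 ((P : Subgroup S).map e.toMonoidHom) := P.isPGroup'.map _
    have hPi : ¬ 2 ∣ ((P : Subgroup S).map e.toMonoidHom).index := by
      have h1 : ((P : Subgroup S).map e.toMonoidHom).index = (P : Subgroup S).index :=
        index_map_equiv (P : Subgroup S) e
      rw [h1]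
      have : Fact (Nat.Prime 2) := ⟨Nat.prime_two⟩
      exact P.not_dvd_index
    obtain ⟨h1, h2⟩ := hsyl (hP.toSylow hPi)
    constructor
    · have h3 : Nat.card ((P : Subgroup S).map e.toMonoidHom) = 8 := h1
      rwa [card_map_of_injective e.injective] at h3
    · intro x hx
      have h3 := h2 (e x) (mem_map_of_mem e.toMonoidHom hx)
      exact e.injective (by rw [map_mul, h3, map_one])
  · intro h1
    apply ht1
    rw [← e.apply_symm_apply t, h1, map_one]
  · rw [← map_mul, ht2, map_one]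
  · let c' : ↥(centralizer ({e.symm t} : Set S)) ≃* ↥(centralizer ({t} : Set K)) :=
      { toFun := fun x => ⟨e x, by
          have h1 := mem_centralizer_singleton_iff.1 x.2
          rw [mem_centralizer_singleton_iff]
          have h2 := congrArg e h1
          rwa [map_mul, map_mul, e.apply_symm_apply] at h2⟩
        invFun := fun x => ⟨e.symm x, by
          have h1 := mem_centralizer_singleton_iff.1 x.2
          rw [mem_centralizer_singleton_iff]
          have h2 := congrArg e.symm h1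
          rwa [map_mul, map_mul] at h2⟩
        left_inv := fun x => Subtype.ext (e.symm_apply_apply _)
        right_inv := fun x => Subtype.ext (e.apply_symm_apply _)
        map_mul' := fun x y => Subtype.ext (map_mul e _ _) }
    exact (card_o2_le_two hZ hL (c'.trans c)).trans (by norm_num)

/-- **The row `²G₂(q)`, group-theoretic.** -/
theorem deadG : DeadG.{u} fun S _ => Cfsg.Lie.IsoRee S := by
  rintro X _ _ S T A h ⟨F, _, _, m, hm, hF, ⟨e⟩⟩
  obtain ⟨hs, hc⟩ := Cfsg.Agent.S1073.result hm hF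
  obtain ⟨a, haH, ha1, ha2⟩ := Cfsg.Agent.S1157.exists_involution hF
  obtain ⟨⟨c⟩, hS⟩ := Cfsg.Agent.S1152.result hF a haH ha1 ha2
  have hF4 : 4 ≤ Nat.card F := by
    rw [Nat.card_eq_fintype_card, hF]
    have := Lie.PairRee.card_ge hm
    omega
  obtain ⟨hL, -, hp⟩ := Lie.PairRee.psl_facts hF4
  refine card_le_of_equiv h e ?_ hS ha1 ha2 (by simp [Nat.card_eq_fintype_card]) hp c
  by_contra hcon
  push Not at hcon
  exact hc ⟨⟨hcon⟩⟩

/-- Isomorphism-closed. -/
theorem isoClosed : IsoClosed.{u} fun S _ => Cfsg.Lie.IsoRee S := by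
  rintro S S' _ _ e ⟨F, i1, i2, m, hm, hF, ⟨f⟩⟩
  exact ⟨F, i1, i2, m, hm, hF, ⟨e.symm.trans f⟩⟩

/-- **The row `²G₂(q)`.** -/
theorem dead : Dead.{u, v} fun S _ => Cfsg.Lie.IsoRee S := deadG.dead isoClosed

end Cfsg.Agent.Omega.ML.RowRee

end
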