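import Mathlib
import Cfsg.Agent.Lib.CoprimeHyperplane
import Cfsg.Agent.Lib.CoprimeAbelian
import Cfsg.Agent.Omega.Lie.HeisCover

section


/-!
# Degree lower bounds in characteristic `ℓ`: orbits of hyperplanes (TABLE 2F, EH3, NODE LIE)

`φ : L →* MulAut V`, `V` a finite commutative `ℓ`-group, `E ≤ L` an elementary abelian `r`-group, `r ≠ ℓ`.

* `prod_relIndex_le` : the fixed point groups of pairwise generating subgroups of `E` are independent mod `C_V(E)`;
* `pow_le_index` : `m` conjugate hyperplanes with more fixed points than `E` give `|V : C_V(E)| ≥ (ℓ ^ ord_r(ℓ)) ^ m`;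
* `exists_hyperplane` : such a hyperplane exists if `E` acts nontrivially;
* `frob_le_index` : an element of order `p ∤ r (r - 1)` acting nontrivially on `E` gives `|V| ≥ (ℓ ^ ord_r(ℓ)) ^ p`.
-/

set_option autoImplicit false
set_option linter.unusedSectionVars false
set_option linter.style.haveILetI false

namespace Cfsg.Agent.Omega.TwoF.Orb

open Subgroup

section Fix

variable {L V : Type*} [Group L] [CommGroup V] (φ : L →* MulAut V)

/-- fixed points of `H ≤ L` on `V` -/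
def fx (H : Subgroup L) : Subgroup V where
  carrier := {v | ∀ h ∈ H, φ h v = v}
  one_mem' := fun _ _ => map_one _
  mul_mem' := fun {x y} hx hy b hb => by rw [map_mul, hx b hb, hy b hb]
  inv_mem' := fun {x} hx b hb => by rw [map_inv, hx b hb]

variable {φ}

theorem mem_fx {H : Subgroup L} {v : V} : v ∈ fx φ H ↔ ∀ h ∈ H, φ h v = v := Iff.rfl

theorem fx_anti {H K : Subgroup L} (h : H ≤ K) : fx φ K ≤ fx φ H := fun _ hv x hx => hv x (h hx)

theorem fx_sup (H K : Subgroup L) : fx φ (H ⊔ K) = fx φ H ⊓ fx φ K := by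
  apply le_antisymm (le_inf (fx_anti le_sup_left) (fx_anti le_sup_right))
  rintro v ⟨h1, h2⟩
  have key : H ⊔ K ≤ (MulAction.stabilizer (MulAut V) v).comap φ := by
    refine sup_le (fun x hx => ?_) (fun x hx => ?_)
    · exact h1 x hx
    · exact h2 x hx
  exact fun x hx => key hx

/-- conjugate subgroups -/
abbrev cj (g : L) (H : Subgroup L) : Subgroup L := H.map (MulAut.conj g).toMonoidHom

theorem fx_cj (g : L) (H : Subgroup L) : fx φ (cj g H) = (fx φ H).map (φ g).toMonoidHom := by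
  ext v
  rw [mem_fx, mem_map]
  constructor
  · intro h
    refine ⟨φ g⁻¹ v, fun x hx => ?_, ?_⟩
    · have h1 := h (g * x * g⁻¹) ⟨x, hx, rfl⟩
      rw [map_mul, map_mul, MulAut.mul_apply, MulAut.mul_apply] at h1
      have h2 := congrArg (φ g⁻¹) h1
      rwa [← MulAut.mul_apply, ← map_mul, inv_mul_cancel, map_one, MulAut.one_apply] at h2
    · change φ g (φ g⁻¹ v) = v
      rw [← MulAut.mul_apply, ← map_mul, mul_inv_cancel, map_one, MulAut.one_apply]
  · rintro ⟨w, hw, rfl⟩ _ ⟨x, hx, rfl⟩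
    change φ (g * x * g⁻¹) (φ g w) = φ g w
    rw [← MulAut.mul_apply, ← map_mul, inv_mul_cancel_right, map_mul, MulAut.mul_apply, hw x hx]

/-- fixed points do not change the index under conjugation -/
theorem relIndex_cj {g : L} {E H : Subgroup L} (hg : cj g E = E) :
    (fx φ E).relIndex (fx φ (cj g H)) = (fx φ E).relIndex (fx φ H) := by
  have h1 : fx φ E = (fx φ E).map (φ g).toMonoidHom := by rw [← fx_cj, hg]
  conv_lhs => rw [h1, fx_cj]
  exact relIndex_map_map_of_injective _ _ (φ g).injective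

end Fix

section Indep

variable {L V : Type*} [Group L] [CommGroup V] [Finite V] {φ : L →* MulAut V}

open Cfsg.Agent.Lib.CoprimeAbelian in
/-- an element whose `n`-th power is fixed by `E` is fixed by `E` (`n` prime to `|V|`) -/
theorem mem_fx_of_pow {E : Subgroup L} {n : ℕ} (hn : n.Coprime (Nat.card V)) {v : V} (h : v ^ n ∈ fx φ E) :
    v ∈ fx φ E := by
  intro e he
  have h1 : (φ e v * v⁻¹) ^ n = 1 := by
    rw [mul_pow, inv_pow, ← map_pow, h e he, mul_inv_cancel]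
  exact mul_inv_eq_one.1 (eq_one_of_pow_coprime hn _ h1)

open Cfsg.Agent.Lib.CoprimeAbelian in
/-- **Independence.** -/
theorem mem_fx_of_prod {ι : Type*} [Fintype ι] [DecidableEq ι] {E : Subgroup L} [Finite E]
    (hE : ∀ a ∈ E, ∀ b ∈ E, a * b = b * a) (hco : (Nat.card E).Coprime (Nat.card V)) {H : ι → Subgroup L}
    (hH : ∀ i, H i ≤ E) (hgen : ∀ i j, i ≠ j → E ≤ H i ⊔ H j) {v : ι → V} (hv : ∀ i, v i ∈ fx φ (H i))
    (hp : ∏ i, v i ∈ fx φ E) (j : ι) : v j ∈ fx φ E := by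
  have : Finite (H j) := Finite.of_injective _ (Subgroup.inclusion_injective (hH j))
  letI : Fintype (H j) := Fintype.ofFinite _
  let ψ : H j →* MulAut V := φ.comp (H j).subtype
  have hc : ∀ i, i ≠ j → norm ψ (v i) ∈ fx φ E := by
    intro i hij
    refine fx_anti (hgen i j hij) ?_
    rw [fx_sup]
    refine ⟨fun x hx => ?_, fun x hx => ?_⟩
    · rw [norm_apply, map_prod]
      refine Finset.prod_congr rfl fun a _ => ?_
      change φ x (φ (a : L) (v i)) = φ (a : L) (v i)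
      rw [← MulAut.mul_apply, ← map_mul, hE x (hH i hx) a (hH j a.2), map_mul, MulAut.mul_apply, hv i x hx]
    · exact norm_fixed ψ (v i) ⟨x, hx⟩
  have h1 : norm ψ (∏ i, v i) ∈ fx φ E := by
    rw [norm_of_fixed ψ _ (fun a => hp a (hH j a.2))]
    exact pow_mem hp _
  rw [map_prod, ← Finset.mul_prod_erase _ _ (Finset.mem_univ j)] at h1
  have h2 : ∏ i ∈ Finset.univ.erase j, norm ψ (v i) ∈ fx φ E :=
    prod_mem fun i hi => hc i (Finset.ne_of_mem_erase hi)
  have h3 : norm ψ (v j) ∈ fx φ E := by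
    have := mul_mem h1 (inv_mem h2)
    rwa [mul_inv_cancel_right] at this
  rw [norm_of_fixed ψ _ (fun a => hv j a a.2), ← Nat.card_eq_fintype_card] at h3
  exact mem_fx_of_pow (Nat.Coprime.coprime_dvd_left (card_dvd_of_le (hH j)) hco) h3

/-- **Independence, counted.** -/
theorem prod_relIndex_le {ι : Type*} [Fintype ι] {E : Subgroup L} [Finite E]
    (hE : ∀ a ∈ E, ∀ b ∈ E, a * b = b * a) (hco : (Nat.card E).Coprime (Nat.card V)) {H : ι → Subgroup L}
    (hH : ∀ i, H i ≤ E) (hgen : ∀ i j, i ≠ j → E ≤ H i ⊔ H j) :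
    ∏ i, (fx φ E).relIndex (fx φ (H i)) ≤ (fx φ E).index := by
  classical
  let f : (∀ i, fx φ (H i) ⧸ (fx φ E).subgroupOf (fx φ (H i))) → V ⧸ fx φ E := fun q =>
    QuotientGroup.mk (∏ i, ((q i).out : V))
  have hf : Function.Injective f := by
    intro q q' h
    have h1 : (∏ i, ((q i).out : V))⁻¹ * ∏ i, ((q' i).out : V) ∈ fx φ E := QuotientGroup.eq.1 h
    rw [← Finset.prod_inv_distrib, ← Finset.prod_mul_distrib] at h1
    funext i
    have h2 := mem_fx_of_prod (φ := φ) hE hco hH hgen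
      (v := fun i => (((q i).out : fx φ (H i)) : V)⁻¹ * ((q' i).out : V))
      (fun i => mul_mem (inv_mem (q i).out.2) (q' i).out.2) h1 i
    rw [← Quotient.out_eq' (q i), ← Quotient.out_eq' (q' i)]
    exact QuotientGroup.eq.2 h2
  have h := Nat.card_le_card_of_injective f hf
  rw [Nat.card_pi] at h
  exact h

/-- `e` acts on `C_V(H)` with fixed point group `C_V(E)` -/
theorem relIndex_modEq {r : ℕ} [Fact r.Prime] {E H : Subgroup L} (hle : H ≤ E)
    (hco : r.Coprime (Nat.card V)) {e : L} (he : e ∈ E) (her : e ^ r ∈ H) (hne : ∀ x ∈ H, e⁻¹ * x * e ∈ H)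
    (hgen : E ≤ H ⊔ zpowers e) : (fx φ E).relIndex (fx φ H) ≡ 1 [MOD r] := by
  classical
  letI : Fintype V := Fintype.ofFinite V
  have hst : ∀ v ∈ fx φ H, φ e v ∈ fx φ H := by
    intro v hv x hx
    have h1 : x * e = e * (e⁻¹ * x * e) := by group
    rw [← MulAut.mul_apply, ← map_mul, h1, map_mul, MulAut.mul_apply, hv _ (hne x hx)]
  let f : Function.End (fx φ H) := fun v => ⟨φ e v, hst v v.2⟩
  have hfn : ∀ (n : ℕ) (v : fx φ H), (((f ^ n) v : fx φ H) : V) = φ (e ^ n) v := by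
    intro n
    induction n with
    | zero => intro v; simp; rfl
    | succ n ih =>
      intro v
      rw [pow_succ, pow_succ, map_mul, MulAut.mul_apply]
      exact ih (f v)
  have hfr : f ^ r ^ 1 = 1 := by
    funext v
    apply Subtype.ext
    rw [pow_one, hfn]
    exact v.2 _ her
  have h1 := Equiv.Perm.card_fixedPoints_modEq (f := f) (p := r) (n := 1) hfr
  have hfix : Fintype.card f.fixedPoints = Nat.card (fx φ E) := by
    rw [← Nat.card_eq_fintype_card]
    refine Nat.card_congr ⟨fun x => ⟨x.1, ?_⟩, fun y => ⟨⟨y.1, fx_anti hle y.2⟩, ?_⟩, fun _ => rfl, fun _ => rfl⟩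
    · refine fx_anti hgen ?_
      rw [fx_sup]
      refine ⟨x.1.2, fun y hy => ?_⟩
      have hx : φ e (x.1 : V) = x.1 := congrArg Subtype.val x.2
      have : zpowers e ≤ (MulAction.stabilizer (MulAut V) (x.1 : V)).comap φ := by
        rw [zpowers_le]
        exact hx
      exact this hy
    · exact Subtype.ext (y.2 e he)
  rw [hfix, ← Nat.card_eq_fintype_card] at h1
  have h2 : Nat.card (fx φ E) * (fx φ E).relIndex (fx φ H) = Nat.card (fx φ H) := by
    have := Subgroup.card_mul_index ((fx φ E).subgroupOf (fx φ H))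
    rw [Nat.card_congr (subgroupOfEquivOfLe (fx_anti hle)).toEquiv] at this
    exact this
  rw [← h2] at h1
  have h3 : Nat.card (fx φ E) * (fx φ E).relIndex (fx φ H) ≡ Nat.card (fx φ E) * 1 [MOD r] := by
    rw [mul_one]; exact h1
  refine Nat.ModEq.cancel_left_of_coprime ?_ h3
  exact Nat.Coprime.coprime_dvd_right (card_subgroup_dvd_card _) hco

theorem isPGroup_relIndex {ℓ : ℕ} [Fact ℓ.Prime] (hV : IsPGroup ℓ V) (A B : Subgroup V) :
    ∃ k, A.relIndex B = ℓ ^ k :=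
  (hV.to_subgroup B).index (A.subgroupOf B)

theorem orderOf_dvd_of_modEq {ℓ r k : ℕ} [Fact r.Prime] (h : ℓ ^ k ≡ 1 [MOD r]) : orderOf (ℓ : ZMod r) ∣ k := by
  apply orderOf_dvd_of_pow_eq_one
  have := (ZMod.natCast_eq_natCast_iff _ _ _).2 h
  simpa using this

/-- an `ℓ`-power `≡ 1` mod `r`, not `1`, is at least `ℓ ^ ord_r(ℓ)` -/
theorem pow_orderOf_le {ℓ r n : ℕ} [Fact r.Prime] (hℓ : 1 < ℓ) (h1 : n ≡ 1 [MOD r]) (h2 : ∃ k, n = ℓ ^ k)
    (h3 : n ≠ 1) : ℓ ^ orderOf (ℓ : ZMod r) ≤ n := by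
  obtain ⟨k, rfl⟩ := h2
  have hk : k ≠ 0 := fun h => h3 (by rw [h, pow_zero])
  exact Nat.pow_le_pow_right (by omega) (Nat.le_of_dvd (Nat.pos_of_ne_zero hk) (orderOf_dvd_of_modEq h1))

end Indep

section Hyper

variable {L V : Type*} [Group L] [CommGroup V] [Finite V] {φ : L →* MulAut V}

/-- `H` is a hyperplane of the elementary abelian `r`-group `E`: `E = H ⟨e⟩` for all `e ∈ E \ H`. -/
theorem le_sup_zpowers {r : ℕ} [Fact r.Prime] {E H : Subgroup L} (hle : H ≤ E) (hi : H.relIndex E = r) {e : L}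
    (he : e ∈ E) (heH : e ∉ H) : E ≤ H ⊔ zpowers e := by
  have h1 : H ⊔ zpowers e ≤ E := sup_le hle (by rw [zpowers_le]; exact he)
  have h2 : H.relIndex (H ⊔ zpowers e) * (H ⊔ zpowers e).relIndex E = r := by
    rw [relIndex_mul_relIndex _ _ _ le_sup_left h1, hi]
  have h3 : H.relIndex (H ⊔ zpowers e) ≠ 1 := by
    rw [Ne, relIndex_eq_one]
    intro h
    exact heH (h (mem_sup_right (mem_zpowers e)))
  rcases (Nat.Prime.eq_one_or_self_of_dvd (Fact.out : r.Prime) _ ⟨_, h2.symm⟩) with h | h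
  · exact absurd h h3
  · rw [h] at h2
    have : (H ⊔ zpowers e).relIndex E = 1 :=
      Nat.eq_of_mul_eq_mul_left (Fact.out : r.Prime).pos (by rw [h2, mul_one])
    exact relIndex_eq_one.1 this

theorem le_sup_of_ne {r : ℕ} [Fact r.Prime] {E H K : Subgroup L} (hH : H ≤ E) (hi : H.relIndex E = r)
    (hK : K ≤ E) (hj : K.relIndex E = r) (hne : H ≠ K) : E ≤ H ⊔ K := by
  have hnot : ¬ K ≤ H := by
    intro h
    have h2 := relIndex_mul_relIndex K H E h hH
    rw [hi, hj] at h2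
    have h3 : K.relIndex H = 1 :=
      Nat.eq_of_mul_eq_mul_right (Fact.out : r.Prime).pos (by rw [h2, one_mul])
    exact hne (le_antisymm (relIndex_eq_one.1 h3) h)
  obtain ⟨e, he, heH⟩ := Set.not_subset.1 hnot
  exact (le_sup_zpowers hH hi (hK he) heH).trans (sup_le_sup_left (by rw [zpowers_le]; exact he) _)

/-- elementary abelian `r`-subgroup (no finiteness) -/
structure Elem (r : ℕ) (E : Subgroup L) : Prop where
  comm : ∀ a ∈ E, ∀ b ∈ E, a * b = b * a
  pow : ∀ a ∈ E, a ^ r = 1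

theorem Elem.isPGroup {r : ℕ} {E : Subgroup L} (h : Elem r E) : IsPGroup r E := fun a =>
  ⟨1, Subtype.ext (by rw [pow_one]; exact h.pow a a.2)⟩

theorem Elem.coprime {r ℓ : ℕ} [Fact r.Prime] [Fact ℓ.Prime] (hrl : r ≠ ℓ) {E : Subgroup L} [Finite E]
    (h : Elem r E) (hV : IsPGroup ℓ V) : (Nat.card E).Coprime (Nat.card V) := by
  obtain ⟨a, ha⟩ := IsPGroup.iff_card.1 h.isPGroup
  obtain ⟨b, hb⟩ := IsPGroup.iff_card.1 hV
  rw [ha, hb]
  exact Nat.Coprime.pow _ _ ((Nat.coprime_primes Fact.out Fact.out).2 hrl)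

theorem coprime_V {r ℓ : ℕ} [Fact r.Prime] [Fact ℓ.Prime] (hrl : r ≠ ℓ) (hV : IsPGroup ℓ V) :
    r.Coprime (Nat.card V) := by
  obtain ⟨b, hb⟩ := IsPGroup.iff_card.1 hV
  rw [hb]
  exact Nat.Coprime.pow_right _ ((Nat.coprime_primes Fact.out Fact.out).2 hrl)

/-- one hyperplane contributes at least `ℓ ^ ord_r(ℓ)` -/
theorem Elem.pow_le_relIndex {r ℓ : ℕ} [Fact r.Prime] [Fact ℓ.Prime] (hrl : r ≠ ℓ) (hV : IsPGroup ℓ V)
    {E H : Subgroup L} (h : Elem r E) (hle : H ≤ E) (hi : H.relIndex E = r) (hne : fx φ H ≠ fx φ E) :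
    ℓ ^ orderOf (ℓ : ZMod r) ≤ (fx φ E).relIndex (fx φ H) := by
  have hEH : ¬ E ≤ H := by
    intro h1
    rw [← relIndex_eq_one, hi] at h1
    exact (Fact.out : r.Prime).one_lt.ne' h1
  obtain ⟨e, he, heH⟩ := Set.not_subset.1 hEH
  refine pow_orderOf_le (Fact.out : ℓ.Prime).one_lt ?_ (isPGroup_relIndex hV _ _) ?_
  · refine relIndex_modEq (e := e) hle (coprime_V hrl hV) he (by rw [h.pow e he]; exact one_mem _) ?_
      (le_sup_zpowers hle hi he heH)
    intro x hx
    rw [h.comm _ (inv_mem he) _ (hle hx), inv_mul_cancel_right]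
    exact hx
  · rw [Ne, relIndex_eq_one]
    intro h1
    exact hne (le_antisymm h1 (fx_anti hle))

/-- **Orbit bound.** `m = |ι|` different conjugate hyperplanes. -/
theorem Elem.pow_le_index {r ℓ : ℕ} [Fact r.Prime] [Fact ℓ.Prime] (hrl : r ≠ ℓ) (hV : IsPGroup ℓ V)
    {E H : Subgroup L} [Finite E] (h : Elem r E) (hle : H ≤ E) (hi : H.relIndex E = r) (hne : fx φ H ≠ fx φ E)
    {ι : Type*} [Fintype ι] (g : ι → L) (hg : ∀ i, cj (g i) E = E)
    (hinj : ∀ i j, i ≠ j → cj (g i) H ≠ cj (g j) H) :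
    (ℓ ^ orderOf (ℓ : ZMod r)) ^ Fintype.card ι ≤ (fx φ E).index := by
  have hle' : ∀ i, cj (g i) H ≤ E := fun i => by
    rw [← hg i]
    exact map_mono hle
  have hi' : ∀ i, (cj (g i) H).relIndex E = r := fun i => by
    rw [← hi]
    conv_lhs => rw [← hg i]
    exact relIndex_map_map_of_injective _ _ (MulAut.conj (g i)).injective
  have h1 := prod_relIndex_le (φ := φ) (E := E) (H := fun i => cj (g i) H) h.comm (h.coprime hrl hV) hle'
    (fun i j hij => le_sup_of_ne (hle' i) (hi' i) (hle' j) (hi' j) (hinj i j hij))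
  refine le_trans ?_ h1
  rw [← Finset.card_univ, ← Finset.prod_const]
  refine Finset.prod_le_prod' fun i _ => ?_
  rw [relIndex_cj (hg i)]
  exact h.pow_le_relIndex hrl hV hle hi hne

/-- the whole space is generated by the fixed point groups of the hyperplanes -/
theorem Elem.iSup_fx {r ℓ : ℕ} [Fact r.Prime] [Fact ℓ.Prime] (hrl : r ≠ ℓ) (hV : IsPGroup ℓ V)
    {E : Subgroup L} [Finite E] (h : Elem r E) (hE : E ≠ ⊥) :
    ⨆ H : {H : Subgroup L // H ≤ E ∧ H.relIndex E = r}, fx φ H.1 = ⊤ := by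
  letI : CommGroup E := { (inferInstance : Group E) with mul_comm := fun a b => Subtype.ext (h.comm a a.2 b b.2) }
  have : Nontrivial E := (Subgroup.nontrivial_iff_ne_bot E).2 hE
  have h1 := Cfsg.Agent.Lib.CoprimeHyperplane.iSup_fix_eq_top_of_isPGroup (φ.comp E.subtype) hrl
    (fun a => Subtype.ext (h.pow a a.2)) hV
  rw [eq_top_iff, ← h1]
  refine iSup_le fun B => ?_
  have h2 : (B.1.map E.subtype) ≤ E := map_subtype_le _
  have h3 : (B.1.map E.subtype).relIndex E = r := by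
    rw [relIndex, subgroupOf, comap_map_eq_self_of_injective E.subtype_injective]
    exact B.2
  refine le_trans ?_ (le_iSup (fun H : {H : Subgroup L // H ≤ E ∧ H.relIndex E = r} => fx φ H.1)
    ⟨B.1.map E.subtype, h2, h3⟩)
  rintro v hv _ ⟨x, hx, rfl⟩
  exact hv x hx

/-- a hyperplane with more fixed points, if `E` acts nontrivially -/
theorem Elem.exists_hyperplane {r ℓ : ℕ} [Fact r.Prime] [Fact ℓ.Prime] (hrl : r ≠ ℓ) (hV : IsPGroup ℓ V)
    {E : Subgroup L} [Finite E] (h : Elem r E) (hE : fx φ E ≠ ⊤) :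
    ∃ H ≤ E, H.relIndex E = r ∧ fx φ H ≠ fx φ E := by
  have hE1 : E ≠ ⊥ := by
    rintro rfl
    apply hE
    rw [eq_top_iff]
    rintro v - x hx
    rw [Subgroup.mem_bot.1 hx, map_one, MulAut.one_apply]
  by_contra hcon
  push Not at hcon
  apply hE
  rw [eq_top_iff, ← h.iSup_fx (φ := φ) hrl hV hE1]
  exact iSup_le fun H => (hcon H.1 H.2.1 H.2.2).le

end Hyper

section Frob

variable {L : Type*} [Group L]

theorem cj_mul (g h : L) (H : Subgroup L) : cj (g * h) H = cj g (cj h H) := by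
  rw [cj, cj, cj, map_map, map_mul]
  rfl

theorem cj_one (H : Subgroup L) : cj 1 H = H := by
  rw [cj, map_one]
  exact map_id H

/-- the stabiliser of `H` under conjugation -/
def stab (H : Subgroup L) : Subgroup L where
  carrier := {g | cj g H = H}
  one_mem' := cj_one H
  mul_mem' := fun {a b} (ha : cj a H = H) (hb : cj b H = H) => by
    change cj (a * b) H = H
    rw [cj_mul, hb, ha]
  inv_mem' := fun {a} (ha : cj a H = H) => by
    change cj a⁻¹ H = H
    conv_lhs => rw [← ha]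
    rw [← cj_mul, inv_mul_cancel, cj_one]

theorem mem_stab {H : Subgroup L} {g : L} : g ∈ stab H ↔ cj g H = H := Iff.rfl

theorem cj_le_iff {g : L} {H : Subgroup L} (h : ∀ a ∈ H, g * a * g⁻¹ ∈ H) : cj g H ≤ H := by
  rintro _ ⟨a, ha, rfl⟩
  exact h a ha

theorem mem_cj {g : L} {H : Subgroup L} {a : L} (ha : a ∈ H) : g * a * g⁻¹ ∈ cj g H := ⟨a, ha, rfl⟩

theorem cj_eq_of_le {g : L} {H : Subgroup L} [Finite H] (h : cj g H ≤ H) : cj g H = H :=
  Subgroup.eq_of_le_of_card_ge h (card_map_of_injective (MulAut.conj g).injective).ge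

/-- `x` of order `p ∤ r - 1` (mod `C(E)`) acts trivially on `E / H` for an invariant hyperplane `H` -/
theorem Elem.comm_mem {r p : ℕ} [Fact r.Prime] (hp : p.Coprime (r - 1)) {E H : Subgroup L} [Finite E]
    (h : Elem r E) (hle : H ≤ E) (hi : H.relIndex E = r) {x : L} (hxp : ∀ b ∈ E, x ^ p * b = b * x ^ p)
    (hE : cj x E = E) (hH : cj x H = H) {b : L} (hb : b ∈ E) : b⁻¹ * (x * b * x⁻¹) ∈ H := by
  classical
  letI : CommGroup E := { (inferInstance : Group E) with mul_comm := fun a b => Subtype.ext (h.comm a a.2 b b.2) }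
  let σ : E ≃* E := ((MulAut.conj x).subgroupMap E).trans (MulEquiv.subgroupCongr hE)
  have hσ : ∀ a : E, ((σ a : E) : L) = x * a * x⁻¹ := fun a => rfl
  have hmap : (H.subgroupOf E).map (σ : E →* E) = H.subgroupOf E := by
    ext a
    constructor
    · rintro ⟨c, hc, rfl⟩
      rw [mem_subgroupOf]
      change ((σ c : E) : L) ∈ H
      rw [hσ, ← hH]
      exact mem_cj hc
    · intro ha
      rw [mem_subgroupOf, ← hH] at ha
      obtain ⟨c, hc, hca⟩ := ha
      refine ⟨⟨c, hle hc⟩, hc, Subtype.ext ?_⟩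
      change ((σ ⟨c, hle hc⟩ : E) : L) = a
      rw [hσ]
      exact hca
  let τ : MulAut (E ⧸ H.subgroupOf E) := QuotientGroup.congr _ _ σ hmap
  have hτ : ∀ a : E, τ (a : E ⧸ H.subgroupOf E) = ((σ a : E) : E ⧸ H.subgroupOf E) := fun a => rfl
  have hτn : ∀ (n : ℕ) (a : E), (τ ^ n) (a : E ⧸ H.subgroupOf E) = (((σ ^ n : MulAut E) a : E) : E ⧸ H.subgroupOf E) := by
    intro n
    induction n with
    | zero => intro a; rfl
    | succ n ih =>
      intro a
      rw [pow_succ, pow_succ, MulAut.mul_apply, MulAut.mul_apply, hτ, ih]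
  have hσn : ∀ (n : ℕ) (a : E), (((σ ^ n : MulAut E) a : E) : L) = x ^ n * a * (x ^ n)⁻¹ := by
    intro n
    induction n with
    | zero => intro a; simp
    | succ n ih =>
      intro a
      rw [pow_succ, MulAut.mul_apply, ih, hσ]
      group
  have hcard : Nat.card (E ⧸ H.subgroupOf E) = r := hi
  have hcyc : IsCyclic (E ⧸ H.subgroupOf E) := isCyclic_of_prime_card hcard
  have h1 : τ ^ p = 1 := by
    ext q
    obtain ⟨a, rfl⟩ := QuotientGroup.mk_surjective q
    rw [hτn, MulAut.one_apply]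
    congr 1
    apply Subtype.ext
    rw [hσn, hxp _ a.2, mul_inv_cancel_right]
  have h2 : orderOf τ ∣ r - 1 := by
    have := orderOf_dvd_natCard τ
    rwa [IsCyclic.card_mulAut, hcard, Nat.totient_prime Fact.out] at this
  have h3 : τ = 1 := by
    rw [← orderOf_eq_one_iff]
    exact Nat.eq_one_of_dvd_coprimes hp (orderOf_dvd_of_pow_eq_one h1) h2
  have h4 : ((⟨b, hb⟩ : E) : E ⧸ H.subgroupOf E) = ((σ ⟨b, hb⟩ : E) : E ⧸ H.subgroupOf E) := by
    have h5 := hτ ⟨b, hb⟩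
    rwa [h3, MulAut.one_apply] at h5
  have h6 := QuotientGroup.eq.1 h4
  exact h6

/-- the conjugates of `H` under `1, x, ..., x ^ (p - 1)` are different -/
theorem cj_pow_ne {p : ℕ} (hp : p.Prime) {H : Subgroup L} {x : L} (hxp : x ^ p ∈ stab H) (hx : x ∉ stab H)
    (i j : Fin p) (hij : i ≠ j) : cj (x ^ (i : ℕ)) H ≠ cj (x ^ (j : ℕ)) H := by
  have key : ∀ n : ℕ, n.Coprime p → x ^ n ∉ stab H := by
    intro n hn hmem
    apply hx
    have h1 := Nat.gcd_eq_gcd_ab n p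
    rw [hn] at h1
    have h2 : x = (x ^ n) ^ (Nat.gcdA n p) * (x ^ p) ^ (Nat.gcdB n p) := by
      rw [← zpow_natCast x n, ← zpow_natCast x p, ← zpow_mul, ← zpow_mul, ← zpow_add, ← h1]
      simp
    rw [h2]
    exact mul_mem (zpow_mem hmem _) (zpow_mem hxp _)
  have main : ∀ i j : Fin p, i < j → cj (x ^ (i : ℕ)) H ≠ cj (x ^ (j : ℕ)) H := by
    intro i j hlt h
    have hlt' : (i : ℕ) < j := hlt
    refine key ((j : ℕ) - i) ?_ ?_
    · refine Nat.Coprime.symm ((Nat.Prime.coprime_iff_not_dvd hp).2 fun hd => ?_)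
      have := Nat.le_of_dvd (by omega) hd
      have := j.2
      omega
    · rw [mem_stab]
      have h1 : x ^ ((j : ℕ) - i) = (x ^ (i : ℕ))⁻¹ * x ^ (j : ℕ) := by
        rw [← zpow_natCast, ← zpow_natCast, ← zpow_natCast, ← zpow_neg, ← zpow_add]
        congr 1
        omega
      rw [h1, cj_mul, ← h, ← cj_mul, inv_mul_cancel, cj_one]
  rcases lt_or_gt_of_ne hij with h | h
  · exact main i j h
  · exact (main j i h).symm

variable {V : Type*} [CommGroup V] [Finite V] {φ : L →* MulAut V}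

/-- **Frobenius bound, elementary abelian case.** -/
theorem Elem.pow_le_index_of_comm {r ℓ p : ℕ} [Fact r.Prime] [Fact ℓ.Prime] (hrl : r ≠ ℓ) (hV : IsPGroup ℓ V)
    (hp : p.Prime) (hpr : p.Coprime (r - 1)) {E : Subgroup L} [Finite E] (h : Elem r E) {x : L}
    (hxp : ∀ b ∈ E, x ^ p * b = b * x ^ p) (hE : cj x E = E)
    (hne : ∃ b ∈ E, φ (x * b * x⁻¹) ≠ φ b) : (ℓ ^ orderOf (ℓ : ZMod r)) ^ p ≤ (fx φ E).index := by
  have hE0 : fx φ E ≠ ⊤ := by
    intro h1
    obtain ⟨b, hb, hne⟩ := hne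
    apply hne
    have h2 : ∀ b ∈ E, φ b = 1 := by
      intro b hb
      ext v
      have : v ∈ fx φ E := h1 ▸ mem_top v
      exact this b hb
    rw [h2 _ hb, h2 _ (by rw [← hE]; exact mem_cj hb)]
  obtain ⟨H, hle, hi, hfx, hst⟩ : ∃ H ≤ E, H.relIndex E = r ∧ fx φ H ≠ fx φ E ∧ cj x H ≠ H := by
    by_contra hcon
    push Not at hcon
    obtain ⟨b, hb, hne⟩ := hne
    apply hne
    have hc : b⁻¹ * (x * b * x⁻¹) ∈ E := mul_mem (inv_mem hb) (by rw [← hE]; exact mem_cj hb)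
    have hE1 : E ≠ ⊥ := by
      rintro rfl
      apply hE0
      rw [eq_top_iff]
      rintro v - x hx
      rw [Subgroup.mem_bot.1 hx, map_one, MulAut.one_apply]
    have h1 : ∀ v : V, φ (b⁻¹ * (x * b * x⁻¹)) v = v := by
      intro v
      have h2 : v ∈ ⨆ H : {H : Subgroup L // H ≤ E ∧ H.relIndex E = r}, fx φ H.1 := by
        rw [h.iSup_fx (φ := φ) hrl hV hE1]
        exact mem_top v
      have h3 : ⨆ H : {H : Subgroup L // H ≤ E ∧ H.relIndex E = r}, fx φ H.1 ≤
          fx φ (zpowers (b⁻¹ * (x * b * x⁻¹))) := by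
        refine iSup_le fun H => ?_
        by_cases hH : fx φ H.1 = fx φ E
        · rw [hH]
          exact fx_anti (by rw [zpowers_le]; exact hc)
        · refine fx_anti ?_
          rw [zpowers_le]
          exact h.comm_mem hpr H.2.1 H.2.2 hxp hE (hcon H.1 H.2.1 H.2.2 hH) hb
      exact h3 h2 _ (mem_zpowers _)
    have h4 : φ (b⁻¹ * (x * b * x⁻¹)) = 1 := by
      ext v
      exact h1 v
    rw [map_mul, map_inv] at h4
    exact (inv_mul_eq_one.1 h4).symm
  have h1 := h.pow_le_index hrl hV hle hi hfx (fun i : Fin p => x ^ (i : ℕ)) (fun i => ?_)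
    (cj_pow_ne hp ?_ hst)
  · rwa [Fintype.card_fin] at h1
  · exact (pow_mem (show x ∈ stab E from hE) _ : x ^ (i : ℕ) ∈ stab E)
  · rw [mem_stab]
    ext a
    constructor
    · rintro ⟨c, hc, rfl⟩
      change x ^ p * c * (x ^ p)⁻¹ ∈ H
      rw [hxp c (hle hc), mul_inv_cancel_right]
      exact hc
    · intro ha
      have := mem_cj (g := x ^ p) ha
      rwa [hxp a (hle ha), mul_inv_cancel_right] at this

/-- an element of prime order moved by `x` -/
theorem exists_prime_moved {p : ℕ} (hp : p.Prime) {A : Subgroup L} [Finite A]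
    (hA : ∀ a ∈ A, ∀ b ∈ A, a * b = b * a) (hpA : ¬ p ∣ Nat.card A) {x : L}
    (hxp : ∀ b ∈ A, x ^ p * b = b * x ^ p) (hE : ∀ a ∈ A, x * a * x⁻¹ ∈ A)
    (hne : ∃ b ∈ A, x * b * x⁻¹ ≠ b) :
    ∃ r, r.Prime ∧ r ∣ Nat.card A ∧ ∃ b ∈ A, b ^ r = 1 ∧ x * b * x⁻¹ ≠ b := by
  obtain ⟨a, ha, hne⟩ := hne
  set b0 := a⁻¹ * (x * a * x⁻¹) with hb0
  have hb0A : b0 ∈ A := mul_mem (inv_mem ha) (hE a ha)
  have h0 : b0 ≠ 1 := fun h => hne (inv_mul_eq_one.1 h).symm
  have hdvd : orderOf b0 ∣ Nat.card A := by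
    have := orderOf_dvd_natCard (⟨b0, hb0A⟩ : A)
    rwa [Subgroup.orderOf_mk] at this
  have hm : orderOf b0 ≠ 1 := fun h => h0 (orderOf_eq_one_iff.1 h)
  obtain ⟨r, hr, k, hk⟩ := Nat.exists_prime_and_dvd hm
  have hord0 : orderOf b0 ≠ 0 := fun h => by
    rw [h] at hdvd
    exact Nat.card_pos.ne' (zero_dvd_iff.1 hdvd)
  have hk0 : k ≠ 0 := fun h => hord0 (by rw [hk, h, mul_zero])
  have hrA : r ∣ Nat.card A := (Dvd.intro _ hk.symm).trans hdvd
  have hbr : orderOf (b0 ^ k) = r := by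
    rw [orderOf_pow_of_dvd hk0 ⟨r, by rw [hk, mul_comm]⟩, hk, Nat.mul_div_cancel _ (Nat.pos_of_ne_zero hk0)]
  have hb : b0 ^ k = (a ^ k)⁻¹ * (x * a ^ k * x⁻¹) := by
    have h1 : Commute a⁻¹ (x * a * x⁻¹) := hA _ (inv_mem ha) _ (hE a ha)
    rw [hb0, h1.mul_pow, inv_pow, conj_pow]
  refine ⟨r, hr, hrA, b0 ^ k, pow_mem hb0A k, by rw [← hbr]; exact pow_orderOf_eq_one _, ?_⟩
  intro hcon
  set b := b0 ^ k with hbdef
  set c := a ^ k with hc
  have hbA : b ∈ A := pow_mem hb0A k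
  have hcA : c ∈ A := pow_mem ha k
  have hxc : x * c * x⁻¹ = c * b := by rw [hb, mul_inv_cancel_left]
  have key : ∀ n : ℕ, x ^ n * c * (x ^ n)⁻¹ = c * b ^ n := by
    intro n
    induction n with
    | zero => simp
    | succ n ih =>
      have h1 : x ^ (n + 1) * c * (x ^ (n + 1))⁻¹ = x * (x ^ n * c * (x ^ n)⁻¹) * x⁻¹ := by
        rw [pow_succ']
        group
      have h2 : x * (c * b ^ n) * x⁻¹ = (x * c * x⁻¹) * (x * b * x⁻¹) ^ n := by
        rw [conj_pow]
        group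
      rw [h1, ih, h2, hxc, hcon, mul_assoc, pow_succ']
  have h1 := key p
  rw [hxp c hcA, mul_inv_cancel_right] at h1
  have h2 : b ^ p = 1 := by
    have := h1.symm
    rwa [mul_eq_left] at this
  have h3 : r ∣ p := by
    rw [← hbr]
    exact orderOf_dvd_of_pow_eq_one h2
  rw [(Nat.prime_dvd_prime_iff_eq hr hp).1 h3] at hrA
  exact hpA hrA

/-- `Ω_r(A)` -/
def om (r : ℕ) (A : Subgroup L) (hA : ∀ a ∈ A, ∀ b ∈ A, a * b = b * a) : Subgroup L where
  carrier := {a | a ∈ A ∧ a ^ r = 1}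
  one_mem' := ⟨one_mem A, one_pow r⟩
  mul_mem' := fun {a b} ha hb => ⟨mul_mem ha.1 hb.1, by
    rw [(show Commute a b from hA a ha.1 b hb.1).mul_pow, ha.2, hb.2, one_mul]⟩
  inv_mem' := fun {a} ha => ⟨inv_mem ha.1, by rw [inv_pow, ha.2, inv_one]⟩

omit [Finite V] in
theorem fx_map_id (A : Subgroup L) : fx (MonoidHom.id (MulAut V)) (A.map φ) = fx φ A := by
  ext v
  constructor
  · intro h a ha
    exact h _ ⟨a, ha, rfl⟩
  · rintro h _ ⟨a, ha, rfl⟩
    exact h a ha

/-- **(T2) Frobenius bound.** `A` abelian, normalised by `x`, `x ^ p` centralises `A`, `[A, x]` acts nontrivially,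
and `p ∤ r (r - 1)` for the prime divisors `r` of `|A|`. -/
theorem frob {ℓ p : ℕ} [Fact ℓ.Prime] (hV : IsPGroup ℓ V) (hp : p.Prime) {A : Subgroup L} [Finite A]
    (hA : ∀ a ∈ A, ∀ b ∈ A, a * b = b * a) (hAl : ¬ ℓ ∣ Nat.card A)
    (hpA : ∀ r, r.Prime → r ∣ Nat.card A → r ≠ p ∧ ¬ p ∣ r - 1) {x : L}
    (hxp : ∀ b ∈ A, x ^ p * b = b * x ^ p) (hE : ∀ a ∈ A, x * a * x⁻¹ ∈ A)
    (hne : ∃ b ∈ A, φ (x * b * x⁻¹) ≠ φ b) :
    ∃ r, r.Prime ∧ r ∣ Nat.card A ∧ (ℓ ^ orderOf (ℓ : ZMod r)) ^ p ≤ (fx φ A).index := by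
  have hc1 : Nat.card (A.map φ) ∣ Nat.card A := Subgroup.card_map_dvd _ _
  have : Finite (A.map φ) := Set.Finite.image _ (Set.toFinite (A : Set L))
  have hA' : ∀ a ∈ A.map φ, ∀ b ∈ A.map φ, a * b = b * a := by
    rintro _ ⟨a, ha, rfl⟩ _ ⟨b, hb, rfl⟩
    rw [← map_mul, hA a ha b hb, map_mul]
  have hxp' : ∀ b ∈ A.map φ, (φ x) ^ p * b = b * (φ x) ^ p := by
    rintro _ ⟨b, hb, rfl⟩
    rw [← map_pow, ← map_mul, hxp b hb, map_mul]
  have hE' : ∀ b ∈ A.map φ, φ x * b * (φ x)⁻¹ ∈ A.map φ := by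
    rintro _ ⟨b, hb, rfl⟩
    exact ⟨x * b * x⁻¹, hE b hb, by rw [map_mul, map_mul, map_inv]⟩
  obtain ⟨r, hr, hrA, b, hb, hbr, hbne⟩ := exists_prime_moved (x := φ x) hp hA'
    (fun h => (hpA p hp (h.trans hc1)).1 rfl) hxp' hE' (by
      obtain ⟨b, hb, hne⟩ := hne
      exact ⟨φ b, ⟨b, hb, rfl⟩, by rwa [map_mul, map_mul, map_inv] at hne⟩)
  have hrA' := hrA.trans hc1
  have := Fact.mk hr
  have hrl : r ≠ ℓ := by
    rintro rfl
    exact hAl hrA'
  set E := om r (A.map φ) hA' with hEdef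
  have hEA : E ≤ A.map φ := fun _ h => h.1
  have : Finite E := Set.Finite.subset (Set.toFinite (A.map φ : Set (MulAut V))) hEA
  have hel : Elem r E := ⟨fun a ha b hb => hA' a ha.1 b hb.1, fun a ha => ha.2⟩
  refine ⟨r, hr, hrA', ?_⟩
  have h1 := hel.pow_le_index_of_comm (φ := MonoidHom.id (MulAut V)) hrl hV hp
    (by
      rw [Nat.Prime.coprime_iff_not_dvd hp]
      exact (hpA r hr hrA').2) (x := φ x)
    (fun b hb => hxp' b hb.1) (cj_eq_of_le (cj_le_iff fun a ha => ⟨hE' a ha.1, by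
      rw [conj_pow, ha.2, mul_one, mul_inv_cancel]⟩)) ⟨b, ⟨hb, hbr⟩, hbne⟩
  refine h1.trans ?_
  rw [← fx_map_id (φ := φ) A]
  exact Nat.le_of_dvd (Nat.pos_of_ne_zero index_ne_zero_of_finite) (index_dvd_of_le (fx_anti hEA))

/-- **(T2)** with one prime `r` -/
theorem frob_card {ℓ p m : ℕ} [Fact ℓ.Prime] (hV : IsPGroup ℓ V) (hp : p.Prime) {A : Subgroup L} [Finite A]
    (hA : ∀ a ∈ A, ∀ b ∈ A, a * b = b * a) (hAl : ¬ ℓ ∣ Nat.card A)
    (hpA : ∀ r, r.Prime → r ∣ Nat.card A → r ≠ p ∧ ¬ p ∣ r - 1 ∧ m ≤ orderOf (ℓ : ZMod r)) {x : L}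
    (hxp : ∀ b ∈ A, x ^ p * b = b * x ^ p) (hE : ∀ a ∈ A, x * a * x⁻¹ ∈ A)
    (hne : ∃ b ∈ A, φ (x * b * x⁻¹) ≠ φ b) : ℓ ^ (m * p) ≤ Nat.card V := by
  obtain ⟨r, hr, hrA, h⟩ := frob hV hp hA hAl (fun r hr hrA => ⟨(hpA r hr hrA).1, (hpA r hr hrA).2.1⟩) hxp hE hne
  have h1 : ℓ ^ (m * p) ≤ (ℓ ^ orderOf (ℓ : ZMod r)) ^ p := by
    rw [← pow_mul]
    exact Nat.pow_le_pow_right (Fact.out : ℓ.Prime).pos (Nat.mul_le_mul_right _ (hpA r hr hrA).2.2)
  refine (h1.trans h).trans ?_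
  exact Nat.le_of_dvd Nat.card_pos (index_dvd_card _)

end Frob

end Cfsg.Agent.Omega.TwoF.Orb

end

section


/-!
# The bound 22 from a group `3 ^ 5 : 11` (helper411)

`LB.golay` : `x` of order 11 acts on the elementary abelian group `⟨e, e^x, ...⟩` of order `3 ^ 5` with characteristic
polynomial `y ^ 5 = 1 + 2 y ^ 2 + y ^ 3 + 2 y ^ 4`; in every odd central extension (3 may divide the centre) the preimage
is abelian, so nontrivial modules in characteristic 2 have dimension at least `2 * 11`.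
-/

set_option autoImplicit false

namespace Cfsg.Agent.Omega.TwoF.Golay

open Subgroup Cfsg.Agent.Omega.Lie.Heis

universe u v w

/-- the conjugates `x ^ k e x ^ (-k)` -/
def cjp {L : Type*} [Group L] (x e : L) (k : ℕ) : L := x ^ k * e * (x ^ k)⁻¹

theorem cjp_zero {L : Type*} [Group L] (x e : L) : cjp x e 0 = e := by simp [cjp]

theorem conj_cjp {L : Type*} [Group L] (x e : L) (j k : ℕ) : x ^ j * cjp x e k * (x ^ j)⁻¹ = cjp x e (j + k) := by
  rw [cjp, cjp, pow_add]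
  group

theorem conj_cjp_one {L : Type*} [Group L] (x e : L) (k : ℕ) : x * cjp x e k * x⁻¹ = cjp x e (k + 1) := by
  have := conj_cjp x e 1 k
  rwa [pow_one, add_comm] at this

theorem map_cjp {L K : Type*} [Group L] [Group K] (π : L →* K) (x e : L) (k : ℕ) :
    π (cjp x e k) = cjp (π x) (π e) k := by
  rw [cjp, cjp, map_mul, map_mul, map_inv, map_pow]

theorem solve {A : Type*} [AddCommGroup A] {c1 c2 c3 c4 : A} (h1 : c4 = -c1 + (c1 + c1) + c2 + (c3 + c3))
    (h2 : c3 = -c2 + (0 + 0) + c1 + (c2 + c2)) (h3 : c2 = -c3 + (-c1 + -c1) + 0 + (c1 + c1))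
    (h4 : c1 = -c4 + (-c2 + -c2) + -c1 + (0 + 0)) (h5 : c2 + c2 + c2 = 0) : c1 = 0 ∧ c2 = 0 ∧ c3 = 0 ∧ c4 = 0 := by
  have e3 : c3 = -c2 := by
    have : c2 = -c3 := by
      calc c2 = -c3 + (-c1 + -c1) + 0 + (c1 + c1) := h3
        _ = -c3 := by abel
    rw [this, neg_neg]
  have e1 : c1 = -(c2 + c2) := by
    have : c1 = c3 - c2 := by
      calc c1 = (-c2 + (0 + 0) + c1 + (c2 + c2)) - c2 := by abel
        _ = c3 - c2 := by rw [← h2]
    rw [this, e3]; abel
  have e4 : c4 = 0 := by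
    calc c4 = -c1 + (c1 + c1) + c2 + (c3 + c3) := h1
      _ = -(c2 + c2 + c2) := by rw [e1, e3]; abel
      _ = 0 := by rw [h5, neg_zero]
  have e2 : c2 + c2 = 0 := by
    have : c1 = -(c2 + c2) - c1 := by
      calc c1 = -c4 + (-c2 + -c2) + -c1 + (0 + 0) := h4
        _ = -(c2 + c2) - c1 := by rw [e4]; abel
    rw [e1, sub_self] at this
    exact neg_eq_zero.1 this
  have e0 : c2 = 0 := by
    calc c2 = (c2 + c2 + c2) - (c2 + c2) := by abel
      _ = 0 := by rw [h5, e2, sub_zero]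
  refine ⟨by rw [e1, e0]; simp, e0, by rw [e3, e0, neg_zero], e4⟩

section

variable {L : Type*} [Group L]

/-- the commutator -/
def cm (a b : L) : L := a * b * a⁻¹ * b⁻¹

theorem cm_eq_one {a b : L} : cm a b = 1 ↔ a * b = b * a := by
  rw [cm, mul_inv_eq_one, mul_inv_eq_iff_eq_mul]

theorem cm_mul {a b c : L} (h : cm a c ∈ center L) : cm a (b * c) = cm a b * cm a c := by
  have h1 : cm a (b * c) = a * b * a⁻¹ * cm a c * b⁻¹ := by rw [cm, cm]; group
  rw [h1, mul_assoc _ (cm a c), ← mem_center_iff.1 h b⁻¹, ← mul_assoc, ← cm]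

theorem cm_central {a z : L} (h : z ∈ center L) : cm a z = 1 := cm_eq_one.2 (mem_center_iff.1 h a)

theorem cm_inv {a b : L} : cm b a = (cm a b)⁻¹ := by
  rw [cm, cm]; group

theorem cm_conj {a b g : L} (h : cm a b ∈ center L) : cm (g * a * g⁻¹) (g * b * g⁻¹) = cm a b := by
  have h1 : cm (g * a * g⁻¹) (g * b * g⁻¹) = g * cm a b * g⁻¹ := by rw [cm, cm]; group
  rw [h1, mem_center_iff.1 h g, mul_inv_cancel_right]

theorem cm_self {a : L} : cm a a = 1 := cm_eq_one.2 rfl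

/-- **The preimage is abelian.** -/
theorem comm_four {Z : Subgroup L} (hZ : Z ≤ center L) {x e z : L} (h3 : e ^ 3 ∈ Z) (hz : z ∈ Z)
    (hc : ∀ k, k ≤ 4 → cm e (cjp x e k) ∈ Z)
    (h5 : cjp x e 5 = z * (e * (cjp x e 2 * cjp x e 2) * cjp x e 3 * (cjp x e 4 * cjp x e 4))) :
    ∀ k, k ≤ 4 → cm e (cjp x e k) = 1 := by
  -- central values
  have hd : ∀ j k, k ≤ 4 → cm (cjp x e j) (cjp x e (j + k)) = cm e (cjp x e k) := by
    intro j k hk
    rw [← conj_cjp x e j k, cjp]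
    exact cm_conj (hZ (hc k hk))
  have hd' : ∀ j k, k ≤ 4 → cm (cjp x e (j + k)) (cjp x e j) = (cm e (cjp x e k))⁻¹ := by
    intro j k hk
    rw [cm_inv, hd j k hk]
  have hcen : ∀ i j, i ≤ 4 → j ≤ 4 → cm (cjp x e i) (cjp x e j) ∈ center L := by
    intro i j hi hj
    rcases le_total i j with h | h
    · obtain ⟨k, rfl⟩ := Nat.exists_eq_add_of_le h
      rw [hd i k (by omega)]
      exact hZ (hc k (by omega))
    · obtain ⟨k, rfl⟩ := Nat.exists_eq_add_of_le h
      rw [hd' j k (by omega)]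
      exact inv_mem (hZ (hc k (by omega)))
  -- the relation
  have hr : ∀ j, j ≤ 4 → cm (cjp x e j) (cjp x e 5) = cm (cjp x e j) e *
      (cm (cjp x e j) (cjp x e 2) * cm (cjp x e j) (cjp x e 2)) * cm (cjp x e j) (cjp x e 3) *
      (cm (cjp x e j) (cjp x e 4) * cm (cjp x e j) (cjp x e 4)) := by
    intro j hj
    have h2 := hcen j 2 hj (by norm_num)
    have h3' := hcen j 3 hj (by norm_num)
    have h4 := hcen j 4 hj (by norm_num)
    rw [h5, cm_mul (b := z), cm_central (hZ hz), one_mul]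
    · rw [cm_mul (b := e * _ * _), cm_mul (b := e * _), cm_mul (b := e), cm_mul h2, cm_mul h4]
      · rw [cm_mul h2]; exact mul_mem h2 h2
      · exact h3'
      · rw [cm_mul h4]; exact mul_mem h4 h4
    · have h0 := hcen j 0 hj (by norm_num)
      rw [cjp_zero] at h0
      rw [cm_mul (b := e * _ * _), cm_mul (b := e * _), cm_mul (b := e), cm_mul h2, cm_mul h4]
      · exact mul_mem (mul_mem (mul_mem h0 (mul_mem h2 h2)) h3') (mul_mem h4 h4)
      · rw [cm_mul h2]; exact mul_mem h2 h2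
      · exact h3'
      · rw [cm_mul h4]; exact mul_mem h4 h4
  -- values in the centre
  let _ : CommGroup (center L) :=
    { (inferInstance : Group (center L)) with mul_comm := fun a b => Subtype.ext (mem_center_iff.1 b.2 a) }
  let c : ℕ → Additive (center L) := fun k => if h : k ≤ 4 then Additive.ofMul ⟨cm e (cjp x e k), hZ (hc k h)⟩ else 0
  have hval : ∀ k (hk : k ≤ 4), ((c k).toMul : L) = cm e (cjp x e k) := by
    intro k hk
    simp only [c, dif_pos hk]
    rfl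
  have hv : ∀ i k, k ≤ 4 → cm (cjp x e i) (cjp x e (i + k)) = ((c k).toMul : center L) := fun i k hk =>
    (hd i k hk).trans (hval k hk).symm
  have hv' : ∀ i k, k ≤ 4 → cm (cjp x e (i + k)) (cjp x e i) = ((-(c k)).toMul : center L) := fun i k hk =>
    (hd' i k hk).trans (congrArg (fun g => g⁻¹) (hval k hk).symm)
  have h00 : ∀ i, cm (cjp x e i) (cjp x e i) = ((0 : Additive (center L)).toMul : center L) := fun i => cm_self
  have he : ∀ k, k ≤ 4 → cm (cjp x e k) e = ((-(c k)).toMul : center L) := by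
    intro k hk
    have := hv' 0 k hk
    rwa [zero_add, cjp_zero] at this
  have inj : ∀ a b : Additive (center L), ((a.toMul : center L) : L) = (b.toMul : center L) → a = b := fun a b h =>
    Additive.toMul.injective (Subtype.ext h)
  have key : c 1 = 0 ∧ c 2 = 0 ∧ c 3 = 0 ∧ c 4 = 0 := by
    have k1 := hr 1 (by norm_num)
    rw [hv 1 4 (by norm_num), he 1 (by norm_num), hv 1 1 (by norm_num), hv 1 2 (by norm_num),
      hv 1 3 (by norm_num)] at k1
    have k2 := hr 2 (by norm_num)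
    rw [hv 2 3 (by norm_num), he 2 (by norm_num), h00 2, hv 2 1 (by norm_num), hv 2 2 (by norm_num)] at k2
    have k3 := hr 3 (by norm_num)
    rw [hv 3 2 (by norm_num), he 3 (by norm_num), hv' 2 1 (by norm_num), h00 3, hv 3 1 (by norm_num)] at k3
    have k4 := hr 4 (by norm_num)
    rw [hv 4 1 (by norm_num), he 4 (by norm_num), hv' 2 2 (by norm_num), hv' 3 1 (by norm_num), h00 4] at k4
    refine solve (c1 := c 1) (c2 := c 2) (c3 := c 3) (c4 := c 4) (inj _ _ k1) (inj _ _ k2) (inj _ _ k3) (inj _ _ k4)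
      (inj _ _ ?_)
    show ((c 2).toMul : L) * ((c 2).toMul : L) * ((c 2).toMul : L) = 1
    rw [hval 2 (by norm_num)]
    have c0 := hZ (hc 2 (by norm_num))
    have c1 : cm (cjp x e 2) e ∈ center L := by
      rw [cm_inv]; exact inv_mem c0
    have h1 : cm (cjp x e 2) (e ^ 3) = 1 := cm_central (hZ h3)
    rw [pow_succ, pow_two, cm_mul c1, cm_mul c1] at h1
    have h2 : cm e (cjp x e 2) = (cm (cjp x e 2) e)⁻¹ := cm_inv
    rw [h2, ← mul_inv_rev, ← mul_inv_rev, ← mul_assoc, h1, inv_one]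
  intro k hk
  have h0 : ∀ a : Additive (center L), a = 0 → ((a.toMul : center L) : L) = 1 := by
    rintro a rfl; rfl
  interval_cases k
  · rw [cjp_zero, cm_self]
  · rw [← hval 1 (by norm_num)]; exact h0 _ key.1
  · rw [← hval 2 (by norm_num)]; exact h0 _ key.2.1
  · rw [← hval 3 (by norm_num)]; exact h0 _ key.2.2.1
  · rw [← hval 4 (by norm_num)]; exact h0 _ key.2.2.2

/-- all conjugates commute with `e` -/
theorem comm_all {Z : Subgroup L} (hZ : Z ≤ center L) {x e z : L} (h3 : e ^ 3 ∈ Z) (hz : z ∈ Z)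
    (hc : ∀ k, k ≤ 4 → cm e (cjp x e k) ∈ Z)
    (h5 : cjp x e 5 = z * (e * (cjp x e 2 * cjp x e 2) * cjp x e 3 * (cjp x e 4 * cjp x e 4))) (k : ℕ) :
    Commute e (cjp x e k) := by
  induction k using Nat.strong_induction_on with
  | _ k ih =>
    rcases lt_or_ge k 5 with hk | hk
    · exact cm_eq_one.1 (comm_four hZ h3 hz hc h5 k (by omega))
    · obtain ⟨i, rfl⟩ := Nat.exists_eq_add_of_le' hk
      have h1 : cjp x e (i + 5) = (x ^ i * z * (x ^ i)⁻¹) * (cjp x e i * (cjp x e (i + 2) * cjp x e (i + 2)) *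
          cjp x e (i + 3) * (cjp x e (i + 4) * cjp x e (i + 4))) := by
        rw [← conj_cjp x e i 5, h5, ← conj_cjp x e i 2, ← conj_cjp x e i 3, ← conj_cjp x e i 4,
          show cjp x e i = x ^ i * e * (x ^ i)⁻¹ from rfl]
        group
      have hz' : Commute e (x ^ i * z * (x ^ i)⁻¹) := by
        have h2 : x ^ i * z * (x ^ i)⁻¹ = z := by
          rw [mem_center_iff.1 (hZ hz) (x ^ i), mul_inv_cancel_right]
        rw [h2]
        exact mem_center_iff.1 (hZ hz) e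
      rw [h1]
      have e2 := ih (i + 2) (by omega)
      have e3 := ih (i + 3) (by omega)
      have e4 := ih (i + 4) (by omega)
      exact hz'.mul_right ((((ih i (by omega)).mul_right (e2.mul_right e2)).mul_right e3).mul_right (e4.mul_right e4))

end

theorem comm_ij {L : Type*} [Group L] {x e : L} (h : ∀ k, Commute e (cjp x e k)) (i j : ℕ) :
    cjp x e i * cjp x e j = cjp x e j * cjp x e i := by
  have key : ∀ i k, cjp x e i * cjp x e (i + k) = cjp x e (i + k) * cjp x e i := by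
    intro i k
    rw [← conj_cjp x e i k, show cjp x e i = x ^ i * e * (x ^ i)⁻¹ from rfl]
    have := (h k).eq
    calc x ^ i * e * (x ^ i)⁻¹ * (x ^ i * cjp x e k * (x ^ i)⁻¹) = x ^ i * (e * cjp x e k) * (x ^ i)⁻¹ := by group
      _ = x ^ i * (cjp x e k * e) * (x ^ i)⁻¹ := by rw [this]
      _ = _ := by group
  rcases le_total i j with hij | hij
  · obtain ⟨k, rfl⟩ := Nat.exists_eq_add_of_le hij
    exact key i k
  · obtain ⟨k, rfl⟩ := Nat.exists_eq_add_of_le hij
    exact (key j k).symm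

/-- a preimage of 3-power order -/
theorem exists_pow_lift {L K : Type*} [Group L] [Finite L] [Group K] {π : L →* K} (hπ : Function.Surjective π) {e : K}
    (he : e ^ 3 = 1) : ∃ (e' : L) (a : ℕ), π e' = e ∧ e' ^ (3 ^ a) = 1 := by
  obtain ⟨b, rfl⟩ := hπ e
  obtain ⟨a, m, hm, hab⟩ := Nat.exists_eq_pow_mul_and_not_dvd (orderOf_pos b).ne' 3 (by norm_num)
  refine ⟨b ^ (m * m), a, ?_, ?_⟩
  · have h1 : m * m % 3 = 1 := by
      have : m % 3 = 1 ∨ m % 3 = 2 := by omega
      rcases this with h | h <;> rw [Nat.mul_mod, h]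
    obtain ⟨k, hk⟩ : ∃ k, m * m = 3 * k + 1 := ⟨m * m / 3, by omega⟩
    rw [map_pow, hk, pow_add, pow_mul, he, one_pow, one_mul, pow_one]
  · rw [← pow_mul, show m * m * 3 ^ a = (3 ^ a * m) * m by ring, ← hab, pow_mul, pow_orderOf_eq_one, one_pow]

theorem order_two_three : 2 ≤ orderOf (2 : ZMod 3) := by
  have : orderOf (2 : ZMod 3) = 2 := orderOf_eq_prime (by decide) (by decide)
  rw [this]

/-- **The bound 22**: `⟨e, e^x, …⟩` elementary abelian of order `3 ^ 5`, `x` of order 11. -/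
theorem LB.golay {K : Type u} [Group K] [IsSimpleGroup K] {x e : K} (hx : x ^ 11 = 1) (he : e ^ 3 = 1)
    (h1 : ∀ k, k ≤ 4 → e * cjp x e k = cjp x e k * e)
    (h5 : cjp x e 5 = e * (cjp x e 2 * cjp x e 2) * cjp x e 3 * (cjp x e 4 * cjp x e 4))
    (hne : x * e ≠ e * x) : LB.{u, v, w} K 22 := by
  apply LB.of_irr
  intro L _ _ π hπ hc _ _ V _ _ h2 φ hφ _
  have _ : Fact (Nat.Prime 2) := ⟨Nat.prime_two⟩
  have _ : Fact (Nat.Prime 3) := ⟨Nat.prime_three⟩
  obtain ⟨x', rfl⟩ := hπ x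
  obtain ⟨e', a, rfl, hea⟩ := exists_pow_lift hπ he
  have hk3 : e' ^ 3 ∈ π.ker := by rw [MonoidHom.mem_ker, map_pow, he]
  have hck : ∀ k, k ≤ 4 → cm e' (cjp x' e' k) ∈ π.ker := by
    intro k hk
    rw [MonoidHom.mem_ker, cm, map_mul, map_mul, map_mul, map_inv, map_inv, map_cjp, h1 k hk]
    group
  set y := e' * (cjp x' e' 2 * cjp x' e' 2) * cjp x' e' 3 * (cjp x' e' 4 * cjp x' e' 4) with hy
  have hz : cjp x' e' 5 * y⁻¹ ∈ π.ker := by
    rw [MonoidHom.mem_ker, map_mul, map_inv, map_cjp, h5, hy]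
    simp only [map_mul, map_cjp]
    group
  have hall := comm_all hc hk3 hz hck (by rw [← hy, inv_mul_cancel_right])
  -- the abelian group
  have hcc : ∀ s ∈ Set.range (cjp x' e'), ∀ t ∈ Set.range (cjp x' e'), s * t = t * s := by
    rintro _ ⟨i, rfl⟩ _ ⟨j, rfl⟩
    exact comm_ij hall i j
  let A : Subgroup L := closure (Set.range (cjp x' e'))
  have hA : ∀ s ∈ A, ∀ t ∈ A, s * t = t * s := by
    intro s hs t ht
    have := isMulCommutative_closure hcc
    exact congrArg Subtype.val (mul_comm' (⟨s, hs⟩ : A) ⟨t, ht⟩)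
  have hpow : ∀ s ∈ A, s ^ (3 ^ a) = 1 := by
    intro s hs
    refine closure_induction (p := fun s _ => s ^ (3 ^ a) = 1) ?_ ?_ ?_ ?_ hs
    · rintro _ ⟨k, rfl⟩
      rw [cjp, conj_pow, hea, mul_one, mul_inv_cancel]
    · exact one_pow _
    · intro s t hs ht h1 h2
      rw [(show Commute s t from hA s hs t ht).mul_pow, h1, h2, one_mul]
    · intro s _ h1
      rw [inv_pow, h1, inv_one]
  have hAP : IsPGroup 3 A := fun s => ⟨a, Subtype.ext (hpow s s.2)⟩
  obtain ⟨n, hn⟩ := IsPGroup.iff_card.1 hAP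
  have hr3 : ∀ r, r.Prime → r ∣ Nat.card A → r = 3 := by
    intro r hr hrA
    rw [hn] at hrA
    exact (Nat.prime_dvd_prime_iff_eq hr Nat.prime_three).1 (hr.dvd_of_dvd_pow hrA)
  have h10 := Orb.frob_card (ℓ := 2) (φ := φ) (m := 2) h2 (p := 11) (by norm_num) (A := A) hA
    (fun h => absurd (hr3 2 Nat.prime_two h) (by norm_num)) (fun r hr hrA => by
      obtain rfl := hr3 r hr hrA
      exact ⟨by norm_num, by norm_num, order_two_three⟩) (x := x') (fun b _ => by
      have h3 : x' ^ 11 ∈ π.ker := by rw [MonoidHom.mem_ker, map_pow, hx]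
      exact (mem_center_iff.1 (hc h3) b).symm) (fun s hs => by
      refine closure_induction (p := fun s _ => x' * s * x'⁻¹ ∈ A) ?_ ?_ ?_ ?_ hs
      · rintro _ ⟨k, rfl⟩
        rw [conj_cjp_one]
        exact subset_closure ⟨k + 1, rfl⟩
      · rw [mul_one, mul_inv_cancel]
        exact one_mem A
      · intro s t _ _ h1 h2
        have : x' * (s * t) * x'⁻¹ = (x' * s * x'⁻¹) * (x' * t * x'⁻¹) := by group
        rw [this]
        exact mul_mem h1 h2
      · intro s _ h1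
        have : x' * s⁻¹ * x'⁻¹ = (x' * s * x'⁻¹)⁻¹ := by group
        rw [this]
        exact inv_mem h1) ⟨e', subset_closure ⟨0, cjp_zero _ _⟩, fun h => hne (by
      have h3 := hφ h
      rw [mul_inv_eq_iff_eq_mul] at h3
      rw [← map_mul, h3, map_mul])⟩
  exact h10

end Cfsg.Agent.Omega.TwoF.Golay

end
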