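import Cfsg.Agent.Mrg.Omega.TwoF.SignLift
import Cfsg.Agent.Omega.TwoF.Rk
import Cfsg.Agent.Schreier.PSU
import Cfsg.Agent.ClassicalGeometry.PSUAutMain
import Cfsg.Agent.Mrg.Omega.TwoF.RowPsl

section


/-!
# Elementary abelian `2`-subgroups of `Aut (PSU_n(q))`, `q` odd
-/

set_option autoImplicit false
set_option linter.unusedSectionVars false

universe u

namespace Cfsg.Agent.Omega.TwoF.RkPSU

open Cfsg Matrix Cfsg.Agent.Omega.TwoF.RkLin Cfsg.Agent.Omega.TwoF.RkPSL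
open Cfsg.Agent.LieClassical.HermBasic Cfsg.Agent.LieClassical.HermSiegel
open Cfsg.Agent.ClassicalGeometry.PSUAutCount (gm toAut gm_mul gm_one gm_mul_inv gm_inv_mul eq_of_toAut_eq)
open Cfsg.Agent.ClassicalGeometry.UnitAutBasic (pr pr_surjective)
open Cfsg.Agent.Schreier.PSU (f₁ f₂ toAut_eq mapGU conj_field)

variable {F : Type*} [Field F] [Fintype F] {q n : ℕ}

theorem finite_PSU : Finite (PSU n F q) := Finite.of_surjective _ (pr_surjective (n := n) (F := F) (q := q))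

theorem toAut_one_field (ρ : F ≃+* F) : (toAut 1 ρ : MulAut (PSU n F q)) = f₂ ρ := by
  rw [toAut_eq, map_one, one_mul]

theorem toAut_one (A : GU n F q) : (toAut A 1 : MulAut (PSU n F q)) = f₁ A := by
  rw [toAut_eq, map_one, mul_one]

theorem toAut_mul (A B : GU n F q) (ρ σ : F ≃+* F) :
    (toAut A ρ * toAut B σ : MulAut (PSU n F q)) = toAut (A * mapGU ρ B) (ρ * σ) := by
  rw [toAut_eq, toAut_eq, toAut_eq, map_mul, map_mul, ← conj_field]
  group

/-- Linear automorphisms only. -/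
theorem card_linear (hF : Fintype.card F = q ^ 2) (h2 : (2 : F) ≠ 0) (hn : 3 ≤ n)
    (A : Subgroup (MulAut (PSU n F q))) (hA : ∀ x ∈ A, x * x = 1)
    (h : ∀ x ∈ A, ∃ C : GU n F q, x = toAut C 1) : Nat.card A ≤ 2 ^ rk n := by
  haveI := finite_PSU (F := F) (q := q) (n := n)
  haveI : Finite (MulAut (PSU n F q)) := finite_mulAut _
  choose φ hφ using fun a : A => h a.1 a.2
  refine card_le_matrix h2 (Fintype.card_fin n) (by omega) (fun a => (φ a : GL (Fin n) F)) ?_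
    (fun a => Subtype.ext (hA a.1 a.2)) ?_
  · intro a b
    have h1 : (toAut (φ (a * b)) 1 : MulAut (PSU n F q)) = toAut (φ a * φ b) 1 := by
      rw [← hφ, toAut_one, map_mul, ← toAut_one, ← toAut_one, ← hφ, ← hφ]
      rfl
    obtain ⟨-, c, -, hc⟩ := eq_of_toAut_eq hF hn h1
    exact ⟨c, hc⟩
  · rintro a ⟨c, hc⟩
    apply Subtype.ext
    rw [hφ a]
    have h3 : c * c ^ q = 1 := by
      have h4 := Cfsg.Agent.ClassicalGeometry.PSUAutCount.herm_gm (φ a) (Pi.single ⟨0, by omega⟩ 1)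
        (Pi.single ⟨0, by omega⟩ 1)
      have h5 : gm (φ a) = c • (1 : Matrix (Fin n) (Fin n) F) := hc
      rw [h5, Matrix.smul_mulVec, Matrix.one_mulVec, herm_smul_left, herm_smul_right,
        herm_single_left] at h4
      simpa using h4
    have h6 : (toAut (φ a) 1 : MulAut (PSU n F q)) = toAut 1 1 := by
      rw [toAut_one, toAut_one, map_one]
      ext x
      obtain ⟨g, rfl⟩ := pr_surjective x
      rw [MulAut.one_apply]
      show pr n F q (Cfsg.Agent.ClassicalGeometry.PSUAutCount.semiConj (φ a) 1 g) = pr n F q g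
      congr 1
      apply ext_act
      intro v
      rw [Cfsg.Agent.Schreier.PSU.act_semiConj_one']
      have h5 : gm (φ a) = c • (1 : Matrix (Fin n) (Fin n) F) := hc
      have h7 : gm (φ a)⁻¹ *ᵥ v = c⁻¹ • v := by
        have hc0 : c ≠ 0 := by
          rintro rfl
          rw [zero_mul] at h3
          exact zero_ne_one h3
        have h8 : gm (φ a) *ᵥ (c⁻¹ • v) = v := by
          rw [h5, Matrix.smul_mulVec, Matrix.one_mulVec, smul_smul, mul_inv_cancel₀ hc0, one_smul]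
        have h9 : gm (φ a)⁻¹ *ᵥ (gm (φ a) *ᵥ (c⁻¹ • v)) = c⁻¹ • v := by
          rw [mulVec_mulVec, gm_inv_mul, one_mulVec]
        rw [h8] at h9
        exact h9
      have hc0 : c ≠ 0 := by
        rintro rfl
        rw [zero_mul] at h3
        exact zero_ne_one h3
      rw [h7, h5, Matrix.smul_mulVec, Matrix.one_mulVec, act_smul, smul_smul, mul_inv_cancel₀ hc0,
        one_smul]
    rw [h6, toAut_one, map_one]
    rfl

/-- **`Aut (PSU_n(q))`, `q` odd, `n ≥ 3`.** -/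
theorem rkAut (hF : Fintype.card F = q ^ 2) (h2 : (2 : F) ≠ 0) (hn : 3 ≤ n) :
    RkAut (PSU n F q) (rk n + 1) := by
  haveI := finite_PSU (F := F) (q := q) (n := n)
  haveI : Finite (MulAut (PSU n F q)) := finite_mulAut _
  have h32 : ¬ (n = 3 ∧ q = 2) := by
    rintro ⟨-, rfl⟩
    obtain ⟨p, hp⟩ := CharP.exists F
    obtain ⟨k, hpp, hk⟩ := FiniteField.card F p
    have h1 : p ∣ 2 ^ 2 := by
      rw [← hF, hk]
      exact dvd_pow_self p k.pos.ne'
    have h3 : p = 2 := (Nat.prime_dvd_prime_iff_eq hpp Nat.prime_two).1 (hpp.dvd_of_dvd_pow h1)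
    subst h3
    exact h2 (by exact_mod_cast CharP.cast_eq_zero F 2)
  intro A hA
  have hall := Cfsg.Agent.ClassicalGeometry.PSUAutMain.exists_toAut (F := F) (q := q) (n := n) hF hn h32
  have h1 : Nat.card A ≤ 2 * Nat.card (A ⊓ (f₁ : GU n F q →* MulAut (PSU n F q)).range : Subgroup _) := by
    apply card_le_two_mul
    intro x hx hxn y hy hyn
    obtain ⟨C, σ, hC⟩ := hall x
    obtain ⟨D, τ, hD⟩ := hall y
    have hsq : ∀ (C : GU n F q) (σ : F ≃+* F), toAut C σ * toAut C σ = 1 → σ * σ = 1 := by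
      intro C σ h
      rw [toAut_mul] at h
      have h3 : (toAut (C * mapGU σ C) (σ * σ) : MulAut (PSU n F q)) = toAut 1 1 := by
        rw [h, toAut_one, map_one]
      exact (eq_of_toAut_eq hF hn h3).1.symm
    have hσ : σ * σ = 1 := hsq C σ (by rw [← hC]; exact hA x hx)
    have hτ : τ * τ = 1 := hsq D τ (by rw [← hD]; exact hA y hy)
    have hσ1 : σ ≠ 1 := by
      rintro rfl
      exact hxn ⟨hx, C, by rw [hC, toAut_one]⟩
    have hτ1 : τ ≠ 1 := by
      rintro rfl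
      exact hyn ⟨hy, D, by rw [hD, toAut_one]⟩
    have hστ := field_inv_unique hσ hτ hσ1 hτ1
    refine ⟨mul_mem hx hy, C * mapGU σ D, ?_⟩
    rw [hC, hD, toAut_mul, ← hστ, hσ, toAut_one]
  have h3 := card_linear hF h2 hn (A ⊓ (f₁ : GU n F q →* MulAut (PSU n F q)).range)
    (fun x hx => hA x hx.1) (by
    rintro x ⟨-, C, hC⟩
    exact ⟨C, by rw [← hC, toAut_one]⟩)
  rw [pow_succ]
  omega

end Cfsg.Agent.Omega.TwoF.RkPSU

end

section


/-!
# TABLE 2F: the rows `PSU_n(q)`, `q` odd: lower bounds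
-/

set_option autoImplicit false
set_option linter.unusedSectionVars false

universe u v w

namespace Cfsg.Agent.Omega.TwoF.RowPsu

open Cfsg Matrix Cfsg.Agent.Omega.Lie.Heis Cfsg.Agent.Omega.TwoF.SignLift
open Cfsg.Agent.LieClassical.HermBasic Cfsg.Agent.LieClassical.HermSiegel
open Cfsg.Agent.Omega.TwoF.LBPsu
open Cfsg.Agent.ClassicalGeometry.UnitAutBasic (pr)

variable {F : Type*} [Field F] [Fintype F] {q k : ℕ}

theorem two_tau (hF : Fintype.card F = q ^ 2) {τ : F} (hτ : τ ^ q = -τ) :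
    2 * τ + (2 * τ) ^ q = 0 := by
  rw [mul_pow, two_pow hF, hτ]
  ring

theorem HU_uu (hF : Fintype.card F = q ^ 2) (α : F) {i j : Fin k} (hij : i.succ.succ ≠ j.succ.succ) :
    act (HU hF hij) (uu k α) = uu k α := by
  rw [act_HU]
  have h0 : ∀ i : Fin k, uu k α i.succ.succ = 0 := by
    intro i
    have h1 : i.succ.succ ≠ (0 : Fin (k + 2)) := Fin.succ_ne_zero _
    have h3 : i.succ.succ ≠ (1 : Fin (k + 2)) := by
      intro h
      have := congrArg Fin.val h
      simp at this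
    rw [uu]
    simp only [Pi.add_apply, Pi.smul_apply, Pi.single_eq_of_ne h1, Pi.single_eq_of_ne h3, smul_eq_mul,
      mul_zero, add_zero]
  funext l
  by_cases h1 : l = i.succ.succ
  · rw [if_pos h1, h1, h0, neg_zero]
  · by_cases h2 : l = j.succ.succ
    · rw [if_neg h1, if_pos h2, h2, h0, neg_zero]
    · rw [if_neg h1, if_neg h2]

theorem WU_uu (hF : Fintype.card F = q ^ 2) (α : F) {i j : Fin k} (hij : i.succ.succ ≠ j.succ.succ) :
    act (WU hF hij) (uu k α) = uu k α := by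
  rw [act_WU]
  have h0 : ∀ i : Fin k, uu k α i.succ.succ = 0 := by
    intro i
    have h1 : i.succ.succ ≠ (0 : Fin (k + 2)) := Fin.succ_ne_zero _
    have h3 : i.succ.succ ≠ (1 : Fin (k + 2)) := by
      intro h
      have := congrArg Fin.val h
      simp at this
    rw [uu]
    simp only [Pi.add_apply, Pi.smul_apply, Pi.single_eq_of_ne h1, Pi.single_eq_of_ne h3, smul_eq_mul,
      mul_zero, add_zero]
  funext l
  by_cases h1 : l = i.succ.succ
  · rw [if_pos h1, h1, h0, h0, neg_zero]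
  · by_cases h2 : l = j.succ.succ
    · rw [if_neg h1, if_pos h2, h2, h0, h0]
    · rw [if_neg h1, if_neg h2]

/-- The Heisenberg bound for `PSU_n(q)`, `n ≥ 5`. -/
theorem lb_five (hF : Fintype.card F = q ^ 2) (h2 : (2 : F) ≠ 0) {r : ℕ} (hr : r.Prime) [CharP F r]
    (hr2 : r ≠ 2) (hk : 3 ≤ k) {m : ℕ} (hm : m ≤ orderOf (2 : ZMod r) * r ^ k) :
    LB.{_, v, w} (PSU (k + 2) F q) m := by
  have hs : IsSimpleGroup (PSU (k + 2) F q) := Cfsg.Agent.S0283.result hF (k + 2) (by omega) (by omega)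
  obtain ⟨α, hα⟩ := exists_alpha hF
  obtain ⟨τ, hτ0, hτ⟩ := exists_tau hF
  have H := frame hF hα (fun i : Fin k => i) Function.injective_id
  have hss : ∀ {i j : Fin k}, i ≠ j → i.succ.succ ≠ j.succ.succ := fun hij h =>
    hij (Fin.succ_injective _ (Fin.succ_injective _ h))
  have hneg : ∀ {i j : Fin k} (hij : i ≠ j), act (HU hF (hss hij)) (ww k i) = -(ww k i : Fin (k + 2) → F) := by
    intro i j hij
    rw [act_HU, ww]
    funext l
    by_cases h1 : l = i.succ.succ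
    · rw [if_pos h1, h1, Pi.neg_apply]
    · by_cases h3 : l = j.succ.succ
      · rw [if_neg h1, if_pos h3, Pi.neg_apply, h3]
      · rw [if_neg h1, if_neg h3, Pi.neg_apply, Pi.single_eq_of_ne h1, neg_zero]
  have hfix : ∀ {i j l : Fin k} (hij : i ≠ j) (h1 : l ≠ i) (h3 : l ≠ j),
      act (HU hF (hss hij)) (ww k l) = (ww k l : Fin (k + 2) → F) := by
    intro i j l hij hl hl'
    rw [act_HU, ww]
    funext l'
    by_cases h1 : l' = i.succ.succ
    · rw [if_pos h1, h1, Pi.single_eq_of_ne (hss (Ne.symm hl)), neg_zero]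
    · by_cases h3 : l' = j.succ.succ
      · rw [if_neg h1, if_pos h3, h3, Pi.single_eq_of_ne (hss (Ne.symm hl')), neg_zero]
      · rw [if_neg h1, if_neg h3]
  have hS := signHeis hF h2 H hr hτ (two_tau hF hτ)
    (fun i => by
      obtain ⟨l, hl, -⟩ := Fin.exists_ne_and_ne_of_two_lt i i (by omega)
      exact ⟨HU hF (hss (Ne.symm hl)), HU_uu hF α _, hneg (Ne.symm hl)⟩)
    (fun i j hij => by
      obtain ⟨l, hl, hl'⟩ := Fin.exists_ne_and_ne_of_two_lt i j (by omega)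
      exact ⟨HU hF (hss (Ne.symm hl)), HU_uu hF α _, hneg (Ne.symm hl),
        hfix (Ne.symm hl) (Ne.symm hij) (Ne.symm hl')⟩)
    (fun i j => by
      by_cases hij : i = j
      · subst hij
        exact ⟨1, ⟨0, by simp⟩, act_one _, act_one _⟩
      · refine ⟨WU hF (hss hij), ⟨2, WU_pow hF _⟩, WU_uu hF α _, ?_⟩
        rw [act_WU]
        funext l
        by_cases h1 : l = i.succ.succ
        · rw [if_pos h1, h1, ww, ww, Pi.single_eq_of_ne (hss (Ne.symm hij)),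
            Pi.single_eq_of_ne (hss hij), neg_zero]
        · by_cases h3 : l = j.succ.succ
          · rw [if_neg h1, if_pos h3, h3, ww, ww, Pi.single_eq_same, Pi.single_eq_same]
          · rw [if_neg h1, if_neg h3, ww, ww, Pi.single_eq_of_ne h1, Pi.single_eq_of_ne h3])
  exact LB.sign (by omega) (hS.map (pr (k + 2) F q)) hr2
    (Z_ne hF (by omega) (by omega) H _ (mul_ne_zero h2 hτ0) (uu_ne α)) hm

/-- The bound from one pair, `n ≥ 3`. -/
theorem lb_one (hF : Fintype.card F = q ^ 2) (h2 : (2 : F) ≠ 0) {r : ℕ} (hr : r.Prime) [CharP F r]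
    (hr2 : r ≠ 2) (hk : 1 ≤ k) {m : ℕ} (hm : m ≤ orderOf (2 : ZMod r) * r) :
    LB.{_, v, w} (PSU (k + 2) F q) m := by
  have hq2 : q ≠ 2 := by
    rintro rfl
    apply h2
    have := two_pow hF
    have h4 : (2 : F) * 2 = 2 * 1 := by rw [mul_one, ← pow_two, this]
    have h5 := mul_left_cancel₀ h2 h4
    have h6 : (1 : F) = 0 := by
      have : (2 : F) = 1 + 1 := by norm_num
      rw [this] at h5
      simpa using h5
    exact absurd h6 one_ne_zero
  have hs : IsSimpleGroup (PSU (k + 2) F q) :=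
    Cfsg.Agent.S0283.result hF (k + 2) (by omega) (fun h => hq2 h.2)
  obtain ⟨α, hα⟩ := exists_alpha hF
  obtain ⟨τ, hτ0, hτ⟩ := exists_tau hF
  have H := frame hF hα (fun _ : Fin 1 => (⟨0, by omega⟩ : Fin k)) (fun _ _ _ => Subsingleton.elim _ _)
  have h01 : (0 : Fin (k + 2)) ≠ 1 := by simp
  have hS := signHeis_one hF h2 H hr hτ (two_tau hF hτ) (g := HU hF h01)
    (by
      rw [act_HU, uu]
      funext l
      by_cases h0 : l = 0
      · subst h0
        simp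
      · by_cases h1 : l = 1
        · subst h1
          simp
        · simp [h0, h1])
    (by
      rw [act_HU, ww]
      funext l
      have e0 : (0 : Fin (k + 2)) ≠ Fin.succ (Fin.succ ⟨0, by omega⟩) := (Fin.succ_ne_zero _).symm
      have e1 : (1 : Fin (k + 2)) ≠ Fin.succ (Fin.succ ⟨0, by omega⟩) := by
        intro h
        have := congrArg Fin.val h
        simp at this
      by_cases h0 : l = 0
      · subst h0
        rw [if_pos rfl, Pi.single_eq_of_ne e0, neg_zero]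
      · by_cases h1 : l = 1
        · subst h1
          rw [if_neg h0, if_pos rfl, Pi.single_eq_of_ne e1, neg_zero]
        · rw [if_neg h0, if_neg h1])
  exact LB.sign (by omega) (hS.map (pr (k + 2) F q)) hr2
    (Z_ne hF (by omega) (by omega) H _ (mul_ne_zero h2 hτ0) (uu_ne α)) (by rwa [pow_one])

end Cfsg.Agent.Omega.TwoF.RowPsu

end

section


/-!
# Degree bounds from weights

`φ : L →* MulAut V`, `V` finite abelian with `v ^ ℓ = 1`, `A ≤ L` finite abelian of order prime to `ℓ`.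

* `exists_weights` : the set of weights (characters of `A` over an algebraically closed field) and its symmetries;
* `family_aux`, `pow_family_le` (W0) : the general bound (different twists of one character);
* `pow_card_le` (W1, Frobenius groups `A : T`): `ℓ ^ |T| ≤ |V|`;
* `pow_card_sub_one_le` (W2) : `N_L(A)` transitive on `A \ {1}`: `ℓ ^ (|A| - 1) ≤ |V|`;
* `pow_spec_le` (W3) : one element of prime power order; `pow_two_orderOf_le` (P): the self-dual case.
-/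

set_option autoImplicit false
set_option linter.unusedSectionVars false
set_option linter.style.haveILetI false

namespace Cfsg.Agent.Omega.TwoF.Weight

open Matrix

section Char

variable {ℓ : ℕ} [Fact ℓ.Prime] {V L : Type*} [CommGroup V] [Finite V] [Group L] {φ : L →* MulAut V}

/-- invariant nondegenerate form with values in `𝔽_ℓ` -/
def SelfDual (ℓ : ℕ) (φ : L →* MulAut V) : Prop :=
  ∃ b : V → V → ZMod ℓ, (∀ u v w, b (u * v) w = b u w + b v w) ∧ (∀ u v w, b u (v * w) = b u v + b u w) ∧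
    (∀ u, (∀ v, b u v = 0) → u = 1) ∧ ∀ g u v, b (φ g u) (φ g v) = b u v

/-- **the weight theorem**: `K` algebraically closed of characteristic `ℓ`. There is a set `Λ` of characters. -/
theorem exists_weights (K : Type*) [Field K] [Algebra (ZMod ℓ) K] [IsAlgClosed K] (hV : ∀ v : V, v ^ ℓ = 1)
    {A : Subgroup L} [Finite A] (hA : ∀ a ∈ A, ∀ b ∈ A, a * b = b * a) (hc : ¬ ℓ ∣ Nat.card A) :
    ∃ Λ : Set (A →* Kˣ), (∀ S ⊆ Λ, S.Finite ∧ ℓ ^ S.ncard ≤ Nat.card V) ∧
      (∀ a : A, φ a ≠ 1 → ∃ χ ∈ Λ, χ a ≠ 1) ∧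
      (∀ χ ∈ Λ, ∀ g : L, ∀ χ' : A →* Kˣ, (∀ a' : A, ∃ a : A, (a' : L) * g = g * a ∧ χ' a' = χ a) → χ' ∈ Λ) ∧
      (∀ χ ∈ Λ, (powMonoidHom ℓ).comp χ ∈ Λ) ∧ (SelfDual ℓ φ → ∀ χ ∈ Λ, invMonoidHom.comp χ ∈ Λ) := by
  obtain ⟨n, ρ, hinj, hcard, hform⟩ := exists_rep (ℓ := ℓ) hV
  haveI : CharP K ℓ := charP_of_injective_algebraMap (algebraMap (ZMod ℓ) K).injective ℓ
  have hcK : (Nat.card A : K) ≠ 0 := by
    rw [Ne, CharP.cast_eq_zero_iff K ℓ]
    exact hc
  refine ⟨{χ | Wt (ρ.comp φ) A χ}, fun S hS => ?_, fun a ha => ?_, ?_, ?_, ?_⟩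
  · obtain ⟨h1, h2⟩ := card_le hcK hS
    refine ⟨h1, ?_⟩
    rw [hcard]
    rw [Fintype.card_fin] at h2
    exact Nat.pow_le_pow_right (Fact.out : ℓ.Prime).pos h2
  · obtain ⟨χ, h1, h2⟩ := exists_wt (K := K) (ρ := ρ.comp φ) hA hcK (a := a) (fun h => ha (hinj (by
      rw [map_one]; exact h)))
    exact ⟨χ, h1, h2⟩
  · intro χ hχ g χ' h
    exact Wt.conj hχ g h
  · intro χ hχ
    exact Wt.frob hχ
  · rintro ⟨b, h1, h2, h3, h4⟩ χ hχ
    obtain ⟨B, hB, hB'⟩ := hform b h1 h2 h3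
    exact Wt.dual hcK hχ (fun a _ => hB' (φ a) (h4 a)) hB

/-- conjugation by `g` on `A` -/
def cjHom {A : Subgroup L} (g : L) (hg : ∀ a ∈ A, g * a * g⁻¹ ∈ A) : A →* A where
  toFun a := ⟨g * a * g⁻¹, hg a a.2⟩
  map_one' := Subtype.ext (by simp)
  map_mul' a b := Subtype.ext (by
    change g * ((a : L) * b) * g⁻¹ = (g * a * g⁻¹) * (g * b * g⁻¹)
    group)

theorem cjHom_apply {A : Subgroup L} (g : L) (hg : ∀ a ∈ A, g * a * g⁻¹ ∈ A) (a : A) :
    (cjHom g hg a : L) = g * a * g⁻¹ := rfl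

theorem comp_cjHom_mem {M : Type*} [CommGroup M] {A : Subgroup L} {Λ : Set (A →* M)}
    (hΛ : ∀ χ ∈ Λ, ∀ g : L, ∀ χ' : A →* M, (∀ a' : A, ∃ a : A, (a' : L) * g = g * a ∧ χ' a' = χ a) → χ' ∈ Λ)
    {χ : A →* M} (hχ : χ ∈ Λ) (g : L) (hg : ∀ a ∈ A, g * a * g⁻¹ ∈ A) : χ.comp (cjHom g hg) ∈ Λ := by
  refine hΛ χ hχ g⁻¹ _ fun a' => ⟨cjHom g hg a', ?_, rfl⟩
  rw [cjHom_apply]
  group

/-- different twists of a nontrivial character are different -/
theorem comp_ne {M : Type*} [CommGroup M] {A : Subgroup L} [Finite A] (hA : ∀ a ∈ A, ∀ b ∈ A, a * b = b * a)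
    {χ : A →* M} (hχ : χ ≠ 1) {θ θ' : A → A} (hθ : ∀ a b, θ (a * b) = θ a * θ b) (hθ' : ∀ a b, θ' (a * b) = θ' a * θ' b)
    (h : ∀ a, θ a = θ' a → a = 1) : ∃ a, χ (θ a) ≠ χ (θ' a) := by
  by_contra hcon
  push Not at hcon
  apply hχ
  have hAc : ∀ a b : A, a * b = b * a := fun a b => Subtype.ext (hA a a.2 b b.2)
  let δ : A →* A := MonoidHom.mk' (fun a => θ a * (θ' a)⁻¹) (fun a b => by
    rw [hθ, hθ', _root_.mul_inv_rev, mul_assoc, ← mul_assoc (θ b), hAc (θ b * (θ' b)⁻¹), mul_assoc (θ a)])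
  have hinj : Function.Injective δ := by
    rw [injective_iff_map_eq_one]
    intro a ha
    exact h a (mul_inv_eq_one.1 ha)
  have hsurj : Function.Surjective δ := Finite.injective_iff_surjective.1 hinj
  ext b
  obtain ⟨a, rfl⟩ := hsurj b
  change χ (θ a * (θ' a)⁻¹) = 1
  rw [map_mul, map_inv, hcon, mul_inv_cancel]

/-- **The family bound.** -/
theorem family_aux (hV : ∀ v : V, v ^ ℓ = 1) {A : Subgroup L} [Finite A] (hA : ∀ a ∈ A, ∀ b ∈ A, a * b = b * a)
    (hc : ¬ ℓ ∣ Nat.card A) (hne : ∃ a ∈ A, φ a ≠ 1) {ι : Type*} [Finite ι] (g : ι → L)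
    (hg : ∀ i, ∀ a ∈ A, g i * a * (g i)⁻¹ ∈ A) (c : ι → ℤ)
    (hcc : ∀ i, ∃ k : ℕ, c i = ℓ ^ k ∨ (SelfDual ℓ φ ∧ c i = -ℓ ^ k))
    (hd : ∀ i j, i ≠ j → ∀ a ∈ A, (g i * a * (g i)⁻¹) ^ c i = (g j * a * (g j)⁻¹) ^ c j → a = 1) :
    ℓ ^ Nat.card ι ≤ Nat.card V := by
  obtain ⟨Λ, h1, h2, h3, h4, h5⟩ := exists_weights (AlgebraicClosure (ZMod ℓ)) hV (φ := φ) hA hc
  obtain ⟨a, ha, hne⟩ := hne
  obtain ⟨χ, hχ, hχa⟩ := h2 ⟨a, ha⟩ hne
  have hχ1 : χ ≠ 1 := fun h => hχa (by rw [h]; rfl)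
  have hpow : ∀ (k : ℕ), ∀ χ ∈ Λ, (powMonoidHom (ℓ ^ k)).comp χ ∈ Λ := by
    intro k
    induction k with
    | zero =>
      intro χ hχ
      have : (powMonoidHom (ℓ ^ 0)).comp χ = χ := by ext a; simp
      rwa [this]
    | succ k ih =>
      intro χ hχ
      have : (powMonoidHom (ℓ ^ (k + 1))).comp χ = (powMonoidHom ℓ).comp ((powMonoidHom (ℓ ^ k)).comp χ) := by
        ext a
        simp [pow_succ, pow_mul]
      rw [this]
      exact h4 _ (ih χ hχ)
  let F : ι → (A →* (AlgebraicClosure (ZMod ℓ))ˣ) := fun i => (zpowGroupHom (c i)).comp (χ.comp (cjHom (g i) (hg i)))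
  have hF : ∀ i, F i ∈ Λ := by
    intro i
    have h6 := comp_cjHom_mem h3 hχ (g i) (hg i)
    obtain ⟨k, hk | ⟨hsd, hk⟩⟩ := hcc i
    · have e : F i = (powMonoidHom (ℓ ^ k)).comp (χ.comp (cjHom (g i) (hg i))) := by
        refine MonoidHom.ext fun a => ?_
        change (χ (cjHom (g i) (hg i) a)) ^ c i = (χ (cjHom (g i) (hg i) a)) ^ (ℓ ^ k)
        rw [hk, ← zpow_natCast, Nat.cast_pow]
      rw [e]
      exact hpow k _ h6
    · have e : F i = invMonoidHom.comp ((powMonoidHom (ℓ ^ k)).comp (χ.comp (cjHom (g i) (hg i)))) := by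
        refine MonoidHom.ext fun a => ?_
        change (χ (cjHom (g i) (hg i) a)) ^ c i = ((χ (cjHom (g i) (hg i) a)) ^ (ℓ ^ k))⁻¹
        rw [hk, _root_.zpow_neg, ← zpow_natCast, Nat.cast_pow]
      rw [e]
      exact h5 hsd _ (hpow k _ h6)
  have hinj : Function.Injective F := by
    intro i j hij
    by_contra hne
    have hAc : ∀ a b : A, Commute a b := fun a b => Subtype.ext (hA a a.2 b b.2)
    obtain ⟨b, hb⟩ := comp_ne hA hχ1 (θ := fun a => (cjHom (g i) (hg i) a) ^ c i)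
      (θ' := fun a => (cjHom (g j) (hg j) a) ^ c j)
      (fun a b => by rw [map_mul, (hAc _ _).mul_zpow]) (fun a b => by rw [map_mul, (hAc _ _).mul_zpow])
      (fun a ha => Subtype.ext (hd i j hne a a.2 (congrArg Subtype.val ha)))
    apply hb
    have := DFunLike.congr_fun hij b
    change (χ (cjHom (g i) (hg i) b)) ^ c i = (χ (cjHom (g j) (hg j) b)) ^ c j at this
    rw [map_zpow χ (cjHom (g i) (hg i) b) (c i), map_zpow χ (cjHom (g j) (hg j) b) (c j)]
    exact this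
  have h7 := (h1 (Set.range F) (by rintro _ ⟨i, rfl⟩; exact hF i)).2
  rwa [Set.ncard_range_of_injective hinj] at h7

theorem pow_family_le (hV : ∀ v : V, v ^ ℓ = 1) {A : Subgroup L} [Finite A] (hA : ∀ a ∈ A, ∀ b ∈ A, a * b = b * a)
    (hc : ¬ ℓ ∣ Nat.card A) (hne : ∃ a ∈ A, φ a ≠ 1) {ι : Type*} [Finite ι] (g : ι → L)
    (hg : ∀ i, ∀ a ∈ A, g i * a * (g i)⁻¹ ∈ A) (k : ι → ℕ)
    (hd : ∀ i j, i ≠ j → ∀ a ∈ A, (g i * a * (g i)⁻¹) ^ (ℓ ^ k i) = (g j * a * (g j)⁻¹) ^ (ℓ ^ k j) → a = 1) :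
    ℓ ^ Nat.card ι ≤ Nat.card V := by
  refine family_aux hV hA hc hne g hg (fun i => (ℓ ^ k i : ℕ)) (fun i => ⟨k i, Or.inl (by push_cast; rfl)⟩)
    fun i j hij a ha h => hd i j hij a ha ?_
  rwa [zpow_natCast, zpow_natCast] at h

/-- **(W1) Frobenius groups `A : T`** -/
theorem pow_card_le (hV : ∀ v : V, v ^ ℓ = 1) {A : Subgroup L} [Finite A] (hA : ∀ a ∈ A, ∀ b ∈ A, a * b = b * a)
    (hc : ¬ ℓ ∣ Nat.card A) (hne : ∃ a ∈ A, φ a ≠ 1) (T : Subgroup L) [Finite T]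
    (hT : ∀ t ∈ T, ∀ a ∈ A, t * a * t⁻¹ ∈ A) (hfree : ∀ t ∈ T, t ≠ 1 → ∀ a ∈ A, t * a = a * t → a = 1) :
    ℓ ^ Nat.card T ≤ Nat.card V := by
  refine pow_family_le hV hA hc hne (fun t : T => (t : L)) (fun t => hT t t.2) (fun _ => 0) fun s t hst a ha h => ?_
  rw [pow_zero, pow_one, pow_one] at h
  refine hfree ((t : L)⁻¹ * s) (mul_mem (inv_mem t.2) s.2) (fun h1 => hst ?_) a ha ?_
  · exact Subtype.ext (inv_mul_eq_one.1 h1).symm
  · calc (t : L)⁻¹ * s * a = (t : L)⁻¹ * (s * a * (s : L)⁻¹) * s := by group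
      _ = a * ((t : L)⁻¹ * s) := by rw [h]; group

/-- **(W2) `N_L(A)` (with the Frobenius and, if `V` is self-dual, inversion) transitive on `A \ {1}`.** -/
theorem pow_card_sub_one_le (hV : ∀ v : V, v ^ ℓ = 1) {A : Subgroup L} [Finite A]
    (hA : ∀ a ∈ A, ∀ b ∈ A, a * b = b * a) (hc : ¬ ℓ ∣ Nat.card A) (hne : ∃ a ∈ A, φ a ≠ 1)
    (htr : ∀ a ∈ A, ∀ b ∈ A, a ≠ 1 → b ≠ 1 → ∃ g : L, (∀ c ∈ A, g * c * g⁻¹ ∈ A) ∧ ∃ k : ℕ,
      (g * a * g⁻¹) ^ (ℓ ^ k) = b ∨ (SelfDual ℓ φ ∧ (g * a * g⁻¹) ^ (ℓ ^ k) = b⁻¹)) :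
    ℓ ^ (Nat.card A - 1) ≤ Nat.card V := by
  classical
  letI : CommGroup A := { (inferInstance : Group A) with mul_comm := fun a b => Subtype.ext (hA a a.2 b b.2) }
  letI : Fintype A := Fintype.ofFinite A
  let K := AlgebraicClosure (ZMod ℓ)
  haveI : CharP K ℓ := charP_of_injective_algebraMap (algebraMap (ZMod ℓ) K).injective ℓ
  have hcK : (Nat.card A : K) ≠ 0 := by
    rw [Ne, CharP.cast_eq_zero_iff K ℓ]
    exact hc
  obtain ⟨Λ, h1, h2, h3, h4, h5⟩ := exists_weights K hV (φ := φ) hA hc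
  obtain ⟨a, ha, hne⟩ := hne
  obtain ⟨χ, hχ, hχa⟩ := h2 ⟨a, ha⟩ hne
  have hχ1 : χ ≠ 1 := fun h => hχa (by rw [h]; rfl)
  -- the nontrivial weights
  have hfin : Λ.Finite := (h1 Λ subset_rfl).1
  let S : Finset (A →* Kˣ) := hfin.toFinset.filter (fun χ => χ ≠ 1)
  have hS : ∀ χ, χ ∈ S ↔ χ ∈ Λ ∧ χ ≠ 1 := fun χ => by
    rw [Finset.mem_filter, Set.Finite.mem_toFinset]
  let f : A → K := fun a => ∑ ψ ∈ S, ((ψ a : Kˣ) : K)
  -- invariance of `f`
  have hinv1 : ∀ (g : L) (hg : ∀ c ∈ A, g * c * g⁻¹ ∈ A) (a : A), f (cjHom g hg a) = f a := by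
    intro g hg a
    have hbij : Function.Injective (cjHom g hg) := by
      rw [injective_iff_map_eq_one]
      intro x hx
      apply Subtype.ext
      have h6 : g * x * g⁻¹ = 1 := congrArg Subtype.val hx
      have h7 : (x : L) = g⁻¹ * (g * x * g⁻¹) * g := by group
      rw [h7, h6]
      group
      rfl
    have hsur : Function.Surjective (cjHom g hg) := Finite.injective_iff_surjective.1 hbij
    have hm : ∀ ψ ∈ S, ψ.comp (cjHom g hg) ∈ S := by
      intro ψ hψ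
      rw [hS] at hψ ⊢
      refine ⟨comp_cjHom_mem h3 hψ.1 g hg, fun h => hψ.2 ?_⟩
      ext b
      obtain ⟨b, rfl⟩ := hsur b
      have := DFunLike.congr_fun h b
      change ψ (cjHom g hg b) = 1 at this
      rw [this]
      rfl
    have hi : Set.InjOn (fun ψ : A →* Kˣ => ψ.comp (cjHom g hg)) S := by
      intro ψ _ ψ' _ h
      ext b
      obtain ⟨b, rfl⟩ := hsur b
      have := DFunLike.congr_fun h b
      change ψ (cjHom g hg b) = ψ' (cjHom g hg b) at this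
      rw [this]
    have himg : S.image (fun ψ : A →* Kˣ => ψ.comp (cjHom g hg)) = S :=
      Finset.eq_of_subset_of_card_le (Finset.image_subset_iff.2 hm) (Finset.card_image_of_injOn hi).ge
    calc f (cjHom g hg a) = ∑ ψ ∈ S, (((ψ.comp (cjHom g hg)) a : Kˣ) : K) := rfl
      _ = ∑ ψ ∈ S.image (fun ψ : A →* Kˣ => ψ.comp (cjHom g hg)), ((ψ a : Kˣ) : K) := by
          rw [Finset.sum_image hi]
      _ = f a := by rw [himg]
  have hinv2 : ∀ a : A, f (a ^ ℓ) = f a := by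
    intro a
    have hcop : ∀ ψ : A →* Kˣ, (∀ b, ψ b ^ ℓ = 1) → ψ = 1 := by
      intro ψ h
      refine MonoidHom.ext fun b => ?_
      have e1 : ψ b ^ ℓ = 1 := h b
      have e2 : ψ b ^ Nat.card A = 1 := by rw [← map_pow, pow_card_eq_one', map_one]
      have e3 : ψ b = 1 := by
        rw [← orderOf_eq_one_iff]
        refine Nat.eq_one_of_dvd_coprimes ((Nat.Prime.coprime_iff_not_dvd (Fact.out : ℓ.Prime)).2 hc)
          (orderOf_dvd_of_pow_eq_one e1) (orderOf_dvd_of_pow_eq_one e2)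
      rw [e3]
      rfl
    have hm : ∀ ψ ∈ S, (powMonoidHom ℓ).comp ψ ∈ S := by
      intro ψ hψ
      rw [hS] at hψ ⊢
      exact ⟨h4 ψ hψ.1, fun h => hψ.2 (hcop ψ (fun b => DFunLike.congr_fun h b))⟩
    have hi : Set.InjOn (fun ψ : A →* Kˣ => (powMonoidHom ℓ).comp ψ) S := by
      intro ψ _ ψ' _ h
      refine mul_inv_eq_one.1 (hcop _ fun b => ?_)
      have h7 : ψ b ^ ℓ = ψ' b ^ ℓ := DFunLike.congr_fun h b
      change (ψ b * (ψ' b)⁻¹) ^ ℓ = 1
      rw [mul_pow, inv_pow, h7, mul_inv_cancel]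
    have himg : S.image (fun ψ : A →* Kˣ => (powMonoidHom ℓ).comp ψ) = S :=
      Finset.eq_of_subset_of_card_le (Finset.image_subset_iff.2 hm) (Finset.card_image_of_injOn hi).ge
    calc f (a ^ ℓ) = ∑ ψ ∈ S, ((((powMonoidHom ℓ).comp ψ) a : Kˣ) : K) := by
          refine Finset.sum_congr rfl fun ψ _ => ?_
          rw [map_pow]
          rfl
      _ = ∑ ψ ∈ S.image (fun ψ : A →* Kˣ => (powMonoidHom ℓ).comp ψ), ((ψ a : Kˣ) : K) := by
          rw [Finset.sum_image hi]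
      _ = f a := by rw [himg]
  have hinv3 : ∀ (k : ℕ) (a : A), f (a ^ (ℓ ^ k)) = f a := by
    intro k
    induction k with
    | zero => intro a; rw [pow_zero, pow_one]
    | succ k ih => intro a; rw [pow_succ, pow_mul, hinv2, ih]
  have hinv4 : SelfDual ℓ φ → ∀ a : A, f a⁻¹ = f a := by
    intro hsd a
    have hm : ∀ ψ ∈ S, invMonoidHom.comp ψ ∈ S := by
      intro ψ hψ
      rw [hS] at hψ ⊢
      refine ⟨h5 hsd ψ hψ.1, fun h => hψ.2 (MonoidHom.ext fun b => ?_)⟩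
      have h7 : (ψ b)⁻¹ = 1 := DFunLike.congr_fun h b
      exact inv_eq_one.1 h7
    have hi : Set.InjOn (fun ψ : A →* Kˣ => invMonoidHom.comp ψ) S := by
      intro ψ _ ψ' _ h
      refine MonoidHom.ext fun b => ?_
      have h7 : (ψ b)⁻¹ = (ψ' b)⁻¹ := DFunLike.congr_fun h b
      exact inv_injective h7
    have himg : S.image (fun ψ : A →* Kˣ => invMonoidHom.comp ψ) = S :=
      Finset.eq_of_subset_of_card_le (Finset.image_subset_iff.2 hm) (Finset.card_image_of_injOn hi).ge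
    calc f a⁻¹ = ∑ ψ ∈ S, (((invMonoidHom.comp ψ) a : Kˣ) : K) := by
          refine Finset.sum_congr rfl fun ψ _ => ?_
          rw [map_inv]
          rfl
      _ = ∑ ψ ∈ S.image (fun ψ : A →* Kˣ => invMonoidHom.comp ψ), ((ψ a : Kˣ) : K) := by
          rw [Finset.sum_image hi]
      _ = f a := by rw [himg]
  -- `f` is constant on `A \ {1}`
  have hconst : ∀ b : A, b ≠ 1 → f b = f ⟨a, ha⟩ := by
    intro b hb
    have ha1 : a ≠ 1 := by
      rintro rfl
      exact hne (map_one φ)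
    obtain ⟨g, hg, k, h | ⟨hsd, h⟩⟩ := htr a ha b b.2 ha1 (fun h => hb (Subtype.ext h))
    · have h6 : b = (cjHom g hg ⟨a, ha⟩) ^ (ℓ ^ k) := Subtype.ext h.symm
      rw [h6, hinv3, hinv1]
    · have h6 : b⁻¹ = (cjHom g hg ⟨a, ha⟩) ^ (ℓ ^ k) := Subtype.ext h.symm
      rw [← hinv4 hsd b, h6, hinv3, hinv1]
  -- Fourier coefficients
  have hsum : ∀ ψ : A →* Kˣ, ψ ≠ 1 → ∑ a : A, ((ψ a : Kˣ) : K) = 0 := by
    intro ψ hψ
    refine sum_hom_units_eq_zero ((Units.coeHom K).comp ψ) fun h => hψ ?_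
    ext b
    exact DFunLike.congr_fun h b
  have hcoef : ∀ ψ : A →* Kˣ, ∑ a : A, f a * (((ψ a)⁻¹ : Kˣ) : K) = if ψ ∈ S then (Nat.card A : K) else 0 := by
    intro ψ
    have e1 : ∀ ψ' : A →* Kˣ, ∑ a : A, ((ψ' a : Kˣ) : K) * (((ψ a)⁻¹ : Kˣ) : K) =
        if ψ = ψ' then (Nat.card A : K) else 0 := by
      intro ψ'
      split_ifs with h
      · subst h
        simp [Nat.card_eq_fintype_card]
      · have := hsum (ψ' * invMonoidHom.comp ψ) (fun h' => h (MonoidHom.ext fun b => by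
          have h7 : ψ' b * (ψ b)⁻¹ = 1 := DFunLike.congr_fun h' b
          exact (mul_inv_eq_one.1 h7).symm))
        rw [← this]
        refine Finset.sum_congr rfl fun a _ => ?_
        rw [← Units.val_mul]
        rfl
    calc ∑ a : A, f a * (((ψ a)⁻¹ : Kˣ) : K) = ∑ a : A, ∑ ψ' ∈ S, ((ψ' a : Kˣ) : K) * (((ψ a)⁻¹ : Kˣ) : K) :=
          Finset.sum_congr rfl fun a _ => Finset.sum_mul _ _ _
      _ = ∑ ψ' ∈ S, ∑ a : A, ((ψ' a : Kˣ) : K) * (((ψ a)⁻¹ : Kˣ) : K) := Finset.sum_comm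
      _ = ∑ ψ' ∈ S, if ψ = ψ' then (Nat.card A : K) else 0 := Finset.sum_congr rfl fun ψ' _ => e1 ψ'
      _ = _ := by rw [Finset.sum_ite_eq]
  have hcoef2 : ∀ ψ : A →* Kˣ, ψ ≠ 1 → ∑ a : A, f a * (((ψ a)⁻¹ : Kˣ) : K) = f 1 - f ⟨a, ha⟩ := by
    intro ψ hψ
    have e1 : ∀ b : A, f b * (((ψ b)⁻¹ : Kˣ) : K) = f ⟨a, ha⟩ * (((ψ b)⁻¹ : Kˣ) : K) +
        if b = 1 then f 1 - f ⟨a, ha⟩ else 0 := by
      intro b
      split_ifs with h
      · subst h
        simp
      · rw [hconst b h, add_zero]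
    simp only [e1]
    rw [Finset.sum_add_distrib, ← Finset.mul_sum]
    have e2 : ∑ b : A, (((ψ b)⁻¹ : Kˣ) : K) = 0 := by
      have := hsum (invMonoidHom.comp ψ) (fun h => hψ (MonoidHom.ext fun b => by
          have h7 : (ψ b)⁻¹ = 1 := DFunLike.congr_fun h b
          exact inv_eq_one.1 h7))
      rw [← this]
      rfl
    rw [e2, mul_zero, zero_add]
    simp
  have hall : ∀ ψ : A →* Kˣ, ψ ≠ 1 → ψ ∈ S := by
    intro ψ hψ
    by_contra hcon
    have e1 := hcoef2 ψ hψ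
    rw [hcoef, if_neg hcon] at e1
    have e2 := hcoef2 χ hχ1
    rw [hcoef, if_pos ((hS χ).2 ⟨hχ, hχ1⟩), ← e1] at e2
    exact hcK e2
  -- counting
  haveI : NeZero (Nat.card A : K) := ⟨hcK⟩
  haveI : NeZero (Monoid.exponent A : K) := ⟨fun h => hcK (by
    obtain ⟨c, hc'⟩ := Group.exponent_dvd_nat_card (G := A)
    rw [hc', Nat.cast_mul, h, zero_mul])⟩
  have hcardX : Nat.card (A →* Kˣ) = Nat.card A :=
    CommGroup.card_monoidHom_of_hasEnoughRootsOfUnity A K
  haveI : Finite (A →* Kˣ) := Nat.finite_of_card_ne_zero (by rw [hcardX]; exact Nat.card_pos.ne')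
  letI : Fintype (A →* Kˣ) := Fintype.ofFinite _
  have hSe : S = Finset.univ.erase 1 := by
    ext ψ
    rw [Finset.mem_erase]
    exact ⟨fun h => ⟨((hS ψ).1 h).2, Finset.mem_univ _⟩, fun h => hall ψ h.1⟩
  have hScard : S.card = Nat.card A - 1 := by
    rw [hSe, Finset.card_erase_of_mem (Finset.mem_univ _), Finset.card_univ, ← Nat.card_eq_fintype_card, hcardX]
  have h8 := (h1 (S : Set (A →* Kˣ)) (fun ψ hψ => ((hS ψ).1 hψ).1)).2
  rwa [Set.ncard_coe_finset, hScard] at h8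

/-- **(W3) one element `e` of order `n = r ^ (k + 1)` on `V`.** `T` is a set of exponents `t = ± ℓ ^ j * s` with
`e ^ s` conjugate to `e` (the sign only if `V` is self-dual). -/
theorem pow_spec_le (hV : ∀ v : V, v ^ ℓ = 1) {n r k : ℕ} (hn : n = r ^ (k + 1)) (hr : r.Prime) (hrl : r ≠ ℓ) {e : L}
    (he : e ^ n = 1) (hne : φ (e ^ r ^ k) ≠ 1) (T : Finset (ZMod n))
    (hT : ∀ t ∈ T, ∃ (j s : ℕ) (g : L), g * e * g⁻¹ = e ^ s ∧
      (t = (ℓ ^ j * s : ℕ) ∨ (SelfDual ℓ φ ∧ t = -((ℓ ^ j * s : ℕ) : ZMod n)))) :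
    ℓ ^ T.card ≤ Nat.card V := by
  classical
  haveI := Fact.mk hr
  haveI : NeZero n := ⟨by rw [hn]; exact (pow_pos hr.pos _).ne'⟩
  have hord : orderOf e = n := by
    rw [hn]
    exact orderOf_eq_prime_pow (fun h => hne (by rw [h, map_one])) (by rw [← hn]; exact he)
  let A : Subgroup L := Subgroup.zpowers e
  have hAcard : Nat.card A = n := by rw [Nat.card_zpowers, hord]
  haveI : Finite A := Nat.finite_of_card_ne_zero (by rw [hAcard]; exact NeZero.ne n)
  have hA : ∀ a ∈ A, ∀ b ∈ A, a * b = b * a := by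
    rintro _ ⟨i, rfl⟩ _ ⟨j, rfl⟩
    simp only
    rw [← _root_.zpow_add, ← _root_.zpow_add, add_comm]
  have hc : ¬ ℓ ∣ Nat.card A := by
    rw [hAcard, hn]
    intro h
    exact hrl ((Nat.prime_dvd_prime_iff_eq Fact.out hr).1 ((Fact.out : ℓ.Prime).dvd_of_dvd_pow h)).symm
  let K := AlgebraicClosure (ZMod ℓ)
  obtain ⟨Λ, h1, h2, h3, h4, h5⟩ := exists_weights K hV (φ := φ) hA hc
  let e' : A := ⟨e, Subgroup.mem_zpowers e⟩
  obtain ⟨χ, hχ, hχe⟩ := h2 (e' ^ r ^ k) (by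
    rw [SubgroupClass.coe_pow]
    exact hne)
  have hlam : orderOf (χ e') = n := by
    rw [hn]
    refine orderOf_eq_prime_pow (fun h => hχe (by rw [map_pow, h])) ?_
    rw [← map_pow, ← hn]
    have : e' ^ n = 1 := Subtype.ext (by rw [SubgroupClass.coe_pow]; exact he)
    rw [this, map_one]
  have hχn : ∀ a : A, χ a ^ n = 1 := by
    intro a
    rw [← map_pow]
    have : a ^ n = 1 := by
      rw [← hAcard]
      exact pow_card_eq_one'
    rw [this, map_one]
  have hpow : ∀ (k : ℕ), ∀ χ ∈ Λ, (powMonoidHom (ℓ ^ k)).comp χ ∈ Λ := by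
    intro k
    induction k with
    | zero =>
      intro χ hχ
      have : (powMonoidHom (ℓ ^ 0)).comp χ = χ := by ext a; simp
      rwa [this]
    | succ k ih =>
      intro χ hχ
      have : (powMonoidHom (ℓ ^ (k + 1))).comp χ = (powMonoidHom ℓ).comp ((powMonoidHom (ℓ ^ k)).comp χ) := by
        ext a
        simp [pow_succ, pow_mul]
      rw [this]
      exact h4 _ (ih χ hχ)
  have hs : ∀ (s : ℕ) (g : L), g * e * g⁻¹ = e ^ s → (powMonoidHom s).comp χ ∈ Λ := by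
    intro s g hg
    refine h3 χ hχ g⁻¹ _ fun a' => ⟨a' ^ s, ?_, ?_⟩
    · obtain ⟨i, hi⟩ := Subgroup.mem_zpowers_iff.1 a'.2
      rw [SubgroupClass.coe_pow, ← hi]
      have h6 : g * e ^ i * g⁻¹ = (e ^ i) ^ s := by
        rw [← conj_zpow, hg, ← zpow_natCast, ← zpow_natCast, ← _root_.zpow_mul, ← _root_.zpow_mul, mul_comm]
      rw [← h6]
      group
    · rw [map_pow]
      rfl
  let F : ZMod n → (A →* Kˣ) := fun t => (powMonoidHom t.val).comp χ
  have hF : ∀ t ∈ T, F t ∈ Λ := by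
    intro t ht
    obtain ⟨j, s, g, hg, h | ⟨hsd, h⟩⟩ := hT t ht
    · have e1 : F t = (powMonoidHom (ℓ ^ j)).comp ((powMonoidHom s).comp χ) := by
        refine MonoidHom.ext fun a => ?_
        change χ a ^ t.val = (χ a ^ s) ^ (ℓ ^ j)
        rw [← pow_mul, h, ZMod.val_natCast, mul_comm s]
        exact (pow_eq_pow_mod _ (hχn a)).symm
      rw [e1]
      exact hpow j _ (hs s g hg)
    · have e1 : F t = invMonoidHom.comp ((powMonoidHom (ℓ ^ j)).comp ((powMonoidHom s).comp χ)) := by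
        refine MonoidHom.ext fun a => ?_
        change χ a ^ t.val = ((χ a ^ s) ^ (ℓ ^ j))⁻¹
        rw [← pow_mul, eq_inv_iff_mul_eq_one, ← pow_add]
        have h6 : n ∣ t.val + s * ℓ ^ j := by
          rw [← ZMod.natCast_eq_zero_iff]
          push_cast
          rw [ZMod.natCast_zmod_val, h]
          push_cast
          ring
        obtain ⟨c, hc⟩ := h6
        rw [hc, pow_mul, hχn, one_pow]
      rw [e1]
      exact h5 hsd _ (hpow j _ (hs s g hg))
  have hinj : Function.Injective F := by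
    intro t t' htt
    have h6 : (χ e') ^ t.val = (χ e') ^ t'.val := DFunLike.congr_fun htt e'
    rw [pow_eq_pow_iff_modEq, hlam] at h6
    have h7 := (ZMod.natCast_eq_natCast_iff _ _ _).2 h6
    rwa [ZMod.natCast_zmod_val, ZMod.natCast_zmod_val] at h7
  have h8 := (h1 (F '' (T : Set (ZMod n))) (by rintro _ ⟨t, ht, rfl⟩; exact hF t ht)).2
  rwa [Set.ncard_image_of_injective _ hinj, Set.ncard_coe_finset] at h8

/-- **(P)** an element of prime power order on a self-dual module, `-1` not a power of `ℓ` -/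
theorem pow_two_orderOf_le (hV : ∀ v : V, v ^ ℓ = 1) (hsd : SelfDual ℓ φ) {n r k : ℕ} (hn : n = r ^ (k + 1))
    (hr : r.Prime) (hrl : r ≠ ℓ) {e : L} (he : e ^ n = 1) (hne : φ (e ^ r ^ k) ≠ 1)
    (h : ∀ j : ℕ, (ℓ : ZMod n) ^ j ≠ -1) : ℓ ^ (2 * orderOf (ℓ : ZMod n)) ≤ Nat.card V := by
  classical
  haveI : NeZero n := ⟨by rw [hn]; exact (pow_pos hr.pos _).ne'⟩
  set x : ZMod n := (ℓ : ZMod n) with hx
  have hu : IsUnit x := by
    rw [hx, ZMod.isUnit_iff_coprime, hn]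
    exact ((Nat.coprime_primes Fact.out hr).2 hrl.symm).pow_right _
  obtain ⟨u, hu⟩ := hu
  have hord : orderOf x = orderOf u := by rw [← hu, orderOf_units]
  have hpos : 0 < orderOf x := by rw [hord]; exact orderOf_pos u
  have hinj : ∀ i < orderOf x, ∀ j < orderOf x, x ^ i = x ^ j → i = j := by
    intro i hi j hj hij
    rw [hord] at hi hj
    refine pow_injOn_Iio_orderOf hi hj ?_
    apply Units.ext
    change ((u ^ i : (ZMod n)ˣ) : ZMod n) = ((u ^ j : (ZMod n)ˣ) : ZMod n)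
    rw [Units.val_pow_eq_pow_val, Units.val_pow_eq_pow_val, hu, hij]
  let T1 : Finset (ZMod n) := (Finset.range (orderOf x)).image (fun i => x ^ i)
  let T2 : Finset (ZMod n) := (Finset.range (orderOf x)).image (fun i => -x ^ i)
  have hc1 : T1.card = orderOf x := by
    rw [Finset.card_image_of_injOn, Finset.card_range]
    intro i hi j hj hij
    exact hinj i (Finset.mem_range.1 hi) j (Finset.mem_range.1 hj) hij
  have hc2 : T2.card = orderOf x := by
    rw [Finset.card_image_of_injOn, Finset.card_range]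
    intro i hi j hj hij
    exact hinj i (Finset.mem_range.1 hi) j (Finset.mem_range.1 hj) (neg_injective hij)
  have hdis : Disjoint T1 T2 := by
    rw [Finset.disjoint_left]
    intro t h1 h2
    obtain ⟨i, -, rfl⟩ := Finset.mem_image.1 h1
    obtain ⟨j, hj, hij⟩ := Finset.mem_image.1 h2
    -- `x ^ i = - x ^ j`
    apply h (i + (orderOf x - j))
    rw [pow_add, ← hij, neg_mul, ← pow_add, Nat.add_sub_cancel' (Finset.mem_range.1 hj).le, pow_orderOf_eq_one]
  have hcard : (T1 ∪ T2).card = 2 * orderOf x := by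
    rw [Finset.card_union_of_disjoint hdis, hc1, hc2, two_mul]
  rw [← hcard]
  refine pow_spec_le hV hn hr hrl he hne (T1 ∪ T2) fun t ht => ?_
  rcases Finset.mem_union.1 ht with h1 | h1
  · obtain ⟨i, -, rfl⟩ := Finset.mem_image.1 h1
    exact ⟨i, 1, 1, by simp, Or.inl (by rw [hx]; push_cast; ring)⟩
  · obtain ⟨i, -, rfl⟩ := Finset.mem_image.1 h1
    exact ⟨i, 1, 1, by simp, Or.inr ⟨hsd, by rw [hx]; push_cast; ring⟩⟩

end Char

end Cfsg.Agent.Omega.TwoF.Weight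

end
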