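import Cfsg.Agent.Omega.Lie.HeisCover
import Cfsg.Agent.Mrg.Omega.TwoF.Orb
import Cfsg.Agent.Mrg.Omega.TwoF.RkPSU
import Cfsg.Agent.Omega.TwoF.Co1Mat
import Cfsg.Agent.S0399

section


/-!
# Degree bounds in the form `LB K m` (all perfect odd central extensions)

`Esc K r m` : the bound holds for the covers with `r ∣ |Z|` (`Esc.prime`: lcm trick with a prime `p ∣ |K|`; `Esc.heis`).
For a group order `n` prime to the kernel everything lifts (`exists_liftSub`):

* `LB.family`, `LB.frobGroup` (W1), `LB.trans` (W2), `LB.spec` (W3), `LB.frob` (T2), `LB.orbit` (O).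
-/

set_option autoImplicit false
set_option linter.unusedSectionVars false
set_option linter.style.haveILetI false

universe u v w

namespace Cfsg.Agent.Omega.TwoF.WeightCover

open Cfsg.Agent.Omega.Lie.Heis

/-- The bound for the faithful irreducible actions of the odd perfect central extensions with `r ∣ |Z|`. -/
def Esc (K : Type u) [Group K] (r m : ℕ) : Prop :=
  ∀ (L : Type v) [Group L] [Finite L] (π : L →* K), Function.Surjective π → π.ker ≤ Subgroup.center L →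
    Odd (Nat.card π.ker) → commutator L = ⊤ → r ∣ Nat.card π.ker → ∀ (V : Type w) [CommGroup V] [Finite V],
    IsPGroup 2 V → ∀ φ : L →* MulAut V, Function.Injective φ → Irr φ → 2 ^ m ≤ Nat.card V

/-- a fixed point free central element of order `r` -/
theorem exists_central {K : Type u} [Group K] {L : Type v} [Group L] [Finite L] {π : L →* K}
    (hc : π.ker ≤ Subgroup.center L) {r : ℕ} (hr : r.Prime) (hrZ : r ∣ Nat.card π.ker) {V : Type w} [CommGroup V]
    {φ : L →* MulAut V} (hφ : Function.Injective φ) (hirr : Irr φ) :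
    ∃ c : L, c ∈ Subgroup.center L ∧ c ^ r = 1 ∧ c ≠ 1 ∧ ∀ v : V, φ c v = v → v = 1 := by
  haveI := Fact.mk hr
  obtain ⟨c, hc1⟩ := exists_prime_orderOf_dvd_card' r hrZ
  have hcr : (c : L) ^ r = 1 := by
    have : c ^ r = 1 := by rw [← hc1]; exact pow_orderOf_eq_one c
    exact congrArg Subtype.val this
  have hcne : (c : L) ≠ 1 := by
    intro h5
    have h6 : c = 1 := Subtype.ext h5
    rw [h6, orderOf_one] at hc1
    exact hr.ne_one hc1.symm
  exact ⟨c, hc c.2, hcr, hcne, fun v hv => hirr.free (hc c.2) (fun h5 => hcne (hφ (h5.trans (map_one φ).symm))) hv⟩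

/-- the lcm trick -/
theorem Esc.prime {K : Type u} [Group K] [Finite K] {r p m : ℕ} (hr : r.Prime) (hp : p.Prime) (hp2 : p ≠ 2)
    (hpK : p ∣ Nat.card K) (hm : m ≤ Nat.lcm (orderOf (2 : ZMod p)) (orderOf (2 : ZMod r))) : Esc.{u, v, w} K r m := by
  intro L _ _ π hπ hc ho hL hrZ V _ _ h2 φ hφ hirr
  haveI : Fact p.Prime := ⟨hp⟩
  obtain ⟨c, hcc, hcr, hcne, hcf⟩ := exists_central hc hr hrZ hφ hirr
  have h3 : p ∣ Nat.card L := hpK.trans (Subgroup.card_dvd_of_surjective π hπ)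
  obtain ⟨g, hg⟩ := exists_prime_orderOf_dvd_card' p h3
  have h4 : φ g ≠ 1 := by
    intro h5
    have h6 : g = 1 := hφ (h5.trans (map_one φ).symm)
    rw [h6, orderOf_one] at hg
    exact hp.ne_one hg.symm
  have h5 := (heis_zero hp (z := g) (by rw [← hg]; exact pow_orderOf_eq_one g)).two_pow_le_lcm_mulAut φ h2 hp2 h4
    hr hcr (Subgroup.mem_center_iff.1 hcc g) (fun i => i.elim0) hcf
  rw [pow_zero, mul_one] at h5
  exact (Nat.pow_le_pow_right (by norm_num) hm).trans h5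

/-- the lcm trick with a Heisenberg configuration of a prime `s` with `s ∤ |Z|` or `s = r` -/
theorem Esc.heis {K : Type u} [Group K] [Finite K] {r s n m : ℕ} {z : K} {x y : Fin n → K} (h : Heis s n z x y)
    (hr : r.Prime) (hs2 : s ≠ 2) (hz : z ≠ 1) (hs : Esc.{u, v, w} K s m)
    (hm : m ≤ Nat.lcm (orderOf (2 : ZMod s)) (orderOf (2 : ZMod r)) * s ^ n) : Esc.{u, v, w} K r m := by
  intro L _ _ π hπ hc ho hL hrZ V _ _ h2 φ hφ hirr
  by_cases hsZ : s ∣ Nat.card π.ker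
  · exact hs L π hπ hc ho hL hsZ V h2 φ hφ hirr
  obtain ⟨c, hcc, hcr, hcne, hcf⟩ := exists_central hc hr hrZ hφ hirr
  obtain ⟨z', x', y', hz', -, -, h'⟩ := h.lift hπ hc ((Nat.Prime.coprime_iff_not_dvd h.prime).2 hsZ)
  have h4 : φ z' ≠ 1 := by
    intro h5
    have h6 : z' = 1 := hφ (h5.trans (map_one φ).symm)
    rw [h6, map_one] at hz'
    exact hz hz'.symm
  have h5 := h'.two_pow_le_lcm_mulAut φ h2 hs2 h4 hr hcr (Subgroup.mem_center_iff.1 hcc z')
    (fun i => Subgroup.mem_center_iff.1 hcc (x' i)) hcf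
  exact (Nat.pow_le_pow_right (by norm_num) hm).trans h5

/-- `v ^ 2 = 1` on an irreducible `2`-group -/
theorem Irr.sq {L : Type v} [Group L] {V : Type w} [CommGroup V] [Finite V] {φ : L →* MulAut V} (hi : Irr φ)
    (h2 : IsPGroup 2 V) (v : V) : v ^ 2 = 1 := by
  rcases hi (powMonoidHom 2 : V →* V).ker (fun g x hx => by
    rw [MonoidHom.mem_ker] at hx ⊢
    change (φ g x) ^ 2 = 1
    rw [← map_pow]
    change φ g ((powMonoidHom 2 : V →* V) x) = 1
    rw [hx, map_one]) with h | h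
  · -- squaring is injective, so `V` has odd order
    by_cases hv : v = 1
    · rw [hv, one_pow]
    have hinj := (MonoidHom.ker_eq_bot_iff _).1 h
    obtain ⟨k, hk⟩ := h2 v
    exfalso
    apply hv
    have : ∀ k : ℕ, v ^ 2 ^ k = 1 → v = 1 := by
      intro k
      induction k with
      | zero => intro h; rwa [pow_zero, pow_one] at h
      | succ k ih =>
        intro h
        apply ih
        apply hinj
        change (v ^ 2 ^ k) ^ 2 = (1 : V) ^ 2
        rw [← pow_mul, ← pow_succ, h, one_pow]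
    exact this k hk
  · have : v ∈ (powMonoidHom 2 : V →* V).ker := h ▸ Subgroup.mem_top v
    exact this

/-- **Frame**: covers with kernel prime to `n`, and `Esc` for the prime divisors of `n`. -/
theorem LB.of_esc {K : Type u} [Group K] [IsSimpleGroup K] {n m : ℕ}
    (hesc : ∀ r, r.Prime → r ∣ n → Esc.{u, v, w} K r m)
    (H : ∀ (L : Type v) [Group L] [Finite L] (π : L →* K), Function.Surjective π → π.ker ≤ Subgroup.center L →
      Nat.Coprime n (Nat.card π.ker) → ∀ (V : Type w) [CommGroup V] [Finite V], IsPGroup 2 V → (∀ v : V, v ^ 2 = 1) →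
      ∀ φ : L →* MulAut V, Function.Injective φ → 2 ^ m ≤ Nat.card V) : LB.{u, v, w} K m := by
  apply LB.of_irr
  intro L _ _ π hπ hc ho hL V _ _ h2 φ hφ hirr
  by_cases hco : Nat.Coprime n (Nat.card π.ker)
  · exact H L π hπ hc hco V h2 (Irr.sq hirr h2) φ hφ
  · obtain ⟨r, hr, h3, h4⟩ := Nat.Prime.not_coprime_iff_dvd.1 hco
    exact hesc r hr h3 L π hπ hc ho hL h4 V h2 φ hφ hirr

/-- **Lifting of an abelian subgroup** of exponent dividing `n`, `n` prime to the kernel. -/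
theorem exists_liftSub {K : Type u} [Group K] {L : Type v} [Group L] {π : L →* K} (hπ : Function.Surjective π)
    (hc : π.ker ≤ Subgroup.center L) [Finite π.ker] {n : ℕ} (hco : Nat.Coprime n (Nat.card π.ker)) {A : Subgroup K}
    (hA : ∀ a ∈ A, ∀ b ∈ A, a * b = b * a) (hAn : ∀ a ∈ A, a ^ n = 1) :
    ∃ A' : Subgroup L, (∀ a ∈ A', π a ∈ A) ∧ (∀ a ∈ A, ∃ a' ∈ A', π a' = a) ∧
      (∀ a ∈ A', ∀ b ∈ A', π a = π b → a = b) ∧ (∀ a ∈ A', ∀ b ∈ A', a * b = b * a) ∧
      (∀ g : L, (∀ a ∈ A, π g * a * (π g)⁻¹ ∈ A) → ∀ a ∈ A', g * a * g⁻¹ ∈ A') ∧ Nat.card A' = Nat.card A ∧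
      (∀ a ∈ A', a ^ n = 1) := by
  have hcomm : ∀ a : L, a ^ n = 1 → ∀ b : L, π a ∈ A → π b ∈ A → a * b = b * a := fun a ha b h1 h2 =>
    comm_of_comm hc hco ha (hA _ h1 _ h2)
  let A' : Subgroup L :=
    { carrier := {a | π a ∈ A ∧ a ^ n = 1}
      one_mem' := ⟨by rw [map_one]; exact one_mem A, one_pow n⟩
      mul_mem' := fun {a b} ha hb => ⟨by rw [map_mul]; exact mul_mem ha.1 hb.1, by
        rw [(show Commute a b from hcomm a ha.2 b ha.1 hb.1).mul_pow, ha.2, hb.2, one_mul]⟩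
      inv_mem' := fun {a} ha => ⟨by rw [map_inv]; exact inv_mem ha.1, by rw [inv_pow, ha.2, inv_one]⟩ }
  have h1 : ∀ a ∈ A', π a ∈ A := fun a ha => ha.1
  have h2 : ∀ a ∈ A, ∃ a' ∈ A', π a' = a := by
    intro a ha
    obtain ⟨a', h3, h4⟩ := exists_lift hπ hc hco (hAn a ha)
    exact ⟨a', ⟨by rw [h3]; exact ha, h4⟩, h3⟩
  have h3 : ∀ a ∈ A', ∀ b ∈ A', π a = π b → a = b := fun a ha b hb h => lift_unique hc hco ha.2 hb.2 h
  refine ⟨A', h1, h2, h3, fun a ha b hb => hcomm a ha.2 b ha.1 hb.1, fun g hg a ha => ⟨?_, ?_⟩, ?_, fun a ha => ha.2⟩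
  · rw [map_mul, map_mul, map_inv]
    exact hg _ ha.1
  · rw [conj_pow, ha.2, mul_one, mul_inv_cancel]
  · refine Nat.card_congr (Equiv.ofBijective (fun a : A' => (⟨π a, h1 a a.2⟩ : A)) ⟨fun a b h => ?_, fun a => ?_⟩)
    · exact Subtype.ext (h3 a a.2 b b.2 (congrArg Subtype.val h))
    · obtain ⟨a', ha', h⟩ := h2 a a.2
      exact ⟨⟨a', ha'⟩, Subtype.ext h⟩

section Rows

theorem exists_mem_ne {K : Type*} [Group K] {A : Subgroup K} (h : A ≠ ⊥) : ∃ a ∈ A, a ≠ 1 := by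
  by_contra hcon
  push Not at hcon
  exact h ((Subgroup.eq_bot_iff_forall A).2 hcon)

variable {K : Type u} [Group K] [Finite K] [IsSimpleGroup K]

/-- **(W0)** -/
theorem LB.family {A : Subgroup K} (hA : ∀ a ∈ A, ∀ b ∈ A, a * b = b * a) (hAo : Odd (Nat.card A)) (hA1 : A ≠ ⊥)
    {ι : Type*} [Finite ι] (g : ι → K) (hg : ∀ i, ∀ a ∈ A, g i * a * (g i)⁻¹ ∈ A) (k : ι → ℕ)
    (hd : ∀ i j, i ≠ j → ∀ a ∈ A, (g i * a * (g i)⁻¹) ^ (2 ^ k i) = (g j * a * (g j)⁻¹) ^ (2 ^ k j) → a = 1)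
    {m : ℕ} (hm : m ≤ Nat.card ι) (hesc : ∀ r, r.Prime → r ∣ Nat.card A → Esc.{u, v, w} K r m) : LB.{u, v, w} K m := by
  refine LB.of_esc hesc ?_
  intro L _ _ π hπ hc hco V _ _ h2 hV φ hφ
  haveI : Fact (Nat.Prime 2) := ⟨Nat.prime_two⟩
  obtain ⟨A', h3, h4, h5, h6, h7, h8, h9⟩ := exists_liftSub hπ hc hco hA (fun a ha => by
    have := pow_card_eq_one' (x := (⟨a, ha⟩ : A))
    exact congrArg Subtype.val this)
  choose g' hg' using fun i => hπ (g i)
  obtain ⟨a, ha, ha1⟩ := exists_mem_ne hA1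
  obtain ⟨a', ha', haa⟩ := h4 a ha
  have h10 := Weight.pow_family_le (ℓ := 2) (φ := φ) hV (A := A') h6 (by
      rw [h8]
      exact fun h => (Nat.not_even_iff_odd.2 hAo) (even_iff_two_dvd.2 h)) ⟨a', ha', fun h => ha1 (by
        rw [← haa, show a' = 1 from hφ (h.trans (map_one φ).symm), map_one])⟩ g'
    (fun i => h7 (g' i) (by rw [hg']; exact hg i)) k (fun i j hij a ha h => by
      refine h5 a ha 1 (one_mem A') ?_
      rw [map_one]
      refine hd i j hij (π a) (h3 a ha) ?_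
      have := congrArg π h
      simpa only [map_pow, map_mul, map_inv, hg'] using this)
  exact (Nat.pow_le_pow_right (by norm_num) hm).trans h10

/-- **(W1)** Frobenius groups `A : T` -/
theorem LB.frobGroup {A : Subgroup K} (hA : ∀ a ∈ A, ∀ b ∈ A, a * b = b * a) (hAo : Odd (Nat.card A)) (hA1 : A ≠ ⊥)
    (T : Subgroup K) (hT : ∀ t ∈ T, ∀ a ∈ A, t * a * t⁻¹ ∈ A)
    (hfree : ∀ t ∈ T, t ≠ 1 → ∀ a ∈ A, t * a = a * t → a = 1)
    {m : ℕ} (hm : m ≤ Nat.card T) (hesc : ∀ r, r.Prime → r ∣ Nat.card A → Esc.{u, v, w} K r m) : LB.{u, v, w} K m := by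
  refine LB.family hA hAo hA1 (fun t : T => (t : K)) (fun t => hT t t.2) (fun _ => 0) (fun s t hst a ha h => ?_) hm hesc
  rw [pow_zero, pow_one, pow_one] at h
  refine hfree ((t : K)⁻¹ * s) (mul_mem (inv_mem t.2) s.2) (fun h1 => hst ?_) a ha ?_
  · exact Subtype.ext (inv_mul_eq_one.1 h1).symm
  · calc (t : K)⁻¹ * s * a = (t : K)⁻¹ * (s * a * (s : K)⁻¹) * s := by group
      _ = a * ((t : K)⁻¹ * s) := by rw [h]; group

/-- **(W2)** `N_K(A)` and the Frobenius transitive on `A \ {1}` -/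
theorem LB.trans {A : Subgroup K} (hA : ∀ a ∈ A, ∀ b ∈ A, a * b = b * a) (hAo : Odd (Nat.card A)) (hA1 : A ≠ ⊥)
    (htr : ∀ a ∈ A, ∀ b ∈ A, a ≠ 1 → b ≠ 1 → ∃ g : K, (∀ c ∈ A, g * c * g⁻¹ ∈ A) ∧ ∃ k : ℕ,
      (g * a * g⁻¹) ^ (2 ^ k) = b) {m : ℕ} (hm : m ≤ Nat.card A - 1)
    (hesc : ∀ r, r.Prime → r ∣ Nat.card A → Esc.{u, v, w} K r m) : LB.{u, v, w} K m := by
  refine LB.of_esc hesc ?_
  intro L _ _ π hπ hc hco V _ _ h2 hV φ hφ
  haveI : Fact (Nat.Prime 2) := ⟨Nat.prime_two⟩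
  obtain ⟨A', h3, h4, h5, h6, h7, h8, h9⟩ := exists_liftSub hπ hc hco hA (fun a ha => by
    have := pow_card_eq_one' (x := (⟨a, ha⟩ : A))
    exact congrArg Subtype.val this)
  obtain ⟨a, ha, ha1⟩ := exists_mem_ne hA1
  obtain ⟨a', ha', haa⟩ := h4 a ha
  have h10 := Weight.pow_card_sub_one_le (ℓ := 2) (φ := φ) hV (A := A') h6 (by
      rw [h8]
      exact fun h => (Nat.not_even_iff_odd.2 hAo) (even_iff_two_dvd.2 h)) ⟨a', ha', fun h => ha1 (by
        rw [← haa, show a' = 1 from hφ (h.trans (map_one φ).symm), map_one])⟩ (fun a ha b hb ha1 hb1 => by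
      have hne : ∀ c ∈ A', c ≠ 1 → π c ≠ 1 := fun c hc' h1 h2 => h1 (h5 c hc' 1 (one_mem A') (by rw [h2, map_one]))
      obtain ⟨g, hg, k, hk⟩ := htr (π a) (h3 a ha) (π b) (h3 b hb) (hne a ha ha1) (hne b hb hb1)
      obtain ⟨g', rfl⟩ := hπ g
      refine ⟨g', h7 g' hg, k, Or.inl (h5 _ (pow_mem (h7 g' hg a ha) _) b hb ?_)⟩
      rw [map_pow, map_mul, map_mul, map_inv]
      exact hk)
  rw [h8] at h10
  exact (Nat.pow_le_pow_right (by norm_num) hm).trans h10

/-- **(W3)** one element of order `n = r ^ (k + 1)` -/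
theorem LB.spec {n r k : ℕ} (hn : n = r ^ (k + 1)) (hr : r.Prime) (hr2 : r ≠ 2) {e : K} (he : e ^ n = 1)
    (hne : e ^ r ^ k ≠ 1) (T : Finset (ZMod n))
    (hT : ∀ t ∈ T, ∃ (j s : ℕ) (g : K), g * e * g⁻¹ = e ^ s ∧ t = (2 ^ j * s : ℕ)) {m : ℕ} (hm : m ≤ T.card)
    (hesc : Esc.{u, v, w} K r m) : LB.{u, v, w} K m := by
  refine LB.of_esc (n := r) (fun s hs hsr => by rwa [(Nat.prime_dvd_prime_iff_eq hs hr).1 hsr]) ?_
  intro L _ _ π hπ hc hco V _ _ h2 hV φ hφ
  haveI : Fact (Nat.Prime 2) := ⟨Nat.prime_two⟩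
  have hcn : Nat.Coprime n (Nat.card π.ker) := by rw [hn]; exact hco.pow_left _
  obtain ⟨e', he', hen⟩ := exists_lift hπ hc hcn he
  have h10 := Weight.pow_spec_le (ℓ := 2) (φ := φ) hV hn hr hr2 hen (fun h => hne (by
      rw [← he', ← map_pow, show e' ^ r ^ k = 1 from hφ (h.trans (map_one φ).symm), map_one])) T (fun t ht => by
      obtain ⟨j, s, g, hg, h⟩ := hT t ht
      obtain ⟨g', rfl⟩ := hπ g
      refine ⟨j, s, g', lift_unique hc hcn ?_ ?_ ?_, Or.inl h⟩
      · rw [conj_pow, hen, mul_one, mul_inv_cancel]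
      · rw [← pow_mul, mul_comm, pow_mul, hen, one_pow]
      · rw [map_mul, map_mul, map_inv, he', map_pow, he', hg])
  exact (Nat.pow_le_pow_right (by norm_num) hm).trans h10

/-- **(T2)** -/
theorem LB.frob {p : ℕ} (hp : p.Prime) {A : Subgroup K} (hA : ∀ a ∈ A, ∀ b ∈ A, a * b = b * a)
    (hAo : Odd (Nat.card A)) {d : ℕ}
    (hpA : ∀ r, r.Prime → r ∣ Nat.card A → r ≠ p ∧ ¬ p ∣ r - 1 ∧ d ≤ orderOf (2 : ZMod r)) {x : K}
    (hxp : ∀ b ∈ A, x ^ p * b = b * x ^ p) (hE : ∀ a ∈ A, x * a * x⁻¹ ∈ A)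
    (hne : ∃ b ∈ A, x * b * x⁻¹ ≠ b) {m : ℕ} (hm : m ≤ d * p)
    (hesc : ∀ r, r.Prime → r ∣ Nat.card A → Esc.{u, v, w} K r m) : LB.{u, v, w} K m := by
  refine LB.of_esc hesc ?_
  intro L _ _ π hπ hc hco V _ _ h2 hV φ hφ
  haveI : Fact (Nat.Prime 2) := ⟨Nat.prime_two⟩
  obtain ⟨A', h3, h4, h5, h6, h7, h8, h9⟩ := exists_liftSub hπ hc hco hA (fun a ha => by
    have := pow_card_eq_one' (x := (⟨a, ha⟩ : A))
    exact congrArg Subtype.val this)
  obtain ⟨x', rfl⟩ := hπ x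
  obtain ⟨b, hb, hne⟩ := hne
  obtain ⟨b', hb', rfl⟩ := h4 b hb
  have h10 := Orb.frob_card (ℓ := 2) (φ := φ) (m := d) h2 hp (A := A') h6 (by
      rw [h8]
      exact fun h => (Nat.not_even_iff_odd.2 hAo) (even_iff_two_dvd.2 h)) (by
      rw [h8]
      exact hpA) (x := x') (fun b hb => by
        refine (comm_of_comm hc hco (h9 b hb) ?_).symm
        rw [map_pow]
        exact (hxp _ (h3 b hb)).symm) (h7 x' hE) ⟨b', hb', fun h => hne (by
        have := hφ h
        rw [← map_mul, ← map_inv, ← map_mul, this])⟩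
  exact (Nat.pow_le_pow_right (by norm_num) hm).trans h10

/-- **(O)** `E` elementary abelian of order `r ^ a`, every hyperplane has `m'` conjugates under `N_K(E)` -/
theorem LB.orbit {r : ℕ} (hr : r.Prime) (hr2 : r ≠ 2) {E : Subgroup K} (h : Orb.Elem r E) (hE1 : E ≠ ⊥) {m' : ℕ}
    (horb : ∀ H ≤ E, H.relIndex E = r → ∃ g : Fin m' → K, (∀ i, Orb.cj (g i) E = E) ∧
      ∀ i j, i ≠ j → Orb.cj (g i) H ≠ Orb.cj (g j) H) {m : ℕ} (hm : m ≤ orderOf (2 : ZMod r) * m')
    (hesc : Esc.{u, v, w} K r m) : LB.{u, v, w} K m := by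
  refine LB.of_esc (n := r) (fun s hs hsr => by rwa [(Nat.prime_dvd_prime_iff_eq hs hr).1 hsr]) ?_
  intro L _ _ π hπ hc hco V _ _ h2 hV φ hφ
  haveI : Fact (Nat.Prime 2) := ⟨Nat.prime_two⟩
  haveI := Fact.mk hr
  obtain ⟨A', h3, h4, h5, h6, h7, h8, h9⟩ := exists_liftSub hπ hc hco h.comm h.pow
  have hel : Orb.Elem r A' := ⟨h6, h9⟩
  obtain ⟨a, ha, ha1⟩ := exists_mem_ne hE1
  obtain ⟨a', ha', haa⟩ := h4 a ha
  have hfx : Orb.fx φ A' ≠ ⊤ := by
    intro hcon
    apply ha1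
    rw [← haa, show a' = 1 from hφ (by
      rw [map_one]
      ext v
      have : v ∈ Orb.fx φ A' := hcon ▸ Subgroup.mem_top v
      exact this a' ha'), map_one]
  obtain ⟨H, hle, hi, hne⟩ := hel.exists_hyperplane hr2 h2 hfx
  -- the image of `H`
  have hmapA : A'.map π = E := by
    ext x
    constructor
    · rintro ⟨a, ha, rfl⟩
      exact h3 a ha
    · intro hx
      obtain ⟨a, ha, h⟩ := h4 x hx
      exact ⟨a, ha, h⟩
  have hinjmap : ∀ B ≤ A', ∀ C ≤ A', B.map π = C.map π → B = C := by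
    have key : ∀ B ≤ A', ∀ C ≤ A', B.map π = C.map π → B ≤ C := by
      intro B hB C hC hBC b hb
      have : π b ∈ C.map π := hBC ▸ ⟨b, hb, rfl⟩
      obtain ⟨c, hc', hcb⟩ := this
      rwa [← h5 c (hC hc') b (hB hb) hcb]
    intro B hB C hC hBC
    exact le_antisymm (key B hB C hC hBC) (key C hC B hB hBC.symm)
  have hHle : H.map π ≤ E := by rw [← hmapA]; exact Subgroup.map_mono hle
  have hi' : (H.map π).relIndex E = r := by
    have e1 : Nat.card (H.map π) = Nat.card H := by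
      refine (Nat.card_congr (Equiv.ofBijective (fun a : H => (⟨π a, ⟨a, a.2, rfl⟩⟩ : H.map π)) ⟨fun a b h => ?_, ?_⟩)).symm
      · exact Subtype.ext (h5 a (hle a.2) b (hle b.2) (congrArg Subtype.val h))
      · rintro ⟨_, a, ha, rfl⟩
        exact ⟨⟨a, ha⟩, rfl⟩
    have e2 : Nat.card H * H.relIndex A' = Nat.card A' := by
      have := Subgroup.card_mul_index (H.subgroupOf A')
      rwa [Nat.card_congr (Subgroup.subgroupOfEquivOfLe hle).toEquiv] at this
    have e3 : Nat.card (H.map π) * (H.map π).relIndex E = Nat.card E := by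
      have := Subgroup.card_mul_index ((H.map π).subgroupOf E)
      rwa [Nat.card_congr (Subgroup.subgroupOfEquivOfLe hHle).toEquiv] at this
    rw [hi, h8] at e2
    rw [e1, ← e2] at e3
    exact Nat.eq_of_mul_eq_mul_left Nat.card_pos e3
  obtain ⟨g, hg, hgd⟩ := horb _ hHle hi'
  choose g' hg' using fun i => hπ (g i)
  have hcjmap : ∀ (g : L) (B : Subgroup L), (Orb.cj g B).map π = Orb.cj (π g) (B.map π) := by
    intro g B
    ext x
    constructor
    · rintro ⟨_, ⟨b, hb, rfl⟩, rfl⟩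
      refine ⟨π b, ⟨b, hb, rfl⟩, ?_⟩
      change π g * π b * (π g)⁻¹ = π (g * b * g⁻¹)
      rw [map_mul, map_mul, map_inv]
    · rintro ⟨_, ⟨b, hb, rfl⟩, rfl⟩
      refine ⟨g * b * g⁻¹, ⟨b, hb, rfl⟩, ?_⟩
      change π (g * b * g⁻¹) = π g * π b * (π g)⁻¹
      rw [map_mul, map_mul, map_inv]
  have hcjA : ∀ i, Orb.cj (g' i) A' = A' := by
    intro i
    refine Orb.cj_eq_of_le (Orb.cj_le_iff (h7 (g' i) fun a ha => ?_))
    rw [hg', ← hg i]
    exact Orb.mem_cj ha
  have h10 := hel.pow_le_index (φ := φ) hr2 h2 hle hi hne g' hcjA (fun i j hij hcon => hgd i j hij (by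
    have := congrArg (Subgroup.map π) hcon
    rwa [hcjmap, hcjmap, hg', hg'] at this))
  rw [Fintype.card_fin, ← pow_mul] at h10
  exact ((Nat.pow_le_pow_right (by norm_num) hm).trans h10).trans (Nat.le_of_dvd Nat.card_pos (Subgroup.index_dvd_card _))

end Rows

end Cfsg.Agent.Omega.TwoF.WeightCover

end

section


/-!
# A Frobenius group `7² : SL₂(3)` in a simple group `K` of order divisible by 23: `LB K 24`

`Rel a b u v`: `a`, `b` commute, `a⁷ = 1`, `u`, `v` act on `⟨a, b⟩` as the matrices `(2 6; 0 4)` and `(0 6; 1 0)` over `𝔽₇`, which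
generate `SL₂(3)`, acting semiregularly on the 48 nonzero vectors.
-/

set_option autoImplicit false
set_option maxRecDepth 10000
set_option linter.style.haveILetI false

universe u v w

namespace Cfsg.Agent.Omega.TwoF.FrobSeven

open Cfsg.Agent.Omega.Lie.Heis Cfsg.Agent.Omega.TwoF.WeightCover

section

variable {K : Type*} [Group K]

structure Rel (a b x y : K) : Prop where
  a7 : a ^ 7 = 1
  ab : a * b = b * a
  xa : x * a * x⁻¹ = a ^ 2
  ya : y * a * y⁻¹ = b
  yb : y * b * y⁻¹ = a⁻¹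
  xb : x * b * x⁻¹ = a⁻¹ * b ^ 4
  ne : a ≠ 1

/-- `aⁱ bʲ` -/
def ps (a b : K) (p : ℕ × ℕ) : K := a ^ p.1 * b ^ p.2

/-- the action of `x` and `y` on exponents -/
def lx (p : ℕ × ℕ) : ℕ × ℕ := (2 * p.1 + 6 * p.2, 4 * p.2)
def ly (p : ℕ × ℕ) : ℕ × ℕ := (6 * p.2, p.1)

variable {a b x y : K}

theorem Rel.b7 (h : Rel a b x y) : b ^ 7 = 1 := by
  rw [← h.ya, conj_pow, h.a7, mul_one, mul_inv_cancel]

theorem Rel.comm (h : Rel a b x y) (i j : ℕ) : a ^ i * b ^ j = b ^ j * a ^ i :=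
  ((show Commute a b from h.ab).pow_pow i j)

theorem Rel.ps_add (h : Rel a b x y) (p q : ℕ × ℕ) : ps a b (p.1 + q.1, p.2 + q.2) = ps a b p * ps a b q := by
  unfold ps
  rw [pow_add, pow_add]
  calc a ^ p.1 * a ^ q.1 * (b ^ p.2 * b ^ q.2) = a ^ p.1 * (a ^ q.1 * b ^ p.2) * b ^ q.2 := by group
    _ = a ^ p.1 * (b ^ p.2 * a ^ q.1) * b ^ q.2 := by rw [h.comm]
    _ = a ^ p.1 * b ^ p.2 * (a ^ q.1 * b ^ q.2) := by group

theorem Rel.ps_mul (h : Rel a b x y) (c : ℕ) (p : ℕ × ℕ) : ps a b (c * p.1, c * p.2) = ps a b p ^ c := by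
  unfold ps
  rw [(show Commute (a ^ p.1) (b ^ p.2) from h.comm _ _).mul_pow, ← pow_mul, ← pow_mul, mul_comm c, mul_comm c]

theorem Rel.inv_a (h : Rel a b x y) : a⁻¹ = a ^ 6 := by
  rw [inv_eq_iff_mul_eq_one, ← pow_succ']
  exact h.a7

theorem Rel.lx_spec (h : Rel a b x y) (p : ℕ × ℕ) : x * ps a b p * x⁻¹ = ps a b (lx p) := by
  unfold ps lx
  have e1 : x * (a ^ p.1 * b ^ p.2) * x⁻¹ = (x * a * x⁻¹) ^ p.1 * (x * b * x⁻¹) ^ p.2 := by
    rw [conj_pow, conj_pow]
    group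
  rw [e1, h.xa, h.xb, h.inv_a, (show Commute (a ^ 6) (b ^ 4) from h.comm _ _).mul_pow, ← pow_mul, ← pow_mul, ← pow_mul,
    pow_add, mul_assoc]

theorem Rel.ly_spec (h : Rel a b x y) (p : ℕ × ℕ) : y * ps a b p * y⁻¹ = ps a b (ly p) := by
  unfold ps ly
  have e1 : y * (a ^ p.1 * b ^ p.2) * y⁻¹ = (y * a * y⁻¹) ^ p.1 * (y * b * y⁻¹) ^ p.2 := by
    rw [conj_pow, conj_pow]
    group
  rw [e1, h.ya, h.yb, h.inv_a, ← pow_mul, ← h.comm]

/-- exponents modulo 7 -/
theorem Rel.ps_mod (h : Rel a b x y) (p : ℕ × ℕ) : ps a b p = ps a b (p.1 % 7, p.2 % 7) := by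
  unfold ps
  rw [pow_eq_pow_mod p.1 h.a7, pow_eq_pow_mod p.2 h.b7]

theorem key_irr : ∀ i < 7, ∀ j < 7, (i, j) ≠ (0, 0) → ∃ c < 7, ∃ d < 7,
    (c * i + d * (ly (i, j)).1) % 7 = 1 ∧ (c * j + d * (ly (i, j)).2) % 7 = 0 := by decide +kernel

/-- `aⁱ bʲ = 1` only for `i = j = 0` modulo 7 -/
theorem Rel.inj (h : Rel a b x y) {p : ℕ × ℕ} (hp : ps a b p = 1) : p.1 % 7 = 0 ∧ p.2 % 7 = 0 := by
  by_contra hcon
  rw [h.ps_mod] at hp
  have h1 : (p.1 % 7, p.2 % 7) ≠ (0, 0) := fun h => hcon ⟨congrArg Prod.fst h, congrArg Prod.snd h⟩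
  obtain ⟨c, -, d, -, h2, h3⟩ := key_irr _ (Nat.mod_lt _ (by norm_num)) _ (Nat.mod_lt _ (by norm_num)) h1
  set q : ℕ × ℕ := (p.1 % 7, p.2 % 7) with hq
  have h4 : ps a b (ly q) = 1 := by rw [← h.ly_spec, hp, mul_one, mul_inv_cancel]
  have h5 : ps a b (c * q.1 + d * (ly q).1, c * q.2 + d * (ly q).2) = 1 := by
    have := h.ps_add (c * q.1, c * q.2) (d * (ly q).1, d * (ly q).2)
    rw [h.ps_mul, h.ps_mul, hp, h4, one_pow, one_pow, one_mul] at this
    exact this
  have h2' : (c * q.1 + d * (ly q).1) % 7 = 1 := h2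
  have h3' : (c * q.2 + d * (ly q).2) % 7 = 0 := h3
  rw [h.ps_mod] at h5
  unfold ps at h5
  simp only [h2', h3'] at h5
  apply h.ne
  simpa using h5

/-- the group `⟨a, b⟩` -/
def Rel.A (h : Rel a b x y) : Subgroup K where
  carrier := {z | ∃ p, z = ps a b p}
  one_mem' := ⟨(0, 0), by simp [ps]⟩
  mul_mem' := by
    rintro _ _ ⟨p, rfl⟩ ⟨q, rfl⟩
    exact ⟨_, (h.ps_add p q).symm⟩
  inv_mem' := by
    rintro _ ⟨p, rfl⟩
    refine ⟨(6 * p.1, 6 * p.2), ?_⟩
    rw [h.ps_mul, inv_eq_iff_mul_eq_one, ← pow_succ', ← h.ps_mul, h.ps_mod]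
    simp [ps]

/-- the 24 words (`false = x`, `true = y`) -/
def W : List (List Bool) := [[], [false], [true], [false, false], [true, false], [false, true], [true, true],
  [true, false, false], [false, true, false], [true, true, false], [false, false, true], [true, false, true],
  [true, true, true], [false, true, false, false], [true, true, false, false], [false, false, true, false],
  [true, false, true, false], [true, true, true, false], [false, true, false, true], [true, true, false, true],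
  [false, false, true, false, false], [true, false, true, false, false], [true, true, false, true, false],
  [false, false, true, false, true]]

/-- value of a word -/
def wd (x y : K) (l : List Bool) : K := l.foldr (fun c z => (if c then y else x) * z) 1

/-- action of a word on exponents -/
def wl (l : List Bool) (p : ℕ × ℕ) : ℕ × ℕ := l.foldr (fun c q => if c then ly q else lx q) p

theorem Rel.wd_spec (h : Rel a b x y) (l : List Bool) (p : ℕ × ℕ) :
    wd x y l * ps a b p * (wd x y l)⁻¹ = ps a b (wl l p) := by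
  induction l with
  | nil => simp [wd, wl]
  | cons c l ih =>
    have e1 : wd x y (c :: l) = (if c then y else x) * wd x y l := rfl
    have e2 : wl (c :: l) p = if c then ly (wl l p) else lx (wl l p) := rfl
    rw [e1, e2]
    have e3 : (if c then y else x) * wd x y l * ps a b p * ((if c then y else x) * wd x y l)⁻¹ =
        (if c then y else x) * (wd x y l * ps a b p * (wd x y l)⁻¹) * (if c then y else x)⁻¹ := by group
    rw [e3, ih]
    cases c
    · exact h.lx_spec _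
    · exact h.ly_spec _

def chk : Bool := (List.range 24).all fun s => (List.range 24).all fun t => Nat.beq s t ||
  ((List.range 7).all fun i => (List.range 7).all fun j =>
    !(Nat.beq (((wl (W.getD s []) (i, j)).1 + 6 * (wl (W.getD t []) (i, j)).1) % 7) 0 &&
      Nat.beq (((wl (W.getD s []) (i, j)).2 + 6 * (wl (W.getD t []) (i, j)).2) % 7) 0) ||
      (Nat.beq i 0 && Nat.beq j 0))

theorem chk_eq : chk = true := by decide +kernel

theorem key_free {s t i j : ℕ} (hs : s < 24) (ht : t < 24) (hst : s ≠ t) (hi : i < 7) (hj : j < 7)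
    (h1 : ((wl (W.getD s []) (i, j)).1 + 6 * (wl (W.getD t []) (i, j)).1) % 7 = 0)
    (h2 : ((wl (W.getD s []) (i, j)).2 + 6 * (wl (W.getD t []) (i, j)).2) % 7 = 0) : i = 0 ∧ j = 0 := by
  have h := chk_eq
  unfold chk at h
  rw [List.all_eq_true] at h
  have h3 := h s (List.mem_range.2 hs)
  rw [List.all_eq_true] at h3
  have h4 := h3 t (List.mem_range.2 ht)
  rw [Bool.or_eq_true] at h4
  rcases h4 with h4 | h4
  · exact absurd (Nat.eq_of_beq_eq_true h4) hst
  rw [List.all_eq_true] at h4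
  have h5 := h4 i (List.mem_range.2 hi)
  rw [List.all_eq_true] at h5
  have h6 := h5 j (List.mem_range.2 hj)
  rw [h1, h2, Bool.or_eq_true, Bool.and_eq_true] at h6
  rcases h6 with h6 | h6
  · exact absurd h6 (by decide)
  · exact ⟨Nat.eq_of_beq_eq_true h6.1, Nat.eq_of_beq_eq_true h6.2⟩

end

theorem orderOf_seven : orderOf (2 : ZMod 7) = 3 := by
  haveI : Fact (Nat.Prime 3) := ⟨by norm_num⟩
  exact orderOf_eq_prime (by decide) (by decide)

theorem orderOf_twentythree : orderOf (2 : ZMod 23) = 11 := by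
  haveI : Fact (Nat.Prime 11) := ⟨by norm_num⟩
  exact orderOf_eq_prime (by decide) (by decide)

/-- **`LB K 24`** -/
theorem lb {K : Type u} [Group K] [Finite K] [IsSimpleGroup K] {a b x y : K} (h : Rel a b x y)
    (h23 : 23 ∣ Nat.card K) : LB.{u, v, w} K 24 := by
  have hA : ∀ s ∈ h.A, ∀ t ∈ h.A, s * t = t * s := by
    rintro _ ⟨p, rfl⟩ _ ⟨q, rfl⟩
    rw [← h.ps_add, ← h.ps_add, add_comm, add_comm p.2]
  have hp : IsPGroup 7 h.A := by
    rintro ⟨_, p, rfl⟩
    refine ⟨1, Subtype.ext ?_⟩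
    rw [pow_one]
    change ps a b p ^ 7 = 1
    rw [← h.ps_mul, h.ps_mod]
    simp [ps]
  haveI : Fact (Nat.Prime 7) := ⟨by norm_num⟩
  obtain ⟨n, hn⟩ := IsPGroup.iff_card.1 hp
  have hA1 : h.A ≠ ⊥ := by
    intro hb
    have : a ∈ h.A := ⟨(1, 0), by simp [ps]⟩
    rw [hb] at this
    exact h.ne (Subgroup.mem_bot.1 this)
  refine LB.family (m := 24) hA (by rw [hn]; exact Odd.pow (by decide)) hA1
    (fun s : Fin 24 => wd x y (W.getD s [])) ?_ (fun _ => 0) ?_ (by simp) ?_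
  · rintro s _ ⟨p, rfl⟩
    exact ⟨_, h.wd_spec _ p⟩
  · rintro s t hst _ ⟨p, rfl⟩ heq
    rw [pow_zero, pow_one, pow_one, h.ps_mod p, h.wd_spec, h.wd_spec] at heq
    set q : ℕ × ℕ := (p.1 % 7, p.2 % 7) with hq
    have h1 : ps a b ((wl (W.getD s []) q).1 + 6 * (wl (W.getD t []) q).1,
        (wl (W.getD s []) q).2 + 6 * (wl (W.getD t []) q).2) = 1 := by
      have := h.ps_add (wl (W.getD s []) q) (6 * (wl (W.getD t []) q).1, 6 * (wl (W.getD t []) q).2)
      rw [this, h.ps_mul, heq, ← pow_succ', ← h.ps_mul, h.ps_mod]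
      simp [ps]
    obtain ⟨h2, h3⟩ := h.inj h1
    obtain ⟨h4, h5⟩ := key_free s.2 t.2 (fun e => hst (Fin.ext e)) (Nat.mod_lt p.1 (by norm_num))
      (Nat.mod_lt p.2 (by norm_num)) h2 h3
    rw [h.ps_mod p]
    have h6 : (p.1 % 7, p.2 % 7) = (0, 0) := Prod.ext h4 h5
    rw [h6]
    simp [ps]
  · intro r hr hrA
    rw [hn] at hrA
    have hr7 : r = 7 := (Nat.prime_dvd_prime_iff_eq hr (by norm_num)).1 (hr.dvd_of_dvd_pow hrA)
    subst hr7
    exact Esc.prime (p := 23) (by norm_num) (by norm_num) (by norm_num) h23 (by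
      rw [orderOf_seven, orderOf_twentythree]
      decide)

end Cfsg.Agent.Omega.TwoF.FrobSeven

end

section


/-!
# TABLE 2F, row `Co₁`: every nontrivial action of an odd cover on a 2-group has `|V| ≥ 2 ^ 24`

`7² : SL₂(3) ≤ Co₁` is a Frobenius group with complement of order 24 (`FrobSeven.lb`, matrices in `Co1Mat`).
-/

set_option autoImplicit false

universe u v w

namespace Cfsg.Agent.Omega.TwoF.RowCo1LB

open Cfsg Cfsg.Agent.Omega.TwoF.Co1Mat Cfsg.Agent.CoOneType.CoEval Cfsg.Agent.Omega.TwoF.FrobSeven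
open Cfsg.Agent.Omega.Lie.Heis

abbrev K : Type := Cfsg.Spor.Co1

/-- letters in `Co₁` -/
noncomputable abbrev f (i : ℕ) : K := pr (e i)

theorem inv4 : f 4 = (f 0)⁻¹ := map_inv _ _
theorem inv5 : f 5 = (f 1)⁻¹ := map_inv _ _
theorem inv6 : f 6 = (f 2)⁻¹ := map_inv _ _
theorem inv7 : f 7 = (f 3)⁻¹ := map_inv _ _

theorem rel : Rel (f 0) (f 1) (f 2) (f 3) where
  a7 := by
    have h := eq_one_of_relB rep rel_aa
    simpa [pow_succ, mul_assoc] using h
  ab := by
    have h := eq_one_of_relB rep rel_ab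
    simp only [List.map_cons, List.map_nil, List.prod_cons, List.prod_nil, mul_one] at h
    change f 0 * (f 1 * (f 4 * f 5)) = 1 at h
    rw [inv4, inv5] at h
    calc f 0 * f 1 = f 0 * (f 1 * ((f 0)⁻¹ * (f 1)⁻¹)) * (f 1 * f 0) := by group
      _ = f 1 * f 0 := by rw [h, one_mul]
  xa := by
    have h := eq_one_of_relB rep rel_ua
    simp only [List.map_cons, List.map_nil, List.prod_cons, List.prod_nil, mul_one] at h
    change f 2 * (f 0 * (f 6 * (f 4 * f 4))) = 1 at h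
    rw [inv4, inv6] at h
    calc f 2 * f 0 * (f 2)⁻¹ = f 2 * (f 0 * ((f 2)⁻¹ * ((f 0)⁻¹ * (f 0)⁻¹))) * (f 0 * f 0) := by group
      _ = f 0 ^ 2 := by rw [h, one_mul, pow_two]
  ya := by
    have h := eq_one_of_relB rep rel_va
    simp only [List.map_cons, List.map_nil, List.prod_cons, List.prod_nil, mul_one] at h
    change f 3 * (f 0 * (f 7 * f 5)) = 1 at h
    rw [inv5, inv7] at h
    calc f 3 * f 0 * (f 3)⁻¹ = f 3 * (f 0 * ((f 3)⁻¹ * (f 1)⁻¹)) * f 1 := by group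
      _ = f 1 := by rw [h, one_mul]
  yb := by
    have h := eq_one_of_relB rep rel_vb
    simp only [List.map_cons, List.map_nil, List.prod_cons, List.prod_nil, mul_one] at h
    change f 3 * (f 1 * (f 7 * f 0)) = 1 at h
    rw [inv7] at h
    calc f 3 * f 1 * (f 3)⁻¹ = f 3 * (f 1 * ((f 3)⁻¹ * f 0)) * (f 0)⁻¹ := by group
      _ = (f 0)⁻¹ := by rw [h, one_mul]
  xb := by
    have h := eq_one_of_relB rep rel_ub
    simp only [List.map_cons, List.map_nil, List.prod_cons, List.prod_nil, mul_one] at h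
    change f 2 * (f 1 * (f 6 * (f 5 * (f 5 * (f 5 * (f 5 * f 0)))))) = 1 at h
    rw [inv5, inv6] at h
    calc f 2 * f 1 * (f 2)⁻¹ =
        f 2 * (f 1 * ((f 2)⁻¹ * ((f 1)⁻¹ * ((f 1)⁻¹ * ((f 1)⁻¹ * ((f 1)⁻¹ * f 0)))))) * ((f 0)⁻¹ * f 1 ^ 4) := by
          group
      _ = (f 0)⁻¹ * f 1 ^ 4 := by rw [h, one_mul]
  ne := by
    have h := ne_one_of_neB rep ne_a
    simpa using h

theorem simple : IsSimpleGroup K := Cfsg.Agent.S0399.result.1

theorem card_K : Nat.card K = 4157776806543360000 := Cfsg.Agent.S0399.result.2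

theorem lb : LB.{0, v, w} K 24 := by
  have := simple
  have : Finite K := Nat.finite_of_card_ne_zero (by rw [card_K]; norm_num)
  exact FrobSeven.lb rel (by rw [card_K]; norm_num)

/-- **row `Co₁`, column LB** -/
theorem lb_of_iso {L : Type u} [Group L] (h : Cfsg.Spor.IsoCo1 L) : LB.{u, v, w} L 24 := by
  obtain ⟨φ⟩ := h
  have := simple
  have : Finite K := Nat.finite_of_card_ne_zero (by rw [card_K]; norm_num)
  have : Finite L := Finite.of_equiv K φ.symm.toEquiv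
  have : IsSimpleGroup L := by
    have : Nontrivial L := φ.symm.injective.nontrivial
    exact IsSimpleGroup.isSimpleGroup_of_surjective φ.symm.toMonoidHom φ.symm.surjective
  have hr : Rel (φ.symm (f 0)) (φ.symm (f 1)) (φ.symm (f 2)) (φ.symm (f 3)) := by
    have r := rel
    constructor
    · rw [← map_pow, r.a7, map_one]
    · rw [← map_mul, r.ab, map_mul]
    · rw [← map_mul, ← map_inv, ← map_mul, r.xa, map_pow]
    · rw [← map_mul, ← map_inv, ← map_mul, r.ya]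
    · rw [← map_mul, ← map_inv, ← map_mul, r.yb, map_inv]
    · rw [← map_mul, ← map_inv, ← map_mul, r.xb, map_mul, map_inv, map_pow]
    · intro h1
      exact r.ne (φ.symm.injective (h1.trans (map_one φ.symm).symm))
  exact FrobSeven.lb hr (by rw [Nat.card_congr φ.toEquiv, card_K]; norm_num)

end Cfsg.Agent.Omega.TwoF.RowCo1LB

end
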