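import Cfsg.Agent.Mrg.Omega.TwoF.Tits
import Cfsg.Agent.Omega.TwoF.TitsAut
import Cfsg.Agent.Mrg.Omega.TwoF.RowPSp


/-!
# The Tits group: the involutions of `5² : 4A₄` on modules (helper956)

`K ≅ ²F₄(2)′`, `E = ⟨a, b⟩ = 5²`, `t` of order 4, `e^t = e²` on `E`; `x 1` interchanges `a` and `b`, `x 2` has order 3 and
commutes with `t`.

* `index_grp` : `2^24 ≤ |V : C_V(E)|` for every faithful action on an elementary abelian 2-group `V`;
* **`InvB K`** : two involutions `u₁` (commuting with an element of order 5), `u₂` (commuting with an element of order 3)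
  with `|V : C_V(u_i)| ≥ 2^6` for every nontrivial `V`;
* `invB` : `InvB K` for `IsoTits K`.
-/

set_option autoImplicit false
set_option maxRecDepth 100000

namespace Cfsg.Agent.Omega.TwoF.TitsInv

open Subgroup Cfsg.Agent.Omega.TwoF.Orb Cfsg.Agent.Omega.TwoF.Scalar
open Cfsg.Agent.ClassTwoFusion.Quad Cfsg.Agent.Omega.ML

universe u v w

section abs

variable {K : Type*} [Group K] {a b t : K}

/-- **`2^24 ≤ |V : C_V(E)|`** -/
theorem index_grp (h : Two a b) {x : Fin 6 → K} {n : Fin 6 → ℕ}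
    (hn : ∀ k, n k % 5 ≠ 0) (hg : ∀ k, Good (grp h) t (x k))
    (ha : ∀ k, x k * a * (x k)⁻¹ = (a ^ px k * b ^ qx k) ^ n k) {V : Type*} [CommGroup V] [Finite V]
    (h2 : ∀ v : V, v ^ 2 = 1) (φ : K →* MulAut V) (hE : fx φ (grp h) ≠ ⊤) : 2 ^ 24 ≤ (fx φ (grp h)).index := by
  have : Fact (Nat.Prime 5) := ⟨by norm_num⟩
  have : Fact (Nat.Prime 2) := ⟨Nat.prime_two⟩
  have hV : IsPGroup 2 V := fun x => ⟨1, by rw [pow_one]; exact h2 x⟩
  obtain ⟨H, hH, hi, hne⟩ := (elem_grp h).exists_hyperplane (ℓ := 2) (by norm_num) hV hE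
  obtain ⟨g, hg1, hg2⟩ := points hn hg ha hH hi
  have h3 := (elem_grp h).pow_le_index (ℓ := 2) (by norm_num) hV hH hi hne g (fun i => (hg1 i).1) hg2
  rw [Fintype.card_fin, Nat.cast_ofNat, ord_two, ← pow_mul] at h3
  exact h3

/-- the action of an abstract representation -/
theorem index_cv_eq {V : Type*} [CommGroup V] (φ : K →* MulAut V) (x : K) :
    letI : MulDistribMulAction K V := MulDistribMulAction.compHom V φ
    cv V ({x} : Set K) = fx φ (zpowers x) := by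
  let _ : MulDistribMulAction K V := MulDistribMulAction.compHom V φ
  ext v
  rw [mem_cv_singleton, mem_fx]
  constructor
  · intro h1 y hy
    have h2 : zpowers x ≤ MulAction.stabilizer K v := by
      rw [zpowers_le]
      exact MulAction.mem_stabilizer_iff.2 h1
    exact MulAction.mem_stabilizer_iff.1 (h2 hy)
  · intro h1
    exact h1 x (mem_zpowers x)

/-- **(INV)** for `fx` -/
theorem inv_fx {V : Type*} [CommGroup V] [Finite V] (φ : K →* MulAut V) {x w : K} {n : ℕ} (hx : x * x = 1)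
    (hw : x * w * x⁻¹ = w⁻¹) (ho : Odd n) (hn : w ^ n = 1) :
    (fx φ (zpowers w)).index ≤ (fx φ (zpowers x)).index ^ 2 := by
  let _ : MulDistribMulAction K V := MulDistribMulAction.compHom V φ
  have h1 := InvFrob.inv_index (M := V) hx hw ho hn
  rw [index_cv_eq φ w, index_cv_eq φ x] at h1
  exact h1

theorem conj_fx {V : Type*} [CommGroup V] [Finite V] (φ : K →* MulAut V) (g x : K) :
    (fx φ (zpowers (g * x * g⁻¹))).index = (fx φ (zpowers x)).index := by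
  let _ : MulDistribMulAction K V := MulDistribMulAction.compHom V φ
  have h1 := InvFrob.index_cv_conj (M := V) g x
  rw [index_cv_eq φ (g * x * g⁻¹), index_cv_eq φ x] at h1
  exact h1

/-- `|V : C_V(E)| ≤ |V : C_V(a)| |V : C_V(b)|` -/
theorem index_grp_le (h : Two a b) {V : Type*} [CommGroup V] [Finite V] (φ : K →* MulAut V) :
    (fx φ (grp h)).index ≤ (fx φ (zpowers a)).index * (fx φ (zpowers b)).index := by
  have h1 : fx φ (zpowers a) ⊓ fx φ (zpowers b) ≤ fx φ (grp h) := by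
    rw [← fx_sup]
    refine fx_anti ?_
    rintro _ ⟨i, j, rfl⟩
    exact mul_mem (pow_mem (mem_sup_left (mem_zpowers a)) _) (pow_mem (mem_sup_right (mem_zpowers b)) _)
  calc (fx φ (grp h)).index ≤ (fx φ (zpowers a) ⊓ fx φ (zpowers b)).index :=
        Nat.le_of_dvd (Nat.pos_of_ne_zero Subgroup.FiniteIndex.index_ne_zero) (Subgroup.index_dvd_of_le h1)
    _ ≤ _ := Subgroup.index_inf_le

end abs

/-- two involutions with large commutator spaces -/
def InvB (K : Type v) [Group K] : Prop :=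
  ∃ u₁ u₂ : K, u₁ * u₁ = 1 ∧ u₂ * u₂ = 1 ∧ u₁ ≠ 1 ∧ u₂ ≠ 1 ∧ (∃ g : K, g ^ 5 = 1 ∧ g ≠ 1 ∧ g * u₁ = u₁ * g) ∧
    (∃ g : K, g ^ 3 = 1 ∧ g ≠ 1 ∧ g * u₂ = u₂ * g) ∧
    ∀ (V : Type w) [CommGroup V] [Finite V] (φ : K →* MulAut V), (∀ v : V, v ^ 2 = 1) → φ ≠ 1 →
      2 ^ 6 ≤ (fx φ (zpowers u₁)).index ∧ 2 ^ 6 ≤ (fx φ (zpowers u₂)).index

theorem InvB.equiv {K : Type u} {K' : Type v} [Group K] [Group K'] (e : K ≃* K') (h : InvB.{u, w} K) :
    InvB.{v, w} K' := by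
  obtain ⟨u₁, u₂, h1, h2, h3, h4, ⟨g, h5, h6, h7⟩, ⟨g', h8, h9, h10⟩, H⟩ := h
  refine ⟨e u₁, e u₂, by rw [← map_mul, h1, map_one], by rw [← map_mul, h2, map_one], ?_, ?_,
    ⟨e g, by rw [← map_pow, h5, map_one], ?_, by rw [← map_mul, h7, map_mul]⟩,
    ⟨e g', by rw [← map_pow, h8, map_one], ?_, by rw [← map_mul, h10, map_mul]⟩, ?_⟩
  · intro hc; exact h3 (e.injective (hc.trans (map_one e).symm))
  · intro hc; exact h4 (e.injective (hc.trans (map_one e).symm))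
  · intro hc; exact h6 (e.injective (hc.trans (map_one e).symm))
  · intro hc; exact h9 (e.injective (hc.trans (map_one e).symm))
  intro V _ _ φ hV hφ
  have h11 : φ.comp e.toMonoidHom ≠ 1 := by
    intro hc
    apply hφ
    ext k v
    have h12 := DFunLike.congr_fun hc (e.symm k)
    have h13 : φ (e (e.symm k)) = 1 := h12
    rw [e.apply_symm_apply] at h13
    rw [h13]
    rfl
  have h12 := H V (φ.comp e.toMonoidHom) hV h11
  have h13 : ∀ x : K, fx (φ.comp e.toMonoidHom) (zpowers x) = fx φ (zpowers (e x)) := by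
    intro x
    ext v
    rw [mem_fx, mem_fx]
    constructor
    · rintro h14 _ ⟨n, rfl⟩
      have h15 := h14 (x ^ n) ⟨n, rfl⟩
      have h16 : φ (e (x ^ n)) v = v := h15
      rw [map_zpow] at h16
      exact h16
    · rintro h14 _ ⟨n, rfl⟩
      have h15 := h14 (e x ^ n) ⟨n, rfl⟩
      show φ (e (x ^ n)) v = v
      rw [map_zpow]
      exact h15
  rw [h13, h13] at h12
  exact h12

open Cfsg.Agent.ChevalleyStructure.Tits.Pack Cfsg.Agent.ChevalleyStructure.Tits.Data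
  Cfsg.Agent.ChevalleyStructure.Tits.Sat Cfsg.Agent.ChevalleyStructure.Tits.Final
  Cfsg.Agent.ChevalleyStructure.Tits.Mat Cfsg.Agent.ChevalleyStructure.Tits.Order
  Cfsg.Agent.ChevalleyStructure.Tits.Main Cfsg.Agent.Omega.TwoF.Tits
open scoped MatrixGroups

theorem t4 : t ^ 4 = 1 := by
  apply Subtype.ext
  have h : ((t ^ 4 : C) : H0) = wH (List.replicate 4 wt).flatten := by rw [wH_rep]; rfl
  rw [h]
  exact rel (v := []) (by decide +kernel)

theorem x1_sq : x 1 * x 1 = 1 := by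
  apply Subtype.ext
  show wH (wx 1) * wH (wx 1) = _
  rw [← wH_append]
  exact rel (v := []) (by decide +kernel)

theorem x2_cube : x 2 ^ 3 = 1 := by
  apply Subtype.ext
  have h : ((x 2 ^ 3 : C) : H0) = wH (List.replicate 3 (wx 2)).flatten := by rw [wH_rep]; rfl
  rw [h]
  exact rel (v := []) (by decide +kernel)

theorem x1_a : x 1 * a * (x 1)⁻¹ = b := by
  rw [x_a]
  show a ^ 0 * b ^ 1 = b
  rw [pow_zero, one_mul, pow_one]

theorem x1_b : x 1 * b * (x 1)⁻¹ = a := by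
  rw [x_b]
  show a ^ 1 * b ^ 0 = a
  rw [pow_zero, mul_one, pow_one]

theorem x2_t : x 2 * t = t * x 2 := by
  have h := x_t 2
  have h1 : pe 2 = 0 := rfl
  rw [h1, pow_zero, pow_zero, mul_one, mul_one] at h
  rw [mul_assoc, inv_mul_eq_iff_eq_mul] at h
  exact h.symm

theorem x2_ne : x 2 ≠ 1 := by
  intro h
  have h1 := x_a 2
  rw [h, one_mul, inv_one, mul_one] at h1
  have h2 : a ^ 1 * b ^ 0 = a ^ 1 * b ^ 1 := by
    rw [pow_one, pow_zero, mul_one, pow_one]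
    exact h1.trans (by show a ^ 1 * b ^ 1 = a * b; rw [pow_one, pow_one])
  have h3 := (two.eq_iff 1 0 1 1).1 h2
  omega

theorem a_ne : a ≠ 1 := a1

theorem inv_of_pow {w : C} (h5 : w ^ 5 = 1) : w ^ 4 = w⁻¹ := by
  rw [eq_inv_iff_mul_eq_one, ← pow_succ]
  exact h5

theorem tt_a : (t * t) * a * (t * t)⁻¹ = a⁻¹ := by
  have h1 : (t * t) * a * (t * t)⁻¹ = t * (t * a * t⁻¹) * t⁻¹ := by group
  have h2 : t * a ^ 2 * t⁻¹ = (t * a * t⁻¹) ^ 2 := by rw [conj_pow]
  rw [h1, ta, h2, ta, ← pow_mul]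
  exact inv_of_pow a5

theorem tt_b : (t * t) * b * (t * t)⁻¹ = b⁻¹ := by
  have h1 : (t * t) * b * (t * t)⁻¹ = t * (t * b * t⁻¹) * t⁻¹ := by group
  have h2 : t * b ^ 2 * t⁻¹ = (t * b * t⁻¹) ^ 2 := by rw [conj_pow]
  rw [h1, tb, h2, tb, ← pow_mul]
  exact inv_of_pow b5

theorem tt_sq : (t * t) * (t * t) = 1 := by
  calc (t * t) * (t * t) = t ^ 2 * t ^ 2 := by rw [pow_two]
    _ = t ^ (2 + 2) := (pow_add t 2 2).symm
    _ = 1 := t4

theorem tt_ne : t * t ≠ 1 := by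
  intro h
  have h1 := tt_a
  rw [h, one_mul, inv_one, mul_one] at h1
  have h2 : a ^ 2 * b ^ 0 = a ^ 0 * b ^ 0 := by
    rw [pow_zero, mul_one, pow_zero, mul_one, pow_two]
    nth_rewrite 1 [h1]
    rw [inv_mul_cancel]
  have h3 := (two.eq_iff 2 0 0 0).1 h2
  omega

theorem x1_ne : x 1 ≠ 1 := by
  intro h
  have h1 := x1_a
  rw [h, one_mul, inv_one, mul_one] at h1
  exact b1 (h1 ▸ mem_zpowers _)

theorem x1_c : x 1 * (a * b) = (a * b) * x 1 := by
  have h1 : x 1 * (a * b) * (x 1)⁻¹ = (x 1 * a * (x 1)⁻¹) * (x 1 * b * (x 1)⁻¹) := by group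
  rw [x1_a, x1_b, ← comm_ab] at h1
  rwa [mul_inv_eq_iff_eq_mul] at h1

theorem ab_ne : a * b ≠ 1 := by
  intro h
  have h2 : a ^ 1 * b ^ 1 = a ^ 0 * b ^ 0 := by rw [pow_one, pow_one, pow_zero, pow_zero, mul_one, h]
  have h3 := (two.eq_iff 1 1 0 0).1 h2
  omega

theorem ab_pow : (a * b) ^ 5 = 1 := by
  have h1 := (elem_grp two).pow (a ^ 1 * b ^ 1) ⟨1, 1, rfl⟩
  rwa [pow_one, pow_one] at h1

/-- `x 1` inverts `a b⁻¹ = x 5 a (x 5)⁻¹` -/
theorem x1_inv : x 1 * (x 5 * a * (x 5)⁻¹) * (x 1)⁻¹ = (x 5 * a * (x 5)⁻¹)⁻¹ := by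
  have h1 : x 5 * a * (x 5)⁻¹ = a * b⁻¹ := by
    rw [x_a]
    show a ^ 1 * b ^ 4 = a * b⁻¹
    rw [pow_one, inv_of_pow b5]
  have h2 : x 1 * (a * b⁻¹) * (x 1)⁻¹ = (x 1 * a * (x 1)⁻¹) * (x 1 * b * (x 1)⁻¹)⁻¹ := by group
  rw [h1, h2, x1_a, x1_b]
  group

theorem invB_C : InvB.{0, w} C := by
  have hsim : IsSimpleGroup C := H0_result.2.1
  refine ⟨x 1, t * t, x1_sq, tt_sq, x1_ne, tt_ne, ⟨a * b, ab_pow, ab_ne, x1_c.symm⟩,
    ⟨x 2, x2_cube, x2_ne, ?_⟩, ?_⟩
  · rw [← mul_assoc, x2_t, mul_assoc, x2_t, mul_assoc]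
  intro V _ _ φ hV hφ
  have hker : φ.ker = ⊥ := by
    rcases hsim.eq_bot_or_eq_top_of_normal φ.ker inferInstance with h1 | h1
    · exact h1
    · exfalso
      apply hφ
      ext k v
      have h2 : k ∈ φ.ker := h1 ▸ mem_top k
      rw [MonoidHom.mem_ker.1 h2]
      rfl
  have hE : fx φ (grp two) ≠ ⊤ := by
    intro htop
    apply a_ne
    have h1 : a ∈ φ.ker := by
      rw [MonoidHom.mem_ker]
      ext v
      have h2 : v ∈ fx φ (grp two) := htop ▸ mem_top v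
      have h3 := mem_fx.1 h2 a ⟨1, 0, by rw [pow_one, pow_zero, mul_one]⟩
      rw [h3]
      rfl
    rw [hker] at h1
    exact mem_bot.1 h1
  have h24 := index_grp two (n := fun _ => 1) (fun _ => by decide) good (fun k => by rw [pow_one]; exact x_a k) hV φ hE
  have hle := h24.trans (index_grp_le two φ)
  have hodd : Odd 5 := by decide
  -- `b` is a conjugate of `a`
  have hb : (fx φ (zpowers b)).index = (fx φ (zpowers a)).index := by
    rw [← x1_a]
    exact conj_fx φ (x 1) a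
  rw [hb] at hle
  have key : ∀ n : ℕ, (fx φ (zpowers a)).index ≤ n ^ 2 → 2 ^ 6 ≤ n := by
    intro n hn
    by_contra hc
    push Not at hc
    have h1 : n ^ 2 < (2 ^ 6) ^ 2 := Nat.pow_lt_pow_left hc (by norm_num)
    have h2 : (fx φ (zpowers a)).index < 2 ^ 12 := by
      refine lt_of_le_of_lt hn (lt_of_lt_of_eq h1 (by norm_num))
    have h3 : (fx φ (zpowers a)).index * (fx φ (zpowers a)).index < 2 ^ 12 * 2 ^ 12 :=
      Nat.mul_lt_mul'' h2 h2
    have h4 : (2 : ℕ) ^ 12 * 2 ^ 12 = 2 ^ 24 := by norm_num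
    omega
  constructor
  · apply key
    have h1 := inv_fx φ x1_sq x1_inv hodd (by
      rw [conj_pow, a5, mul_one, mul_inv_cancel])
    rwa [conj_fx] at h1
  · exact key _ (inv_fx φ tt_sq tt_a hodd a5)

theorem invB_aux (T : Subgroup (GL I52 (ZMod 2))) (hT : T = H0) : InvB.{0, w} (commutator T) := by
  subst hT
  exact invB_C

theorem invB_of {G : Type*} {K : Type v} [Group G] [Group K] (T : Subgroup G) (h : InvB.{_, w} (commutator T))
    (e : K ≃* commutator T) : InvB.{v, w} K := h.equiv e.symm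

/-- **the Tits group** -/
theorem invB {K : Type v} [Group K] (h : Cfsg.Lie.IsoTits K) : InvB.{v, w} K := by
  obtain ⟨T, hT, ⟨e⟩⟩ := TitsAut.exists_equiv h
  exact invB_of T (invB_aux T hT) e

end Cfsg.Agent.Omega.TwoF.TitsInv
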