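import Cfsg.Agent.Mrg.Omega.Lie.HeisF
import Cfsg.Agent.S1054

section


/-!
# `E₇(q)`, `q` odd: the Heisenberg bound `2 q ^ 16`
-/

set_option autoImplicit false

universe u v w

namespace Cfsg.Agent.Omega.TwoF.E7Odd

open Cfsg.Lie Cfsg.Agent.Omega.Lie.Heis Cfsg.Agent.Omega.TwoF.ChevHeis

/-- the pairs `(α, β, m)`, `α + β` the highest root -/
def prs : List (ℕ × ℕ × ℤ) :=
  [(124, 93, -1), (94, 123, -1), (95, 122, 1), (96, 121, -1), (97, 120, 1), (98, 119, -1),
   (99, 118, -1), (100, 117, 1), (101, 116, -1), (102, 115, 1), (103, 114, -1), (104, 113, 1),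
   (105, 112, -1), (106, 111, -1), (107, 110, 1), (108, 109, -1)]

/-- decompositions of roots -/
def ex : List (ℕ × ℕ × ℕ × ℕ × ℤ) :=
  [(125, 125, 93, 124, 1), (124, 124, 32, 125, 1), (94, 94, 2, 125, 1), (95, 95, 3, 125, -1),
   (96, 96, 4, 125, 1), (97, 97, 5, 125, -1), (98, 98, 6, 125, 1), (99, 99, 7, 125, 1),
   (100, 100, 8, 125, -1), (101, 101, 9, 125, 1), (102, 102, 10, 125, -1), (103, 103, 11, 125, 1),
   (104, 104, 12, 125, -1), (105, 105, 13, 125, 1), (106, 106, 14, 125, 1), (107, 107, 15, 125, -1),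
   (108, 108, 16, 125, 1)]

theorem chk_eq : chk chevE7 125 0 prs ex = true := by decide +kernel

/-- **`LB` for `E₇(q)`, `q` odd.** -/
theorem lb (F : Type u) [Field F] [Finite F] (h2 : (2 : F) ≠ 0) :
    LB.{u, v, w} (chevE7.group F) (2 * Nat.card F ^ 16) := by
  have := (Cfsg.Agent.S1054.result (F := F) chevE7 (by simp)).1
  exact lb_of_chk (by simp [Cfsg.Agent.ChevalleyStructure.Elts.InList]) F h2 chk_eq

end Cfsg.Agent.Omega.TwoF.E7Odd

end

section


/-!
# `E₈(q)`, `q` odd: the Heisenberg bound `2 q ^ 28`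
-/

set_option autoImplicit false

universe u v w

namespace Cfsg.Agent.Omega.TwoF.E8Odd

open Cfsg.Lie Cfsg.Agent.Omega.Lie.Heis Cfsg.Agent.Omega.TwoF.ChevHeis

/-- the pairs `(α, β, m)`, `α + β` the highest root -/
def prs : List (ℕ × ℕ × ℤ) :=
  [(238, 120, -1), (122, 237, 1), (125, 236, 1), (129, 235, 1), (134, 234, 1), (140, 233, 1),
   (146, 232, 1), (151, 231, -1), (155, 230, 1), (158, 229, -1), (160, 228, 1), (227, 161, 1),
   (168, 225, 1), (173, 224, -1), (177, 223, 1), (180, 222, -1), (182, 221, 1), (220, 183, 1),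
   (187, 218, -1), (190, 217, 1), (192, 216, -1), (215, 193, -1), (196, 213, -1), (198, 212, 1),
   (211, 199, 1), (201, 209, -1), (208, 202, -1), (206, 203, 1)]

/-- decompositions of roots -/
def ex : List (ℕ × ℕ × ℕ × ℕ × ℤ) :=
  [(239, 239, 120, 238, 1), (238, 238, 119, 239, 1), (122, 122, 2, 239, -1), (125, 125, 3, 239, -1),
   (129, 129, 4, 239, -1), (134, 134, 5, 239, -1), (140, 140, 6, 239, -1), (146, 146, 7, 239, -1),
   (151, 151, 8, 239, 1), (155, 155, 9, 239, -1), (158, 158, 10, 239, 1), (160, 160, 11, 239, -1),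
   (227, 227, 78, 239, -1), (168, 168, 14, 239, -1), (173, 173, 15, 239, 1), (177, 177, 16, 239, -1),
   (180, 180, 17, 239, 1), (182, 182, 18, 239, -1), (220, 220, 56, 239, -1), (187, 187, 21, 239, 1),
   (190, 190, 22, 239, -1), (192, 192, 23, 239, 1), (215, 215, 46, 239, 1), (196, 196, 26, 239, 1),
   (198, 198, 27, 239, -1), (211, 211, 40, 239, -1), (201, 201, 30, 239, 1), (208, 208, 37, 239, 1),
   (206, 206, 36, 239, -1)]

theorem chk_eq : chk chevE8 239 7 prs ex = true := by decide +kernel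

/-- **`LB` for `E₈(q)`, `q` odd.** -/
theorem lb (F : Type u) [Field F] [Finite F] (h2 : (2 : F) ≠ 0) :
    LB.{u, v, w} (chevE8.group F) (2 * Nat.card F ^ 28) := by
  have := (Cfsg.Agent.S1054.result (F := F) chevE8 (by simp)).1
  exact lb_of_chk (by simp [Cfsg.Agent.ChevalleyStructure.Elts.InList]) F h2 chk_eq

end Cfsg.Agent.Omega.TwoF.E8Odd

end
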