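import Cfsg.Agent.Mrg.Omega.TwoF.LargeRk
import Cfsg.Agent.Omega.KFacts
import Cfsg.Agent.KFacts.MonsterE
import Cfsg.Agent.KFacts.Co1.YBig
import Cfsg.Agent.MonsterX.InstanceFinal
import Cfsg.Agent.MonsterP.Equiv
import Cfsg.Agent.ClassificationK.GTwoModel
import Mathlib
import Cfsg.Agent.Schreier.BNUse
import Cfsg.Agent.Omega.TwoF.Defs
import Cfsg.Agent.Mrg.Omega.TwoF.SignLift
import Cfsg.Agent.Schreier.ThreeD4
import Cfsg.Agent.Schreier.ChevSch
import Cfsg.Agent.Schreier.BNTwisted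
import Cfsg.Agent.Schreier.TwESix

section


/-!
# TABLE 2F: the row M (helper416)

`m_2(Co1) ≤ 17` (an extraspecial subgroup of order `2 ^ 9`), so `m_2(M) ≤ 30`, and
`|M : C(z)| = 5791748068511982636944259375 ≥ 2 ^ 92`: the counting kill.
-/

set_option autoImplicit false

namespace Cfsg.Agent.Omega.TwoF.RowM

open Subgroup
open Cfsg.Spor (Co1)
open Cfsg.Agent.MonsterX.Model Cfsg.Agent.MonsterX.MainSimple Cfsg.Agent.MonsterX.MainBasic

universe u

theorem card_Co1 : Nat.card Co1 = 4157776806543360000 := Cfsg.Agent.S0399.result.2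

theorem finite_Co1 : Finite Co1 := Nat.finite_of_card_ne_zero (by rw [card_Co1]; norm_num)

theorem factorization_Co1 : (Nat.card Co1).factorization 2 ≤ 21 := by
  rw [card_Co1]
  by_contra hcon
  have h1 : 2 ^ 22 ∣ 4157776806543360000 :=
    (Nat.prime_two.pow_dvd_iff_le_factorization (by norm_num)).2 (by omega)
  norm_num at h1

/-- `m_2(Co1) ≤ 17` -/
theorem card_le_Co1 (B : Subgroup Co1) (hB : Rk.El B) : Nat.card B ≤ 2 ^ 17 := by
  have := finite_Co1
  have : Fact (Nat.Prime 2) := ⟨Nat.prime_two⟩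
  obtain ⟨o, ho⟩ := Cfsg.Agent.CoOneType.ClosingCo1.exists_octad
  have hl := Cfsg.Agent.KFacts.Co1.InCo1.large ho
  have hc : Nat.card (Cfsg.Agent.KFacts.Co1.InCo1.RCo1 o) = 2 ^ (2 * 4 + 1) := by
    rw [Cfsg.Agent.KFacts.Co1.YBig.card_R ho]
    norm_num
  have h1 := Rk.card_mul_le hB (IsPGroup.of_card hc) (m := 2 ^ (4 + 1))
    fun A hA hAe => LargeRk.card_le_of_large hl hc.le hA hAe
  rw [hc] at h1
  have h2 : 2 ^ (Nat.card Co1).factorization 2 ≤ 2 ^ 21 := Nat.pow_le_pow_right (by norm_num) factorization_Co1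
  have h3 : Nat.card B * 2 ^ (2 * 4 + 1) ≤ 2 ^ 21 * 2 ^ (4 + 1) := h1.trans (Nat.mul_le_mul_right _ h2)
  norm_num at h3 ⊢
  omega

/-- the order of `C_K(z)` -/
theorem card_cent {K : Type*} [Group K] {Q : Subgroup K} {z : K} {L : Type*} [Group L]
    {π : centralizer ({z} : Set K) →* L} (D : Cfsg.Agent.KFacts.LargeSheet.Data Q z L π) :
    Nat.card (centralizer ({z} : Set K)) = Nat.card Q * Nat.card L := by
  have h1 := π.ker.card_mul_index
  rw [index_ker, MonoidHom.range_eq_top.2 D.surj, card_top] at h1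
  rw [← h1]
  congr 1
  refine Nat.card_congr ⟨fun x => ⟨x, (D.ker _).1 x.2⟩, fun q => ⟨⟨q, mem_centralizer_singleton_iff.2
    (D.large.comm_z q q.2)⟩, (D.ker _).2 q.2⟩, fun x => rfl, fun q => rfl⟩

variable {W : Type} [AddCommGroup W] [Module ℚ W] {M : MData W}

theorem kill2_model (hG : MGroup M Co1) (hR : MRep M) (hL : MLat M) (hO : MOrbit M) (hT : MTrans M) :
    Kill2.{u} M.G := by
  have hfin := G_finite hO
  have hco := Cfsg.Agent.KFacts.MonsterE.simple_Co1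
  obtain ⟨π, D⟩ := Cfsg.Agent.KFacts.MonsterE.data_model hG hR hL hO hT
  have hcard := Cfsg.Agent.MonsterX.MainOrder.card_G hG hR hL hO
  have hQ : Nat.card (M.Q.subgroupOf M.G) = 2 ^ 25 := by
    rw [← hG.Q_card]
    exact Nat.card_congr (subgroupOfEquivOfLe (hG.Q_le.trans C_le)).toEquiv
  refine LargeRk.kill2_of_data D (w := 12) (l := 17) hQ.le card_le_Co1 ?_
  have h1 := (centralizer ({zG hG} : Set M.G)).card_mul_index
  rw [hcard, card_cent D, hQ, card_Co1] at h1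
  have h2 : (centralizer ({zG hG} : Set M.G)).index = 5791748068511982636944259375 := by omega
  rw [h2]
  norm_num

/-- **Row M of TABLE 2F.** -/
theorem row : KFacts.KillRow.{u} @Cfsg.Spor.IsoM := by
  rintro K _ ⟨e⟩
  obtain ⟨f⟩ := Cfsg.Agent.MonsterP.Equiv.equiv
  exact (kill2_model Cfsg.Agent.MonsterX.Instance.mGroup Cfsg.Agent.MonsterX.Instance.mRep
    Cfsg.Agent.MonsterX.Instance.mLat Cfsg.Agent.MonsterX.InstanceFinal.mOrbit
    Cfsg.Agent.MonsterX.Instance.mTrans).equiv (e.trans f)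

end Cfsg.Agent.Omega.TwoF.RowM

end

section


/-!
# The 2-rank of the Sylow 2-subgroup of `G₂(q)`, `q` odd (TABLE 2F)

`card_le_T`: a subgroup of `T (2 * n)`, `n ≥ 1`, with all squares trivial has order at most 8.
-/

set_option autoImplicit false

namespace Cfsg.Agent.Omega.TwoF.GTwoInn

open Cfsg.Agent.ClassificationK.GTwoModel Subgroup

variable {m : ℕ}

/-- at most two elements of order at most two in a cyclic group -/
theorem card_two_torsion [NeZero m] : Nat.card {x : ZMod m // x + x = 0} ≤ 2 := by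
  classical
  have h := IsAddCyclic.card_nsmul_eq_zero_le (α := ZMod m) (n := 2) (by norm_num)
  rw [Nat.card_eq_fintype_card, Fintype.card_subtype]
  refine le_trans (le_of_eq ?_) h
  congr 1
  ext x
  simp [two_mul]

/-- the two signs -/
def sgn : Bool → ℤˣ
  | true => -1
  | false => 1

theorem sgn_xor (a b : Bool) : sgn (xor a b) = sgn a * sgn b := by
  cases a <;> cases b <;> decide

theorem sgn_eq_one {a : Bool} : sgn a = 1 ↔ a = false := by
  cases a <;> decide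

/-- the quotient of `T m` by the abelian subgroup -/
def quo (m : ℕ) : T m →* ℤˣ × ℤˣ where
  toFun x := (sgn x.e, sgn x.d)
  map_one' := rfl
  map_mul' x y := by
    obtain ⟨i, j, e, d⟩ := x
    obtain ⟨i', j', e', d'⟩ := y
    rw [T.mul_mk]
    exact Prod.ext (sgn_xor e e') (sgn_xor d d')

theorem mem_ker_quo {x : T m} : x ∈ (quo m).ker ↔ x.e = false ∧ x.d = false := by
  rw [MonoidHom.mem_ker]
  constructor
  · intro h
    exact ⟨sgn_eq_one.1 (congrArg Prod.fst h), sgn_eq_one.1 (congrArg Prod.snd h)⟩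
  · rintro ⟨h1, h2⟩
    exact Prod.ext (sgn_eq_one.2 h1) (sgn_eq_one.2 h2)

/-- **the 2-rank of `T m` is at most three.** -/
theorem card_le_T [NeZero m] (A : Subgroup (T m)) (hA : ∀ a ∈ A, a * a = 1) : Nat.card A ≤ 8 := by
  classical
  have hfin : Finite (T m) := Finite.of_equiv _ (T.equivProd m).symm
  let f : A →* ℤˣ × ℤˣ := (quo m).comp A.subtype
  have h1 := f.ker.card_mul_index
  rw [Subgroup.index_ker] at h1
  have hker : ∀ a : f.ker, ((a : A) : T m).e = false ∧ ((a : A) : T m).d = false := fun a =>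
    mem_ker_quo.1 (MonoidHom.mem_ker.1 a.2)
  have hsq : ∀ a : f.ker, ((a : A) : T m).i + ((a : A) : T m).i = 0 ∧ ((a : A) : T m).j + ((a : A) : T m).j = 0 := by
    intro a
    have h2 := hA (a : A) (a : A).2
    obtain ⟨h3, h4⟩ := hker a
    generalize ((a : A) : T m) = x at h2 h3 h4
    obtain ⟨i, j, e, d⟩ := x
    simp only at h3 h4
    subst h3 h4
    rw [T.mul_mk, T.one_def] at h2
    simp only [sg_false, cond_false, one_mul, T.mk.injEq] at h2
    exact ⟨h2.1, h2.2.1⟩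
  by_cases hd : ∃ b ∈ A, b.d = true
  · -- some element swaps
    obtain ⟨b, hb, hbd⟩ := hd
    have h2 : Nat.card f.ker ≤ 2 := by
      refine le_trans ?_ (card_two_torsion (m := m))
      refine Nat.card_le_card_of_injective (fun a : f.ker => (⟨((a : A) : T m).i, (hsq a).1⟩ :
        {x : ZMod m // x + x = 0})) ?_
      have hij : ∀ a : f.ker, ((a : A) : T m).j = ((a : A) : T m).i := by
        intro a
        have hc : b * ((a : A) : T m) = ((a : A) : T m) * b := by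
          have h3 := hA _ (mul_mem hb (a : A).2)
          have h4 := hA b hb
          have h5 := hA _ (a : A).2
          calc b * ((a : A) : T m) = (b * b) * (b * ((a : A) : T m)) * (((a : A) : T m) * ((a : A) : T m)) := by
                rw [h4, h5, one_mul, mul_one]
            _ = b * (b * (b * ((a : A) : T m)) * ((a : A) : T m)) * ((a : A) : T m) := by group
            _ = ((a : A) : T m) * b := by
                have h6 : b * ((a : A) : T m) * (b * ((a : A) : T m)) = 1 := h3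
                have h7 : ((a : A) : T m) * b = b⁻¹ * ((a : A) : T m)⁻¹ := by
                  rw [← mul_inv_rev, eq_inv_iff_mul_eq_one]
                  calc ((a : A) : T m) * b * (((a : A) : T m) * b)
                      = b⁻¹ * (b * ((a : A) : T m) * (b * ((a : A) : T m))) * b := by group
                    _ = 1 := by rw [h6]; group
                have h8 : b⁻¹ = b := inv_eq_of_mul_eq_one_left h4
                have h9 : ((a : A) : T m)⁻¹ = ((a : A) : T m) := inv_eq_of_mul_eq_one_left h5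
                rw [h7, h8, h9]
                calc b * (b * (b * ((a : A) : T m)) * ((a : A) : T m)) * ((a : A) : T m)
                    = (b * b) * (b * (((a : A) : T m) * ((a : A) : T m))) * ((a : A) : T m) := by group
                  _ = _ := by rw [h4, h5, one_mul, mul_one]
        obtain ⟨h3, h4⟩ := hker a
        obtain ⟨h5, h6⟩ := hsq a
        generalize ((a : A) : T m) = x at hc h3 h4 h5 h6 ⊢
        obtain ⟨i, j, e, d⟩ := x
        obtain ⟨i', j', e', d'⟩ := b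
        simp only at h3 h4 h5 h6 hbd ⊢
        subst h3 h4 hbd
        rw [T.mul_mk, T.mul_mk] at hc
        simp only [sg_false, cond_false, cond_true, one_mul, T.mk.injEq] at hc
        have h7 := hc.1
        rw [add_comm i i'] at h7
        have h8 := add_left_cancel h7
        cases e'
        · simpa using h8
        · rw [sg_true, neg_one_mul] at h8
          rw [← h8, eq_neg_iff_add_eq_zero]
          exact h6
      intro a a' haa
      have h3 : ((a : A) : T m).i = ((a' : A) : T m).i := congrArg Subtype.val haa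
      apply Subtype.ext
      apply Subtype.ext
      apply T.ext
      · exact h3
      · rw [hij, hij, h3]
      · rw [(hker a).1, (hker a').1]
      · rw [(hker a).2, (hker a').2]
    have h3 : Nat.card f.range ≤ 4 := by
      refine le_trans (Subgroup.card_le_card_group f.range) ?_
      rw [Nat.card_eq_fintype_card]
      decide
    rw [← h1]
    calc Nat.card f.ker * Nat.card f.range ≤ 2 * 4 := Nat.mul_le_mul h2 h3
      _ = 8 := rfl
  · -- no element swaps
    have hd' : ∀ b ∈ A, b.d = false := by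
      intro b hb
      by_contra h
      exact hd ⟨b, hb, by simpa using h⟩
    have h2 : Nat.card f.ker ≤ 4 := by
      have h4 : Nat.card ({x : ZMod m // x + x = 0} × {x : ZMod m // x + x = 0}) ≤ 2 * 2 := by
        rw [Nat.card_prod]
        exact Nat.mul_le_mul card_two_torsion card_two_torsion
      refine le_trans ?_ h4
      refine Nat.card_le_card_of_injective (fun a : f.ker => ((⟨((a : A) : T m).i, (hsq a).1⟩ :
        {x : ZMod m // x + x = 0}), (⟨((a : A) : T m).j, (hsq a).2⟩ : {x : ZMod m // x + x = 0}))) ?_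
      intro a a' haa
      have h3 : ((a : A) : T m).i = ((a' : A) : T m).i := congrArg (fun z => (z.1 : ZMod m)) haa
      have h5 : ((a : A) : T m).j = ((a' : A) : T m).j := congrArg (fun z => (z.2 : ZMod m)) haa
      apply Subtype.ext
      apply Subtype.ext
      apply T.ext
      · exact h3
      · exact h5
      · rw [(hker a).1, (hker a').1]
      · rw [(hker a).2, (hker a').2]
    have h3 : Nat.card f.range ≤ 2 := by
      have h4 : Nat.card ℤˣ ≤ 2 := by
        rw [Nat.card_eq_fintype_card]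
        decide
      refine le_trans ?_ h4
      refine Nat.card_le_card_of_injective (fun x : f.range => (x : ℤˣ × ℤˣ).1) ?_
      rintro ⟨_, a, rfl⟩ ⟨_, a', rfl⟩ haa
      apply Subtype.ext
      have h5 : (f a).1 = (f a').1 := haa
      refine Prod.ext h5 ?_
      show sgn (a : T m).d = sgn (a' : T m).d
      rw [hd' _ a.2, hd' _ a'.2]
    rw [← h1]
    calc Nat.card f.ker * Nat.card f.range ≤ 4 * 2 := Nat.mul_le_mul h2 h3
      _ = 8 := rfl

/-- elementary abelian 2-subgroups of a finite group whose Sylow 2-subgroups are isomorphic to `T m` -/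
theorem card_le_of_sylow {K : Type*} [Group K] [Finite K] [NeZero m]
    (h : ∀ P : Sylow 2 K, Nonempty (T m ≃* ↥(P : Subgroup K))) (E : Subgroup K) (hE : ∀ x ∈ E, x * x = 1) :
    Nat.card E ≤ 2 ^ 3 := by
  have hp : IsPGroup 2 E := by
    intro x
    refine ⟨1, Subtype.ext ?_⟩
    rw [pow_one, pow_two]
    exact hE x x.2
  obtain ⟨P, hP⟩ := hp.exists_le_sylow
  obtain ⟨e⟩ := h P
  let g : E →* T m := e.symm.toMonoidHom.comp (Subgroup.inclusion hP)
  have hg : Function.Injective g := e.symm.injective.comp (Subgroup.inclusion_injective hP)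
  have h1 := card_le_T g.range (by
    rintro _ ⟨x, rfl⟩
    rw [← map_mul, show x * x = 1 from Subtype.ext (hE x x.2), map_one])
  rw [← Nat.card_congr (MonoidHom.ofInjective hg).toEquiv] at h1
  exact h1

/-- the same, the parameter of the model depending on the Sylow subgroup -/
theorem card_le_of_sylow' {K : Type*} [Group K] [Finite K]
    (h : ∀ P : Sylow 2 K, ∃ m : ℕ, m ≠ 0 ∧ Nonempty (T m ≃* ↥(P : Subgroup K))) (E : Subgroup K)
    (hE : ∀ x ∈ E, x * x = 1) : Nat.card E ≤ 2 ^ 3 := by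
  have hp : IsPGroup 2 E := by
    intro x
    refine ⟨1, Subtype.ext ?_⟩
    rw [pow_one, pow_two]
    exact hE x x.2
  obtain ⟨P, hP⟩ := hp.exists_le_sylow
  obtain ⟨m, hm, ⟨e⟩⟩ := h P
  have : NeZero m := ⟨hm⟩
  let g : E →* T m := e.symm.toMonoidHom.comp (Subgroup.inclusion hP)
  have hg : Function.Injective g := e.symm.injective.comp (Subgroup.inclusion_injective hP)
  have h1 := card_le_T g.range (by
    rintro _ ⟨x, rfl⟩
    rw [← map_mul, show x * x = 1 from Subtype.ext (hE x x.2), map_one])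
  rw [← Nat.card_congr (MonoidHom.ofInjective hg).toEquiv] at h1
  exact h1

end Cfsg.Agent.Omega.TwoF.GTwoInn

end

section


/-!
# Rigidity of automorphisms of groups with a (B, N)-pair (TABLE 2F, outer part)

`Out.eq_one`: `K` finite with a (B, N)-pair with nodes `V s` (`U` a `p`-group normal in `B`, `core B = 1`), `D` an
`l`-group of automorphisms of `K`, `l ≠ p`, fixing `U`, `B`, all minimal parabolics and acting trivially on all
sections `U/V s`: then `D = 1`.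
-/

set_option autoImplicit false

namespace Cfsg.Agent.Omega.TwoF.Out

open Cfsg.Agent.Schreier.Basic Cfsg.Agent.Schreier.Tools Cfsg.Agent.Schreier.BNSch

variable {K : Type*} [Group K]

/-! ### The covering criterion -/

/-- If every element of the generating family `X` satisfies `x ∈ C_K(φ) B x'`-covering then `φ = 1`. -/
theorem eq_one_of_cover (B : Subgroup K) (hcore : B.normalCore = ⊥) (X : Set K)
    (hgen : Subgroup.closure X = ⊤) (φ : MulAut K) (hB : ∀ b ∈ B, φ b ∈ B)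
    (h : ∀ b ∈ B, ∀ x ∈ X, ∃ m, φ m = m ∧ m⁻¹ * (b * x) ∈ B)
    (h' : ∀ b ∈ B, ∀ x ∈ X, ∃ m, φ m = m ∧ m⁻¹ * (b * x⁻¹) ∈ B) : φ = 1 := by
  have key : ∀ g : K, ∃ m, φ m = m ∧ m⁻¹ * g ∈ B := by
    intro g
    have hg : g ∈ Subgroup.closure X := by rw [hgen]; trivial
    induction hg using Subgroup.closure_induction_right with
    | one => exact ⟨1, map_one φ, by simp⟩
    | mul_right y _ x hx ih =>
      obtain ⟨m, hm, hb⟩ := ih
      obtain ⟨m', hm', hb'⟩ := h _ hb x hx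
      refine ⟨m * m', by rw [map_mul, hm, hm'], ?_⟩
      have : (m * m')⁻¹ * (y * x) = m'⁻¹ * (m⁻¹ * y * x) := by group
      rw [this]
      exact hb'
    | mul_inv_cancel y _ x hx ih =>
      obtain ⟨m, hm, hb⟩ := ih
      obtain ⟨m', hm', hb'⟩ := h' _ hb x hx
      refine ⟨m * m', by rw [map_mul, hm, hm'], ?_⟩
      have : (m * m')⁻¹ * (y * x⁻¹) = m'⁻¹ * (m⁻¹ * y * x⁻¹) := by group
      rw [this]
      exact hb'
  have key2 : ∀ g : K, g⁻¹ * φ g ∈ B := by
    intro g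
    obtain ⟨m, hm, hb⟩ := key g
    have h1 : g = m * (m⁻¹ * g) := by group
    have h2 : g⁻¹ * φ g = (m⁻¹ * g)⁻¹ * φ (m⁻¹ * g) := by
      rw [map_mul, map_inv, hm]
      group
    rw [h2]
    exact mul_mem (inv_mem hb) (hB _ hb)
  apply MulEquiv.ext
  intro g
  have h3 : g⁻¹ * φ g ∈ B.normalCore := by
    rw [Subgroup.normalCore]
    show ∀ x : K, x * (g⁻¹ * φ g) * x⁻¹ ∈ B
    intro x
    have h4 := mul_mem (key2 (g * x⁻¹)) (inv_mem (key2 x⁻¹))
    have h5 : (g * x⁻¹)⁻¹ * φ (g * x⁻¹) * ((x⁻¹)⁻¹ * φ x⁻¹)⁻¹ = x * (g⁻¹ * φ g) * x⁻¹ := by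
      rw [map_mul]
      group
    rwa [h5] at h4
  rw [hcore, Subgroup.mem_bot, inv_mul_eq_one] at h3
  exact h3.symm

/-! ### Fixed points in cosets -/

/-- An `l`-group of automorphisms which maps the coset `x V` to itself, `|V|` prime to `l`, has a fixed point there. -/
theorem exists_fixed [Finite K] {l : ℕ} [Fact l.Prime] (D : Subgroup (MulAut K)) (hD : IsPGroup l D) (V : Subgroup K)
    (hV : Inv D V) (hl : ¬ l ∣ Nat.card V) (x : K) (hx : ∀ φ ∈ D, x⁻¹ * φ x ∈ V) :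
    ∃ m, (∀ φ ∈ D, φ m = m) ∧ m⁻¹ * x ∈ V := by
  classical
  -- the action of `D` on `V` by `v ↦ x⁻¹ φ (x v)`
  let act : MulAction D V :=
    { smul := fun φ v => ⟨x⁻¹ * (φ : MulAut K) (x * v), by
        rw [map_mul, ← mul_assoc]
        exact mul_mem (hx φ φ.2) (hV.apply_mem φ.2 v.2)⟩
      one_smul := fun v => by
        apply Subtype.ext
        show x⁻¹ * (1 : MulAut K) (x * v) = v
        simp
      mul_smul := fun φ ψ v => by
        apply Subtype.ext
        show x⁻¹ * ((φ : MulAut K) * (ψ : MulAut K)) (x * v) = x⁻¹ * (φ : MulAut K) (x * (x⁻¹ * (ψ : MulAut K) (x * v)))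
        rw [MulAut.mul_apply, mul_inv_cancel_left] }
  have h1 := hD.card_modEq_card_fixedPoints V
  have h2 : (MulAction.fixedPoints D V).Nonempty := by
    by_contra hcon
    rw [Set.not_nonempty_iff_eq_empty] at hcon
    rw [hcon] at h1
    have h3 : Nat.card (∅ : Set V) = 0 := by simp
    rw [h3] at h1
    exact hl ((Nat.modEq_zero_iff_dvd).1 h1)
  obtain ⟨v, hv⟩ := h2
  refine ⟨x * v, fun φ hφ => ?_, ?_⟩
  · have h3 := congrArg Subtype.val (hv ⟨φ, hφ⟩)
    have h4 : x⁻¹ * φ (x * v) = v := h3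
    rw [inv_mul_eq_iff_eq_mul] at h4
    exact h4
  · have : (x * (v : K))⁻¹ * x = (v : K)⁻¹ := by group
    rw [this]
    exact inv_mem v.2

/-- A homomorphism from an `l`-group to a group of order prime to `l` is trivial. -/
theorem hom_eq_one_of_coprime {A C : Type*} [Group A] [Group C] [Finite C] {l : ℕ} (hA : IsPGroup l A)
    [hl : Fact l.Prime] (hC : ¬ l ∣ Nat.card C) (f : A →* C) (a : A) : f a = 1 := by
  obtain ⟨k, hk⟩ := hA a
  have h1 : f a ^ l ^ k = 1 := by rw [← map_pow, hk, map_one]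
  have h2 : orderOf (f a) ∣ l ^ k := orderOf_dvd_of_pow_eq_one h1
  have h3 : orderOf (f a) ∣ Nat.card C := orderOf_dvd_natCard _
  have h4 : Nat.Coprime (l ^ k) (Nat.card C) := Nat.Coprime.pow_left _ ((Nat.Prime.coprime_iff_not_dvd hl.out).2 hC)
  have h5 := Nat.dvd_gcd h2 h3
  rw [h4] at h5
  rw [← orderOf_eq_one_iff]
  exact Nat.dvd_one.1 h5

/-! ### The minimal parabolic -/

section node

variable [Finite K] {P : Cfsg.BNPair K} {U V : Subgroup K} {s : K} {l : ℕ} [hl : Fact l.Prime]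

/-- `D` fixes the coset `s B`. -/
theorem coset_fix (hN : Node P U s V) (hs : s ∈ P.S) (hUB : U ≤ P.B) (hlU : ¬ l ∣ Nat.card U)
    (hUN : ∀ b ∈ P.B, ∃ u ∈ U, u⁻¹ * b ∈ P.N) {D : Subgroup (MulAut K)} (hD : IsPGroup l D)
    (hB : Inv D P.B) (hP : Inv D (P.parabolic {s}))
    (hT : TrMod D U V) {φ : MulAut K} (hφ : φ ∈ D) : s⁻¹ * φ s ∈ P.B := by
  classical
  have hex : ∀ ψ : D, ∃ u ∈ U, ∃ b ∈ P.B, (ψ : MulAut K) s = u * s * b := by
    intro ψ
    apply exists_of_mem_parabolic P hUB hUN hs (hP.apply_mem ψ.2 (mem_parabolic_self P s))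
    rw [hB.apply_mem_iff ψ.2]
    exact not_mem_B P hs
  choose u hu b hb hub using hex
  have hVn : (V.subgroupOf U).Normal := by
    constructor
    intro v hv x
    rw [Subgroup.mem_subgroupOf] at hv ⊢
    exact hN.conj_B _ (hUB x.2) _ hv
  -- uniqueness of `u ψ` modulo `V`
  have huniq : ∀ x ∈ U, ∀ y ∈ U, ∀ c ∈ P.B, ∀ d ∈ P.B, x * s * c = y * s * d → x⁻¹ * y ∈ V := by
    intro x hx y hy c hc d hd h
    apply hN.stab _ (mul_mem (inv_mem hx) hy)
    have : s⁻¹ * (x⁻¹ * y) * s = c * d⁻¹ := by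
      have h1 : y = x * s * c * d⁻¹ * s⁻¹ := by
        rw [h]; group
      rw [h1]; group
    rw [this]
    exact mul_mem hc (inv_mem hd)
  let f : D →* U ⧸ V.subgroupOf U :=
    MonoidHom.mk' (fun ψ => (QuotientGroup.mk (⟨(u ψ)⁻¹, inv_mem (hu ψ)⟩ : U) : U ⧸ V.subgroupOf U)) (by
      intro ψ χ
      rw [← QuotientGroup.mk_mul, QuotientGroup.eq, Subgroup.mem_subgroupOf]
      show ((u (ψ * χ))⁻¹)⁻¹ * ((u ψ)⁻¹ * (u χ)⁻¹) ∈ V
      have h1 : ((ψ * χ : D) : MulAut K) s = (ψ : MulAut K) (u χ) * u ψ * s * (b ψ * (ψ : MulAut K) (b χ)) := by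
        show (ψ : MulAut K) ((χ : MulAut K) s) = _
        rw [hub χ, map_mul, map_mul, hub ψ]
        group
      have h2 : (u (ψ * χ))⁻¹ * ((ψ : MulAut K) (u χ) * u ψ) ∈ V := by
        apply huniq _ (hu _) _ (mul_mem _ (hu ψ)) _ (hb (ψ * χ)) _ (mul_mem (hb ψ) (hB.apply_mem ψ.2 (hb χ)))
        · rw [← hub, h1]
        · have := mul_mem (hu χ) (hN.le (hT ψ ψ.2 (u χ) (hu χ)))
          simpa using this
      -- `φ (u χ) = u χ * v`
      have h3 : (u χ)⁻¹ * (ψ : MulAut K) (u χ) ∈ V := hT ψ ψ.2 (u χ) (hu χ)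
      set v := (u χ)⁻¹ * (ψ : MulAut K) (u χ) with hv
      have h4 : (ψ : MulAut K) (u χ) = u χ * v := by rw [hv]; group
      rw [h4] at h2
      set w := (u (ψ * χ))⁻¹ * (u χ * v * u ψ) with hw
      have h5 : ((u (ψ * χ))⁻¹)⁻¹ * ((u ψ)⁻¹ * (u χ)⁻¹) = (u χ * v * (u χ)⁻¹) * ((u χ * u ψ) * w⁻¹ * (u χ * u ψ)⁻¹) := by
        rw [hw]; group
      rw [h5]
      refine mul_mem (hN.conj_B _ (hUB (hu χ)) _ h3) (hN.conj_B _ (mul_mem (hUB (hu χ)) (hUB (hu ψ))) _ (inv_mem h2)))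
  have hcard : ¬ l ∣ Nat.card (U ⧸ V.subgroupOf U) := fun h => hlU (h.trans (Subgroup.card_quotient_dvd_card _))
  have h1 := hom_eq_one_of_coprime hD hcard f ⟨φ, hφ⟩
  have h2 : (u ⟨φ, hφ⟩)⁻¹ ∈ V := by
    have h3 : (QuotientGroup.mk (⟨(u ⟨φ, hφ⟩)⁻¹, inv_mem (hu ⟨φ, hφ⟩)⟩ : U) : U ⧸ V.subgroupOf U) = 1 := h1
    rw [QuotientGroup.eq_one_iff, Subgroup.mem_subgroupOf] at h3
    exact h3
  have h3 : φ s = u ⟨φ, hφ⟩ * s * b ⟨φ, hφ⟩ := hub ⟨φ, hφ⟩
  rw [h3]
  have h4 : s⁻¹ * (u ⟨φ, hφ⟩ * s * b ⟨φ, hφ⟩) = (s⁻¹ * u ⟨φ, hφ⟩ * s) * b ⟨φ, hφ⟩ := by group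
  rw [h4]
  exact mul_mem (hUB (hN.le (hN.conj_s _ (by simpa using inv_mem h2)))) (hb _)

/-- `D` fixes every coset `g B`, `g ∈ P_s`. -/
theorem coset_fix' (hN : Node P U s V) (hs : s ∈ P.S) (hUB : U ≤ P.B) (hlU : ¬ l ∣ Nat.card U)
    (hUN : ∀ b ∈ P.B, ∃ u ∈ U, u⁻¹ * b ∈ P.N) {D : Subgroup (MulAut K)} (hD : IsPGroup l D)
    (hB : Inv D P.B) (hP : Inv D (P.parabolic {s}))
    (hT : TrMod D U V) {φ : MulAut K} (hφ : φ ∈ D) {g : K} (hg : g ∈ P.parabolic {s}) : g⁻¹ * φ g ∈ P.B := by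
  by_cases hgB : g ∈ P.B
  · exact mul_mem (inv_mem hgB) (hB.apply_mem hφ hgB)
  · obtain ⟨u, hu, b, hb, rfl⟩ := exists_of_mem_parabolic P hUB hUN hs hg hgB
    have h1 := coset_fix hN hs hUB hlU hUN hD hB hP hT hφ
    have h2 := hT φ hφ u hu
    have h3 : (u * s * b)⁻¹ * φ (u * s * b) =
        b⁻¹ * (s⁻¹ * (u⁻¹ * φ u) * s) * (s⁻¹ * φ s) * φ b := by
      rw [map_mul, map_mul]; group
    rw [h3]
    exact mul_mem (mul_mem (mul_mem (inv_mem hb) (hUB (hN.le (hN.conj_s _ h2)))) h1) (hB.apply_mem hφ hb)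

/-- The fixed points of `D` cover the minimal parabolic modulo `B`. -/
theorem cover (hN : Node P U s V) (hs : s ∈ P.S) (hUB : U ≤ P.B) (hlU : ¬ l ∣ Nat.card U)
    (hBU : ∀ b ∈ P.B, ∀ u ∈ U, b * u * b⁻¹ ∈ U)
    (hUN : ∀ b ∈ P.B, ∃ u ∈ U, u⁻¹ * b ∈ P.N) {D : Subgroup (MulAut K)} (hD : IsPGroup l D)
    (hU : Inv D U) (hB : Inv D P.B) (hP : Inv D (P.parabolic {s}))
    (hT : TrMod D U V) {g : K} (hg : g ∈ P.parabolic {s}) : ∃ m, (∀ φ ∈ D, φ m = m) ∧ m⁻¹ * g ∈ P.B := by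
  have hV : Inv D V := hN.inv hUB hU hB hP
  have hlV : ¬ l ∣ Nat.card V := fun h => hlU (h.trans (Subgroup.card_dvd_of_le hN.le))
  have hVn : ∀ {x : K}, x ∈ P.parabolic {s} → ∀ v ∈ V, x⁻¹ * v * x ∈ V := fun hx v hv => hN.conj_mem hx hv
  have hsP := mem_parabolic_self P s
  have hBP := B_le_parabolic P {s}
  have hfix : ∀ {x : K}, x ∈ P.parabolic {s} → ∀ φ ∈ D, x⁻¹ * φ x ∈ P.B := fun hx φ hφ =>
    coset_fix' hN hs hUB hlU hUN hD hB hP hT hφ hx
  -- the points of `U`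
  have hcU : ∀ u ∈ U, ∃ m, (∀ φ ∈ D, φ m = m) ∧ m⁻¹ * u ∈ V := fun u hu =>
    exists_fixed D hD V hV hlV u fun φ hφ => hT φ hφ u hu
  -- elements of `V` are in the stabiliser of `s B`
  have hVs : ∀ v ∈ V, s⁻¹ * v * s ∈ P.B := fun v hv => hUB (hN.le (hN.conj_s v hv))
  -- a fixed element in `s B`
  obtain ⟨u₀, hu₀, hu₀V⟩ := hN.ne
  have hstab' : ∀ u ∈ U, s * u * s⁻¹ ∈ P.B → u ∈ V := by
    intro u hu h
    apply hN.stab u hu
    have h1 := P.sq_mem s hs
    have h2 : s⁻¹ * u * s = (s * s)⁻¹ * (s * u * s⁻¹) * (s * s) := by group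
    rw [h2]
    exact mul_mem (mul_mem (inv_mem h1) h) h1
  have hms : ∃ m, (∀ φ ∈ D, φ m = m) ∧ m⁻¹ * s ∈ P.B := by
    have hxP : s * u₀ * s⁻¹ ∈ P.parabolic {s} := mul_mem (mul_mem hsP (hBP (hUB hu₀))) (inv_mem hsP)
    obtain ⟨m, hm, hmx⟩ := exists_fixed D hD V hV hlV (s * u₀ * s⁻¹) (by
      intro φ hφ
      have h1 := hfix hxP φ hφ
      -- `x⁻¹ φ x = s w s⁻¹`
      have h2 := hfix hsP φ hφ
      set b := s⁻¹ * φ s with hb
      have h3 : φ s = s * b := by rw [hb]; group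
      set w := u₀⁻¹ * (b * φ u₀ * b⁻¹) with hw
      have h4 : (s * u₀ * s⁻¹)⁻¹ * φ (s * u₀ * s⁻¹) = s * w * s⁻¹ := by
        rw [map_mul, map_mul, map_inv, h3, hw]; group
      have hwU : w ∈ U := mul_mem (inv_mem hu₀) (hBU _ h2 _ (hU.apply_mem hφ hu₀))
      rw [h4] at h1 ⊢
      have h5 := hstab' w hwU h1
      have h6 := hVn (inv_mem hsP) w h5
      rwa [inv_inv] at h6)
    -- `m ∉ B`
    have hmB : m ∉ P.B := by
      intro h
      apply hu₀V
      apply hstab' u₀ hu₀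
      have : s * u₀ * s⁻¹ = m * (m⁻¹ * (s * u₀ * s⁻¹)) := by group
      rw [this]
      exact mul_mem h (hUB (hN.le hmx))
    have hmP : m ∈ P.parabolic {s} := by
      have : m = s * u₀ * s⁻¹ * (m⁻¹ * (s * u₀ * s⁻¹))⁻¹ := by group
      rw [this]
      exact mul_mem hxP (inv_mem (hBP (hUB (hN.le hmx))))
    obtain ⟨u, hu, b, hb, hub⟩ := exists_of_mem_parabolic P hUB hUN hs hmP hmB
    obtain ⟨m', hm', hmu⟩ := hcU u hu
    refine ⟨m'⁻¹ * m, fun φ hφ => by rw [map_mul, map_inv, hm' φ hφ, hm φ hφ], ?_⟩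
    have h1 : (m'⁻¹ * m)⁻¹ * s = b⁻¹ * (s⁻¹ * (m'⁻¹ * u) * s)⁻¹ := by
      rw [hub]; group
    rw [h1]
    exact mul_mem (inv_mem hb) (inv_mem (hVs _ hmu))
  obtain ⟨ms, hms, hmsB⟩ := hms
  by_cases hgB : g ∈ P.B
  · exact ⟨1, fun φ _ => map_one φ, by simpa using hgB⟩
  · obtain ⟨u, hu, b, hb, rfl⟩ := exists_of_mem_parabolic P hUB hUN hs hg hgB
    obtain ⟨m, hm, hmu⟩ := hcU u hu
    refine ⟨m * ms, fun φ hφ => by rw [map_mul, hm φ hφ, hms φ hφ], ?_⟩
    have h1 : (m * ms)⁻¹ * (u * s * b) = (ms⁻¹ * s) * (s⁻¹ * (m⁻¹ * u) * s) * b := by group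
    rw [h1]
    exact mul_mem (mul_mem hmsB (hVs _ hmu)) hb

end node

/-- **Rigidity.** -/
theorem eq_one [Finite K] (P : Cfsg.BNPair K) (U : Subgroup K) {l : ℕ} [Fact l.Prime] (hcore : P.B.normalCore = ⊥)
    (hUB : U ≤ P.B) (hBU : ∀ b ∈ P.B, ∀ u ∈ U, b * u * b⁻¹ ∈ U)
    (hUN : ∀ b ∈ P.B, ∃ u ∈ U, u⁻¹ * b ∈ P.N) (hlU : ¬ l ∣ Nat.card U) (V : K → Subgroup K)
    (hV : ∀ s ∈ P.S, Node P U s (V s)) {D : Subgroup (MulAut K)} (hD : IsPGroup l D) (hU : Inv D U)
    (hB : Inv D P.B) (hP : ∀ s ∈ P.S, Inv D (P.parabolic {s})) (hT : ∀ s ∈ P.S, TrMod D U (V s)) : D = ⊥ := by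
  rw [eq_bot_iff]
  intro φ hφ
  rw [Subgroup.mem_bot]
  refine eq_one_of_cover P.B hcore ((P.B : Set K) ∪ P.S) ?_ φ (fun b hb => hB.apply_mem hφ hb) ?_ ?_
  · rw [Subgroup.closure_union, Subgroup.closure_eq]
    exact sup_closure_eq_top P
  · rintro b hb x (hx | hx)
    · exact ⟨1, map_one φ, by simpa using mul_mem hb hx⟩
    · obtain ⟨m, hm, h⟩ := cover (hV x hx) hx hUB hlU hBU hUN hD hU hB (hP x hx) (hT x hx)
        (mul_mem (B_le_parabolic P _ hb) (mem_parabolic_self P x))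
      exact ⟨m, hm φ hφ, h⟩
  · rintro b hb x (hx | hx)
    · exact ⟨1, map_one φ, by simpa using mul_mem hb (inv_mem hx)⟩
    · obtain ⟨m, hm, h⟩ := cover (hV x hx) hx hUB hlU hBU hUN hD hU hB (hP x hx) (hT x hx)
        (mul_mem (B_le_parabolic P _ hb) (inv_mem (mem_parabolic_self P x)))
      exact ⟨m, hm φ hφ, h⟩

end Cfsg.Agent.Omega.TwoF.Out

end

section


/-!
# The outer part of the 2-rank of `Aut K`, `K` with a (B, N)-pair in odd characteristic (TABLE 2F)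

`OutRk K c`: `|A : A ∩ Inn K| ≤ 2 ^ c` for every elementary abelian 2-group `A` of automorphisms of `K`.

`outRk`: `OutRk K (∑ n s + v)`, `v` the exponent of `2` in `|S|!`, when at every node `s` the group of automorphisms
fixing `U`, `B`, `P_s` acts on `U/V_s` with a chain of `n s` cyclic factors (`NodeRk`).
-/

set_option autoImplicit false

namespace Cfsg.Agent.Omega.TwoF.Out

open Cfsg.Agent.Schreier.Basic Cfsg.Agent.Schreier.Tools Cfsg.Agent.Schreier.BNSch
  Cfsg.Agent.Schreier.SylowCrit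

open scoped Pointwise

universe u

/-- `|A : A ∩ Inn K| ≤ 2 ^ c` for all elementary abelian 2-groups `A` of automorphisms of `K`. -/
def OutRk (K : Type*) [Group K] (c : ℕ) : Prop :=
  ∀ A : Subgroup (MulAut K), (∀ a ∈ A, a * a = 1) →
    Nat.card A ≤ 2 ^ c * Nat.card (A ⊓ (MulAut.conj : K →* MulAut K).range : Subgroup (MulAut K))

theorem OutRk.mono {K : Type*} [Group K] {c d : ℕ} (h : OutRk K c) (hcd : c ≤ d) : OutRk K d :=
  fun A hA => (h A hA).trans (Nat.mul_le_mul_right _ (Nat.pow_le_pow_right (by norm_num) hcd))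

/-! ### Chains with cyclic factors -/

section chain

variable {Γ : Type*} [Group Γ]

/-- `D'` is the end of a chain of `n` cyclic steps below `D`. -/
inductive Cyc : ℕ → Subgroup Γ → Subgroup Γ → Prop
  | refl (D : Subgroup Γ) : Cyc 0 D D
  | step {n : ℕ} {D D' D'' : Subgroup Γ} (hle : D' ≤ D) (h : ∃ d₀ ∈ D, ∀ d ∈ D, ∃ k : ℤ, d₀ ^ k * d ∈ D')
      (hc : Cyc n D' D'') : Cyc (n + 1) D D''

theorem Cyc.le {n : ℕ} {D D' : Subgroup Γ} (h : Cyc n D D') : D' ≤ D := by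
  induction h with
  | refl D => exact le_rfl
  | step hle _ _ ih => exact ih.trans hle

theorem Cyc.trans {n m : ℕ} {D D' D'' : Subgroup Γ} (h : Cyc n D D') (h' : Cyc m D' D'') : Cyc (n + m) D D'' := by
  induction h with
  | refl D => simpa using h'
  | @step n D D₁ D₂ hle hd _ ih =>
    have := Cyc.step hle hd (ih h')
    rwa [show n + 1 + m = n + m + 1 by omega]

/-- A cyclic step given by a homomorphism to a cyclic group. -/
theorem Cyc.of_hom {C : Type*} [Group C] [IsCyclic C] {D D' : Subgroup Γ} (hle : D' ≤ D) (f : D →* C)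
    (hf : ∀ d (hd : d ∈ D), f ⟨d, hd⟩ = 1 → d ∈ D') : Cyc 1 D D' := by
  have hcyc : IsCyclic f.range := inferInstance
  obtain ⟨⟨z, d₀, hd₀⟩, hz⟩ := hcyc.exists_generator
  refine Cyc.step hle ⟨d₀, d₀.2, fun d hd => ?_⟩ (Cyc.refl D')
  obtain ⟨k, hk⟩ := Subgroup.mem_zpowers_iff.1 (hz ⟨f ⟨d, hd⟩, ⟨d, hd⟩, rfl⟩)
  have hk' : z ^ k = f ⟨d, hd⟩ := congrArg Subtype.val hk
  refine ⟨-k, ?_⟩
  apply hf _ (mul_mem (zpow_mem d₀.2 _) hd)
  have h1 : (⟨(d₀ : Γ) ^ (-k) * d, mul_mem (zpow_mem d₀.2 _) hd⟩ : D) = d₀ ^ (-k) * ⟨d, hd⟩ := rfl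
  rw [h1, map_mul, map_zpow, hd₀, zpow_neg, ← hk', inv_mul_cancel]

theorem Cyc.card_le {Q : Type*} [Group Q] [Finite Γ] (f : Γ →* Q) {n : ℕ} {D D' : Subgroup Γ} (h : Cyc n D D')
    (hD : ∀ d ∈ D, f d * f d = 1) : Nat.card (D.map f) ≤ 2 ^ n * Nat.card (D'.map f) := by
  induction h with
  | refl D => simp
  | @step n D D₁ D₂ hle hd _ ih =>
    have h1 := ih fun d hd => hD d (hle hd)
    obtain ⟨d₀, hd₀, hk⟩ := hd
    have h2 : Nat.card (D.map f) ≤ 2 * Nat.card (D₁.map f) := by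
      have hfin : Finite (D₁.map f) := by
        have : ((D₁.map f : Subgroup Q) : Set Q) = f '' (D₁ : Set Γ) := rfl
        exact Set.Finite.to_subtype (this ▸ Set.toFinite _)
      let g : Bool × (D₁.map f) → Q := fun x => (if x.1 then f d₀ else 1) * (x.2 : Q)
      have hsub : ((D.map f : Subgroup Q) : Set Q) ⊆ Set.range g := by
        rintro _ ⟨d, hd, rfl⟩
        obtain ⟨k, hk⟩ := hk d hd
        have h3 : f d = (f d₀ ^ k)⁻¹ * f (d₀ ^ k * d) := by
          rw [map_mul, map_zpow]; group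
        have h4 : f d₀ * f d₀ = 1 := hD d₀ hd₀
        have h5 : (f d₀ ^ k)⁻¹ = 1 ∨ (f d₀ ^ k)⁻¹ = f d₀ := by
          rcases Int.even_or_odd' k with ⟨m, rfl | rfl⟩
          · left
            rw [zpow_mul, zpow_two, h4, one_zpow, inv_one]
          · right
            rw [zpow_add, zpow_mul, zpow_two, h4, one_zpow, one_mul, zpow_one]
            exact inv_eq_of_mul_eq_one_left h4
        rcases h5 with h5 | h5
        · exact ⟨(false, ⟨f (d₀ ^ k * d), _, hk, rfl⟩), by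
            show (if (false : Bool) = true then f d₀ else 1) * f (d₀ ^ k * d) = f d
            rw [h3, h5]; simp⟩
        · exact ⟨(true, ⟨f (d₀ ^ k * d), _, hk, rfl⟩), by
            show (if (true : Bool) = true then f d₀ else 1) * f (d₀ ^ k * d) = f d
            rw [h3, h5]; simp⟩
      calc Nat.card (D.map f) = ((D.map f : Subgroup Q) : Set Q).ncard := (Nat.card_coe_set_eq _)
        _ ≤ (Set.range g).ncard := Set.ncard_le_ncard hsub (Set.finite_range g)
        _ ≤ Nat.card (Bool × (D₁.map f)) := by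
            rw [← Nat.card_coe_set_eq]
            exact Nat.card_le_card_of_surjective (Set.rangeFactorization g) Set.rangeFactorization_surjective
        _ = 2 * Nat.card (D₁.map f) := by
            rw [Nat.card_prod]; simp
    calc Nat.card (D.map f) ≤ 2 * Nat.card (D₁.map f) := h2
      _ ≤ 2 * (2 ^ n * Nat.card (D₂.map f)) := Nat.mul_le_mul_left _ h1
      _ = 2 ^ (n + 1) * Nat.card (D₂.map f) := by rw [pow_succ]; ring

end chain

variable {K : Type*} [Group K]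

/-- The automorphisms fixing `U`, `B`, `P_s` act on `U/V` with a chain of `n` cyclic factors. -/
def NodeRk (P : Cfsg.BNPair K) (U : Subgroup K) (s : K) (V : Subgroup K) (n : ℕ) : Prop :=
  ∀ D : Subgroup (MulAut K), Inv D U → Inv D P.B → Inv D (P.parabolic {s}) → Inv D V →
    ∃ D', Cyc n D D' ∧ TrMod D' U V

/-- All nodes together. -/
theorem exists_chain [Finite K] (P : Cfsg.BNPair K) (U : Subgroup K) (hUB : U ≤ P.B) (V : K → Subgroup K)
    (n : K → ℕ) (T : Finset K) (hT : (T : Set K) ⊆ P.S) (hV : ∀ s ∈ T, Node P U s (V s))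
    (hn : ∀ s ∈ T, NodeRk P U s (V s) (n s)) {D : Subgroup (MulAut K)} (hU : Inv D U)
    (hB : Inv D P.B) (hP : ∀ s ∈ T, Inv D (P.parabolic {s})) :
    ∃ D', Cyc (∑ s ∈ T, n s) D D' ∧ ∀ s ∈ T, TrMod D' U (V s) := by
  classical
  induction T using Finset.induction_on with
  | empty => exact ⟨D, by simpa using Cyc.refl D, by simp⟩
  | insert s T hs ih =>
    obtain ⟨D₁, h1, h2⟩ := ih (fun x hx => hT (by simp at hx ⊢; exact Or.inr hx))
      (fun x hx => hV x (Finset.mem_insert_of_mem hx)) (fun x hx => hn x (Finset.mem_insert_of_mem hx))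
      (fun x hx => hP x (Finset.mem_insert_of_mem hx))
    have hs' := Finset.mem_insert_self s T
    have hU' := Inv.mono_sub h1.le hU
    have hB' := Inv.mono_sub h1.le hB
    have hP' := Inv.mono_sub h1.le (hP s hs')
    obtain ⟨D₂, h3, h4⟩ := hn s hs' D₁ hU' hB' hP' ((hV s hs').inv hUB hU' hB' hP')
    refine ⟨D₂, ?_, fun x hx => ?_⟩
    · rw [Finset.sum_insert hs, add_comm]
      exact h1.trans h3
    · rcases Finset.mem_insert.1 hx with rfl | hx
      · exact h4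
      · exact fun φ hφ => h2 x hx φ (h3.le hφ)

/-! ### The permutation of the nodes -/

/-- The automorphisms fixing all subgroups of a family. -/
def famStab (S : Set (Subgroup K)) : Subgroup (MulAut K) := ⨅ A ∈ S, stab A

theorem mem_famStab {S : Set (Subgroup K)} {φ : MulAut K} : φ ∈ famStab S ↔ ∀ A ∈ S, A.map φ.toMonoidHom = A := by
  unfold famStab
  simp only [Subgroup.mem_iInf]
  rfl

theorem relIndex_dvd_factorial {D : Subgroup (MulAut K)} (S : Set (Subgroup K)) (hfin : S.Finite)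
    (hS : ∀ φ ∈ D, ∀ A ∈ S, A.map φ.toMonoidHom ∈ S) : (famStab S).relIndex D ∣ (Nat.card S).factorial := by
  have : Finite S := hfin
  let f : D →* Equiv.Perm S :=
    { toFun := fun φ =>
        { toFun := fun B => ⟨(B : Subgroup K).map (φ : MulAut K).toMonoidHom, hS φ φ.2 B B.2⟩
          invFun := fun B => ⟨(B : Subgroup K).map ((φ : MulAut K)⁻¹).toMonoidHom,
            hS (φ : MulAut K)⁻¹ (inv_mem φ.2) B B.2⟩
          left_inv := fun B => by
            apply Subtype.ext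
            apply SetLike.coe_injective
            show (fun x => (φ : MulAut K)⁻¹ x) '' ((fun x => (φ : MulAut K) x) '' (B : Set K)) = _
            rw [Set.image_image]
            simp
          right_inv := fun B => by
            apply Subtype.ext
            apply SetLike.coe_injective
            show (fun x => (φ : MulAut K) x) '' ((fun x => (φ : MulAut K)⁻¹ x) '' (B : Set K)) = _
            rw [Set.image_image]
            simp }
      map_one' := by
        ext B x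
        show x ∈ (fun x => (1 : MulAut K) x) '' ((B : Subgroup K) : Set K) ↔ _
        simp
      map_mul' := fun φ ψ => by
        ext B x
        show x ∈ (fun x => ((φ : MulAut K) * (ψ : MulAut K)) x) '' ((B : Subgroup K) : Set K) ↔
          x ∈ (fun x => (φ : MulAut K) x) '' ((fun x => (ψ : MulAut K) x) '' ((B : Subgroup K) : Set K))
        rw [Set.image_image]
        simp }
  have hker : f.ker = (famStab S).subgroupOf D := by
    ext φ
    rw [MonoidHom.mem_ker, Subgroup.mem_subgroupOf, mem_famStab]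
    constructor
    · intro h A hA
      have h1 := congrArg (fun g : Equiv.Perm S => g ⟨A, hA⟩) h
      exact congrArg Subtype.val h1
    · intro h
      apply Equiv.ext
      intro A
      apply Subtype.ext
      exact h A A.2
  have h1 : (famStab S).relIndex D = Nat.card f.range := by
    rw [Subgroup.relIndex, ← hker, Subgroup.index_ker]
  rw [h1, ← Nat.card_perm]
  exact Subgroup.card_subgroup_dvd_card f.range

/-- Index bound for the image under a homomorphism. -/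
theorem card_map_le {Γ Q : Type*} [Group Γ] [Finite Γ] [Group Q] (f : Γ →* Q) {D E : Subgroup Γ} (h : E ≤ D) :
    Nat.card (D.map f) ≤ E.relIndex D * Nat.card (E.map f) := by
  have h1 : (E.map f).relIndex (D.map f) ∣ E.relIndex D := by
    have h2 := Subgroup.index_map_dvd (G := D) (G' := D.map f) (E.subgroupOf D) (f := f.subgroupMap D)
      (f.subgroupMap_surjective D)
    have h3 : (E.subgroupOf D).map (f.subgroupMap D) = (E.map f).subgroupOf (D.map f) := by
      ext ⟨x, hx⟩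
      simp only [Subgroup.mem_map, Subgroup.mem_subgroupOf]
      constructor
      · rintro ⟨d, hd, hdx⟩
        exact ⟨d, hd, congrArg Subtype.val hdx⟩
      · rintro ⟨e, he, hex⟩
        exact ⟨⟨e, h he⟩, he, Subtype.ext hex⟩
    rw [h3] at h2
    exact h2
  have hpos : 0 < E.relIndex D := Nat.pos_of_ne_zero Subgroup.index_ne_zero_of_finite
  have hle : E.map f ≤ D.map f := Subgroup.map_mono h
  have h4 : Nat.card (E.map f) * (E.map f).relIndex (D.map f) = Nat.card (D.map f) := by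
    have h5 := ((E.map f).subgroupOf (D.map f)).card_mul_index
    rwa [Nat.card_congr (Subgroup.subgroupOfEquivOfLe hle).toEquiv] at h5
  rw [← h4, mul_comm]
  exact Nat.mul_le_mul_right _ (Nat.le_of_dvd hpos h1)

/-- A divisor of `n` which is a power of two. -/
theorem le_two_pow_of_dvd {a n : ℕ} (hn : n ≠ 0) (ha : ∃ k, a = 2 ^ k) (h : a ∣ n) : a ≤ 2 ^ (padicValNat 2 n) := by
  obtain ⟨k, rfl⟩ := ha
  have : Fact (Nat.Prime 2) := ⟨Nat.prime_two⟩
  exact Nat.pow_le_pow_right (by norm_num) ((padicValNat_dvd_iff_le hn).1 h)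

/-- **THEOREM OUT**, for a 2-group of automorphisms normalising `U`. -/
theorem card_map_le_of_inv [Finite K] (P : Cfsg.BNPair K) (U : Subgroup K) (hcore : P.B.normalCore = ⊥)
    (hUB : U ≤ P.B) (hBU : ∀ b ∈ P.B, ∀ u ∈ U, b * u * b⁻¹ ∈ U)
    (hUN : ∀ b ∈ P.B, ∃ u ∈ U, u⁻¹ * b ∈ P.N) (hlU : ¬ 2 ∣ Nat.card U) (V : K → Subgroup K)
    (hV : ∀ s ∈ P.S, Node P U s (V s)) (n : K → ℕ) (hn : ∀ s ∈ P.S, NodeRk P U s (V s) (n s))
    {T : Finset K} (hTS : (T : Set K) = P.S) {Q : Type*} [Group Q] (f : MulAut K →* Q)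
    {D : Subgroup (MulAut K)} (hD : IsPGroup 2 D) (hf : ∀ d ∈ D, f d * f d = 1) (hU : Inv D U)
    (hB : Inv D P.B) :
    Nat.card (D.map f) ≤ 2 ^ (∑ s ∈ T, n s + padicValNat 2 (Nat.card P.S).factorial) := by
  classical
  have : Fact (Nat.Prime 2) := ⟨Nat.prime_two⟩
  set F : Set (Subgroup K) := (fun t => P.parabolic {t}) '' P.S with hF
  have hFf : F.Finite := (Set.toFinite P.S).image _
  have hperm : ∀ φ ∈ D, ∀ A ∈ F, A.map φ.toMonoidHom ∈ F := by
    rintro φ hφ _ ⟨t, ht, rfl⟩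
    obtain ⟨t', ht', h⟩ := exists_map_eq P φ (hB φ hφ) ht
    exact ⟨t', ht', h.symm⟩
  set E := D ⊓ famStab F with hE
  have hED : E ≤ D := inf_le_left
  have h1 : E.relIndex D ∣ (Nat.card P.S).factorial := by
    have h2 := relIndex_dvd_factorial F hFf hperm
    rw [hE, inf_comm, Subgroup.inf_relIndex_right]
    refine h2.trans (Nat.factorial_dvd_factorial ?_)
    rw [hF, Nat.card_coe_set_eq, Nat.card_coe_set_eq]
    exact Set.ncard_image_le (Set.toFinite _)
  have h2 : ∃ k, E.relIndex D = 2 ^ k := by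
    obtain ⟨k, hk⟩ := hD.index (E.subgroupOf D)
    exact ⟨k, hk⟩
  have h3 : E.relIndex D ≤ 2 ^ padicValNat 2 (Nat.card P.S).factorial :=
    le_two_pow_of_dvd (Nat.factorial_ne_zero _) h2 h1
  have hUE := Inv.mono_sub hED hU
  have hBE := Inv.mono_sub hED hB
  have hPE : ∀ s ∈ P.S, Inv E (P.parabolic {s}) := fun s hs φ hφ => mem_famStab.1 hφ.2 _ ⟨s, hs, rfl⟩
  have hTs : ∀ {s}, s ∈ T ↔ s ∈ P.S := fun {s} => by rw [← hTS]; rfl
  obtain ⟨D', h4, h5⟩ := exists_chain P U hUB V n T (by rw [hTS]) (fun s hs => hV s (hTs.1 hs))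
    (fun s hs => hn s (hTs.1 hs)) hUE hBE (fun s hs => hPE s (hTs.1 hs))
  have h6 : D' = ⊥ := by
    have hD' : IsPGroup 2 D' := hD.to_le (h4.le.trans hED)
    exact eq_one P U hcore hUB hBU hUN hlU V hV hD' (Inv.mono_sub h4.le hUE)
      (Inv.mono_sub h4.le hBE) (fun s hs => Inv.mono_sub h4.le (hPE s hs)) (fun s hs => h5 s (hTs.2 hs))
  have h7 := h4.card_le f (fun d hd => hf d (hED hd))
  have h8 : Nat.card (D'.map f) = 1 := by
    rw [h6, Subgroup.map_bot, Nat.card_unique]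
  rw [h8, mul_one] at h7
  calc Nat.card (D.map f) ≤ E.relIndex D * Nat.card (E.map f) := card_map_le f hED
    _ ≤ 2 ^ padicValNat 2 (Nat.card P.S).factorial * 2 ^ (∑ s ∈ T, n s) := Nat.mul_le_mul h3 h7
    _ = _ := by rw [← pow_add, add_comm]

/-- Frattini argument: the image in `Out K`. -/
theorem outRk_of_stab_mk {K : Type u} [Group K] [Finite K] {p : ℕ} [Fact p.Prime] (U : Sylow p K) (c : ℕ)
    [((MulAut.conj : K →* MulAut K).range).Normal]
    (h : ∀ D : Subgroup (MulAut K), IsPGroup 2 D →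
      (∀ d ∈ D, QuotientGroup.mk' (MulAut.conj : K →* MulAut K).range d *
        QuotientGroup.mk' (MulAut.conj : K →* MulAut K).range d = 1) → Inv D (U : Subgroup K) →
      Nat.card (D.map (QuotientGroup.mk' (MulAut.conj : K →* MulAut K).range)) ≤ 2 ^ c) : OutRk K c := by
  classical
  have : Fact (Nat.Prime 2) := ⟨Nat.prime_two⟩
  intro A hA
  set I : Subgroup (MulAut K) := (MulAut.conj : K →* MulAut K).range with hIdef
  set f := QuotientGroup.mk' I with hf
  set N : Subgroup (MulAut K) := stab (U : Subgroup K) ⊓ (A ⊔ I) with hN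
  have hfI : I.map f = ⊥ := by
    rw [Subgroup.map_eq_bot_iff, QuotientGroup.ker_mk']
  have hfN : N.map f = A.map f := by
    apply le_antisymm
    · have h1 : N.map f ≤ (A ⊔ I).map f := Subgroup.map_mono inf_le_right
      rwa [Subgroup.map_sup, hfI, sup_bot_eq] at h1
    · rintro _ ⟨a, ha, rfl⟩
      obtain ⟨k, hk⟩ := MulAction.exists_smul_eq K U (a • U)
      have h1 : (MulAut.conj k)⁻¹ * a ∈ stab (U : Subgroup K) := by
        rw [mem_stab_iff]
        intro u hu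
        have h2 : a u ∈ ((a • U : Sylow p K) : Subgroup K) := by
          rw [Sylow.pointwise_smul_def]
          exact Subgroup.smul_mem_pointwise_smul u a _ hu
        rw [← hk, Sylow.smul_def, Sylow.pointwise_smul_def, Subgroup.mem_pointwise_smul_iff_inv_smul_mem] at h2
        exact h2
      have hkI : (MulAut.conj k)⁻¹ ∈ I := inv_mem ⟨k, rfl⟩
      refine ⟨(MulAut.conj k)⁻¹ * a, ⟨h1, mul_mem (Subgroup.mem_sup_right hkI) (Subgroup.mem_sup_left ha)⟩, ?_⟩
      rw [map_mul]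
      have : f (MulAut.conj k)⁻¹ = 1 := (QuotientGroup.eq_one_iff _).2 hkI
      rw [this, one_mul]
  -- a Sylow 2-subgroup of `N`
  obtain ⟨S⟩ : Nonempty (Sylow 2 N) := inferInstance
  set D : Subgroup (MulAut K) := (S : Subgroup N).map N.subtype with hD
  have hDN : D ≤ N := Subgroup.map_subtype_le _
  have hDp : IsPGroup 2 D := S.2.map _
  have hAp : IsPGroup 2 (A.map f) := by
    intro x
    obtain ⟨a, ha, hax⟩ := x.2
    refine ⟨1, Subtype.ext ?_⟩
    rw [pow_one, pow_two]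
    show (x : MulAut K ⧸ I) * x = 1
    rw [← hax, ← map_mul, hA a ha, map_one]
  have hfD : D.map f = A.map f := by
    have h1 : (D.map f).relIndex (A.map f) ∣ (S : Subgroup N).index := by
      have h2 := Subgroup.index_map_dvd (G := N) (G' := N.map f) (S : Subgroup N) (f := f.subgroupMap N)
        (f.subgroupMap_surjective N)
      have h3 : (S : Subgroup N).map (f.subgroupMap N) = (D.map f).subgroupOf (N.map f) := by
        ext ⟨x, hx⟩
        simp only [Subgroup.mem_map, Subgroup.mem_subgroupOf]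
        constructor
        · rintro ⟨d, hd, hdx⟩
          exact ⟨d, ⟨d, hd, rfl⟩, congrArg Subtype.val hdx⟩
        · rintro ⟨_, ⟨e, he, rfl⟩, hex⟩
          exact ⟨e, he, Subtype.ext hex⟩
      rw [h3, hfN] at h2
      exact h2
    have h4 : ¬ 2 ∣ (S : Subgroup N).index := S.not_dvd_index
    have h5 : (D.map f).relIndex (A.map f) = 1 := by
      obtain ⟨k, hk⟩ := hAp.index ((D.map f).subgroupOf (A.map f))
      have hk' : (D.map f).relIndex (A.map f) = 2 ^ k := hk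
      rcases Nat.eq_zero_or_pos k with rfl | hkpos
      · simpa using hk'
      · exfalso
        apply h4
        refine Dvd.dvd.trans ?_ h1
        rw [hk']
        exact dvd_pow_self 2 hkpos.ne'
    apply le_antisymm
    · rw [← hfN]
      exact Subgroup.map_mono hDN
    · exact Subgroup.relIndex_eq_one.1 h5
  have h1 := h D hDp (by
    intro d hd
    have h2 : f d ∈ A.map f := by rw [← hfD]; exact ⟨d, hd, rfl⟩
    obtain ⟨a, ha, hax⟩ := h2
    rw [← hax, ← map_mul, hA a ha, map_one]) (fun φ hφ => (hDN hφ).1)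
  rw [hfD] at h1
  -- `|A| = |f A| |A ∩ I|`
  have h2 : Nat.card A = Nat.card (A.map f) * Nat.card (A ⊓ I : Subgroup (MulAut K)) := by
    have h3 := (I.subgroupOf A).card_mul_index
    have h4 : Nat.card (I.subgroupOf A) = Nat.card (A ⊓ I : Subgroup (MulAut K)) := by
      have h5 : I.subgroupOf A = (A ⊓ I).subgroupOf A := by
        rw [inf_comm, Subgroup.inf_subgroupOf_right]
      rw [h5]
      exact Nat.card_congr (Subgroup.subgroupOfEquivOfLe inf_le_left).toEquiv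
    have h6 : (I.subgroupOf A).index = Nat.card (A.map f) := by
      have h7 : (f.comp A.subtype).ker = I.subgroupOf A := by
        ext a
        rw [MonoidHom.mem_ker, Subgroup.mem_subgroupOf]
        exact QuotientGroup.eq_one_iff _
      rw [← h7, Subgroup.index_ker, MonoidHom.range_comp, Subgroup.range_subtype]
    rw [← h3, h4, h6, mul_comm]
  rw [h2]
  exact Nat.mul_le_mul_right _ h1

theorem outRk_of_stab {K : Type u} [Group K] [Finite K] {p : ℕ} [Fact p.Prime] (U : Sylow p K) (c : ℕ)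
    (h : ∀ {Q : Type u} [Group Q] (f : MulAut K →* Q) (D : Subgroup (MulAut K)), IsPGroup 2 D →
      (∀ d ∈ D, f d * f d = 1) → Inv D (U : Subgroup K) → Nat.card (D.map f) ≤ 2 ^ c) : OutRk K c := by
  have hI := conj_range_normal K
  exact outRk_of_stab_mk U c fun D h1 h2 h3 => h _ D h1 h2 h3

/-- **THEOREM OUT.** -/
theorem outRk [Finite K] (P : Cfsg.BNPair K) {p : ℕ} [hp : Fact p.Prime] (hp2 : p ≠ 2) (U : Sylow p K)
    (hcore : P.B.normalCore = ⊥)
    (hUB : (U : Subgroup K) ≤ P.B) (hBU : ∀ b ∈ P.B, ∀ u ∈ (U : Subgroup K), b * u * b⁻¹ ∈ (U : Subgroup K))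
    (hUN : ∀ b ∈ P.B, ∃ u ∈ (U : Subgroup K), u⁻¹ * b ∈ P.N) (V : K → Subgroup K)
    (hV : ∀ s ∈ P.S, Node P (U : Subgroup K) s (V s)) (n : K → ℕ)
    (hn : ∀ s ∈ P.S, NodeRk P (U : Subgroup K) s (V s) (n s))
    {T : Finset K} (hTS : (T : Set K) = P.S) :
    OutRk K (∑ s ∈ T, n s + padicValNat 2 (Nat.card P.S).factorial) := by
  have hB : Subgroup.normalizer ((U : Subgroup K) : Set K) = P.B := by
    refine normalizer_eq P _ hUB hBU fun s hs => ?_
    obtain ⟨u, hu, huV⟩ := (hV s hs).ne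
    exact ⟨u, hu, fun h => huV ((hV s hs).stab u hu h)⟩
  refine outRk_of_stab U _ fun {Q} _ f D hD hf hDU => ?_
  have hDB : Inv D P.B := by
    have := hDU.normalizer
    rwa [hB] at this
  refine card_map_le_of_inv P (U : Subgroup K) hcore hUB hBU hUN ?_ V hV n hn hTS f hD hf hDU hDB
  intro h
  obtain ⟨k, hk⟩ := U.2.exists_card_eq
  rw [hk] at h
  have := Nat.prime_two.dvd_of_dvd_pow h
  exact hp2 ((Nat.prime_dvd_prime_iff_eq Nat.prime_two hp.out).1 this).symm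

end Cfsg.Agent.Omega.TwoF.Out

end

section


/-!
# Nodes whose root group is the additive group of a finite field: the chain of length two (TABLE 2F, outer part)

`chain_two`: a group acting on a finite field `F` by semilinear maps has a chain with two cyclic factors.
`nodeRk_of_field`: `NodeRk P U s V 2` under the hypotheses of `Schreier.BNUse.loc_of_field`
(`nodeRk_of_prime`: `NodeRk P U s V 1` if `|F|` is prime).
-/

set_option autoImplicit false

namespace Cfsg.Agent.Omega.TwoF.Out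

open Cfsg.Agent.Schreier.Basic Cfsg.Agent.Schreier.Tools Cfsg.Agent.Schreier.BNSch
  Cfsg.Agent.Schreier.SylowCrit Cfsg.Agent.Schreier.BNUse

section semi

variable {Γ : Type*} [Group Γ] {F : Type*} [Field F]

/-- An action of `D` on `F` by semilinear maps. -/
structure Semi (D : Subgroup Γ) (f : D → F → F) : Prop where
  one : ∀ t, f 1 t = t
  mul : ∀ φ ψ t, f (φ * ψ) t = f φ (f ψ t)
  add : ∀ φ t s, f φ (t + s) = f φ t + f φ s
  semi : ∀ φ c t, f φ (c * t) * f φ 1 = f φ c * f φ t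

namespace Semi

variable {D : Subgroup Γ} {f : D → F → F}

theorem inv_apply (h : Semi D f) (φ : D) (t : F) : f φ⁻¹ (f φ t) = t := by
  rw [← h.mul, inv_mul_cancel, h.one]

theorem zero (h : Semi D f) (φ : D) : f φ 0 = 0 := by
  have := h.add φ 0 0
  rw [add_zero] at this
  exact left_eq_add.1 this

theorem ne_zero (h : Semi D f) (φ : D) {t : F} (ht : t ≠ 0) : f φ t ≠ 0 := by
  intro h0
  apply ht
  rw [← h.inv_apply φ t, h0, h.zero]

theorem one_ne (h : Semi D f) (φ : D) : f φ 1 ≠ 0 := h.ne_zero φ one_ne_zero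

/-- the field automorphism -/
noncomputable def σ (h : Semi D f) (φ : D) : F →+* F where
  toFun c := f φ c / f φ 1
  map_one' := div_self (h.one_ne φ)
  map_mul' a b := by
    rw [div_mul_div_comm, ← h.semi, mul_div_mul_right _ _ (h.one_ne φ)]
  map_zero' := by rw [h.zero, zero_div]
  map_add' a b := by rw [h.add, add_div]

theorem σ_apply (h : Semi D f) (φ : D) (c : F) : h.σ φ c = f φ c / f φ 1 := rfl

theorem σ_mul_one (h : Semi D f) (φ : D) (c : F) : h.σ φ c * f φ 1 = f φ c := by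
  rw [h.σ_apply, div_mul_cancel₀ _ (h.one_ne φ)]

theorem apply_mul (h : Semi D f) (φ : D) (c t : F) : f φ (c * t) = h.σ φ c * f φ t := by
  rw [h.σ_apply, div_mul_eq_mul_div, eq_div_iff (h.one_ne φ)]
  exact h.semi φ c t

theorem σ_mul (h : Semi D f) (φ ψ : D) (c : F) : h.σ (φ * ψ) c = h.σ φ (h.σ ψ c) := by
  have h1 : f (φ * ψ) c = h.σ φ (h.σ ψ c) * f (φ * ψ) 1 := by
    rw [h.mul, h.mul, ← h.apply_mul, h.σ_mul_one]
  rw [h.σ_apply (φ * ψ), h1, mul_div_cancel_right₀]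
  exact h.one_ne _

theorem σ_one (h : Semi D f) (c : F) : h.σ 1 c = c := by
  rw [h.σ_apply, h.one, h.one, div_one]

/-- the homomorphism to the ring automorphisms -/
noncomputable def σHom (h : Semi D f) : D →* RingAut F where
  toFun φ :=
    { toFun := h.σ φ
      invFun := h.σ φ⁻¹
      left_inv := fun c => by rw [← h.σ_mul, inv_mul_cancel, h.σ_one]
      right_inv := fun c => by rw [← h.σ_mul, mul_inv_cancel, h.σ_one]
      map_mul' := (h.σ φ).map_mul'
      map_add' := (h.σ φ).map_add' }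
  map_one' := by
    apply RingEquiv.ext
    intro c
    exact h.σ_one c
  map_mul' φ ψ := by
    apply RingEquiv.ext
    intro c
    exact h.σ_mul φ ψ c

theorem σHom_apply (h : Semi D f) (φ : D) (c : F) : h.σHom φ c = h.σ φ c := rfl

end Semi

/-- The ring automorphisms of a finite field form a cyclic group. -/
theorem isCyclic_ringAut [Finite F] : IsCyclic (RingAut F) := by
  obtain ⟨p, hp⟩ := CharP.exists F
  have hpp : Fact p.Prime := ⟨CharP.char_is_prime F p⟩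
  let _ := ZMod.algebra F p
  have h1 : IsCyclic (F ≃ₐ[ZMod p] F) := inferInstance
  let g : (F ≃ₐ[ZMod p] F) →* RingAut F :=
    { toFun := fun σ => (σ : F ≃+* F)
      map_one' := rfl
      map_mul' := fun _ _ => rfl }
  have hg : Function.Surjective g := by
    intro σ
    refine ⟨AlgEquiv.ofRingEquiv (f := σ) fun c => ?_, ?_⟩
    · have : (σ : F →+* F).comp (algebraMap (ZMod p) F) = algebraMap (ZMod p) F := Subsingleton.elim _ _
      exact congrArg (fun g : ZMod p →+* F => g c) this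
    · apply RingEquiv.ext
      intro c
      rfl
  exact isCyclic_of_surjective g hg

/-- If `|F|` is prime every ring automorphism of `F` is trivial. -/
theorem ringAut_eq_one [Finite F] (hF : (Nat.card F).Prime) (σ : RingAut F) : σ = 1 := by
  have := Fintype.ofFinite F
  have hp : Fact (Nat.card F).Prime := ⟨hF⟩
  have hc : CharP F (Nat.card F) := by
    have h1 : Nat.card F = Fintype.card F := Nat.card_eq_fintype_card
    obtain ⟨p, hp⟩ := CharP.exists F
    have hpp : Fact p.Prime := ⟨CharP.char_is_prime F p⟩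
    obtain ⟨n, hn, hpn⟩ := FiniteField.card F p
    rw [h1, hpn] at hF ⊢
    have hn1 : (n : ℕ) = 1 := by
      rcases Nat.eq_or_lt_of_le n.2 with h | h
      · exact h.symm
      · exfalso
        exact Nat.Prime.not_prime_pow h hF
    rw [hn1, pow_one]
    exact hp
  let e : ZMod (Nat.card F) ≃+* F := ZMod.ringEquiv F (Nat.card_eq_fintype_card.symm)
  apply RingEquiv.ext
  intro c
  have h1 : (σ : F →+* F).comp (e : ZMod (Nat.card F) →+* F) = (e : ZMod (Nat.card F) →+* F) := Subsingleton.elim _ _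
  have h2 := congrArg (fun g : ZMod (Nat.card F) →+* F => g (e.symm c)) h1
  simpa using h2

variable [Finite F]

/-- The two-step chain of a semilinear action. -/
theorem chain_two {D : Subgroup Γ} {f : D → F → F} (h : Semi D f) :
    ∃ D', Cyc 2 D D' ∧ ∀ φ (hφ : φ ∈ D), φ ∈ D' → ∀ t, f ⟨φ, hφ⟩ t = t := by
  have hcyc : IsCyclic (RingAut F) := isCyclic_ringAut
  set D₁ : Subgroup Γ := h.σHom.ker.map D.subtype with hD₁
  have hD₁D : D₁ ≤ D := Subgroup.map_subtype_le _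
  have hmem₁ : ∀ φ (hφ : φ ∈ D), φ ∈ D₁ ↔ h.σHom ⟨φ, hφ⟩ = 1 := by
    intro φ hφ
    constructor
    · rintro ⟨x, hx, hxφ⟩
      have : x = ⟨φ, hφ⟩ := Subtype.ext hxφ
      rw [← this]
      exact hx
    · intro hx
      exact ⟨⟨φ, hφ⟩, hx, rfl⟩
  have hlin : ∀ (φ : D₁) (t : F), f ⟨φ, hD₁D φ.2⟩ t = t * f ⟨φ, hD₁D φ.2⟩ 1 := by
    intro φ t
    have h1 := (hmem₁ φ (hD₁D φ.2)).1 φ.2
    have h2 : h.σ ⟨φ, hD₁D φ.2⟩ t = t := by
      rw [← h.σHom_apply, h1]
      rfl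
    rw [← h.σ_mul_one, h2]
  let g : D₁ →* Fˣ :=
    { toFun := fun φ => Units.mk0 (f ⟨φ, hD₁D φ.2⟩ 1) (h.one_ne _)
      map_one' := by
        apply Units.ext
        exact h.one 1
      map_mul' := fun φ ψ => by
        apply Units.ext
        show f ⟨φ * ψ, _⟩ 1 = f ⟨φ, _⟩ 1 * f ⟨ψ, _⟩ 1
        have h1 : (⟨(φ : Γ) * ψ, hD₁D (φ * ψ).2⟩ : D) = ⟨φ, hD₁D φ.2⟩ * ⟨ψ, hD₁D ψ.2⟩ := rfl
        rw [h1, h.mul, hlin φ (f ⟨ψ, hD₁D ψ.2⟩ 1), mul_comm] }
  have hgcyc : IsCyclic Fˣ := inferInstance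
  refine ⟨g.ker.map D₁.subtype, (Cyc.of_hom hD₁D h.σHom fun d hd hx => (hmem₁ d hd).2 hx).trans
    (Cyc.of_hom (Subgroup.map_subtype_le _) g fun d hd hx => ⟨⟨d, hd⟩, hx, rfl⟩), ?_⟩
  rintro φ hφ ⟨x, hx, rfl⟩ t
  have h1 : f ⟨x, hD₁D x.2⟩ 1 = 1 := congrArg Units.val hx
  have h2 := hlin x t
  rw [h1, mul_one] at h2
  exact h2

/-- The one-step chain if `|F|` is prime. -/
theorem chain_one (hF : (Nat.card F).Prime) {D : Subgroup Γ} {f : D → F → F} (h : Semi D f) :
    ∃ D', Cyc 1 D D' ∧ ∀ φ (hφ : φ ∈ D), φ ∈ D' → ∀ t, f ⟨φ, hφ⟩ t = t := by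
  have hlin : ∀ (φ : D) (t : F), f φ t = t * f φ 1 := by
    intro φ t
    have h1 := ringAut_eq_one hF (h.σHom φ)
    have h2 : h.σ φ t = t := by
      rw [← h.σHom_apply, h1]
      rfl
    rw [← h.σ_mul_one, h2]
  let g : D →* Fˣ :=
    { toFun := fun φ => Units.mk0 (f φ 1) (h.one_ne _)
      map_one' := by
        apply Units.ext
        exact h.one 1
      map_mul' := fun φ ψ => by
        apply Units.ext
        show f (φ * ψ) 1 = f φ 1 * f ψ 1
        rw [h.mul, hlin φ (f ψ 1), mul_comm] }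
  have hgcyc : IsCyclic Fˣ := inferInstance
  refine ⟨g.ker.map D.subtype,
    Cyc.of_hom (Subgroup.map_subtype_le _) g fun d hd hx => ⟨⟨d, hd⟩, hx, rfl⟩, ?_⟩
  rintro φ hφ ⟨x, hx, rfl⟩ t
  have h1 : f x 1 = 1 := congrArg Units.val hx
  have h2 := hlin x t
  rw [h1, mul_one] at h2
  exact h2

end semi

variable {K : Type*} [Group K]

/-- **Field lemma**, general form: the action on an invariant section parametrised by a finite field is semilinear. -/
theorem semi_of_field_rel {D : Subgroup (MulAut K)} {B X Y : Subgroup K} (hB : Inv D B)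
    (hX : Inv D X) (hY : Inv D Y) (hYX : Y ≤ X) (hXY : ∀ u ∈ X, ∀ y ∈ Y, u * y * u⁻¹ ∈ Y)
    (hBY : ∀ b ∈ B, ∀ y ∈ Y, b * y * b⁻¹ ∈ Y)
    {F : Type*} [Field F] (x : F → K) (hx : ∀ t, x t ∈ X)
    (hadd : ∀ t₁ t₂, (x (t₁ + t₂))⁻¹ * (x t₁ * x t₂) ∈ Y) (hinj : ∀ t, x t ∈ Y → t = 0)
    (hsurj : ∀ u ∈ X, ∃ t, (x t)⁻¹ * u ∈ Y)
    (χ : K → F) (hχ : ∀ b ∈ B, ∀ t, (x (χ b * t))⁻¹ * (b * x t * b⁻¹) ∈ Y)
    (hgen : AddSubgroup.closure (χ '' (B : Set K)) = ⊤) :
    ∃ f : D → F → F, Semi D f ∧ (∀ (φ : D) t, (x (f φ t))⁻¹ * (φ : MulAut K) (x t) ∈ Y) ∧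
      ∀ φ (hφ : φ ∈ D), (∀ t, f ⟨φ, hφ⟩ t = t) → ∀ u ∈ X, u⁻¹ * φ u ∈ Y := by
  classical
  -- the relation `E u t`: `u ≡ x t mod Y`
  let E : K → F → Prop := fun u t => (x t)⁻¹ * u ∈ Y
  have hnc : ∀ u ∈ X, ∀ y ∈ Y, u⁻¹ * y * u ∈ Y := fun u hu y hy => by
    simpa using hXY u⁻¹ (inv_mem hu) y hy
  have E_self : ∀ t, E (x t) t := fun t => by
    show (x t)⁻¹ * x t ∈ Y
    rw [inv_mul_cancel]; exact one_mem _
  have E_uniq : ∀ u t t', E u t → E u t' → t = t' := by
    intro u t t' h h'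
    have h1 : (x t)⁻¹ * x t' ∈ Y := by
      have := mul_mem h (inv_mem h')
      have h2 : (x t)⁻¹ * u * ((x t')⁻¹ * u)⁻¹ = (x t)⁻¹ * x t' := by group
      rwa [h2] at this
    have h3 := hadd t (t' - t)
    rw [add_sub_cancel] at h3
    have h4 : x (t' - t) ∈ Y := by
      have h5 : x (t' - t) = ((x t)⁻¹ * x t') * ((x t')⁻¹ * (x t * x (t' - t))) := by group
      rw [h5]
      exact mul_mem h1 h3
    have := hinj _ h4
    exact (sub_eq_zero.1 this).symm
  have E_mul : ∀ u v t s, E u t → E v s → E (u * v) (t + s) := by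
    intro u v t s hu hv
    show (x (t + s))⁻¹ * (u * v) ∈ Y
    have h1 : (x (t + s))⁻¹ * (u * v) = ((x (t + s))⁻¹ * (x t * x s)) *
        ((x s)⁻¹ * ((x t)⁻¹ * u) * x s) * ((x s)⁻¹ * v) := by group
    rw [h1]
    exact mul_mem (mul_mem (hadd t s) (hnc _ (hx s) _ hu)) hv
  have E_congr : ∀ u v t, u⁻¹ * v ∈ Y → E u t → E v t := by
    intro u v t huv hu
    show (x t)⁻¹ * v ∈ Y
    have h1 : (x t)⁻¹ * v = (x t)⁻¹ * u * (u⁻¹ * v) := by group
    rw [h1]
    exact mul_mem hu huv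
  have E_same : ∀ u v t, E u t → E v t → u⁻¹ * v ∈ Y := by
    intro u v t hu hv
    have h1 : u⁻¹ * v = ((x t)⁻¹ * u)⁻¹ * ((x t)⁻¹ * v) := by group
    rw [h1]
    exact mul_mem (inv_mem hu) hv
  have E_conj : ∀ b ∈ B, ∀ u t, E u t → E (b * u * b⁻¹) (χ b * t) := by
    intro b hb u t hu
    apply E_congr _ _ _ _ (hχ b hb t)
    have h1 : (b * x t * b⁻¹)⁻¹ * (b * u * b⁻¹) = b * ((x t)⁻¹ * u) * b⁻¹ := by group
    rw [h1]
    exact hBY b hb _ hu
  have hex : ∀ (φ : D) (t : F), ∃ r, E ((φ : MulAut K) (x t)) r := fun φ t => hsurj _ (hX.apply_mem φ.2 (hx t))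
  choose f hf using hex
  have hfE : ∀ (φ : D) u t, E u t → E ((φ : MulAut K) u) (f φ t) := by
    intro φ u t hu
    apply E_congr _ _ _ _ (hf φ t)
    rw [← map_inv, ← map_mul]
    exact hY.apply_mem φ.2 hu
  have hfadd : ∀ (φ : D) t s, f φ (t + s) = f φ t + f φ s := by
    intro φ t s
    apply E_uniq ((φ : MulAut K) (x t * x s))
    · exact hfE φ _ _ (hadd t s)
    · rw [map_mul]
      exact E_mul _ _ _ _ (hf φ t) (hf φ s)
  have hfχ : ∀ (φ : D) b, b ∈ B → ∀ t, f φ (χ b * t) = χ ((φ : MulAut K) b) * f φ t := by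
    intro φ b hb t
    apply E_uniq ((φ : MulAut K) (b * x t * b⁻¹))
    · exact hfE φ _ _ (hχ b hb t)
    · rw [map_mul, map_mul, map_inv]
      exact E_conj _ (hB.apply_mem φ.2 hb) _ _ (hf φ t)
  refine ⟨f, ⟨?_, ?_, hfadd, ?_⟩, hf, ?_⟩
  · intro t
    exact E_uniq (x t) _ _ (hf 1 t) (E_self t)
  · intro φ ψ t
    apply E_uniq (((φ * ψ : D) : MulAut K) (x t)) _ _ (hf _ _)
    exact hfE φ _ _ (hf ψ t)
  · intro φ
    have h0 : f φ 0 = 0 := by
      have := hfadd φ 0 0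
      rw [add_zero] at this
      exact left_eq_add.1 this
    have hneg : ∀ t, f φ (-t) = - f φ t := by
      intro t
      have := hfadd φ t (-t)
      rw [add_neg_cancel, h0] at this
      exact (neg_eq_of_add_eq_zero_right this.symm).symm
    let S : AddSubgroup F :=
      { carrier := {c | ∀ t, f φ (c * t) * f φ 1 = f φ c * f φ t}
        zero_mem' := fun t => by rw [zero_mul, h0, zero_mul, zero_mul]
        add_mem' := fun {a b} ha hb t => by rw [add_mul, hfadd, add_mul, ha, hb, hfadd, add_mul]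
        neg_mem' := fun {a} ha t => by rw [neg_mul, hneg, neg_mul, ha, hneg, neg_mul] }
    have hS : AddSubgroup.closure (χ '' (B : Set K)) ≤ S := by
      rw [AddSubgroup.closure_le]
      rintro _ ⟨b, hb, rfl⟩ t
      show f φ (χ b * t) * f φ 1 = f φ (χ b) * f φ t
      have h1 := hfχ φ b hb 1
      rw [mul_one] at h1
      rw [hfχ φ b hb, h1]
      ring
    rw [hgen] at hS
    intro c t
    exact hS (AddSubgroup.mem_top c) t
  · intro φ hφ h u hu
    obtain ⟨t, ht⟩ := hsurj u hu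
    have h3 := hfE ⟨φ, hφ⟩ u t ht
    rw [h] at h3
    exact E_same _ _ _ ht h3

/-- **Field lemma**, weak form. -/
theorem semi_of_field {D : Subgroup (MulAut K)} {B X Y : Subgroup K} (hB : Inv D B)
    (hX : Inv D X) (hY : Inv D Y) (hYX : Y ≤ X) (hXY : ∀ u ∈ X, ∀ y ∈ Y, u * y * u⁻¹ ∈ Y)
    (hBY : ∀ b ∈ B, ∀ y ∈ Y, b * y * b⁻¹ ∈ Y)
    {F : Type*} [Field F] (x : F → K) (hx : ∀ t, x t ∈ X)
    (hadd : ∀ t₁ t₂, (x (t₁ + t₂))⁻¹ * (x t₁ * x t₂) ∈ Y) (hinj : ∀ t, x t ∈ Y → t = 0)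
    (hsurj : ∀ u ∈ X, ∃ t, (x t)⁻¹ * u ∈ Y)
    (χ : K → F) (hχ : ∀ b ∈ B, ∀ t, (x (χ b * t))⁻¹ * (b * x t * b⁻¹) ∈ Y)
    (hgen : AddSubgroup.closure (χ '' (B : Set K)) = ⊤) :
    ∃ f : D → F → F, Semi D f ∧ ∀ φ (hφ : φ ∈ D), (∀ t, f ⟨φ, hφ⟩ t = t) → ∀ u ∈ X, u⁻¹ * φ u ∈ Y := by
  obtain ⟨f, h1, -, h3⟩ := semi_of_field_rel hB hX hY hYX hXY hBY x hx hadd hinj hsurj χ hχ hgen
  exact ⟨f, h1, h3⟩

/-- The scalars contain the squares. -/
theorem semi_of_field_sq_rel {D : Subgroup (MulAut K)} {B X Y : Subgroup K} (hB : Inv D B)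
    (hX : Inv D X) (hY : Inv D Y) (hYX : Y ≤ X) (hXY : ∀ u ∈ X, ∀ y ∈ Y, u * y * u⁻¹ ∈ Y)
    (hBY : ∀ b ∈ B, ∀ y ∈ Y, b * y * b⁻¹ ∈ Y)
    {F : Type*} [Field F] [Finite F] (x : F → K) (hx : ∀ t, x t ∈ X)
    (hadd : ∀ t₁ t₂, (x (t₁ + t₂))⁻¹ * (x t₁ * x t₂) ∈ Y) (hinj : ∀ t, x t ∈ Y → t = 0)
    (hsurj : ∀ u ∈ X, ∃ t, (x t)⁻¹ * u ∈ Y)
    (hχ : ∀ b ∈ B, ∃ c : F, ∀ t, (x (c * t))⁻¹ * (b * x t * b⁻¹) ∈ Y)
    (hsq : ∀ c : F, c ≠ 0 → ∃ b ∈ B, (x (c ^ 2))⁻¹ * (b * x 1 * b⁻¹) ∈ Y) :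
    ∃ f : D → F → F, Semi D f ∧ (∀ (φ : D) t, (x (f φ t))⁻¹ * (φ : MulAut K) (x t) ∈ Y) ∧
      ∀ φ (hφ : φ ∈ D), (∀ t, f ⟨φ, hφ⟩ t = t) → ∀ u ∈ X, u⁻¹ * φ u ∈ Y := by
  classical
  choose! χ hχ' using hχ
  refine semi_of_field_rel hB hX hY hYX hXY hBY x hx hadd hinj hsurj χ hχ' ?_
  rw [eq_top_iff, ← closure_sq F, AddSubgroup.closure_le]
  rintro _ ⟨c, hc, rfl⟩
  obtain ⟨b, hb, h⟩ := hsq c hc
  have h1 : χ b = c ^ 2 := by
    have h2 := hχ' b hb 1
    rw [mul_one] at h2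
    have h3 : (x (c ^ 2))⁻¹ * x (χ b) ∈ Y := by
      have h4 : (x (c ^ 2))⁻¹ * x (χ b) = (x (c ^ 2))⁻¹ * (b * x 1 * b⁻¹) * ((x (χ b))⁻¹ * (b * x 1 * b⁻¹))⁻¹ := by
        group
      rw [h4]
      exact mul_mem h (inv_mem h2)
    have h5 := hadd (c ^ 2) (χ b - c ^ 2)
    rw [add_sub_cancel] at h5
    have h6 : x (χ b - c ^ 2) = ((x (c ^ 2))⁻¹ * x (χ b)) * ((x (χ b))⁻¹ * (x (c ^ 2) * x (χ b - c ^ 2))) := by group
    have h7 : x (χ b - c ^ 2) ∈ Y := by
      rw [h6]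
      exact mul_mem h3 h5
    exact sub_eq_zero.1 (hinj _ h7)
  rw [← h1]
  exact AddSubgroup.subset_closure ⟨b, hb, rfl⟩

/-- The scalars contain the squares, weak form. -/
theorem semi_of_field_sq {D : Subgroup (MulAut K)} {B X Y : Subgroup K} (hB : Inv D B)
    (hX : Inv D X) (hY : Inv D Y) (hYX : Y ≤ X) (hXY : ∀ u ∈ X, ∀ y ∈ Y, u * y * u⁻¹ ∈ Y)
    (hBY : ∀ b ∈ B, ∀ y ∈ Y, b * y * b⁻¹ ∈ Y)
    {F : Type*} [Field F] [Finite F] (x : F → K) (hx : ∀ t, x t ∈ X)
    (hadd : ∀ t₁ t₂, (x (t₁ + t₂))⁻¹ * (x t₁ * x t₂) ∈ Y) (hinj : ∀ t, x t ∈ Y → t = 0)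
    (hsurj : ∀ u ∈ X, ∃ t, (x t)⁻¹ * u ∈ Y)
    (hχ : ∀ b ∈ B, ∃ c : F, ∀ t, (x (c * t))⁻¹ * (b * x t * b⁻¹) ∈ Y)
    (hsq : ∀ c : F, c ≠ 0 → ∃ b ∈ B, (x (c ^ 2))⁻¹ * (b * x 1 * b⁻¹) ∈ Y) :
    ∃ f : D → F → F, Semi D f ∧ ∀ φ (hφ : φ ∈ D), (∀ t, f ⟨φ, hφ⟩ t = t) → ∀ u ∈ X, u⁻¹ * φ u ∈ Y := by
  obtain ⟨f, h1, -, h3⟩ := semi_of_field_sq_rel hB hX hY hYX hXY hBY x hx hadd hinj hsurj hχ hsq
  exact ⟨f, h1, h3⟩

/-- Both conclusions at a node, for a subgroup `D` with a semilinear action. -/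
theorem nodeRk_of_semi {P : Cfsg.BNPair K} {U V : Subgroup K} {s : K} {F : Type*} [Field F] [Finite F]
    (h : ∀ D : Subgroup (MulAut K), Inv D U → Inv D P.B → Inv D (P.parabolic {s}) → Inv D V →
      ∃ f : D → F → F, Semi D f ∧ ∀ φ (hφ : φ ∈ D), (∀ t, f ⟨φ, hφ⟩ t = t) → ∀ u ∈ U, u⁻¹ * φ u ∈ V) :
    NodeRk P U s V 2 ∧ ((Nat.card F).Prime → NodeRk P U s V 1) := by
  constructor
  · intro D h1 h2 h3 h4
    obtain ⟨f, hf, hf'⟩ := h D h1 h2 h3 h4
    obtain ⟨D', hc, hD'⟩ := chain_two hf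
    exact ⟨D', hc, fun φ hφ u hu => hf' φ (hc.le hφ) (hD' φ _ hφ) u hu⟩
  · intro hF D h1 h2 h3 h4
    obtain ⟨f, hf, hf'⟩ := h D h1 h2 h3 h4
    obtain ⟨D', hc, hD'⟩ := chain_one hF hf
    exact ⟨D', hc, fun φ hφ u hu => hf' φ (hc.le hφ) (hD' φ _ hφ) u hu⟩

/-- **A node whose root group is the additive group of a finite field** (hypotheses of `BNUse.loc_of_field`), with
the semilinear action. -/
theorem node_semi_of_field [Finite K] (P : Cfsg.BNPair K) (U H V : Subgroup K) (s : K)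
    (hB : ∀ b ∈ P.B, ∃ u ∈ U, ∃ h ∈ H, b = u * h) (hHB : H ≤ P.B)
    {F : Type*} [Field F] [Finite F] (x : F → K) (hx : ∀ t, x t ∈ U) (hadd : ∀ t t', x (t + t') = x t * x t')
    (hVU : V ≤ U) (hdec : ∀ u ∈ U, ∃ v ∈ V, ∃ t, u = v * x t)
    (hxV : ∀ t, ∀ v ∈ V, x t * v * (x t)⁻¹ ∈ V) (hHV : ∀ h ∈ H, ∀ v ∈ V, h * v * h⁻¹ ∈ V)
    (hsV : ∀ v ∈ V, s⁻¹ * v * s ∈ V) (hVB : V ≤ P.B) (hsx : ∀ t, s⁻¹ * x t * s ∈ P.B → t = 0)
    (hH : ∀ h ∈ H, ∃ c : F, ∀ t, h * x t * h⁻¹ = x (c * t))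
    (hsq : ∀ c : F, c ≠ 0 → ∃ h ∈ H, h * x 1 * h⁻¹ = x (c ^ 2)) :
    Node P U s V ∧ ∀ D : Subgroup (MulAut K), Inv D U → Inv D P.B → Inv D V →
      ∃ f : D → F → F, Semi D f ∧ (∀ (φ : D) t, (x (f φ t))⁻¹ * (φ : MulAut K) (x t) ∈ V) ∧
        ∀ φ (hφ : φ ∈ D), (∀ t, f ⟨φ, hφ⟩ t = t) → ∀ u ∈ U, u⁻¹ * φ u ∈ V := by
  have hx0 : x 0 = 1 := by
    have := hadd 0 0
    rw [add_zero] at this
    exact (mul_eq_left (a := x 0)).1 this.symm
  have hxn : ∀ t, x (-t) = (x t)⁻¹ := by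
    intro t
    rw [eq_inv_iff_mul_eq_one, ← hadd, neg_add_cancel, hx0]
  have hUV : ∀ u ∈ U, ∀ v ∈ V, u * v * u⁻¹ ∈ V := by
    intro u hu v hv
    obtain ⟨w, hw, t, rfl⟩ := hdec u hu
    have h1 : w * x t * v * (w * x t)⁻¹ = w * (x t * v * (x t)⁻¹) * w⁻¹ := by group
    rw [h1]
    exact mul_mem (mul_mem hw (hxV t v hv)) (inv_mem hw)
  have hBV : ∀ b ∈ P.B, ∀ v ∈ V, b * v * b⁻¹ ∈ V := by
    intro b hb v hv
    obtain ⟨u, hu, h, hh, rfl⟩ := hB b hb
    have h1 : u * h * v * (u * h)⁻¹ = u * (h * v * h⁻¹) * u⁻¹ := by group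
    rw [h1]
    exact hUV u hu _ (hHV h hh v hv)
  have hinj : ∀ t, x t ∈ V → t = 0 := fun t ht => hsx t (hVB (hsV _ ht))
  have hnode : Node P U s V := by
    refine ⟨hVU, ⟨x 1, hx 1, fun h => one_ne_zero (hinj 1 h)⟩, hBV, hsV, ?_⟩
    intro u hu hus
    obtain ⟨v, hv, t, rfl⟩ := hdec u hu
    have h1 : s⁻¹ * x t * s ∈ P.B := by
      have h2 : s⁻¹ * x t * s = (s⁻¹ * v * s)⁻¹ * (s⁻¹ * (v * x t) * s) := by group
      rw [h2]
      exact mul_mem (inv_mem (hVB (hsV v hv))) hus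
    rw [hsx t h1, hx0, mul_one]
    exact hv
  refine ⟨hnode, fun D hDU hDB hDV => ?_⟩
  refine semi_of_field_sq_rel hDB hDU hDV hVU hUV hBV x hx ?_ hinj ?_ ?_ ?_
  · intro t t'
    rw [hadd, inv_mul_cancel]
    exact one_mem _
  · intro u hu
    obtain ⟨v, hv, t, h⟩ := hdec u⁻¹ (inv_mem hu)
    refine ⟨-t, ?_⟩
    have h1 : u = (x t)⁻¹ * v⁻¹ := by
      rw [← mul_inv_rev, ← h, inv_inv]
    rw [hxn, inv_inv, h1]
    have h2 : x t * ((x t)⁻¹ * v⁻¹) = v⁻¹ := by group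
    rw [h2]
    exact inv_mem hv
  · intro b hb
    obtain ⟨u, hu, h, hh, rfl⟩ := hB b hb
    obtain ⟨c, hc⟩ := hH h hh
    refine ⟨c, fun t => ?_⟩
    obtain ⟨v, hv, r, rfl⟩ := hdec u hu
    have h1 : v * x r * h * x t * (v * x r * h)⁻¹ = v * (x r * (h * x t * h⁻¹) * (x r)⁻¹) * v⁻¹ := by group
    have h2 : x r * x (c * t) * (x r)⁻¹ = x (c * t) := by
      rw [← hxn, ← hadd, ← hadd]
      congr 1
      ring
    rw [h1, hc, h2]
    have h3 : (x (c * t))⁻¹ * (v * x (c * t) * v⁻¹) = (x (-(c * t)) * v * (x (-(c * t)))⁻¹) * v⁻¹ := by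
      rw [hxn]; group
    rw [h3]
    exact mul_mem (hxV _ v hv) (inv_mem hv)
  · intro c hc
    obtain ⟨h, hh, h1⟩ := hsq c hc
    refine ⟨h, hHB hh, ?_⟩
    rw [h1, inv_mul_cancel]
    exact one_mem _

/-- **A node whose root group is the additive group of a finite field** (hypotheses of `BNUse.loc_of_field`). -/
theorem nodeRk_of_field [Finite K] (P : Cfsg.BNPair K) (U H V : Subgroup K) (s : K)
    (hB : ∀ b ∈ P.B, ∃ u ∈ U, ∃ h ∈ H, b = u * h) (hHB : H ≤ P.B)
    {F : Type*} [Field F] [Finite F] (x : F → K) (hx : ∀ t, x t ∈ U) (hadd : ∀ t t', x (t + t') = x t * x t')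
    (hVU : V ≤ U) (hdec : ∀ u ∈ U, ∃ v ∈ V, ∃ t, u = v * x t)
    (hxV : ∀ t, ∀ v ∈ V, x t * v * (x t)⁻¹ ∈ V) (hHV : ∀ h ∈ H, ∀ v ∈ V, h * v * h⁻¹ ∈ V)
    (hsV : ∀ v ∈ V, s⁻¹ * v * s ∈ V) (hVB : V ≤ P.B) (hsx : ∀ t, s⁻¹ * x t * s ∈ P.B → t = 0)
    (hH : ∀ h ∈ H, ∃ c : F, ∀ t, h * x t * h⁻¹ = x (c * t))
    (hsq : ∀ c : F, c ≠ 0 → ∃ h ∈ H, h * x 1 * h⁻¹ = x (c ^ 2)) :
    Node P U s V ∧ NodeRk P U s V 2 ∧ ((Nat.card F).Prime → NodeRk P U s V 1) := by
  obtain ⟨h1, h2⟩ := node_semi_of_field P U H V s hB hHB x hx hadd hVU hdec hxV hHV hsV hVB hsx hH hsq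
  refine ⟨h1, nodeRk_of_semi (F := F) fun D hDU hDB _ hDV => ?_⟩
  obtain ⟨f, h3, -, h5⟩ := h2 D hDU hDB hDV
  exact ⟨f, h3, h5⟩

end Cfsg.Agent.Omega.TwoF.Out

end

section


/-!
# THEOREM OUT, general form: the torus of `K` divided out (TABLE 2F, outer part)

`outRk_of_chain`: every 2-group `D` of automorphisms fixing `U`, `B` and all `P_s` has a chain with `c` cyclic
factors down to a subgroup all elements of which agree on all sections `U/V_s` with inner automorphisms by elements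
of `B`; the group of permutations of the nodes has 2-part at most `2 ^ g`. Then `OutRk K (c + g)`.
-/

set_option autoImplicit false

namespace Cfsg.Agent.Omega.TwoF.Out

open Cfsg.Agent.Schreier.Basic Cfsg.Agent.Schreier.Tools Cfsg.Agent.Schreier.BNSch
  Cfsg.Agent.Schreier.SylowCrit Cfsg.Agent.Schreier.BNUse

variable {K : Type*} [Group K]

theorem inv_zpowers {φ : MulAut K} {A : Subgroup K} (h : A.map φ.toMonoidHom = A) :
    Inv (Subgroup.zpowers φ) A := by
  intro ψ hψ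
  have h1 : Subgroup.zpowers φ ≤ stab A := by
    rw [Subgroup.zpowers_le]
    exact h
  exact h1 hψ

/-- An automorphism acting trivially on all `U/V_s` has odd order. -/
theorem odd_orderOf [Finite K] (P : Cfsg.BNPair K) (U : Subgroup K) (hcore : P.B.normalCore = ⊥)
    (hUB : U ≤ P.B) (hBU : ∀ b ∈ P.B, ∀ u ∈ U, b * u * b⁻¹ ∈ U)
    (hUN : ∀ b ∈ P.B, ∃ u ∈ U, u⁻¹ * b ∈ P.N) (hlU : ¬ 2 ∣ Nat.card U) (V : K → Subgroup K)
    (hV : ∀ s ∈ P.S, Node P U s (V s)) {φ : MulAut K} (hU : U.map φ.toMonoidHom = U)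
    (hB : P.B.map φ.toMonoidHom = P.B)
    (hP : ∀ s ∈ P.S, (P.parabolic {s}).map φ.toMonoidHom = P.parabolic {s})
    (hT : ∀ s ∈ P.S, ∀ u ∈ U, u⁻¹ * φ u ∈ V s) : Odd (orderOf φ) := by
  have : Fact (Nat.Prime 2) := ⟨Nat.prime_two⟩
  by_contra hcon
  rw [Nat.not_odd_iff_even] at hcon
  obtain ⟨k, hk⟩ := hcon
  have hpos : 0 < orderOf φ := orderOf_pos φ
  have hk0 : 0 < k := by omega
  set ψ := φ ^ k with hψ
  have hψ2 : ψ * ψ = 1 := by
    rw [hψ, ← pow_add, ← hk, pow_orderOf_eq_one]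
  have hψ1 : ψ ≠ 1 := by
    intro h
    have := orderOf_dvd_of_pow_eq_one h
    have := Nat.le_of_dvd hk0 this
    omega
  have hmem : ψ ∈ Subgroup.zpowers φ := Subgroup.npow_mem_zpowers φ k
  have hUz := inv_zpowers hU
  have hBz := inv_zpowers hB
  have hle : Subgroup.zpowers ψ ≤ Subgroup.zpowers φ := by
    rw [Subgroup.zpowers_le]
    exact hmem
  have hD : IsPGroup 2 (Subgroup.zpowers ψ) := by
    rintro ⟨x, hx⟩
    refine ⟨1, Subtype.ext ?_⟩
    obtain ⟨j, rfl⟩ := Subgroup.mem_zpowers_iff.1 hx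
    show (ψ ^ j) ^ (2 ^ 1) = 1
    rw [pow_one, pow_two, ← zpow_add, ← two_mul, zpow_mul, zpow_two, hψ2, one_zpow]
  have hTz : ∀ s ∈ P.S, TrMod (Subgroup.zpowers φ) U (V s) := by
    intro s hs
    have hPz := inv_zpowers (hP s hs)
    have hVz : Inv (Subgroup.zpowers φ) (V s) := (hV s hs).inv hUB hUz hBz hPz
    let T : Subgroup (MulAut K) :=
      { carrier := {χ | χ ∈ Subgroup.zpowers φ ∧ ∀ u ∈ U, u⁻¹ * χ u ∈ V s}
        one_mem' := ⟨one_mem _, fun u _ => by simp⟩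
        mul_mem' := fun {a b} ha hb => ⟨mul_mem ha.1 hb.1, fun u hu => by
          have h1 := ha.2 u hu
          have h2 := hVz.apply_mem ha.1 (hb.2 u hu)
          have h3 : u⁻¹ * (a * b) u = (u⁻¹ * a u) * a (u⁻¹ * b u) := by
            rw [MulAut.mul_apply, map_mul, map_inv]; group
          rw [h3]
          exact mul_mem h1 h2⟩
        inv_mem' := fun {a} ha => ⟨inv_mem ha.1, fun u hu => by
          have h2 := hVz.apply_mem (inv_mem ha.1) (ha.2 u hu)
          rw [map_mul, map_inv, MulAut.inv_apply_self] at h2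
          have h3 : u⁻¹ * a⁻¹ u = ((a⁻¹ u)⁻¹ * u)⁻¹ := by group
          rw [h3]
          exact inv_mem h2⟩ }
    have hT1 : Subgroup.zpowers φ ≤ T := by
      rw [Subgroup.zpowers_le]
      exact ⟨Subgroup.mem_zpowers φ, hT s hs⟩
    intro χ hχ u hu
    exact (hT1 hχ).2 u hu
  have hbot := eq_one (l := 2) P U hcore hUB hBU hUN hlU V hV hD (Inv.mono_sub hle hUz) (Inv.mono_sub hle hBz)
    (fun s hs => Inv.mono_sub hle (inv_zpowers (hP s hs))) (fun s hs χ hχ => hTz s hs χ (hle hχ))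
  apply hψ1
  have : ψ ∈ Subgroup.zpowers ψ := Subgroup.mem_zpowers ψ
  rwa [hbot, Subgroup.mem_bot] at this

universe u

/-- `U` is a Sylow subgroup. -/
theorem exists_sylow_eq [Finite K] (P : Cfsg.BNPair K) {p : ℕ} [hp : Fact p.Prime] (U : Subgroup K)
    (hUp : IsPGroup p U) (hUB : U ≤ P.B) (hBU : ∀ b ∈ P.B, ∀ u ∈ U, b * u * b⁻¹ ∈ U)
    (hUN : ∀ b ∈ P.B, ∃ u ∈ U, u⁻¹ * b ∈ P.N)
    (m : ℕ) (hm : ¬ p ∣ m) (hH : ∀ h ∈ P.B, h ∈ P.N → h ^ m = 1)
    (hB : Subgroup.normalizer (U : Set K) = P.B) : ∃ S : Sylow p K, (S : Subgroup K) = U := by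
  apply exists_sylow U hUp
  rw [hB]
  intro h
  have hn : (U.subgroupOf P.B).Normal := by
    constructor
    intro u hu b
    rw [Subgroup.mem_subgroupOf] at hu ⊢
    exact hBU b b.2 u hu
  have h1 : p ∣ Nat.card (P.B ⧸ U.subgroupOf P.B) := h
  obtain ⟨x, hx⟩ := exists_prime_orderOf_dvd_card' p h1
  induction x using QuotientGroup.induction_on with
  | H b =>
    obtain ⟨u, hu, hun⟩ := hUN b b.2
    have h2 : u⁻¹ * (b : K) ∈ P.B := mul_mem (inv_mem (hUB hu)) b.2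
    have h3 : (QuotientGroup.mk b : P.B ⧸ U.subgroupOf P.B) = QuotientGroup.mk (⟨u⁻¹ * b, h2⟩ : P.B) := by
      rw [QuotientGroup.eq, Subgroup.mem_subgroupOf]
      show (b : K)⁻¹ * (u⁻¹ * b) ∈ U
      have h4 := hBU (b : K)⁻¹ (inv_mem b.2) _ (inv_mem hu)
      rw [inv_inv] at h4
      rwa [← mul_assoc]
    have h4 : (QuotientGroup.mk b : P.B ⧸ U.subgroupOf P.B) ^ m = 1 := by
      rw [h3, ← QuotientGroup.mk_pow]
      have h5 : (⟨u⁻¹ * b, h2⟩ : P.B) ^ m = 1 := by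
        apply Subtype.ext
        exact hH _ h2 hun
      rw [h5]
      rfl
    exact hm (hx ▸ orderOf_dvd_of_pow_eq_one h4)

/-- **THEOREM OUT, general form.** -/
theorem outRk_of_chain {K : Type u} [Group K] [Finite K] (P : Cfsg.BNPair K) {p : ℕ} [hp : Fact p.Prime] (hp2 : p ≠ 2)
    (U : Subgroup K) (hUp : IsPGroup p U) (hcore : P.B.normalCore = ⊥)
    (hUB : U ≤ P.B) (hBU : ∀ b ∈ P.B, ∀ u ∈ U, b * u * b⁻¹ ∈ U)
    (hUN : ∀ b ∈ P.B, ∃ u ∈ U, u⁻¹ * b ∈ P.N)
    (m : ℕ) (hm : ¬ p ∣ m) (hH : ∀ h ∈ P.B, h ∈ P.N → h ^ m = 1) (V : K → Subgroup K)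
    (hV : ∀ s ∈ P.S, Node P U s (V s)) (g c : ℕ)
    (hperm : ∀ D : Subgroup (MulAut K), IsPGroup 2 D → Inv D U → Inv D P.B →
      (famStab ((fun t => P.parabolic {t}) '' P.S)).relIndex D ≤ 2 ^ g)
    (hchain : ∀ D : Subgroup (MulAut K), IsPGroup 2 D → Inv D U → Inv D P.B →
      (∀ s ∈ P.S, Inv D (P.parabolic {s})) → ∃ D', Cyc c D D' ∧
        ∀ φ ∈ D', ∃ b ∈ P.B, ∀ s ∈ P.S, ∀ u ∈ U, (b * u * b⁻¹)⁻¹ * φ u ∈ V s) : OutRk K (c + g) := by
  have hB : Subgroup.normalizer (U : Set K) = P.B := by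
    refine normalizer_eq P _ hUB hBU fun s hs => ?_
    obtain ⟨u, hu, huV⟩ := (hV s hs).ne
    exact ⟨u, hu, fun h => huV ((hV s hs).stab u hu h)⟩
  have h2U : ¬ 2 ∣ Nat.card U := by
    intro h
    obtain ⟨k, hk⟩ := hUp.exists_card_eq
    rw [hk] at h
    have := Nat.prime_two.dvd_of_dvd_pow h
    exact hp2 ((Nat.prime_dvd_prime_iff_eq Nat.prime_two hp.out).1 this).symm
  obtain ⟨S, hS⟩ := exists_sylow_eq P U hUp hUB hBU hUN m hm hH hB
  intro A hA
  -- the quotient by the inner automorphisms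
  have hI := conj_range_normal K
  have key : ∀ D : Subgroup (MulAut K), IsPGroup 2 D →
      (∀ d ∈ D, QuotientGroup.mk' (MulAut.conj : K →* MulAut K).range d *
        QuotientGroup.mk' (MulAut.conj : K →* MulAut K).range d = 1) → Inv D U →
      Nat.card (D.map (QuotientGroup.mk' (MulAut.conj : K →* MulAut K).range)) ≤ 2 ^ (c + g) := by
    intro D hD hf hDU
    set f := QuotientGroup.mk' (MulAut.conj : K →* MulAut K).range with hfdef
    have hDB : Inv D P.B := by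
      have := hDU.normalizer
      rwa [hB] at this
    set Fam : Set (Subgroup K) := (fun t => P.parabolic {t}) '' P.S with hFam
    set E := D ⊓ famStab Fam with hE
    have hED : E ≤ D := inf_le_left
    have h1 : E.relIndex D ≤ 2 ^ g := by
      have h2 := hperm D hD hDU hDB
      rw [hE, inf_comm, Subgroup.inf_relIndex_right]
      exact h2
    have hUE := Inv.mono_sub hED hDU
    have hBE := Inv.mono_sub hED hDB
    have hPE : ∀ s ∈ P.S, Inv E (P.parabolic {s}) := fun s hs φ hφ => mem_famStab.1 hφ.2 _ ⟨s, hs, rfl⟩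
    have hEp : IsPGroup 2 E := hD.to_le hED
    obtain ⟨D', h4, h5⟩ := hchain E hEp hUE hBE hPE
    have h7 := h4.card_le f (fun d hd => hf d (hED hd))
    have h8 : D'.map f = ⊥ := by
      rw [Subgroup.map_eq_bot_iff]
      intro φ hφ
      rw [MonoidHom.mem_ker]
      obtain ⟨b, hb, hbs⟩ := h5 φ hφ
      have hφE : φ ∈ E := h4.le hφ
      set ψ : MulAut K := (MulAut.conj b)⁻¹ * φ with hψ
      have hψa : ∀ x, ψ x = b⁻¹ * φ x * b := by
        intro x
        rw [hψ, ← map_inv, MulAut.mul_apply, MulAut.conj_apply, inv_inv]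
      have hstab : ∀ X : Subgroup K, Inv E X → b ∈ Subgroup.normalizer (X : Set K) →
          X.map ψ.toMonoidHom = X := by
        intro X hX hbX
        apply (mem_stab_iff (A := X)).2
        intro x hx
        rw [hψa]
        have h9 := (Subgroup.mem_normalizer_iff.1 (inv_mem hbX) (φ x)).1 (hX.apply_mem hφE hx)
        rwa [inv_inv] at h9
      have hodd := odd_orderOf P U hcore hUB hBU hUN h2U V hV (φ := ψ)
        (hstab U hUE (by rw [hB]; exact hb))
        (hstab P.B hBE (Subgroup.le_normalizer hb))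
        (fun s hs => hstab _ (hPE s hs) (Subgroup.le_normalizer (B_le_parabolic P _ hb)))
        (fun s hs u hu => by
          have h9 := hbs s hs u hu
          -- `u⁻¹ b⁻¹ φ(u) b = b⁻¹ ((b u b⁻¹)⁻¹ φ u) b`
          have h10 := (hV s hs).conj_B b⁻¹ (inv_mem hb) _ h9
          have h11 : b⁻¹ * ((b * u * b⁻¹)⁻¹ * φ u) * b⁻¹⁻¹ = u⁻¹ * ψ u := by
            rw [hψa]; group
          rwa [h11] at h10)
      have hfψ : f ψ = f φ := by
        rw [hψ, map_mul]
        have : f (MulAut.conj b)⁻¹ = 1 := (QuotientGroup.eq_one_iff _).2 (inv_mem ⟨b, rfl⟩)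
        rw [this, one_mul]
      have h12 : f φ * f φ = 1 := hf φ (hED hφE)
      rw [← hfψ] at h12 ⊢
      obtain ⟨k, hk⟩ := hodd
      have h13 : f ψ ^ (orderOf ψ) = 1 := by rw [← map_pow, pow_orderOf_eq_one, map_one]
      rw [hk, pow_add, pow_mul, pow_two, h12, one_pow, one_mul, pow_one] at h13
      exact h13
    have h9 : Nat.card (D'.map f) = 1 := by rw [h8, Nat.card_unique]
    rw [h9, mul_one] at h7
    calc Nat.card (D.map f) ≤ E.relIndex D * Nat.card (E.map f) := card_map_le f hED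
      _ ≤ 2 ^ g * 2 ^ c := Nat.mul_le_mul h1 h7
      _ = _ := by rw [← pow_add, add_comm]
  exact outRk_of_stab_mk S (c + g) (fun D h1 h2 h3 => key D h1 h2 (hS ▸ h3)) A hA

/-- The crude permutation bound. -/
theorem perm_le [Finite K] (P : Cfsg.BNPair K) {D : Subgroup (MulAut K)} (hD : IsPGroup 2 D) (hB : Inv D P.B) :
    (famStab ((fun t => P.parabolic {t}) '' P.S)).relIndex D ≤ 2 ^ padicValNat 2 (Nat.card P.S).factorial := by
  have : Fact (Nat.Prime 2) := ⟨Nat.prime_two⟩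
  set F : Set (Subgroup K) := (fun t => P.parabolic {t}) '' P.S with hF
  have hFf : F.Finite := (Set.toFinite P.S).image _
  have hperm : ∀ φ ∈ D, ∀ A ∈ F, A.map φ.toMonoidHom ∈ F := by
    rintro φ hφ _ ⟨t, ht, rfl⟩
    obtain ⟨t', ht', h⟩ := exists_map_eq P φ (hB φ hφ) ht
    exact ⟨t', ht', h.symm⟩
  have h1 : (famStab F).relIndex D ∣ (Nat.card P.S).factorial := by
    refine (relIndex_dvd_factorial F hFf hperm).trans (Nat.factorial_dvd_factorial ?_)
    rw [hF, Nat.card_coe_set_eq, Nat.card_coe_set_eq]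
    exact Set.ncard_image_le (Set.toFinite _)
  obtain ⟨k, hk⟩ := hD.index ((famStab F).subgroupOf D)
  exact le_two_pow_of_dvd (Nat.factorial_ne_zero _) ⟨k, hk⟩ h1

/-- **THEOREM OUT, crude form** (hypotheses of `Schreier.BNUse.sch_of_bn'`). -/
theorem outRk' {K : Type u} [Group K] [Finite K] (P : Cfsg.BNPair K) {p : ℕ} [hp : Fact p.Prime] (hp2 : p ≠ 2)
    (U : Subgroup K) (hUp : IsPGroup p U) (hcore : P.B.normalCore = ⊥)
    (hUB : U ≤ P.B) (hBU : ∀ b ∈ P.B, ∀ u ∈ U, b * u * b⁻¹ ∈ U)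
    (hUN : ∀ b ∈ P.B, ∃ u ∈ U, u⁻¹ * b ∈ P.N)
    (m : ℕ) (hm : ¬ p ∣ m) (hH : ∀ h ∈ P.B, h ∈ P.N → h ^ m = 1) (k : ℕ)
    (hloc : ∀ s ∈ P.S, ∃ V : Subgroup K, Node P U s V ∧ NodeRk P U s V k) :
    OutRk K (k * Nat.card P.S + padicValNat 2 (Nat.card P.S).factorial) := by
  classical
  choose! V hV hn using hloc
  refine outRk_of_chain P hp2 U hUp hcore hUB hBU hUN m hm hH V hV _ _
    (fun D hD _ hDB => perm_le P hD hDB) fun D _ hU hB hP => ?_
  have hT : ((Set.toFinite P.S).toFinset : Set K) = P.S := Set.Finite.coe_toFinset _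
  have hTs : ∀ {s}, s ∈ (Set.toFinite P.S).toFinset → s ∈ P.S := fun {s} hs => by
    rw [← hT]; exact hs
  obtain ⟨D', h1, h2⟩ := exists_chain P U hUB V (fun _ => k) (Set.toFinite P.S).toFinset (by rw [hT])
    (fun s hs => hV s (hTs hs)) (fun s hs => hn s (hTs hs)) hU hB (fun s hs => hP s (hTs hs))
  rw [Finset.sum_const, smul_eq_mul, mul_comm, ← Set.ncard_eq_toFinset_card, ← Nat.card_coe_set_eq] at h1
  refine ⟨D', h1, fun φ hφ => ⟨1, one_mem _, fun s hs u hu => ?_⟩⟩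
  have h3 : s ∈ (Set.toFinite P.S).toFinset := by
    rw [← Finset.mem_coe, hT]; exact hs
  have h4 := h2 s h3 φ hφ u hu
  simpa using h4

end Cfsg.Agent.Omega.TwoF.Out

end

section


/-!
# The column RK from an inner bound and THEOREM OUT (TABLE 2F)
-/

set_option autoImplicit false

namespace Cfsg.Agent.Omega.TwoF.Out

open Subgroup

/-- Inner part and outer part. -/
theorem rk_of_out {K : Type*} [Group K] [Finite K] {b c : ℕ}
    (hb : ∀ E : Subgroup K, (∀ x ∈ E, x * x = 1) → Nat.card E ≤ 2 ^ b) (hZ : center K = ⊥)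
    (hc : OutRk K c) : Omega.TwoF.RK K (b + c) := by
  intro A hA
  have h1 := hc A fun a ha => by rw [← pow_two]; exact hA a ha
  have hinj : Function.Injective (MulAut.conj : K →* MulAut K) := by
    rw [injective_iff_map_eq_one]
    intro g hg
    rw [← mem_bot, ← hZ, mem_center_iff]
    intro x
    have h2 := DFunLike.congr_fun hg x
    simp only [MulAut.conj_apply, MulAut.one_apply] at h2
    exact (mul_inv_eq_iff_eq_mul.1 h2).symm
  set E : Subgroup K := A.comap (MulAut.conj : K →* MulAut K) with hE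
  have h2 : E.map (MulAut.conj : K →* MulAut K) = A ⊓ (MulAut.conj : K →* MulAut K).range := by
    rw [hE, Subgroup.map_comap_eq, inf_comm]
  have h3 : Nat.card (A ⊓ (MulAut.conj : K →* MulAut K).range : Subgroup (MulAut K)) = Nat.card E := by
    rw [← h2]
    exact (Nat.card_congr (E.equivMapOfInjective _ hinj).toEquiv).symm
  have h4 : Nat.card E ≤ 2 ^ b := by
    refine hb E fun x hx => hinj ?_
    rw [map_mul, map_one, ← pow_two]
    exact hA _ hx
  rw [h3] at h1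
  calc Nat.card A ≤ 2 ^ c * Nat.card E := h1
    _ ≤ 2 ^ c * 2 ^ b := Nat.mul_le_mul_left _ h4
    _ = 2 ^ (b + c) := by rw [← pow_add, add_comm]

/-- The 2-rank of a linear group without scalars. -/
theorem card_le_of_linear {K : Type*} [Group K] [Finite K] {F ι : Type*} [Field F] [Fintype ι] [DecidableEq ι]
    (h2 : (2 : F) ≠ 0) {n : ℕ} (hι : Fintype.card ι = n) (hn : 1 ≤ n) (f : K →* GL ι F)
    (hf : Function.Injective f) (hZ : center K = ⊥) (E : Subgroup K) (hE : ∀ x ∈ E, x * x = 1) :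
    Nat.card E ≤ 2 ^ RkLin.rk n := by
  refine RkLin.card_le_matrix h2 hι hn (fun e : E => f e) ?_ (fun a => Subtype.ext (hE a.1 a.2)) ?_
  · intro a b
    refine ⟨1, ?_⟩
    rw [one_smul, ← Units.val_mul, ← map_mul]
    rfl
  · rintro a ⟨c, hc⟩
    apply Subtype.ext
    rw [Subgroup.coe_one, ← mem_bot, ← hZ, mem_center_iff]
    intro g
    apply hf
    apply Units.ext
    rw [map_mul, map_mul, Units.val_mul, Units.val_mul, hc]
    simp

/-- The centre of a group with a (B, N)-pair as in THEOREM OUT is trivial. -/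
theorem center_eq_bot {K : Type*} [Group K] (P : Cfsg.BNPair K) (U : Subgroup K) (hcore : P.B.normalCore = ⊥)
    (hUB : U ≤ P.B) (hBU : ∀ b ∈ P.B, ∀ u ∈ U, b * u * b⁻¹ ∈ U)
    (hloc : ∀ s ∈ P.S, ∃ V : Subgroup K, Schreier.BNSch.Node P U s V) : center K = ⊥ := by
  have hB : Subgroup.normalizer (U : Set K) = P.B := by
    refine Schreier.BNSch.normalizer_eq P _ hUB hBU fun s hs => ?_
    obtain ⟨V, hV⟩ := hloc s hs
    obtain ⟨u, hu, huV⟩ := hV.ne
    exact ⟨u, hu, fun h => huV (hV.stab u hu h)⟩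
  have h1 : center K ≤ P.B := by
    rw [← hB]
    intro z hz
    rw [Subgroup.mem_normalizer_iff]
    intro u
    have h2 : z * u * z⁻¹ = u := by
      rw [← mem_center_iff.1 hz u, mul_inv_cancel_right]
    rw [h2]
  rw [← le_bot_iff, ← hcore]
  exact (Subgroup.normal_le_normalCore (H := P.B)).2 h1

/-- **The column RK of a linear group with a (B, N)-pair, crude form.** -/
theorem rk_of_bn {K : Type*} [Group K] [Finite K] (P : Cfsg.BNPair K) {p : ℕ} [hp : Fact p.Prime] (hp2 : p ≠ 2)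
    (U : Subgroup K) (hUp : IsPGroup p U) (hcore : P.B.normalCore = ⊥)
    (hUB : U ≤ P.B) (hBU : ∀ b ∈ P.B, ∀ u ∈ U, b * u * b⁻¹ ∈ U)
    (hUN : ∀ b ∈ P.B, ∃ u ∈ U, u⁻¹ * b ∈ P.N)
    (m : ℕ) (hm : ¬ p ∣ m) (hH : ∀ h ∈ P.B, h ∈ P.N → h ^ m = 1) (k : ℕ)
    (hloc : ∀ s ∈ P.S, ∃ V : Subgroup K, Schreier.BNSch.Node P U s V ∧ NodeRk P U s V k)
    {F ι : Type*} [Field F] [Fintype ι] [DecidableEq ι]
    (h2 : (2 : F) ≠ 0) {n : ℕ} (hι : Fintype.card ι = n) (hn : 1 ≤ n) (f : K →* GL ι F)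
    (hf : Function.Injective f) {l : ℕ} (hl : Nat.card P.S ≤ l) :
    Omega.TwoF.RK K (RkLin.rk n + (k * l + padicValNat 2 l.factorial)) := by
  have hZ := center_eq_bot P U hcore hUB hBU fun s hs => ⟨_, (hloc s hs).choose_spec.1⟩
  refine rk_of_out (card_le_of_linear h2 hι hn f hf hZ) hZ
    ((outRk' P hp2 U hUp hcore hUB hBU hUN m hm hH k hloc).mono ?_)
  refine Nat.add_le_add (Nat.mul_le_mul_left _ hl) ?_
  have : Fact (Nat.Prime 2) := ⟨Nat.prime_two⟩
  exact (padicValNat_dvd_iff_le (Nat.factorial_ne_zero l)).1 (pow_padicValNat_dvd.trans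
    (Nat.factorial_dvd_factorial hl))

end Cfsg.Agent.Omega.TwoF.Out

end

section


/-!
# THEOREM OUT with the full torus divided out (TABLE 2F, outer part)

All root groups of the nodes are parametrised by one finite field `F`; the torus of `K` induces all families of
scalars. Then the outer part consists of field automorphisms (one step for each node) and of the permutations of the
nodes: `OutRk K (|ι| + g)`, and `OutRk K g` if `F` has no automorphisms.
-/

set_option autoImplicit false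

namespace Cfsg.Agent.Omega.TwoF.Out

open Cfsg.Agent.Schreier.Basic Cfsg.Agent.Schreier.Tools Cfsg.Agent.Schreier.BNSch
  Cfsg.Agent.Schreier.SylowCrit Cfsg.Agent.Schreier.BNUse

section semi

variable {Γ : Type*} [Group Γ] {F : Type*} [Field F] [Finite F]

/-- One step: the elements acting linearly. -/
theorem step_gal {D : Subgroup Γ} {f : D → F → F} (h : Semi D f) (E : Subgroup Γ) (hE : E ≤ D) :
    ∃ E' ≤ E, Cyc 1 E E' ∧ ∀ φ (hφ : φ ∈ D), φ ∈ E' → ∀ t, f ⟨φ, hφ⟩ t = t * f ⟨φ, hφ⟩ 1 := by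
  have hcyc : IsCyclic (RingAut F) := isCyclic_ringAut
  set g : E →* RingAut F := h.σHom.comp (Subgroup.inclusion hE) with hg
  refine ⟨g.ker.map E.subtype, Subgroup.map_subtype_le _,
    Cyc.of_hom (Subgroup.map_subtype_le _) g fun d hd hx => ⟨⟨d, hd⟩, hx, rfl⟩, ?_⟩
  rintro φ hφ ⟨x, hx, rfl⟩ t
  have h1 : h.σHom ⟨x, hφ⟩ = 1 := hx
  have h2 : h.σ ⟨x, hφ⟩ t = t := by
    rw [← h.σHom_apply, h1]
    rfl
  have h3 := h.σ_mul_one ⟨x, hφ⟩ t
  rw [h2] at h3
  exact h3.symm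

/-- All nodes. -/
theorem chain_gal {ι : Type*} (T : Finset ι) {D : Subgroup Γ} {f : ι → D → F → F} (h : ∀ i, Semi D (f i)) :
    ∃ E ≤ D, Cyc T.card D E ∧ ∀ φ (hφ : φ ∈ D), φ ∈ E → ∀ i ∈ T, ∀ t, f i ⟨φ, hφ⟩ t = t * f i ⟨φ, hφ⟩ 1 := by
  classical
  induction T using Finset.induction_on with
  | empty => exact ⟨D, le_rfl, Cyc.refl D, by simp⟩
  | insert i T hi ih =>
    obtain ⟨E, hE, h1, h2⟩ := ih
    obtain ⟨E', hE', h3, h4⟩ := step_gal (h i) E hE
    refine ⟨E', hE'.trans hE, ?_, ?_⟩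
    · rw [Finset.card_insert_of_notMem hi]
      exact h1.trans h3
    · intro φ hφ hφE j hj t
      rcases Finset.mem_insert.1 hj with rfl | hj
      · exact h4 φ hφ hφE t
      · exact h2 φ hφ (hE' hφE) j hj t

end semi

universe u

/-- **THEOREM OUT with the full torus.** -/
theorem outRk_of_torus {K : Type u} [Group K] [Finite K] (P : Cfsg.BNPair K) {p : ℕ} [hp : Fact p.Prime] (hp2 : p ≠ 2)
    (U H : Subgroup K) (hUp : IsPGroup p U) (hcore : P.B.normalCore = ⊥)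
    (hUB : U ≤ P.B) (hBU : ∀ b ∈ P.B, ∀ u ∈ U, b * u * b⁻¹ ∈ U)
    (hUN : ∀ b ∈ P.B, ∃ u ∈ U, u⁻¹ * b ∈ P.N) (hHB : H ≤ P.B)
    (m : ℕ) (hm : ¬ p ∣ m) (hH : ∀ h ∈ P.B, h ∈ P.N → h ^ m = 1)
    {ι : Type*} [Fintype ι] (n : ι → K) (hn : P.S = Set.range n) (hninj : Function.Injective n)
    (V : ι → Subgroup K) (hV : ∀ i, Node P U (n i) (V i))
    {F : Type*} [Field F] [Finite F] (x : ι → F → K)
    (hdec : ∀ i, ∀ u ∈ U, ∃ t, (x i t)⁻¹ * u ∈ V i)
    (hsemi : ∀ i, ∀ D : Subgroup (MulAut K), Inv D U → Inv D P.B → Inv D (V i) →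
      ∃ f : D → F → F, Semi D f ∧ (∀ (φ : D) t, (x i (f φ t))⁻¹ * (φ : MulAut K) (x i t) ∈ V i) ∧
        ∀ φ (hφ : φ ∈ D), (∀ t, f ⟨φ, hφ⟩ t = t) → ∀ u ∈ U, u⁻¹ * φ u ∈ V i)
    (htor : ∀ l : ι → F, (∀ i, l i ≠ 0) → ∃ h ∈ H, ∀ i, ∀ t, h * x i t * h⁻¹ = x i (l i * t))
    (g : ℕ) (hperm : ∀ D : Subgroup (MulAut K), IsPGroup 2 D → Inv D U → Inv D P.B →
      (famStab ((fun t => P.parabolic {t}) '' P.S)).relIndex D ≤ 2 ^ g) :
    OutRk K (Fintype.card ι + g) ∧ ((∀ σ : RingAut F, σ = 1) → OutRk K (0 + g)) := by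
  classical
  -- nodes indexed by the elements of `K`
  let V' : K → Subgroup K := fun s => if h : ∃ i, n i = s then V h.choose else ⊥
  have hV' : ∀ i, V' (n i) = V i := by
    intro i
    have h : ∃ j, n j = n i := ⟨i, rfl⟩
    show (if h : ∃ j, n j = n i then V h.choose else ⊥) = V i
    rw [dif_pos h, hninj h.choose_spec]
  have hVn : ∀ s ∈ P.S, Node P U s (V' s) := by
    rw [hn]
    rintro _ ⟨i, rfl⟩
    rw [hV']
    exact hV i
  -- the final condition for linear automorphisms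
  have hend : ∀ D : Subgroup (MulAut K), Inv D U → (∀ i, Inv D (V i)) → ∀ f : ι → D → F → F,
      (∀ i, Semi D (f i)) →
      (∀ i, ∀ (φ : D) t, (x i (f i φ t))⁻¹ * (φ : MulAut K) (x i t) ∈ V i) →
      ∀ φ (hφ : φ ∈ D), (∀ i t, f i ⟨φ, hφ⟩ t = t * f i ⟨φ, hφ⟩ 1) →
        ∃ b ∈ P.B, ∀ s ∈ P.S, ∀ u ∈ U, (b * u * b⁻¹)⁻¹ * φ u ∈ V' s := by
    intro D hU hVD f hf hrel φ hφ hlin
    obtain ⟨h, hh, hx⟩ := htor (fun i => f i ⟨φ, hφ⟩ 1) fun i => (hf i).one_ne _
    refine ⟨h, hHB hh, ?_⟩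
    rw [hn]
    rintro _ ⟨i, rfl⟩ u hu
    rw [hV']
    obtain ⟨t, ht⟩ := hdec i u hu
    -- `u = x t v`
    have h1 := (hVD i).apply_mem hφ ht
    have h2 := (hV i).conj_B h (hHB hh) _ ht
    have h3 := hrel i ⟨φ, hφ⟩ t
    rw [hlin, mul_comm t] at h3
    have h4 : (h * u * h⁻¹)⁻¹ * φ u =
        (h * ((x i t)⁻¹ * u) * h⁻¹)⁻¹ * ((x i (f i ⟨φ, hφ⟩ 1 * t))⁻¹ * φ (x i t)) * φ ((x i t)⁻¹ * u) := by
      rw [← hx i t, map_mul, map_inv]
      group
    rw [h4]
    exact mul_mem (mul_mem (inv_mem h2) h3) h1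
  constructor
  · refine outRk_of_chain P hp2 U hUp hcore hUB hBU hUN m hm hH V' hVn g _ hperm fun D _ hU hB hP => ?_
    have hVD : ∀ i, Inv D (V i) := fun i => (hV i).inv hUB hU hB (hP _ (by rw [hn]; exact ⟨i, rfl⟩))
    choose f hf hrel _ using fun i => hsemi i D hU hB (hVD i)
    obtain ⟨E, hE, hc, hlin⟩ := chain_gal (Finset.univ : Finset ι) hf
    refine ⟨E, hc, fun φ hφ => ?_⟩
    exact hend D hU hVD f hf hrel φ (hE hφ) fun i t => hlin φ (hE hφ) hφ i (Finset.mem_univ i) t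
  · intro hσ
    refine outRk_of_chain P hp2 U hUp hcore hUB hBU hUN m hm hH V' hVn g _ hperm fun D _ hU hB hP => ?_
    have hVD : ∀ i, Inv D (V i) := fun i => (hV i).inv hUB hU hB (hP _ (by rw [hn]; exact ⟨i, rfl⟩))
    choose f hf hrel _ using fun i => hsemi i D hU hB (hVD i)
    refine ⟨D, Cyc.refl D, fun φ hφ => hend D hU hVD f hf hrel φ hφ fun i t => ?_⟩
    have h1 := hσ ((hf i).σHom ⟨φ, hφ⟩)
    have h2 : (hf i).σ ⟨φ, hφ⟩ t = t := by
      rw [← (hf i).σHom_apply, h1]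
      rfl
    have h3 := (hf i).σ_mul_one ⟨φ, hφ⟩ t
    rw [h2] at h3
    exact h3.symm

end Cfsg.Agent.Omega.TwoF.Out

end

section


/-!
# TABLE 2F, row ³D₄(q), `q` odd, column RK: elementary abelian 2-groups of automorphisms have order at most `2 ^ 32`

Crude form of THEOREM OUT (`Out.rk_of_bn`) with the nodes of `Schreier.ThreeD4`.
-/

set_option autoImplicit false

namespace Cfsg.Agent.Omega.TwoF.TwD4Rk

open Cfsg Cfsg.Lie
open Cfsg.Agent.Omega.TwoF.Out
open Cfsg.Agent.Schreier.ThreeD4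
open Cfsg.Agent.Schreier.Basic Cfsg.Agent.Schreier.Tools Cfsg.Agent.Schreier.BNSch Cfsg.Agent.Schreier.BNUse
open Cfsg.Agent.ChevalleyStructure.D4Fixed (sig coe_sig fix mem_fix twisted_le_fix twisted_induction)
open Cfsg.Agent.ChevalleyStructure.D4Cols (xU coe_xU wU)
open Cfsg.Agent.ChevalleyStructure
open Cfsg.Agent.ChevalleyStructure.D4Comm
open Cfsg.Agent.ChevalleyStructure.D4CommTab
open Cfsg.Agent.ChevalleyStructure.D4Pos
open Cfsg.Agent.ChevalleyStructure.D4NCheck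
open Cfsg.Agent.ChevalleyStructure.D4NConj (nR nR_def nG nG_conj nG_def hR hR_def nR_eq nR_inv xG_inv torG torG_conj
  torG_mul torG_one chi chi_def chi_ne_zero dv_def hR_eq_torG)
open Cfsg.Agent.ChevalleyStructure.SparseHDiag (cartanRS)
open Cfsg.Agent.ChevalleyStructure.TwistedU
open Cfsg.Agent.ChevalleyStructure.D4U
open Cfsg.Agent.ChevalleyStructure.D4RGD
open Cfsg.Agent.ChevalleyStructure.D4Twisted
open scoped commutatorElement

section Twisted
variable {K : Type*} [Field K] {q : ℕ} {φ : K →+* K}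

theorem rk_aux [Finite K] (hφ : ∀ x, φ x = x ^ q) (hle : twistedD4 K q ≤ fix φ) {p : ℕ} [Fact p.Prime]
    (hp2 : p ≠ 2) (h2 : (2 : K) ≠ 0)
    (hUp : IsPGroup p ((chevD4.posUnipotent K).subgroupOf (twistedD4 K q))) (hcop : ¬ p ∣ Nat.card K - 1)
    (hfin : Finite (twistedD4 K q)) (hsimple : IsSimpleGroup (twistedD4 K q)) :
    Omega.TwoF.RK (twistedD4 K q) 32 := by
  obtain ⟨P, hPB, hPN, hPS⟩ := exists_bnPair_aux hφ hle
  let U : Subgroup ↥(twistedD4 K q) := (chevD4.posUnipotent K).subgroupOf (twistedD4 K q)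
  let H : Subgroup ↥(twistedD4 K q) := (chevD4.diagonalSubgroup K).subgroupOf (twistedD4 K q)
  have memB : ∀ g : ↥(twistedD4 K q), g ∈ P.B ↔ (g : GL chevD4.Idx K) ∈ chevD4.borelSubgroup K := by
    intro g
    rw [hPB, Subgroup.mem_subgroupOf, Subgroup.mem_inf]
    exact ⟨fun h => h.1, fun h => ⟨h, g.2⟩⟩
  have memN : ∀ g : ↥(twistedD4 K q), g ∈ P.N ↔ (g : GL chevD4.Idx K) ∈ chevD4.monomialSubgroup K := by
    intro g
    rw [hPN, Subgroup.mem_subgroupOf, Subgroup.mem_inf]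
    exact ⟨fun h => h.1, fun h => ⟨h, g.2⟩⟩
  have hBUH : ∀ b ∈ P.B, ∃ u ∈ U, ∃ h ∈ H, b = u * h := by
    intro b hb
    obtain ⟨u, hu, huG, h, hh, hhG, e⟩ := ((tdata hφ hle).mem_B_iff (b : GL chevD4.Idx K) b.2).1 ((memB b).1 hb)
    exact ⟨⟨u, huG⟩, hu, ⟨h, hhG⟩, hh, Subtype.ext e⟩
  have hUB : U ≤ P.B := fun u hu => (memB u).2 (Subgroup.mem_sup_left hu)
  have hHB : H ≤ P.B := fun h hh => (memB h).2 (Subgroup.mem_sup_right hh)
  have hHU : ∀ h ∈ H, ∀ u ∈ U, h * u * h⁻¹ ∈ U := fun h hh u hu => (tdata hφ hle).conj_H_U h hh u hu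
  have hBU : ∀ b ∈ P.B, ∀ u ∈ U, b * u * b⁻¹ ∈ U := by
    intro b hb u hu
    obtain ⟨v, hv, h, hh, rfl⟩ := hBUH b hb
    have e : v * h * u * (v * h)⁻¹ = v * (h * u * h⁻¹) * v⁻¹ := by group
    rw [e]
    exact mul_mem (mul_mem hv (hHU h hh u hu)) (inv_mem hv)
  have hfix : ∀ g : ↥(twistedD4 K q), (g : GL chevD4.Idx K) ∈ fix φ := fun g => hle g.2
  have hXfix : ∀ t : K, D4Fixed.X φ t ∈ fix φ := fun t => hle (D4Fixed.X_mem hφ t)
  have hcS : Nat.card P.S ≤ 2 := by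
    rw [hPS, Nat.card_coe_set_eq]
    exact (Set.ncard_insert_le _ _).trans (by rw [Set.ncard_singleton])
  have hι : Fintype.card chevD4.Idx = 28 := by
    show Fintype.card (Fin chevD4.rank ⊕ Fin chevD4.nroots) = 28
    rw [Fintype.card_sum, Fintype.card_fin, Fintype.card_fin]
    decide +kernel
  refine (rk_of_bn P hp2 U hUp (core_eq_bot P (by rw [hPS]; exact ⟨_, Or.inl rfl⟩)) hUB hBU ?_ (Nat.card K - 1)
    hcop ?_ 2 ?_ h2 hι (by norm_num) (twistedD4 K q).subtype (twistedD4 K q).subtype_injective hcS).mono ?_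
  · intro b hb
    obtain ⟨u, hu, h, hh, rfl⟩ := hBUH b hb
    refine ⟨u, hu, ?_⟩
    rw [inv_mul_cancel_left, memN]
    exact diagonal_le_monomial K hh
  · intro h hh hn
    have h1 : (h : GL chevD4.Idx K) ∈ chevD4.diagonalSubgroup K := by
      rw [← borel_inf_monomial]
      exact ⟨(memB h).1 hh, (memN h).1 hn⟩
    apply Subtype.ext
    exact pow_card_sub_one h1
  · intro s hs
    rw [hPS] at hs
    rcases hs with rfl | hs
    · -- the node `{p₂}`
      let F : Subfield K := RingHom.eqLocusField φ (RingHom.id K)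
      have hF : ∀ t : F, φ t = t := fun t => t.2
      have key := nodeRk_of_field P U H ((RS K ordA.tail).subgroupOf (twistedD4 K q)) (nA hφ) hBUH hHB
        (F := F) (fun t => ⟨xG 14 (t : K), xG14_mem hφ (hF t)⟩) ?_ ?_ ?_ ?_ ?_ ?_ ?_ ?_ ?_ ?_ ?_
      · exact ⟨_, key.1, key.2.1⟩
      · intro t
        exact RS14_le_U (mem_rspan xG (S := {k | k ∈ [14]}) (by simp) _)
      · intro t t'
        apply Subtype.ext
        exact xG_add 14 (t : K) (t' : K)
      · intro v hv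
        exact tail_le_U hv
      · intro u hu
        obtain ⟨v, hv, t, ht, e⟩ := decomp_a φ (u := (u : GL chevD4.Idx K)) hu (hfix u)
        have hvG : v ∈ twistedD4 K q := by
          have e2 : v = (u : GL chevD4.Idx K) * (xG 14 t)⁻¹ := by rw [e]; group
          rw [e2]
          exact mul_mem u.2 (inv_mem (xG14_mem hφ ht))
        exact ⟨⟨v, hvG⟩, hv, ⟨t, ht⟩, Subtype.ext e⟩
      · intro t v hv
        exact conj_mem_RS (r := 14) (l := ordA.tail) (by decide +kernel) (t : K) hv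
      · intro h hh v hv
        exact diag_conj_RS (l := ordA.tail) (by decide) hh hv
      · intro v hv
        exact na_inv_RS K (l := ordA.tail) (l' := ordA.tail) (by decide +kernel) hv
      · intro v hv
        exact hUB (tail_le_U hv)
      · intro t ht
        apply Subtype.ext
        exact xa_eq_zero ((memB _).1 ht)
      · intro h hh
        obtain ⟨c, hc, e⟩ := H_conj_a (φ := φ) hh (hfix h)
        exact ⟨⟨c, hc⟩, fun t => Subtype.ext (e t)⟩
      · intro c hc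
        have hc' : (c : K) ≠ 0 := fun h => hc (Subtype.ext h)
        refine ⟨⟨hR 14 (c : K), h14_mem hφ (hF c)⟩, hR_mem (by norm_num) hc', Subtype.ext ?_⟩
        exact sq_a hc'
    · -- the node `{p₁, p₃, p₄}`
      have hs' : s = nB hφ := hs
      subst hs'
      have key := nodeRk_of_field P U H ((RS K (ordB.drop 3)).subgroupOf (twistedD4 K q)) (nB hφ) hBUH hHB
        (F := K) (fun t => ⟨D4Fixed.X φ t, D4Fixed.X_mem hφ t⟩) ?_ ?_ ?_ ?_ ?_ ?_ ?_ ?_ ?_ ?_ ?_
      · exact ⟨_, key.1, key.2.1⟩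
      · intro t
        exact RSouter_le_U (X_mem_RS t)
      · intro t t'
        apply Subtype.ext
        exact X_add t t'
      · intro v hv
        exact drop_le_U hv
      · intro u hu
        obtain ⟨v, hv, t, e⟩ := decomp_b φ (u := (u : GL chevD4.Idx K)) hu (hfix u)
        have hvG : v ∈ twistedD4 K q := by
          have e2 : v = (u : GL chevD4.Idx K) * (D4Fixed.X φ t)⁻¹ := by rw [e]; group
          rw [e2]
          exact mul_mem u.2 (inv_mem (D4Fixed.X_mem hφ t))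
        exact ⟨⟨v, hvG⟩, hv, t, Subtype.ext e⟩
      · intro t v hv
        show D4Fixed.X φ t * (v : GL chevD4.Idx K) * (D4Fixed.X φ t)⁻¹ ∈ RS K (ordB.drop 3)
        have h12 := conj_mem_RS (r := 12) (l := ordB.drop 3) (by decide +kernel) (φ (φ t)) hv
        have h13 := conj_mem_RS (r := 13) (l := ordB.drop 3) (by decide +kernel) (φ t) h12
        have h18 := conj_mem_RS (r := 18) (l := ordB.drop 3) (by decide +kernel) t h13
        have e : D4Fixed.X φ t * (v : GL chevD4.Idx K) * (D4Fixed.X φ t)⁻¹ =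
            xG 18 t * (xG 13 (φ t) * (xG 12 (φ (φ t)) * (v : GL chevD4.Idx K) * (xG 12 (φ (φ t)))⁻¹) *
              (xG 13 (φ t))⁻¹) * (xG 18 t)⁻¹ := by
          unfold D4Fixed.X
          rw [xU_eq, xU_eq, xU_eq]
          group
        rw [e]
        exact h18
      · intro h hh v hv
        exact diag_conj_RS (l := ordB.drop 3) (by decide) hh hv
      · intro v hv
        exact nb_inv_RS K (l := ordB.drop 3) (l' := ordB.drop 3) (by decide +kernel) hv
      · intro v hv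
        exact hUB (drop_le_U hv)
      · intro t ht
        exact xb_eq_zero ((memB _).1 ht)
      · intro h hh
        obtain ⟨c, e⟩ := H_conj_b (φ := φ) hh (hfix h) hXfix
        exact ⟨c, fun t => Subtype.ext (e t)⟩
      · intro c hc
        refine ⟨⟨hb φ c, hb_mem hφ c⟩, hb_mem_diagonal φ hc, Subtype.ext ?_⟩
        exact sq_b hc

  · have e1 : padicValNat 2 (Nat.factorial 2) = 1 := by
      rw [Nat.factorial_two]
      exact padicValNat.self (by norm_num)
    have e2 : RkLin.rk 28 = 27 := by decide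
    rw [e1, e2]

end Twisted

/-- **RK of ³D₄(q)**, `q` odd. -/
theorem rk {K : Type*} [Field K] [Fintype K] {q : ℕ} (hq : IsPrimePow q) (hK : Fintype.card K = q ^ 3)
    (h2 : (2 : K) ≠ 0) (hfin : Finite (twistedD4 K q)) (hsimple : IsSimpleGroup (twistedD4 K q)) :
    Omega.TwoF.RK (twistedD4 K q) 32 := by
  obtain ⟨φ, hφ⟩ := D4Fixed.exists_frob hq hK
  have hle := twisted_le_fix hK hφ
  have hcard := card_U1 hq hK
  obtain ⟨p, k, hp, hk, rfl⟩ := (isPrimePow_nat_iff _).1 hq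
  have : Fact p.Prime := ⟨hp⟩
  have hp2 : p ≠ 2 := by
    rintro rfl
    apply h2
    have h3 : ((Fintype.card K : ℕ) : K) = 0 := FiniteField.cast_card_eq_zero K
    rw [hK, ← pow_mul] at h3
    push_cast at h3
    exact (pow_eq_zero_iff (by positivity)).1 h3
  refine rk_aux (p := p) hφ hle hp2 h2 ?_ ?_ hfin hsimple
  · apply IsPGroup.of_card (n := k * 12)
    have h1 : Nat.card ((chevD4.posUnipotent K).subgroupOf (twistedD4 K (p ^ k))) =
        Nat.card ↥(chevD4.posUnipotent K ⊓ twistedD4 K (p ^ k)) := by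
      rw [← Subgroup.inf_subgroupOf_right]
      exact Nat.card_congr (Subgroup.subgroupOfEquivOfLe inf_le_right).toEquiv
    rw [h1, hcard, pow_mul]
  · rw [Nat.card_eq_fintype_card, hK, ← pow_mul]
    intro h
    have h2 : p ∣ p ^ (k * 3) := dvd_pow_self p (by positivity)
    have h3 : p ∣ 1 := by
      have h4 : 1 ≤ p ^ (k * 3) := Nat.one_le_pow _ _ hp.pos
      have := (Nat.dvd_sub h2 h)
      rwa [Nat.sub_sub_self h4] at this
    exact hp.one_lt.ne' (Nat.dvd_one.1 h3)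

end Cfsg.Agent.Omega.TwoF.TwD4Rk

end

section


/-!
# The column RK of TABLE 2F for the Chevalley groups given by tables (odd characteristic)
-/

set_option autoImplicit false

namespace Cfsg.Agent.Omega.TwoF.RkChev

open Cfsg Cfsg.Lie Cfsg.Agent.ChevalleyStructure Cfsg.Agent.ChevalleyStructure.Elts
  Cfsg.Agent.ChevalleyStructure.NConj Cfsg.Agent.ChevalleyStructure.BNChev Cfsg.Agent.S1042
  Cfsg.Agent.Schreier.Basic Cfsg.Agent.Schreier.Tools Cfsg.Agent.Schreier.BNSch Cfsg.Agent.Schreier.BNUse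
  Cfsg.Agent.Schreier.ChevLocal Cfsg.Agent.Schreier.ChevSch Cfsg.Agent.Omega.TwoF.Out

universe u

variable {D : ChevalleyDatum} (hD : InList D) (F : Type u) [Field F]

/-- The (B, N)-pair data of a tabulated Chevalley group, in the form consumed by THEOREM OUT. -/
structure Data (P : BNPair ↥(D.group F)) (p : ℕ) : Prop where
  B_eq : P.B = BB D F
  S_eq : P.S = Set.range (nn hD F)
  prime : p.Prime
  char : CharP F p
  upg : IsPGroup p (UU D F)
  core : P.B.normalCore = ⊥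
  UB : UU D F ≤ P.B
  BU : ∀ b ∈ P.B, ∀ u ∈ UU D F, b * u * b⁻¹ ∈ UU D F
  UN : ∀ b ∈ P.B, ∃ u ∈ UU D F, u⁻¹ * b ∈ P.N
  dec : ∀ b ∈ P.B, ∃ u ∈ UU D F, ∃ h ∈ HH D F, b = u * h
  HB : HH D F ≤ P.B
  cop : ∀ q : ℕ, q = Nat.card F → ¬ p ∣ (q - 1) ^ D.rank
  tor : ∀ q : ℕ, q = Nat.card F → ∀ h ∈ P.B, h ∈ P.N → h ^ ((q - 1) ^ D.rank) = 1
  node : ∀ i, Node P (UU D F) (nn hD F i) (VV D F i)
  rk : ∀ i, NodeRk P (UU D F) (nn hD F i) (VV D F i) 2
  rk1 : (Nat.card F).Prime → ∀ i, NodeRk P (UU D F) (nn hD F i) (VV D F i) 1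

/-- The data exist. -/
theorem exists_data (hD : InList D) [Finite F] [IsSimpleGroup ↥(D.group F)] :
    ∃ (P : BNPair ↥(D.group F)) (p : ℕ), Data hD F P p := by
  classical
  have := Fintype.ofFinite F
  obtain ⟨P, hPB, hPN, hPS⟩ := S1042.result (F := F) D hD
  have hPS' : P.S = Set.range (nn hD F) := by
    rw [hPS]
    ext g
    constructor
    · rintro ⟨i, hi, hg⟩
      exact ⟨⟨i, hi⟩, Subtype.ext ((eq_nG_iff hD _ _ _).2 hg).symm⟩
    · rintro ⟨i, rfl⟩
      exact ⟨i, i.2, coe_nG hD _ _⟩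
  obtain ⟨p, hp⟩ := CharP.exists F
  have hpp : Fact p.Prime := ⟨CharP.char_is_prime F p⟩
  have hr : 0 < D.rank := (RootComb.good_of_mem hD).rank_pos
  have hcore := core_eq_bot P (by rw [hPS']; exact ⟨_, ⟨0, hr⟩, rfl⟩)
  have hHN : HH D F ≤ P.N := by
    rw [hPN]
    exact fun h hh => diagonal_le_monomial D F hh
  have hHB : HH D F ≤ P.B := by
    rw [hPB]
    exact fun h hh => Subgroup.mem_sup_right hh
  have hdec : ∀ b ∈ P.B, ∃ u ∈ UU D F, ∃ h ∈ HH D F, b = u * h := by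
    intro b hb
    rw [hPB] at hb
    exact exists_mul F hD hb
  have hBN : ∀ h ∈ P.B, h ∈ P.N → h ∈ HH D F := by
    intro h h1 h2
    rw [hPB] at h1
    rw [hPN] at h2
    have h3 : (h : GL D.Idx F) ∈ D.borelSubgroup F ⊓ D.monomialSubgroup F := ⟨h1, h2⟩
    rw [(S1040.result (F := F) D hD).2] at h3
    exact h3
  have hcop : ¬ p ∣ (Fintype.card F - 1) ^ D.rank := by
    intro h
    have h1 := hpp.out.dvd_of_dvd_pow h
    obtain ⟨n, -, hn⟩ := FiniteField.card F p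
    have h2 : p ∣ Fintype.card F := by
      rw [hn]
      exact dvd_pow_self p n.ne_zero
    have h3 : 1 < Fintype.card F := Fintype.one_lt_card
    have h4 : p ∣ Fintype.card F - (Fintype.card F - 1) := Nat.dvd_sub h2 h1
    rw [Nat.sub_sub_self h3.le] at h4
    exact hpp.out.one_lt.ne' (Nat.dvd_one.1 h4)
  have hloc : ∀ i, Node P (UU D F) (nn hD F i) (VV D F i) ∧ NodeRk P (UU D F) (nn hD F i) (VV D F i) 2 ∧
      ((Nat.card F).Prime → NodeRk P (UU D F) (nn hD F i) (VV D F i) 1) := by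
    intro i
    have hsn := nn_mem_normalizer hD F i
    refine nodeRk_of_field P (UU D F) (HH D F) (VV D F i) (nn hD F i) hdec hHB (xx hD i) ?_ (xx_add hD i)
      (VV_le F i) ?_ ?_ ?_ ?_ ?_ ?_ ?_ ?_
    · intro t
      exact xG_mem_posUnipotent hD (simple_pos hD i.2) t
    · intro u hu
      obtain ⟨v, hv, t, he⟩ := decomp hD i.2 (g := (u : GL D.Idx F)) hu
      exact ⟨⟨v, comp_le hD i hv⟩, hv, t, Subtype.ext he⟩
    · intro t v hv
      have h1 : xx hD i t ∈ Subgroup.normalizer ((VV D F i : Subgroup ↥(D.group F)) : Set ↥(D.group F)) :=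
        BB_le_normalizer F hD i.2 (UU_le F (xG_mem_posUnipotent hD (simple_pos hD i.2) t))
      exact (Subgroup.mem_normalizer_iff.1 h1 v).1 hv
    · intro h hh v hv
      have h1 : h ∈ Subgroup.normalizer ((VV D F i : Subgroup ↥(D.group F)) : Set ↥(D.group F)) :=
        BB_le_normalizer F hD i.2 (Subgroup.mem_sup_right hh)
      exact (Subgroup.mem_normalizer_iff.1 h1 v).1 hv
    · intro v hv
      have h1 := (Subgroup.mem_normalizer_iff.1 (inv_mem hsn) v).1 hv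
      rwa [inv_inv] at h1
    · rw [hPB]
      exact (VV_le F i).trans (UU_le F)
    · intro t ht
      rw [hPB] at ht
      exact eq_zero_of_xx_mem hD i (mem_VV_of_conj hD i (xG_mem_posUnipotent hD (simple_pos hD i.2) t) ht)
    · intro h hh
      obtain ⟨c, -, hc⟩ := diagonal_conj hD hh (simple_lt hD i.2)
      exact ⟨c, fun t => Subtype.ext (hc t)⟩
    · intro c hc
      refine ⟨⟨hG hD (D.simple i) c, hG_mem_group hD _ _⟩, hG_mem_diagonal hD (simple_lt hD i.2) hc, ?_⟩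
      apply Subtype.ext
      show hG hD (D.simple i) c * xG hD (D.simple i) 1 * (hG hD (D.simple i) c)⁻¹ = xG hD (D.simple i) (c ^ 2)
      rw [mul_inv_eq_iff_eq_mul]
      refine Units.ext ?_
      rw [Units.val_mul, Units.val_mul, coe_xG, coe_xG, coe_hG]
      have h1 := S1032.result D hD i (D.simple i) i.2 (simple_lt hD i.2) c hc 1
      rw [(RootComb.good_of_mem hD).cartan_simple i.2, mul_one] at h1
      exact_mod_cast h1
  refine ⟨P, p, hPB, hPS', hpp.out, hp, isPGroup_UU F hD, hcore, ?_, ?_, ?_, hdec, hHB, ?_, ?_,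
    fun i => (hloc i).1, fun i => (hloc i).2.1, fun h i => (hloc i).2.2 h⟩
  · rw [hPB]
    exact UU_le F
  · intro b hb u hu
    rw [hPB] at hb
    exact conj_mem_UU F hD hb hu
  · intro b hb
    obtain ⟨u, hu, h, hh, rfl⟩ := hdec b hb
    refine ⟨u, hu, ?_⟩
    rw [inv_mul_cancel_left]
    exact hHN hh
  · rintro q rfl
    rw [Nat.card_eq_fintype_card]
    exact hcop
  · rintro q rfl h h1 h2
    rw [Nat.card_eq_fintype_card]
    exact pow_eq_one F hD (hBN h h1 h2)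

theorem card_S_le {hD : InList D} {P : BNPair ↥(D.group F)} (hS : P.S = Set.range (nn hD F)) :
    Nat.card P.S ≤ D.rank := by
  rw [hS]
  refine (Nat.card_coe_set_eq _).trans_le ?_
  rw [← Set.image_univ]
  refine (Set.ncard_image_le Set.finite_univ).trans ?_
  rw [Set.ncard_univ, Nat.card_fin]

/-- **RK for the tabulated Chevalley groups over fields of odd characteristic.** -/
theorem rk (hD : InList D) [Finite F] [IsSimpleGroup ↥(D.group F)] (h2 : (2 : F) ≠ 0) :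
    Omega.TwoF.RK ↥(D.group F)
      (RkLin.rk (Fintype.card D.Idx) + (2 * D.rank + padicValNat 2 D.rank.factorial)) := by
  classical
  obtain ⟨P, p, h⟩ := exists_data F hD
  have : Fact p.Prime := ⟨h.prime⟩
  have := h.char
  have hp2 : p ≠ 2 := by
    rintro rfl
    exact h2 (CharP.cast_eq_zero F 2)
  have hne : Nonempty D.Idx := by
    have hr : 0 < D.rank := (RootComb.good_of_mem hD).rank_pos
    exact ⟨Sum.inl ⟨0, hr⟩⟩
  refine rk_of_bn P hp2 (UU D F) h.upg h.core h.UB h.BU h.UN _ (h.cop _ rfl) (h.tor _ rfl) 2 ?_ h2 rfl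
    Fintype.card_pos (D.group F).subtype (D.group F).subtype_injective (card_S_le F h.S_eq)
  intro s hs
  rw [h.S_eq] at hs
  obtain ⟨i, rfl⟩ := hs
  exact ⟨_, h.node i, h.rk i⟩

end Cfsg.Agent.Omega.TwoF.RkChev

end

section


/-!
# The column RK of TABLE 2F for the Chevalley groups given by tables: numbers
-/

set_option autoImplicit false

namespace Cfsg.Agent.Omega.TwoF.RkChev

open Cfsg Cfsg.Lie Cfsg.Agent.ChevalleyStructure Cfsg.Agent.ChevalleyStructure.Elts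
  Cfsg.Agent.ChevalleyStructure.NConj Cfsg.Agent.ChevalleyStructure.BNChev Cfsg.Agent.S1042

universe u

theorem padic_two (n k : ℕ) (h0 : n ≠ 0) (h1 : ¬ 2 ^ (k + 1) ∣ n) : padicValNat 2 n ≤ k := by
  have : Fact (Nat.Prime 2) := ⟨Nat.prime_two⟩
  by_contra hcon
  exact h1 ((padicValNat_dvd_iff_le h0).2 (by omega))

theorem card_idx (D : ChevalleyDatum) (N : ℕ) {r n : ℕ} (hr : D.rank = r) (hn : D.nroots = n) (h : r + n = N) :
    Fintype.card D.Idx = N := by
  subst hr hn h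
  show Fintype.card (Fin D.rank ⊕ Fin D.nroots) = _
  rw [Fintype.card_sum, Fintype.card_fin, Fintype.card_fin]

theorem rk_of {D : ChevalleyDatum} (hD : InList D) (F : Type u) [Field F] [Finite F]
    [IsSimpleGroup ↥(D.group F)] (h2 : (2 : F) ≠ 0) {N r k a : ℕ} (hN : Fintype.card D.Idx = N) (hr : D.rank = r)
    (hk : ¬ 2 ^ (k + 1) ∣ r.factorial) (ha : RkLin.rk N + 2 * r + k ≤ a) :
    Omega.TwoF.RK ↥(D.group F) a := by
  subst hN hr
  refine (rk F hD h2).mono (le_trans ?_ ha)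
  have := padic_two _ k (Nat.factorial_ne_zero _) hk
  omega

variable (F : Type u) [Field F] [Finite F] (h2 : (2 : F) ≠ 0)
include h2

theorem rk_g2 [IsSimpleGroup ↥(chevG2.group F)] : Omega.TwoF.RK ↥(chevG2.group F) 18 :=
  rk_of (D := chevG2) (by simp [InList]) F h2 (N := 14) (r := 2) (k := 1) (card_idx _ _ rfl rfl rfl) rfl (by decide) (by decide)

theorem rk_f4 [IsSimpleGroup ↥(chevF4.group F)] : Omega.TwoF.RK ↥(chevF4.group F) 62 :=
  rk_of (D := chevF4) (by simp [InList]) F h2 (N := 52) (r := 4) (k := 3) (card_idx _ _ rfl rfl rfl) rfl (by decide) (by decide)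

theorem rk_e6 [IsSimpleGroup ↥(chevE6.group F)] : Omega.TwoF.RK ↥(chevE6.group F) 93 :=
  rk_of (D := chevE6) (by simp [InList]) F h2 (N := 78) (r := 6) (k := 4) (card_idx _ _ rfl rfl rfl) rfl (by decide) (by decide)

theorem rk_e7 [IsSimpleGroup ↥(chevE7.group F)] : Omega.TwoF.RK ↥(chevE7.group F) 150 :=
  rk_of (D := chevE7) (by simp [InList]) F h2 (N := 133) (r := 7) (k := 4) (card_idx _ _ rfl rfl rfl) rfl (by decide) (by decide)

theorem rk_e8 [IsSimpleGroup ↥(chevE8.group F)] : Omega.TwoF.RK ↥(chevE8.group F) 270 :=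
  rk_of (D := chevE8) (by simp [InList]) F h2 (N := 248) (r := 8) (k := 7) (card_idx _ _ rfl rfl rfl) rfl (by decide) (by decide)

end Cfsg.Agent.Omega.TwoF.RkChev

end

section


/-!
# THEOREM OUT for twisted groups given by `TwistedData` (TABLE 2F, outer part)
-/

set_option autoImplicit false

namespace Cfsg.Agent.Omega.TwoF.Out

open Cfsg.Agent.Schreier.Basic Cfsg.Agent.Schreier.Tools Cfsg.Agent.Schreier.BNTorus
  Cfsg.Agent.Schreier.BNSch Cfsg.Agent.Schreier.BNTwisted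
open Cfsg.Agent.ChevalleyStructure.TwistedBN

universe u

/-- **THEOREM OUT**, crude form for a Sylow subgroup `U`. -/
theorem outRk_sylow {K : Type u} [Group K] [Finite K] (P : Cfsg.BNPair K) {p : ℕ} [hp : Fact p.Prime] (hp2 : p ≠ 2)
    (U : Sylow p K) (hcore : P.B.normalCore = ⊥)
    (hUB : (U : Subgroup K) ≤ P.B) (hBU : ∀ b ∈ P.B, ∀ u ∈ (U : Subgroup K), b * u * b⁻¹ ∈ (U : Subgroup K))
    (hUN : ∀ b ∈ P.B, ∃ u ∈ (U : Subgroup K), u⁻¹ * b ∈ P.N) (k : ℕ)
    (hloc : ∀ s ∈ P.S, ∃ V : Subgroup K, Node P (U : Subgroup K) s V ∧ NodeRk P (U : Subgroup K) s V k) :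
    OutRk K (k * Nat.card P.S + padicValNat 2 (Nat.card P.S).factorial) := by
  classical
  choose! V hV hn using hloc
  have hT : ((Set.toFinite P.S).toFinset : Set K) = P.S := Set.Finite.coe_toFinset _
  have h := outRk P hp2 U hcore hUB hBU hUN V hV (fun _ => k) hn hT
  rwa [Finset.sum_const, smul_eq_mul, mul_comm, ← Set.ncard_eq_toFinset_card, ← Nat.card_coe_set_eq] at h

variable {Γ : Type u} [Group Γ] {ι : Type*}

/-- The two-step chain at a node given by `Loc`, the parametrisation being additive. -/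
theorem nodeRk_of_loc {T : TwistedData Γ ι} {i : ι} {E : Type*} [Field E] [Finite E] (L : Loc T i E)
    (hadd : ∀ s t, L.x (s + t) = L.x s * L.x t) {P : Cfsg.BNPair T.G} (hPB : P.B = (T.U ⊔ T.H).subgroupOf T.G)
    (s : T.G) : NodeRk P (T.U.subgroupOf T.G) s (L.V.subgroupOf T.G) 2 := by
  have hBU : ∀ b ∈ T.U ⊔ T.H, ∀ u ∈ T.U, b * u * b⁻¹ ∈ T.U := by
    have h : T.U ⊔ T.H ≤ Subgroup.normalizer (T.U : Set Γ) := by
      refine sup_le Subgroup.le_normalizer ?_
      intro h hh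
      rw [Subgroup.mem_normalizer_iff]
      intro u
      refine ⟨fun hu => T.conj_H_U h hh u hu, fun hu => ?_⟩
      have := T.conj_H_U h⁻¹ (inv_mem hh) _ hu
      simpa [mul_assoc] using this
    intro b hb u hu
    exact (Subgroup.mem_normalizer_iff.1 (h hb) u).1 hu
  refine (nodeRk_of_semi (F := E) fun D hU hB _ hV => ?_).1
  rw [hPB] at hB
  classical
  have hUB : ∀ u : T.G, u ∈ T.U.subgroupOf T.G → (u : Γ) ∈ T.U ⊔ T.H := fun u hu =>
    Subgroup.mem_sup_left (show (u : Γ) ∈ T.U from hu)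
  have hact : ∀ b : T.G, b ∈ (T.U ⊔ T.H).subgroupOf T.G → ∃ c : E, ∀ t,
      (⟨L.x (c * t), L.x_mem_G _⟩ : T.G)⁻¹ * (b * ⟨L.x t, L.x_mem_G t⟩ * b⁻¹) ∈ L.V.subgroupOf T.G := by
    intro b hb
    obtain ⟨u, hu, huG, h, hh, hhG, e⟩ := (T.mem_B_iff b b.2).1 hb
    obtain ⟨c, hc0, hc⟩ := L.act h hh hhG
    refine ⟨c, fun t => ?_⟩
    obtain ⟨v, hv, e1⟩ := L.conj_x hu huG hc t
    rw [← e] at e1
    show (L.x (c * t))⁻¹ * ((b : Γ) * L.x t * (b : Γ)⁻¹) ∈ L.V
    rw [e1, ← mul_assoc]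
    have h1 := L.norm_B (L.x (c * t))⁻¹ (inv_mem (Subgroup.mem_sup_left (L.x_mem_U _))) v hv
    rwa [inv_inv] at h1
  choose! χ hχ using hact
  refine semi_of_field (B := (T.U ⊔ T.H).subgroupOf T.G) hB hU hV (fun v hv => L.V_le hv) ?_ ?_
    (fun t => (⟨L.x t, L.x_mem_G t⟩ : T.G)) (fun t => L.x_mem_U t) ?_ ?_ ?_ χ hχ ?_
  · intro u hu y hy
    exact L.norm_B _ (hUB u hu) _ hy
  · intro b hb y hy
    exact L.norm_B _ hb _ hy
  · intro t₁ t₂
    show (L.x (t₁ + t₂))⁻¹ * (L.x t₁ * L.x t₂) ∈ L.V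
    rw [hadd, inv_mul_cancel]
    exact one_mem _
  · intro t ht
    by_contra hne
    -- use the torus to move `x t` to `x 1`
    obtain ⟨h, hh, hhG, hc⟩ := L.tor t⁻¹ (inv_ne_zero hne)
    have h1 := L.norm_B h (Subgroup.mem_sup_right hh) _ (show L.x t ∈ L.V from ht)
    rw [hc, inv_mul_cancel₀ hne] at h1
    exact L.one_not_mem h1
  · intro u hu
    obtain ⟨v, hv, hvG, t, e⟩ := L.decomp hu u.2
    refine ⟨t, ?_⟩
    show (L.x t)⁻¹ * (u : Γ) ∈ L.V
    have e' : (u : Γ) = v * L.x t := e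
    rw [e', ← mul_assoc]
    have h1 := L.norm_B (L.x t)⁻¹ (inv_mem (Subgroup.mem_sup_left (L.x_mem_U _))) v hv
    rwa [inv_inv] at h1
  · rw [eq_top_iff]
    intro c _
    by_cases hc0 : c = 0
    · rw [hc0]
      exact zero_mem _
    · apply AddSubgroup.subset_closure
      obtain ⟨h, hh, hhG, hc⟩ := L.tor c hc0
      have hhB : (⟨h, hhG⟩ : T.G) ∈ (T.U ⊔ T.H).subgroupOf T.G := Subgroup.mem_sup_right (show h ∈ T.H from hh)
      refine ⟨⟨h, hhG⟩, hhB, ?_⟩
      have h1 := hχ ⟨h, hhG⟩ hhB 1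
      have h2 : (L.x (χ ⟨h, hhG⟩ * 1))⁻¹ * (h * L.x 1 * h⁻¹) ∈ L.V := h1
      rw [hc, mul_one, mul_one] at h2
      -- `x (χ)⁻¹ x c ∈ V` so `x (c - χ) ∈ V`
      by_contra hne
      have hne' : c - χ ⟨h, hhG⟩ ≠ 0 := fun h0 => hne (sub_eq_zero.1 h0).symm
      have h3 : L.x (c - χ ⟨h, hhG⟩) ∈ L.V := by
        have h4 := hadd (χ ⟨h, hhG⟩) (c - χ ⟨h, hhG⟩)
        rw [add_sub_cancel] at h4
        rw [h4, inv_mul_cancel_left] at h2
        exact h2
      obtain ⟨k, hk, hkG, hkc⟩ := L.tor (c - χ ⟨h, hhG⟩)⁻¹ (inv_ne_zero hne')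
      have h5 := L.norm_B k (Subgroup.mem_sup_right hk) _ h3
      rw [hkc, inv_mul_cancel₀ hne'] at h5
      exact L.one_not_mem h5

/-- **The column RK of a twisted group.** -/
theorem rk_of_twisted (T : TwistedData Γ ι) [Finite T.G] [Finite ι]
    {p : ℕ} [Fact p.Prime] (hp2 : p ≠ 2) (hcore : ((T.U ⊔ T.H).subgroupOf T.G).normalCore = ⊥)
    (hU : IsPGroup p (T.U.subgroupOf T.G)) (hidx : ¬ p ∣ (T.U.subgroupOf T.G).index)
    (hloc : ∀ i, ∃ (E : Type u) (_ : Field E) (_ : Finite E) (L : Loc T i E), ∀ s t, L.x (s + t) = L.x s * L.x t)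
    {F κ : Type*} [Field F] [Fintype κ] [DecidableEq κ]
    (h2 : (2 : F) ≠ 0) {n : ℕ} (hκ : Fintype.card κ = n) (hn : 1 ≤ n) (f : T.G →* GL κ F)
    (hf : Function.Injective f) {l : ℕ} (hl : Nat.card ι ≤ l) :
    Omega.TwoF.RK T.G (RkLin.rk n + (2 * l + padicValNat 2 l.factorial)) := by
  let P : Cfsg.BNPair T.G := T.toRootData.bnPair
  have hPB : P.B = (T.U ⊔ T.H).subgroupOf T.G := T.bnPair_B
  have hPN : P.N = T.N.subgroupOf T.G := T.bnPair_N
  have hPS : P.S = Set.range T.nG := rfl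
  let S : Sylow p T.G := hU.toSylow hidx
  have hS : (S : Subgroup T.G) = T.U.subgroupOf T.G := rfl
  have hBU : ∀ b ∈ T.U ⊔ T.H, ∀ u ∈ T.U, b * u * b⁻¹ ∈ T.U := by
    have h : T.U ⊔ T.H ≤ Subgroup.normalizer (T.U : Set Γ) := by
      refine sup_le Subgroup.le_normalizer ?_
      intro h hh
      rw [Subgroup.mem_normalizer_iff]
      intro u
      refine ⟨fun hu => T.conj_H_U h hh u hu, fun hu => ?_⟩
      have := T.conj_H_U h⁻¹ (inv_mem hh) _ hu
      simpa [mul_assoc] using this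
    intro b hb u hu
    exact (Subgroup.mem_normalizer_iff.1 (h hb) u).1 hu
  have hcore' : P.B.normalCore = ⊥ := by rw [hPB]; exact hcore
  have hUB : (S : Subgroup T.G) ≤ P.B := by
    rw [hPB, hS]
    intro u hu
    exact Subgroup.mem_sup_left (show (u : Γ) ∈ T.U from hu)
  have hBU' : ∀ b ∈ P.B, ∀ u ∈ (S : Subgroup T.G), b * u * b⁻¹ ∈ (S : Subgroup T.G) := by
    rw [hPB, hS]
    intro b hb u hu
    exact hBU b hb u hu
  have hloc' : ∀ s ∈ P.S, ∃ V : Subgroup T.G, Node P (S : Subgroup T.G) s V ∧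
      NodeRk P (S : Subgroup T.G) s V 2 := by
    rw [hPS]
    rintro _ ⟨i, rfl⟩
    obtain ⟨E, _, _, L, hadd⟩ := hloc i
    refine ⟨L.V.subgroupOf T.G, ⟨?_, ?_, ?_, ?_, ?_⟩, nodeRk_of_loc L hadd hPB _⟩
    · intro v hv
      exact L.V_le hv
    · exact ⟨⟨L.x 1, L.x_mem_G 1⟩, L.x_mem_U 1, L.one_not_mem⟩
    · rw [hPB]
      intro b hb v hv
      exact L.norm_B b hb v hv
    · intro v hv
      exact L.norm_n v hv
    · rw [hPB]
      intro u hu h
      exact L.stab hu u.2 h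
  have hZ := center_eq_bot P (S : Subgroup T.G) hcore' hUB hBU' fun s hs =>
    ⟨_, (hloc' s hs).choose_spec.1⟩
  have hl' : Nat.card P.S ≤ l := by
    rw [hPS]
    exact (Finite.card_range_le T.nG).trans hl
  refine rk_of_out (card_le_of_linear h2 hκ hn f hf hZ) hZ
    ((outRk_sylow P hp2 S hcore' hUB hBU' ?_ 2 hloc').mono ?_)
  · rw [hPB, hPN, hS]
    intro b hb
    obtain ⟨u, hu, huG, h, hh, hhG, e⟩ := (T.mem_B_iff b b.2).1 hb
    refine ⟨⟨u, huG⟩, hu, ?_⟩
    show u⁻¹ * (b : Γ) ∈ T.N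
    rw [e, inv_mul_cancel_left]
    exact T.H_le_N hh
  · refine Nat.add_le_add (Nat.mul_le_mul_left _ hl') ?_
    have : Fact (Nat.Prime 2) := ⟨Nat.prime_two⟩
    exact (padicValNat_dvd_iff_le (Nat.factorial_ne_zero l)).1 (pow_padicValNat_dvd.trans
      (Nat.factorial_dvd_factorial hl'))

end Cfsg.Agent.Omega.TwoF.Out

end

section


/-!
# The column RK of TABLE 2F for ²E₆(q), q odd
-/

set_option autoImplicit false

namespace Cfsg.Agent.Omega.TwoF.RkTwE6

open Cfsg.Lie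
open Cfsg.Agent.ChevalleyStructure.Elts hiding x_add x_zero x_eq_one_iff
open Cfsg.Agent.ChevalleyStructure.TwE6Basic
open Cfsg.Agent.ChevalleyStructure.TwE6BN
open Cfsg.Agent.ChevalleyStructure.TwistedBN
open Cfsg.Agent.Schreier.BNTwisted Cfsg.Agent.Schreier.TwESix Cfsg.Agent.Schreier
open Cfsg.Agent.Omega.TwoF.Out

universe u

variable {K : Type u} [Field K]

section

variable {q : ℕ} {φ : K →+* K}

theorem pair_add {i : Fin 4} {j j' : ℕ} (C : PairOK.{u} i j j') (hφ : ∀ t, φ t = t ^ q) (s t : K) :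
    x j (s + t) * x j' ((s + t) ^ q) = (x j s * x j' (s ^ q)) * (x j t * x j' (t ^ q)) := by
  have c1 : ∀ t u : K, x j' u * x j t = x j t * x j' u := fun t u => C.comm1 t u
  have e : (s + t) ^ q = s ^ q + t ^ q := by rw [← hφ, map_add, hφ, hφ]
  rw [e, ← x_add, ← x_add]
  calc x j s * x j t * (x j' (s ^ q) * x j' (t ^ q)) = x j s * (x j t * x j' (s ^ q)) * x j' (t ^ q) := by group
    _ = x j s * (x j' (s ^ q) * x j t) * x j' (t ^ q) := by rw [c1]
    _ = _ := by group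

end

/-- **RK for ²E₆(q), q odd.** -/
theorem rk [Fintype K] {q : ℕ} (hq : IsPrimePow q) (hK : Fintype.card K = q ^ 2) (h2 : (2 : K) ≠ 0) :
    Omega.TwoF.RK ↥(twistedE6 K q) (RkLin.rk (Fintype.card chevE6.Idx) + (2 * 4 + padicValNat 2 (Nat.factorial 4))) := by
  classical
  obtain ⟨φ, hφ, hqq⟩ := exists_frob hq hK
  obtain ⟨p, k, hp, hk, hpk⟩ := (isPrimePow_nat_iff _).1 hq
  have : Fact p.Prime := ⟨hp⟩
  have hfin : Finite (T φ q hφ hqq).G := inferInstanceAs (Finite ↥(twistedE6 K q))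
  have hq1 : 1 < q := hq.one_lt
  have hq0 : q ≠ 0 := by omega
  have hpq : p ∣ q := hpk ▸ dvd_pow_self p hk.ne'
  have hp2 : p ≠ 2 := by
    rintro rfl
    apply h2
    have h3 : ((Fintype.card K : ℕ) : K) = 0 := Nat.cast_card_eq_zero K
    rw [hK, ← hpk] at h3
    push_cast at h3
    exact pow_eq_zero_iff (by positivity) |>.1 (pow_eq_zero_iff (two_ne_zero) |>.1 h3)
  have hcU : Nat.card ((chevE6.posUnipotent K).subgroupOf (twistedE6 K q)) = q ^ 36 := by
    rw [BNArith.card_subgroupOf]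
    exact Cfsg.Agent.S1086.result hq hK
  have hcG := Cfsg.Agent.S1066.result hq hK
  refine rk_of_twisted (T φ q hφ hqq) (p := p) hp2 ?_ ?_ ?_ ?_ h2 rfl (by decide)
    (twistedE6 K q).subtype (twistedE6 K q).subtype_injective (by simp)
  · have h := Cfsg.Agent.S1105.result hq hK
    rw [Subgroup.inf_subgroupOf_right] at h
    exact h
  · apply IsPGroup.of_card (n := k * 36)
    rw [pow_mul, hpk]
    exact hcU
  · have h1 := ((chevE6.posUnipotent K).subgroupOf (twistedE6 K q)).card_mul_index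
    rw [← h1, hcU] at hcG
    simp only [mul_assoc] at hcG
    rw [mul_left_comm] at hcG
    have h2 := Nat.eq_of_mul_eq_mul_left (pow_pos (by omega : 0 < q) 36) hcG
    show ¬ p ∣ ((chevE6.posUnipotent K).subgroupOf (twistedE6 K q)).index
    intro hdvd
    have h3 := dvd_mul_of_dvd_right hdvd (Nat.gcd 3 (q + 1))
    rw [h2, hp.dvd_mul, hp.dvd_mul, hp.dvd_mul, hp.dvd_mul, hp.dvd_mul] at h3
    rcases h3 with h | h | h | h | h | h
    · exact BNArith.not_dvd_pow_sub_one hp hpq hq1 (by norm_num) h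
    · exact BNArith.not_dvd_pow_add_one hp hpq (by norm_num) h
    · exact BNArith.not_dvd_pow_sub_one hp hpq hq1 (by norm_num) h
    · exact BNArith.not_dvd_pow_sub_one hp hpq hq1 (by norm_num) h
    · exact BNArith.not_dvd_pow_add_one hp hpq (by norm_num) h
    · exact BNArith.not_dvd_pow_sub_one hp hpq hq1 (by norm_num) h
  · intro i
    have hi : i = 0 ∨ i = 1 ∨ i = 2 ∨ i = 3 := by fin_cases i <;> simp
    rcases hi with rfl | rfl | rfl | rfl
    · exact ⟨φ.eqLocusField (RingHom.id K), inferInstance, inferInstance,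
        locSingle single0 hφ hqq fun c hc h => tor0 hφ c hc h, fun s t => (x_add 46 (s : K) (t : K)).symm⟩
    · exact ⟨φ.eqLocusField (RingHom.id K), inferInstance, inferInstance,
        locSingle single1 hφ hqq fun c hc h => tor1 hφ c hc h, fun s t => (x_add 39 (s : K) (t : K)).symm⟩
    · exact ⟨K, inferInstance, inferInstance, locPair pair2 hφ hqq hq0 fun c hc => tor2 hφ c hc,
        fun s t => pair_add pair2 hφ s t⟩
    · exact ⟨K, inferInstance, inferInstance, locPair pair3 hφ hqq hq0 fun c hc => tor3 hφ c hc,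
        fun s t => pair_add pair3 hφ s t⟩

/-- The number. -/
theorem rk_88 [Fintype K] {q : ℕ} (hq : IsPrimePow q) (hK : Fintype.card K = q ^ 2) (h2 : (2 : K) ≠ 0) :
    Omega.TwoF.RK ↥(twistedE6 K q) 88 := by
  refine (rk hq hK h2).mono ?_
  have : Fact (Nat.Prime 2) := ⟨Nat.prime_two⟩
  have h1 : padicValNat 2 (Nat.factorial 4) ≤ 3 := by
    by_contra hcon
    have h3 : 2 ^ 4 ∣ Nat.factorial 4 := (padicValNat_dvd_iff_le (by decide)).2 (by omega)
    exact absurd h3 (by decide)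
  have h4 : Fintype.card chevE6.Idx = 78 := by
    show Fintype.card (Fin chevE6.rank ⊕ Fin chevE6.nroots) = 78
    rw [Fintype.card_sum, Fintype.card_fin, Fintype.card_fin]
    rfl
  have h5 : RkLin.rk 78 = 77 := by decide
  rw [h4, h5]
  omega

end Cfsg.Agent.Omega.TwoF.RkTwE6

end
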