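import Cfsg.Agent.Omega.KFacts
import Cfsg.Agent.Mrg.Omega.TwoF.Bridge
import Cfsg.Agent.Mrg.Omega.TwoF.RowM
import Cfsg.Agent.Mrg.Omega.TwoF.TwD4LB
import Cfsg.Agent.S1071


/-!
# TABLE 2F, row ³D₄(q), `q` odd

`|V| ≥ 2 ^ 162`, `RK K 32`.
-/

set_option autoImplicit false

universe u

namespace Cfsg.Agent.Omega.TwoF.RowTwD4

open Cfsg Cfsg.Lie Cfsg.Agent.Omega.TwoF

/-- `³D₄(q)`, `q` odd -/
def IsTwD4 (K : Type u) [Group K] : Prop :=
  ∃ (F : Type) (_ : Field F) (_ : Fintype F) (q : ℕ), IsPrimePow q ∧ (2 : F) ≠ 0 ∧ Fintype.card F = q ^ 3 ∧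
    Nonempty (K ≃* twistedD4 F q)

theorem two_ne {F : Type} [Field F] {p : ℕ} (hp : p.Prime) (hp2 : p ≠ 2) [CharP F p] : (2 : F) ≠ 0 := by
  intro h
  have h1 : ((2 : ℕ) : F) = 0 := by exact_mod_cast h
  rw [CharP.cast_eq_zero_iff F p] at h1
  exact hp2 ((Nat.prime_dvd_prime_iff_eq hp Nat.prime_two).1 h1)

theorem dead {F : Type} [Field F] [Fintype F] {q : ℕ} (hq : IsPrimePow q) (h2 : (2 : F) ≠ 0)
    (hF : Fintype.card F = q ^ 3) : Dead2.{u} (twistedD4 F q) := by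
  have hs := (Cfsg.Agent.S1071.result (K := F) hq hF).1
  have hfin : Finite (twistedD4 F q) := inferInstance
  exact Dead2.of_lb (LB.of_heis (TwD4LB.lb hq hF h2 hs)) (TwD4Rk.rk hq hF h2 hfin hs) (by norm_num)

/-- **The row `³D₄(q)`, `q` odd.** -/
theorem kill {K : Type u} [Group K] (h : IsTwD4 K) : Kill2.{u} K := by
  obtain ⟨F, _, _, q, hq, h2, hF, ⟨e⟩⟩ := h
  obtain ⟨hs, hc⟩ := Cfsg.Agent.S1071.result (K := F) hq hF
  refine ((dead hq h2 hF).kill ?_ inferInstance).equiv e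
  rcases (Subgroup.instNormalCenter (G := twistedD4 F q)).eq_bot_or_eq_top with h1 | h1
  · exact h1
  · exact absurd ⟨⟨fun a b => by
      have : a ∈ Subgroup.center (twistedD4 F q) := by rw [h1]; exact Subgroup.mem_top a
      exact (Subgroup.mem_center_iff.1 this b).symm⟩⟩ hc

theorem row : KFacts.KillRow.{u} IsTwD4 := fun _ _ h => kill h

/-- `²E₆(q)`, `q` odd -/
def IsTwE6 (K : Type u) [Group K] : Prop :=
  ∃ (F : Type) (_ : Field F) (_ : Fintype F) (q : ℕ), IsPrimePow q ∧ (2 : F) ≠ 0 ∧ Fintype.card F = q ^ 2 ∧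
    Nonempty (K ≃* twistedE6 F q)

theorem cases {K : Type u} [Group K] (h : KFacts.OddChar @IsTwistedE6D4Char K) : IsTwE6 K ∨ IsTwD4 K := by
  obtain ⟨p, hp, hp2, F, _, _, _, q, hq, h | h⟩ := h
  · exact Or.inl ⟨F, inferInstance, inferInstance, q, hq, two_ne hp hp2, h.1, h.2⟩
  · exact Or.inr ⟨F, inferInstance, inferInstance, q, hq, two_ne hp hp2, h.1, h.2⟩

/-- The field `twisted` of `KFacts.Rows2` from the row `²E₆(q)`. -/
theorem twisted_of (h6 : KFacts.KillRow.{u} IsTwE6) : KFacts.KillRow.{u} fun K _ => KFacts.OddChar @IsTwistedE6D4Char K :=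
  fun K _ h => (cases h).elim (h6 K) kill

/-- The same for `Row`. -/
theorem twisted_of_row (h6 : KFacts.Row.{u} IsTwE6) : KFacts.Row.{u} fun K _ => KFacts.OddChar @IsTwistedE6D4Char K :=
  fun K _ h => (cases h).elim (h6 K) (row.toRow K)

end Cfsg.Agent.Omega.TwoF.RowTwD4
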