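import Cfsg.Agent.Mrg.Omega.TwoF.TwD4LB
import Cfsg.Agent.Nodes.RGDTwE6
import Cfsg.Agent.S1070


/-!
# `²E₆(q)`, `q` odd: the Heisenberg bound `2 q ^ 7`
-/

set_option autoImplicit false

universe u v w

namespace Cfsg.Agent.Omega.TwoF.TwE6Odd

open Cfsg.Lie Cfsg.Lie.ChevalleyDatum Cfsg.Agent.ChevalleyStructure Cfsg.Agent.ChevalleyStructure.Elts
  Cfsg.Agent.Omega.Lie.Heis Cfsg.Agent.Omega.TwoF.ChevHeis Cfsg.Agent.Omega.TwoF.ChevWord
open Cfsg.Agent.ChevalleyStructure.TwE6Basic (sg fix n exists_frob hE6)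
open Cfsg.Agent.ChevalleyStructure.TwistedE6Sigma (rho eps rho_lt rho_rho eps_rho eps_sq eps_of_rho_eq)

/-- admissible words -/
def cls : List (ℕ × ℤ) → Bool
  | [(k, _)] => Nat.blt k 72 && rho k == k
  | [(k, c), (k', c')] => Nat.blt k 72 && (k' == rho k && (c' == eps k * c && cm chevE6 k' k))
  | _ => false

/-- the pairs -/
def prs : List (List Z × ℤ) :=
  [([⟨47, 1, 69, 1, 71, -1⟩], 1), ([⟨48, 1, 68, 1, 71, 1⟩, ⟨50, 1, 66, 1, 71, 1⟩], -2),
   ([⟨49, 1, 67, 1, 71, -1⟩, ⟨61, -1, 55, -1, 71, -1⟩], 2), ([⟨51, 1, 65, 1, 71, -1⟩], 1),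
   ([⟨52, 1, 64, 1, 71, 1⟩, ⟨62, -1, 54, -1, 71, 1⟩], -2), ([⟨63, 1, 53, 1, 71, -1⟩], 1),
   ([⟨70, 1, 46, 1, 71, -1⟩], 1)]

/-- decompositions -/
def ex : List (List (ℕ × ℤ) × List (ℕ × ℤ) × List Z × ℤ) :=
  [([(71, 1)], [(71, 1)], [⟨46, 1, 70, 1, 71, 1⟩], -1),
   ([(47, 1)], [(47, 1)], [⟨2, 1, 71, 1, 47, 1⟩], -1),
   ([(48, 1), (50, 1)], [(48, 1), (50, 1)], [⟨13, 1, 64, 1, 48, 1⟩, ⟨30, 1, 54, -1, 50, -1⟩], -1),
   ([(49, 1), (61, -1)], [(49, 1), (61, -1)], [⟨12, 1, 66, 1, 49, 1⟩, ⟨26, -1, 68, 1, 61, 1⟩], -1),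
   ([(51, 1)], [(47, 1)], [⟨13, 1, 67, 1, 51, 1⟩, ⟨30, 1, 55, -1, 51, -1⟩], -2),
   ([(51, 1)], [(51, 1)], [⟨6, 1, 71, 1, 51, 1⟩], -1),
   ([(52, 1), (62, -1)], [(52, 1), (62, -1)], [⟨13, 1, 68, 1, 52, 1⟩, ⟨30, 1, 66, 1, 62, -1⟩], -1),
   ([(63, 1)], [(47, 1)], [⟨28, 1, 68, 1, 63, -1⟩, ⟨31, -1, 66, 1, 63, 1⟩], 2),
   ([(63, 1)], [(51, 1)], [⟨28, 1, 68, 1, 63, -1⟩, ⟨31, -1, 66, 1, 63, 1⟩], 2),
   ([(63, 1)], [(63, 1)], [⟨18, 1, 71, 1, 63, 1⟩], -1),
   ([(70, 1)], [(47, 1)], [⟨40, 1, 68, 1, 70, -1⟩, ⟨43, -1, 66, 1, 70, 1⟩], 2),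
   ([(70, 1)], [(51, 1)], [⟨40, 1, 68, 1, 70, -1⟩, ⟨43, -1, 66, 1, 70, 1⟩], 2),
   ([(70, 1)], [(63, 1)], [⟨41, 1, 67, 1, 70, 1⟩, ⟨58, 1, 55, -1, 70, -1⟩], -2),
   ([(70, 1)], [(70, 1)], [⟨25, 1, 71, 1, 70, 1⟩], -1)]

theorem chk_eq : chkW chevE6 cls [[1], [3], [2, 4], [0, 5]] [1] [(71, 1)] prs ex = true := by decide +kernel

theorem hV : ∀ k < 72, Cfsg.Agent.Nodes.RGDFold.V chevE6 Cfsg.Agent.Nodes.RGDTwE6.J (rho k) =
    Cfsg.Agent.Nodes.RGDFold.V chevE6 Cfsg.Agent.Nodes.RGDTwE6.J k := by decide +kernel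


variable {K : Type u} [Field K]

theorem nG_neg_one {D : ChevalleyDatum} (hD : InList D) (r : ℕ) : nG hD r (-1 : K) = (nG hD r 1)⁻¹ := by
  rw [nG_def, nG_def, mul_inv_rev, mul_inv_rev, xG_inv, xG_inv, neg_neg, inv_neg, neg_neg, inv_one, mul_assoc]

theorem hG_neg_one {D : ChevalleyDatum} (hD : InList D) (r : ℕ) : hG hD r (-1 : K) = (nG hD r 1)⁻¹ * (nG hD r 1)⁻¹ := by
  rw [hG_def, nG_neg_one]

theorem nG_comm {D : ChevalleyDatum} (hD : InList D) {r s : ℕ} (hr : r < D.nroots) (hr' : D.neg r < D.nroots)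
    (hs : s < D.nroots) (hs' : D.neg s < D.nroots) (h1 : cm D r s = true) (h2 : cm D r (D.neg s) = true)
    (h3 : cm D (D.neg r) s = true) (h4 : cm D (D.neg r) (D.neg s) = true) :
    Commute (nG hD r (1 : K)) (nG hD s 1) := by
  rw [nG_def, nG_def]
  have c1 : ∀ t u : K, Commute (xG hD r t) (xG hD s u) := comm_x hD hr hs h1
  have c2 : ∀ t u : K, Commute (xG hD r t) (xG hD (D.neg s) u) := comm_x hD hr hs' h2
  have c3 : ∀ t u : K, Commute (xG hD (D.neg r) t) (xG hD s u) := comm_x hD hr' hs h3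
  have c4 : ∀ t u : K, Commute (xG hD (D.neg r) t) (xG hD (D.neg s) u) := comm_x hD hr' hs' h4
  have d1 : ∀ t u v : K, Commute (xG hD r t) (xG hD s u * (xG hD (D.neg s) v * xG hD s u)) := fun t u v =>
    (c1 t u).mul_right ((c2 t v).mul_right (c1 t u))
  have d2 : ∀ t u v : K, Commute (xG hD (D.neg r) t) (xG hD s u * (xG hD (D.neg s) v * xG hD s u)) := fun t u v =>
    (c3 t u).mul_right ((c4 t v).mul_right (c3 t u))
  exact (d1 _ _ _).mul_left ((d2 _ _ _).mul_left (d1 _ _ _))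

theorem cJ' : (chevE6.simple 2 < 72 ∧ chevE6.neg (chevE6.simple 2) < 72 ∧ chevE6.simple 4 < 72 ∧
      chevE6.neg (chevE6.simple 4) < 72 ∧ cm chevE6 (chevE6.simple 2) (chevE6.simple 4) = true ∧
      cm chevE6 (chevE6.simple 2) (chevE6.neg (chevE6.simple 4)) = true ∧
      cm chevE6 (chevE6.neg (chevE6.simple 2)) (chevE6.simple 4) = true ∧
      cm chevE6 (chevE6.neg (chevE6.simple 2)) (chevE6.neg (chevE6.simple 4)) = true) ∧
    (chevE6.simple 0 < 72 ∧ chevE6.neg (chevE6.simple 0) < 72 ∧ chevE6.simple 5 < 72 ∧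
      chevE6.neg (chevE6.simple 5) < 72 ∧ cm chevE6 (chevE6.simple 0) (chevE6.simple 5) = true ∧
      cm chevE6 (chevE6.simple 0) (chevE6.neg (chevE6.simple 5)) = true ∧
      cm chevE6 (chevE6.neg (chevE6.simple 0)) (chevE6.simple 5) = true ∧
      cm chevE6 (chevE6.neg (chevE6.simple 0)) (chevE6.neg (chevE6.simple 5)) = true) := by decide +kernel

theorem TJ_mem {G : Subgroup (GL chevE6.Idx K)} (hn : ∀ i, n (K := K) i ∈ G) :
    ∀ J ∈ [[1], [3], [2, 4], [0, 5]], TJ hE6 K J ∈ G := by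
  have single : ∀ j, nG hE6 (chevE6.simple j) (1 : K) ∈ G → TJ hE6 K [j] ∈ G := by
    intro j hj
    show ([j].map fun j => hG hE6 (chevE6.simple j) (-1 : K)).prod ∈ G
    rw [List.map_cons, List.map_nil, List.prod_cons, List.prod_nil, mul_one, hG_neg_one]
    exact mul_mem (inv_mem hj) (inv_mem hj)
  have double : ∀ j j', Commute (nG hE6 (chevE6.simple j) (1 : K)) (nG hE6 (chevE6.simple j') 1) →
      nG hE6 (chevE6.simple j) (1 : K) * nG hE6 (chevE6.simple j') 1 ∈ G → TJ hE6 K [j, j'] ∈ G := by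
    intro j j' hc hj
    show ([j, j'].map fun j => hG hE6 (chevE6.simple j) (-1 : K)).prod ∈ G
    rw [List.map_cons, List.map_cons, List.map_nil, List.prod_cons, List.prod_cons, List.prod_nil, mul_one,
      hG_neg_one, hG_neg_one]
    have e : (nG hE6 (chevE6.simple j) (1 : K))⁻¹ * (nG hE6 (chevE6.simple j) 1)⁻¹ *
        ((nG hE6 (chevE6.simple j') 1)⁻¹ * (nG hE6 (chevE6.simple j') 1)⁻¹) =
        (nG hE6 (chevE6.simple j) 1 * nG hE6 (chevE6.simple j') 1)⁻¹ *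
          (nG hE6 (chevE6.simple j) 1 * nG hE6 (chevE6.simple j') 1)⁻¹ := by
      have h1 := hc.inv_inv
      rw [mul_inv_rev]
      calc _ = (nG hE6 (chevE6.simple j) (1 : K))⁻¹ * ((nG hE6 (chevE6.simple j) 1)⁻¹ *
            (nG hE6 (chevE6.simple j') 1)⁻¹) * (nG hE6 (chevE6.simple j') 1)⁻¹ := by group
        _ = (nG hE6 (chevE6.simple j) (1 : K))⁻¹ * ((nG hE6 (chevE6.simple j') 1)⁻¹ *
            (nG hE6 (chevE6.simple j) 1)⁻¹) * (nG hE6 (chevE6.simple j') 1)⁻¹ := by rw [h1.eq]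
        _ = ((nG hE6 (chevE6.simple j) (1 : K))⁻¹ * (nG hE6 (chevE6.simple j') 1)⁻¹) *
            ((nG hE6 (chevE6.simple j) 1)⁻¹ * (nG hE6 (chevE6.simple j') 1)⁻¹) := by group
        _ = _ := by rw [h1.eq]
    rw [e]
    exact mul_mem (inv_mem hj) (inv_mem hj)
  have h0 : n (K := K) 0 = nG hE6 (chevE6.simple 1) 1 := by
    show ([1].map fun j => nG hE6 (chevE6.simple j) (1 : K)).prod = _
    rw [List.map_cons, List.map_nil, List.prod_cons, List.prod_nil, mul_one]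
  have h1 : n (K := K) 1 = nG hE6 (chevE6.simple 3) 1 := by
    show ([3].map fun j => nG hE6 (chevE6.simple j) (1 : K)).prod = _
    rw [List.map_cons, List.map_nil, List.prod_cons, List.prod_nil, mul_one]
  have h2 : n (K := K) 2 = nG hE6 (chevE6.simple 2) 1 * nG hE6 (chevE6.simple 4) 1 := by
    show ([2, 4].map fun j => nG hE6 (chevE6.simple j) (1 : K)).prod = _
    rw [List.map_cons, List.map_cons, List.map_nil, List.prod_cons, List.prod_cons, List.prod_nil, mul_one]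
  have h3 : n (K := K) 3 = nG hE6 (chevE6.simple 0) 1 * nG hE6 (chevE6.simple 5) 1 := by
    show ([0, 5].map fun j => nG hE6 (chevE6.simple j) (1 : K)).prod = _
    rw [List.map_cons, List.map_cons, List.map_nil, List.prod_cons, List.prod_cons, List.prod_nil, mul_one]
  obtain ⟨⟨a1, a2, a3, a4, a5, a6, a7, a8⟩, b1, b2, b3, b4, b5, b6, b7, b8⟩ := cJ'
  intro J hJ
  simp only [List.mem_cons, List.not_mem_nil, or_false] at hJ
  rcases hJ with rfl | rfl | rfl | rfl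
  · exact single 1 (h0 ▸ hn 0)
  · exact single 3 (h1 ▸ hn 1)
  · exact double 2 4 (nG_comm hE6 a1 a2 a3 a4 a5 a6 a7 a8) (h2 ▸ hn 2)
  · exact double 0 5 (nG_comm hE6 b1 b2 b3 b4 b5 b6 b7 b8) (h3 ▸ hn 3)

open Cfsg.Agent.Nodes.RGDFold (V R_le wp_lt) in
open Cfsg.Agent.Nodes.RGDTwE6 (J isCartan foldData foldGrp hp) in
theorem W_mem [Fintype K] {q : ℕ} {φ : K →+* K} (hφ : ∀ x, φ x = x ^ q) (hqq : ∀ t : K, (t ^ q) ^ q = t)
    {w : List (ℕ × ℤ)} (hw : cls w = true) {t : K} (ht : φ t = t) : W hE6 w t ∈ twistedE6 K q := by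
  obtain ⟨p, hp'⟩ := CharP.exists K
  have : Fact p.Prime := ⟨CharP.char_is_prime K p⟩
  have hroot : ∀ k < 72, Cfsg.Agent.Tits.Roots.IsRoot CoxeterMatrix.F₄.toCoxeterSystem isCartan (V chevE6 J k) := fun k hk =>
    (foldData.isRoot_iff hp.checked (fun i r hr => wp_lt hp (J i) hr) _).2 ⟨k, hk, rfl⟩
  have key : ∀ k < 72, ∀ g : GL chevE6.Idx K, g ∈ TwistedU.rspan (xG (F := K) hE6) {l | l < chevE6.nroots ∧
      V chevE6 J l = V chevE6 J k} → sg φ g = g → g ∈ twistedE6 K q :=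
    fun k hk g h1 h2 => R_le CoxeterMatrix.F₄.toCoxeterSystem isCartan foldData (foldGrp hφ hqq) p (hroot k hk) ⟨h1, h2⟩
  have hm : ∀ k < 72, ∀ l < 72, V chevE6 J l = V chevE6 J k → ∀ u : K, xG hE6 l u ∈
      TwistedU.rspan (xG (F := K) hE6) {l | l < chevE6.nroots ∧ V chevE6 J l = V chevE6 J k} :=
    fun k _ l hl e u => TwistedU.mem_rspan (xG (F := K) hE6) (r := l)
      (S := {l | l < chevE6.nroots ∧ V chevE6 J l = V chevE6 J k}) ⟨hl, e⟩ u
  have hs : ∀ {r : ℕ} (_ : r < 72) (u : K), sg φ (xG hE6 r u) = xG hE6 (rho r) (((eps r : ℤ) : K) * φ u) := by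
    intro r hr u
    apply Units.ext
    rw [coe_xG]
    exact TwistedE6Sigma.sig_xE6 φ (g := xG hE6 r u) hr (coe_xG _ _ _)
  match w, hw with
  | [(k, c)], hw =>
    simp only [cls, Bool.and_eq_true, Nat.blt_eq, beq_iff_eq] at hw
    rw [W_cons, W_nil, mul_one]
    refine key k hw.1 _ (hm k hw.1 k hw.1 rfl _) ?_
    rw [hs hw.1, hw.2, eps_of_rho_eq k hw.1 hw.2, map_mul, map_intCast, ht, Int.cast_one, one_mul]
  | [(k, c), (k', c')], hw =>
    simp only [cls, Bool.and_eq_true, Nat.blt_eq, beq_iff_eq] at hw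
    obtain ⟨hk, rfl, rfl, hc⟩ := hw
    rw [W_cons, W_cons, W_nil, mul_one]
    refine key k hk _ (mul_mem (hm k hk k hk rfl _) (hm k hk _ (rho_lt k hk) (hV k hk) _)) ?_
    have e1 : ((eps (rho k) : ℤ) : K) * (((eps k * c : ℤ) : K) * t) = (c : K) * t := by
      rw [eps_rho k hk, ← mul_assoc, ← Int.cast_mul, ← mul_assoc, eps_sq k hk, one_mul]
    have e2 : ((eps k : ℤ) : K) * ((c : K) * t) = ((eps k * c : ℤ) : K) * t := by
      rw [Int.cast_mul, mul_assoc]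
    rw [map_mul, hs hk, hs (rho_lt k hk), rho_rho k hk]
    simp only [map_mul, map_intCast, ht]
    rw [e1, e2]
    exact comm_x hE6 (rho_lt k hk) hk hc _ _

/-- the number of solutions of `x ^ q = x` in the field of order `q ^ k` -/
theorem card_fixed [Finite K] {q k : ℕ} (hq : 2 ≤ q) (hF : Nat.card K = q ^ k) :
    Nat.card {x : K // x ^ q = x} = q := by
  classical
  have := Fintype.ofFinite K
  have hker : Nat.card (powMonoidHom (q - 1) : Kˣ →* Kˣ).ker = q - 1 := by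
    rw [IsCyclic.card_powMonoidHom_ker, Nat.card_units, hF]
    exact Nat.gcd_eq_right (Nat.sub_one_dvd_pow_sub_one q k)
  have h0 : (0 : K) ^ q = 0 := zero_pow (by omega)
  have hiff : ∀ u : K, u ≠ 0 → (u ^ q = u ↔ u ^ (q - 1) = 1) := by
    intro u hu
    have e : u ^ q = u ^ (q - 1) * u := by rw [← pow_succ, Nat.sub_add_cancel (by omega)]
    rw [e]
    constructor
    · intro h
      exact mul_right_cancel₀ hu (by rw [h, one_mul])
    · intro h
      rw [h, one_mul]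
  have e : {x : K // x ^ q = x} ≃ Option (powMonoidHom (q - 1) : Kˣ →* Kˣ).ker := by
    refine
      { toFun := fun x => if h : x.1 = 0 then none else some ⟨Units.mk0 x.1 h, ?_⟩
        invFun := fun o => o.elim ⟨0, h0⟩ (fun u => ⟨((u.1 : Kˣ) : K), ?_⟩)
        left_inv := fun x => ?_
        right_inv := fun o => ?_ }
    · rw [MonoidHom.mem_ker]
      ext
      simpa using (hiff x.1 h).1 x.2
    · refine (hiff _ (Units.ne_zero _)).2 ?_
      have := congrArg Units.val (MonoidHom.mem_ker.1 u.2)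
      simpa using this
    · by_cases h : x.1 = 0
      · simp only [h, dite_true, Option.elim]
        exact Subtype.ext h.symm
      · simp [h]
    · rcases o with _ | u
      · simp
      · simp
  rw [Nat.card_congr e, Nat.card_eq_fintype_card, Fintype.card_option, ← Nat.card_eq_fintype_card, hker]
  omega

/-- the fixed field -/
abbrev FF (φ : K →+* K) : Subfield K := φ.eqLocusField (RingHom.id K)

theorem mem_FF {φ : K →+* K} {t : K} : t ∈ FF φ ↔ φ t = t := Iff.rfl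

theorem card_FF [Finite K] {q k : ℕ} (hq : 2 ≤ q) (hK : Nat.card K = q ^ k) {φ : K →+* K} (hφ : ∀ x, φ x = x ^ q) :
    Nat.card (FF φ) = q := by
  rw [← card_fixed hq hK]
  exact Nat.card_congr (Equiv.subtypeEquivRight fun x => by rw [mem_FF, hφ])

/-- **`LB` for `²E₆(q)`, `q` odd.** -/
theorem lb [Fintype K] {q : ℕ} (hq : IsPrimePow q) (hK : Fintype.card K = q ^ 2) (h2 : (2 : K) ≠ 0) :
    LB.{u, v, w} (twistedE6 K q) (2 * q ^ 7) := by
  obtain ⟨φ, hφ, hqq⟩ := exists_frob hq hK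
  have := (Cfsg.Agent.S1070.result hq hK).1
  have hc : Nat.card (FF φ) = q := card_FF hq.two_le (by rw [Nat.card_eq_fintype_card, hK]) hφ
  have h := lb_of_chkW.{u, v, w} (F := FF φ) (G := twistedE6 K q) (cls := cls) hE6
    (fun w hw t ht => W_mem hφ hqq hw ht) (TJ_mem fun i => TwE6BN.n_mem_G φ hφ i) h2 chk_eq (by
      rw [W_cons, W_nil, mul_one, Int.cast_one, one_mul]
      exact fun h => one_ne_zero ((TwE6Basic.x_eq_one_iff (K := K) (by norm_num) 1).1 h))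
  rw [hc] at h
  exact h

end Cfsg.Agent.Omega.TwoF.TwE6Odd
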