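import Cfsg.Agent.Mrg.Omega.TwoF.RowExc
import Cfsg.Agent.Mrg.Omega.TwoF.TwE6Odd
import Cfsg.Agent.S1066


/-!
# TABLE 2F: the row `²E₆(q)`, `q` odd

`LB`: `2 q ^ 7`; `RK`: `936 (q - 1)`.
-/

set_option autoImplicit false
set_option linter.style.haveILetI false

universe u v w

namespace Cfsg.Agent.Omega.TwoF.RowTwE6

open Cfsg Cfsg.Lie Cfsg.Agent.Omega.TwoF Cfsg.Agent.Omega.EH3 Cfsg.Agent.Omega.TwoF.TwE6Odd
open Cfsg.Agent.ChevalleyStructure
open Cfsg.Agent.ChevalleyStructure.TwE6Basic (x x_add exists_frob twisted_le_iff single_mem pair_mem comm_class posE negE)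

variable {K : Type u} [Field K]

theorem card_le [Fintype K] {q : ℕ} (hq : IsPrimePow q) (hK : Fintype.card K = q ^ 2) :
    Nat.card (twistedE6 K q) ≤ q ^ 78 := by
  have h := Cfsg.Agent.S1066.result hq hK
  have hq1 : 1 ≤ q := hq.one_lt.le
  have hg : 1 ≤ Nat.gcd 3 (q + 1) := Nat.gcd_pos_of_pos_left _ (by norm_num)
  have a1 : (q ^ 2 - 1) * (q ^ 5 + 1) ≤ q ^ 7 := by
    have h1 : q ^ 2 ≤ q ^ 5 := Nat.pow_le_pow_right hq1 (by norm_num)
    have h2 : 1 ≤ q ^ 2 := Nat.one_le_pow _ _ hq1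
    have h3 : (q ^ 2 - 1) * (q ^ 5 + 1) + q ^ 5 + 1 = q ^ 7 + q ^ 2 := by
      obtain ⟨m, hm⟩ : ∃ m, q ^ 2 = m + 1 := ⟨q ^ 2 - 1, by omega⟩
      have h4 : q ^ 7 = q ^ 2 * q ^ 5 := by ring
      rw [h4, hm, Nat.add_sub_cancel]
      ring
    omega
  have a2 : (q ^ 6 - 1) * (q ^ 9 + 1) ≤ q ^ 15 := by
    have h1 : q ^ 6 ≤ q ^ 9 := Nat.pow_le_pow_right hq1 (by norm_num)
    have h2 : 1 ≤ q ^ 6 := Nat.one_le_pow _ _ hq1
    have h3 : (q ^ 6 - 1) * (q ^ 9 + 1) + q ^ 9 + 1 = q ^ 15 + q ^ 6 := by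
      obtain ⟨m, hm⟩ : ∃ m, q ^ 6 = m + 1 := ⟨q ^ 6 - 1, by omega⟩
      have h4 : q ^ 15 = q ^ 6 * q ^ 9 := by ring
      rw [h4, hm, Nat.add_sub_cancel]
      ring
    omega
  calc Nat.card (twistedE6 K q) ≤ Nat.gcd 3 (q + 1) * Nat.card (twistedE6 K q) := Nat.le_mul_of_pos_left _ hg
    _ = q ^ 36 * (q ^ 2 - 1) * (q ^ 5 + 1) * (q ^ 6 - 1) * (q ^ 8 - 1) * (q ^ 9 + 1) * (q ^ 12 - 1) := h
    _ = q ^ 36 * ((q ^ 2 - 1) * (q ^ 5 + 1)) * ((q ^ 6 - 1) * (q ^ 9 + 1)) * (q ^ 8 - 1) * (q ^ 12 - 1) := by ring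
    _ ≤ q ^ 36 * q ^ 7 * q ^ 15 * q ^ 8 * q ^ 12 := by
        gcongr <;> exact RowExc.pow_sub_le _ _
    _ = q ^ 78 := by ring

/-- the pairs of roots -/
def pq : Fin 4 → ℕ × ℕ := ![(56, 36), (15, 35), (42, 37), (29, 34)]

/-- the roots -/
def sq : Fin 4 → ℕ := ![46, 25, 39, 32]

theorem pq_mem : ∀ i, pq i ∈ [(56, 36), (15, 35), (42, 37), (29, 34)] := by decide
theorem sq_mem : ∀ i, sq i ∈ [46, 25, 39, 32] := by decide
theorem pq_ex : ∀ rs ∈ [(56, 36), (15, 35), (42, 37), (29, 34)], ∃ i, pq i = rs := by decide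
theorem sq_ex : ∀ r ∈ [46, 25, 39, 32], ∃ i, sq i = r := by decide
theorem pq_cm : ∀ i, (pq i).1 < 72 ∧ (pq i).2 < 72 ∧ ChevHeis.cm chevE6 (pq i).2 (pq i).1 = true := by decide +kernel

/-- the root elements of length two -/
def xs {φ : K →+* K} {q : ℕ} (hφ : ∀ x, φ x = x ^ q) (i : Fin 4) (t : FF φ) : twistedE6 K q :=
  ⟨x (sq i) (t : K), single_mem ((hφ _).symm.trans (mem_FF.1 t.2)) (sq_mem i)⟩

/-- the root elements of length one -/
def xp (q : ℕ) (i : Fin 4) (t : K) : twistedE6 K q := ⟨x (pq i).1 t * x (pq i).2 (t ^ q), pair_mem t (pq_mem i)⟩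

theorem xs_add {φ : K →+* K} {q : ℕ} (hφ : ∀ x, φ x = x ^ q) (i : Fin 4) (t u : FF φ) :
    xs hφ i (t + u) = xs hφ i t * xs hφ i u := by
  apply Subtype.ext
  show x (sq i) ((t + u : FF φ) : K) = x (sq i) (t : K) * x (sq i) (u : K)
  rw [x_add]
  rfl

theorem xp_add {φ : K →+* K} {q : ℕ} (hφ : ∀ x, φ x = x ^ q) (i : Fin 4) (t u : K) :
    xp q i (t + u) = xp q i t * xp q i u := by
  apply Subtype.ext
  show x (pq i).1 (t + u) * x (pq i).2 ((t + u) ^ q) =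
    (x (pq i).1 t * x (pq i).2 (t ^ q)) * (x (pq i).1 u * x (pq i).2 (u ^ q))
  obtain ⟨h1, h2, h3⟩ := pq_cm i
  have hc : x (pq i).2 (t ^ q) * x (pq i).1 u = x (pq i).1 u * x (pq i).2 (t ^ q) :=
    ChevWord.comm_x TwE6Basic.hE6 h2 h1 h3 _ _
  rw [← hφ (t + u), map_add, hφ, hφ, ← x_add, ← x_add]
  calc x (pq i).1 t * x (pq i).1 u * (x (pq i).2 (t ^ q) * x (pq i).2 (u ^ q)) =
      x (pq i).1 t * (x (pq i).1 u * x (pq i).2 (t ^ q)) * x (pq i).2 (u ^ q) := by group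
    _ = x (pq i).1 t * (x (pq i).2 (t ^ q) * x (pq i).1 u) * x (pq i).2 (u ^ q) := by rw [hc]
    _ = _ := by group

theorem card_aut [Fintype K] {q : ℕ} (hq : IsPrimePow q) (hK : Fintype.card K = q ^ 2) (h2 : (2 : K) ≠ 0) :
    Nat.card (MulAut (twistedE6 K q)) ≤ 2 ^ (936 * (q - 1)) := by
  classical
  obtain ⟨φ, hφ, hqq⟩ := exists_frob hq hK
  have hc : Nat.card (FF φ) = q := card_FF hq.two_le (by rw [Nat.card_eq_fintype_card, hK]) hφ
  obtain ⟨p, hpc⟩ := CharP.exists K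
  have hp : p.Prime := (CharP.char_is_prime_or_zero K p).resolve_right (CharP.char_ne_zero_of_finite K p)
  haveI : Fact p.Prime := ⟨hp⟩
  have hp2 : p ≠ 2 := by
    rintro rfl
    have h0 : ((2 : ℕ) : K) = 0 := CharP.cast_eq_zero K 2
    exact h2 (by exact_mod_cast h0)
  have hp3 : 3 ≤ p := by
    have := hp.two_le
    omega
  have : CharP (FF φ) p := inferInstance
  letI : Algebra (ZMod p) K := ZMod.algebra K p
  letI : Algebra (ZMod p) (FF φ) := ZMod.algebra (FF φ) p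
  haveI : Module.Finite (ZMod p) K := Module.Finite.of_finite
  haveI : Module.Finite (ZMod p) (FF φ) := Module.Finite.of_finite
  set e := Module.finrank (ZMod p) (FF φ) with he
  have hqe : q = p ^ e := by
    rw [← hc, Nat.card_eq_fintype_card, Module.card_eq_pow_finrank (K := ZMod p) (V := FF φ), ZMod.card]
  have hKe : Module.finrank (ZMod p) K = 2 * e := by
    have h := Module.card_eq_pow_finrank (K := ZMod p) (V := K)
    rw [ZMod.card, hK, hqe, ← pow_mul, mul_comm e 2] at h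
    exact (Nat.pow_right_injective hp.two_le h).symm
  let b1 := Module.finBasis (ZMod p) (FF φ)
  let b2 := Module.finBasis (ZMod p) K
  let f1 : Fin 4 × Fin e → twistedE6 K q := fun a => xs hφ a.1 (b1 a.2)
  let f2 : Fin 4 × Fin (Module.finrank (ZMod p) K) → twistedE6 K q := fun a => xp q a.1 (b2 a.2)
  let S : Finset (twistedE6 K q) := Finset.univ.image f1 ∪ Finset.univ.image f2
  have hS : Subgroup.closure (S : Set (twistedE6 K q)) = ⊤ := by
    set H := Subgroup.closure (S : Set (twistedE6 K q)) with hH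
    have hs : ∀ i t, xs hφ i t ∈ H := fun i => RkGen.mem_of_basis b1 (xs_add hφ i) fun j =>
      Subgroup.subset_closure (Finset.mem_coe.2 (Finset.mem_union_left _
        (Finset.mem_image.2 ⟨(i, j), Finset.mem_univ _, rfl⟩)))
    have hpr : ∀ i t, xp q i t ∈ H := fun i => RkGen.mem_of_basis b2 (xp_add hφ i) fun j =>
      Subgroup.subset_closure (Finset.mem_coe.2 (Finset.mem_union_right _
        (Finset.mem_image.2 ⟨(i, j), Finset.mem_univ _, rfl⟩)))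
    have h1 : twistedE6 K q ≤ H.map (twistedE6 K q).subtype := by
      rw [twisted_le_iff]
      constructor
      · intro t ht r hr
        obtain ⟨i, rfl⟩ := sq_ex r hr
        exact ⟨xs hφ i ⟨t, (hφ t).trans ht⟩, hs i _, rfl⟩
      · intro t rs hr
        obtain ⟨i, rfl⟩ := pq_ex rs hr
        exact ⟨xp q i t, hpr i t, rfl⟩
    rw [eq_top_iff]
    intro g _
    obtain ⟨g', hg', e⟩ := h1 g.2
    have : g' = g := Subtype.ext e
    exact this ▸ hg'
  have hSc : S.card ≤ 12 * e := by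
    have h1 : S.card ≤ (Finset.univ.image f1).card + (Finset.univ.image f2).card := Finset.card_union_le _ _
    have h3 : (Finset.univ.image f1).card ≤ 4 * e := by
      refine Finset.card_image_le.trans ?_
      rw [Finset.card_univ, Fintype.card_prod, Fintype.card_fin, Fintype.card_fin]
    have h4 : (Finset.univ.image f2).card ≤ 4 * (2 * e) := by
      refine Finset.card_image_le.trans ?_
      rw [Finset.card_univ, Fintype.card_prod, Fintype.card_fin, Fintype.card_fin, hKe]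
    omega
  have h5 := RkGen.card_aut_le_of_gen (K := twistedE6 K q) (n := 78) hp3 S hS hSc (by rw [← hqe]; exact card_le hq hK)
  rw [← hqe] at h5
  exact h5

theorem num {q : ℕ} (hq : 3 ≤ q) : 2 * (936 * (q - 1)) + 2 < 2 * q ^ 7 := by
  obtain ⟨m, rfl⟩ : ∃ m, q = m + 3 := ⟨q - 3, by omega⟩
  have h0 : m + 3 - 1 = m + 2 := by omega
  rw [h0]
  have h1 : (m + 3) ^ 7 = m ^ 7 + 21 * m ^ 6 + 189 * m ^ 5 + 945 * m ^ 4 + 2835 * m ^ 3 + 5103 * m ^ 2 + 5103 * m + 2187 := by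
    ring
  rw [h1]
  nlinarith [Nat.zero_le (m ^ 7), Nat.zero_le (m ^ 6), Nat.zero_le (m ^ 5), Nat.zero_le (m ^ 4), Nat.zero_le (m ^ 3),
    Nat.zero_le (m ^ 2)]

/-- **The row `²E₆(q)`, `q` odd.** -/
theorem row [Fintype K] {q : ℕ} (hq : IsPrimePow q) (hK : Fintype.card K = q ^ 2) (h2 : (2 : K) ≠ 0) :
    RowEH3.{v} (twistedE6 K q) := by
  have hs := Cfsg.Agent.S1070.result hq hK
  have := hs.1
  refine RowEH3.of_dead (RowExc.center_bot hs) (Dead2.of_lb (LB.of_heis (lb.{u, v, v} hq hK h2))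
    (RowExc.rk_of_aut (card_aut hq hK h2)) ?_)
  refine num ?_
  have hq1 := hq.two_le
  by_contra hcon
  have h3 : q = 2 := by omega
  subst h3
  have h4 : ((Fintype.card K : ℕ) : K) = 0 := Nat.cast_card_eq_zero K
  rw [hK] at h4
  have h5 : (2 : K) * 2 = 0 := by
    have : ((2 ^ 2 : ℕ) : K) = 2 * 2 := by push_cast; norm_num
    rw [← this, h4]
  exact (mul_ne_zero h2 h2) h5

/-- **The row `twisted`**, from the row of `³D₄(q)`. -/
theorem twisted_of_D4 (hD4 : ∀ (K : Type) [Field K] [Fintype K] (q : ℕ), IsPrimePow q → Fintype.card K = q ^ 3 →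
      (2 : K) ≠ 0 → RowEH3.{u} (twistedD4 K q))
    (G : Type u) [Group G] (h : ∃ p : ℕ, p.Prime ∧ p ≠ 2 ∧ IsTwistedE6D4Char p G) : RowEH3.{u} G := by
  obtain ⟨p, hp, hp2, K, _, _, _, q, hq, h⟩ := h
  have h2 : (2 : K) ≠ 0 := RowExc.two_ne hp hp2 K
  rcases h with ⟨hK, ⟨e⟩⟩ | ⟨hK, ⟨e⟩⟩
  · exact (row hq hK h2).equiv e
  · exact (hD4 K q hq hK h2).equiv e

end Cfsg.Agent.Omega.TwoF.RowTwE6
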