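import Cfsg.Agent.Mrg.Omega.TwoF.RkPOm
import Cfsg.Agent.LieClassical.OrthFinite
import Cfsg.Agent.LieClassical.OrthForms
import Cfsg.Agent.Mrg.Omega.TwoF.Bridge
import Cfsg.Agent.Omega.EH3.Row

section


/-!
# The indices of an orthogonal frame are tied

`Frame.tie_all`: all indices are tied if `|F| > 3` or if there are at least four indices;
`Frame.exists_off`: the separating vectors for at least four indices.
-/

set_option autoImplicit false
set_option linter.unusedSectionVars false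

namespace Cfsg.Agent.Omega.TwoF.OrthEl

open QuadraticMap Matrix
open Cfsg.Agent.ClassicalGeometry.Reflection Cfsg.Agent.ClassicalGeometry.Eichler
open Cfsg.Agent.ClassicalGeometry.SiegelGen Cfsg.Agent.ClassicalGeometry.SpinorSign
open Cfsg.Agent.ClassicalGeometry.GenReflections (act act_apply act_mul act_one act_isometry act_polar act_ext
  act_reflIso act_inv_eq)
open Cfsg.Agent.ClassicalGeometry.ReflClass (exists_diag_binary)
open Cfsg.Agent.Omega.TwoF.OLift

variable {ι : Type} [Fintype ι] [DecidableEq ι] {F : Type*} [Field F] {Q : QuadraticForm F (ι → F)}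
variable {I : Type*} [Fintype I] [DecidableEq I]

theorem sq_eq_one_iff_of_ne (a : F) (h : a ^ 2 = 1) : a = 1 ∨ a = -1 := by
  have h1 : (a - 1) * (a + 1) = 0 := by linear_combination h
  rcases mul_eq_zero.1 h1 with h2 | h2
  · exact Or.inl (sub_eq_zero.1 h2)
  · exact Or.inr (eq_neg_of_add_eq_zero_left h2)

namespace Frame

variable {e f e' f' : ι → F} {b : I → ι → F}

theorem Q_vec (H : Frame Q e f e' f' b) (h2 : (2 : F) ≠ 0) (p : I → F) : Q (vec b p) = ∑ i, p i ^ 2 * Q (b i) := by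
  have h1 := H.polar_vec p p
  rw [polar_self'] at h1
  apply mul_left_cancel₀ h2
  rw [h1, Finset.mul_sum]
  exact Finset.sum_congr rfl fun i _ => by ring

theorem sum_two {i j : I} (a c : F) (w : I → F) :
    ∑ k, (Pi.single i a + Pi.single j c : I → F) k * w k = a * w i + c * w j := by
  simp only [Pi.add_apply, add_mul, Finset.sum_add_distrib]
  congr 1
  · rw [Finset.sum_eq_single i]
    · rw [Pi.single_eq_same]
    · intro k _ hk; rw [Pi.single_eq_of_ne hk, zero_mul]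
    · intro h; exact absurd (Finset.mem_univ i) h
  · rw [Finset.sum_eq_single j]
    · rw [Pi.single_eq_same]
    · intro k _ hk; rw [Pi.single_eq_of_ne hk, zero_mul]
    · intro h; exact absurd (Finset.mem_univ j) h

theorem Q_two (H : Frame Q e f e' f' b) {i j : I} (hij : i ≠ j) (a c : F) :
    Q (vec b (Pi.single i a + Pi.single j c)) = a ^ 2 * Q (b i) + c ^ 2 * Q (b j) := by
  rw [vec_add, vec_single, vec_single, map_add', QuadraticMap.map_smul, QuadraticMap.map_smul,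
    QuadraticMap.polar_smul_left, QuadraticMap.polar_smul_right, H.orth i j hij]
  simp only [smul_eq_mul, mul_zero, add_zero]
  ring

/-- At least four indices: vectors of any norm orthogonal to two of the `b i`. -/
theorem exists_off (H : Frame Q e f e' f' b) (h2 : (2 : F) ≠ 0) [Finite F] (h4 : 4 ≤ Fintype.card I) (i j : I)
    (c : F) : ∃ r : I → F, r i = 0 ∧ r j = 0 ∧ Q (vec b r) = c := by
  obtain ⟨k, hk⟩ : ∃ k, k ∉ ({i, j} : Finset I) := by
    by_contra hcon
    push Not at hcon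
    have h5 : Finset.univ ⊆ ({i, j} : Finset I) := fun k _ => hcon k
    have h6 := Finset.card_le_card h5
    rw [Finset.card_univ] at h6
    have h7 : ({i, j} : Finset I).card ≤ 2 := Finset.card_le_two
    omega
  obtain ⟨l, hl⟩ : ∃ l, l ∉ ({i, j, k} : Finset I) := by
    by_contra hcon
    push Not at hcon
    have h5 : Finset.univ ⊆ ({i, j, k} : Finset I) := fun k _ => hcon k
    have h6 := Finset.card_le_card h5
    rw [Finset.card_univ] at h6
    have h7 : ({i, j, k} : Finset I).card ≤ 3 := Finset.card_le_three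
    omega
  simp only [Finset.mem_insert, Finset.mem_singleton, not_or] at hk hl
  obtain ⟨x, y, hxy⟩ := exists_diag_binary h2 (Q (b k)) (Q (b l)) c (H.nz k) (H.nz l)
  refine ⟨Pi.single k x + Pi.single l y, ?_, ?_, ?_⟩
  · rw [Pi.add_apply, Pi.single_eq_of_ne (Ne.symm hk.1), Pi.single_eq_of_ne (Ne.symm hl.1), add_zero]
  · rw [Pi.add_apply, Pi.single_eq_of_ne (Ne.symm hk.2), Pi.single_eq_of_ne (Ne.symm hl.2.1), add_zero]
  · rw [H.Q_two (Ne.symm hl.2.2), ← hxy]
    ring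

/-- Separation of `x (s p)` and `y q`. -/
theorem sep_pq (H : Frame Q e f e' f' b) (h2 : (2 : F) ≠ 0) (hQ : (polarBilin Q).Nondegenerate) {p q r : I → F}
    (hp : Q (vec b p) ≠ 0) (hr : Q (vec b r) ≠ 0) (hs : IsSquare (Q (vec b p) * Q (vec b r)))
    (hpr : polar (⇑Q) (vec b p) (vec b r) = 0) (hpq : p ⬝ᵥ q = 0) (hrq : r ⬝ᵥ q = 0) (s : F) :
    ∃ h : Cfsg.Omega F (⇑Q), h * H.gO h2 hQ = H.gO h2 hQ * h ∧
      h * H.xO h2 hQ (s • p) * h⁻¹ = H.xO h2 hQ (-(s • p)) ∧ h * H.yO h2 hQ q * h⁻¹ = H.yO h2 hQ q := by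
  obtain ⟨h, h3, h4, h5, -, -, h8⟩ := H.sep_gen h2 hQ hp hr hs hpr
  refine ⟨⟨h, h3⟩, Subtype.ext h4, Subtype.ext (h5 s), Subtype.ext (h8 q ?_ ?_)⟩
  · rw [polar_comm, H.polar_vec_dual h2, hpq]
  · rw [polar_comm, H.polar_vec_dual h2, hrq]

theorem dot_two {i j : I} (a c : F) (w : I → F) :
    (Pi.single i a + Pi.single j c : I → F) ⬝ᵥ w = a * w i + c * w j :=
  sum_two a c w

/-- The link. -/
theorem tie_link (H : Frame Q e f e' f' b) (h2 : (2 : F) ≠ 0) (hQ : (polarBilin Q).Nondegenerate) {i j : I}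
    (hij : i ≠ j) {a : F} (ha : a ≠ 0) {r : I → F} (hri : r i = 0) (hrj : r j = 0) (hr : Q (vec b r) ≠ 0)
    (hn : Q (b i) + a ^ 2 * Q (b j) ≠ 0) (hs : IsSquare ((Q (b i) + a ^ 2 * Q (b j)) * Q (vec b r))) :
    Tie (H.xO h2 hQ) (H.yO h2 hQ) (H.gO h2 hQ) i j := by
  refine .link hij ha fun s => ?_
  have e1 : Q (vec b (Pi.single i 1 + Pi.single j a)) = Q (b i) + a ^ 2 * Q (b j) := by
    rw [H.Q_two hij]; ring
  have e2 : s • (Pi.single i 1 + Pi.single j a : I → F) = Pi.single i s + Pi.single j (a * s) := by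
    rw [smul_add, ← Pi.single_smul, ← Pi.single_smul, smul_eq_mul, smul_eq_mul, mul_one, mul_comm s a]
  have h3 := H.sep_pq h2 hQ (p := Pi.single i 1 + Pi.single j a) (q := Pi.single i 1 + Pi.single j (-a⁻¹)) (r := r)
    (by rw [e1]; exact hn) hr (by rw [e1]; exact hs) (by
      rw [vec_add, vec_single, vec_single, QuadraticMap.polar_add_left, QuadraticMap.polar_smul_left,
        QuadraticMap.polar_smul_left, H.polar_b, H.polar_b, hri, hrj]
      simp) (by
      rw [dot_two, Pi.add_apply, Pi.add_apply, Pi.single_eq_same, Pi.single_eq_of_ne hij,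
        Pi.single_eq_of_ne hij.symm, Pi.single_eq_same]
      field_simp
      ring) (by
      rw [dotProduct_comm, dot_two, hri, hrj, mul_zero, mul_zero, add_zero]) s
  rw [e2] at h3
  exact h3

/-- Three indices, characteristic three. -/
theorem tie_three (H : Frame Q e f e' f' b) (h2 : (2 : F) ≠ 0) (hQ : (polarBilin Q).Nondegenerate) [Finite F]
    (h4 : 4 ≤ Fintype.card I) (h3 : (3 : F) = 0) {i j k : I} (hij : i ≠ j) (hik : i ≠ k) (hjk : j ≠ k)
    (hQij : Q (b j) = Q (b i)) (hQik : Q (b k) = - Q (b i))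
    (hji : Tie (H.xO h2 hQ) (H.yO h2 hQ) (H.gO h2 hQ) j i) :
    Tie (H.xO h2 hQ) (H.yO h2 hQ) (H.gO h2 hQ) k i := by
  refine .three hij hik hjk h3 hji fun s => ?_
  obtain ⟨l, hl⟩ : ∃ l, l ∉ ({i, j, k} : Finset I) := by
    by_contra hcon
    push Not at hcon
    have h5 : Finset.univ ⊆ ({i, j, k} : Finset I) := fun k _ => hcon k
    have h6 := Finset.card_le_card h5
    rw [Finset.card_univ] at h6
    have h7 : ({i, j, k} : Finset I).card ≤ 3 := Finset.card_le_three
    omega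
  simp only [Finset.mem_insert, Finset.mem_singleton, not_or] at hl
  obtain ⟨hli, hlj, hlk⟩ := hl
  obtain ⟨α, β, hαβ⟩ := exists_diag_binary h2 (2 * Q (b i)) (Q (b l)) (Q (b i)) (mul_ne_zero h2 (H.nz i)) (H.nz l)
  set p : I → F := Pi.single i 1 + Pi.single j 1 + Pi.single k 1 with hp
  set r : I → F := Pi.single i α + Pi.single j (-α) + Pi.single l β with hr
  have pi : p i = 1 := by
    rw [hp, Pi.add_apply, Pi.add_apply, Pi.single_eq_same, Pi.single_eq_of_ne hij, Pi.single_eq_of_ne hik]; ring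
  have pj : p j = 1 := by
    rw [hp, Pi.add_apply, Pi.add_apply, Pi.single_eq_same, Pi.single_eq_of_ne hij.symm, Pi.single_eq_of_ne hjk]
    ring
  have pk : p k = 1 := by
    rw [hp, Pi.add_apply, Pi.add_apply, Pi.single_eq_same, Pi.single_eq_of_ne hik.symm,
      Pi.single_eq_of_ne hjk.symm]; ring
  have pl : p l = 0 := by
    rw [hp, Pi.add_apply, Pi.add_apply, Pi.single_eq_of_ne hli, Pi.single_eq_of_ne hlj, Pi.single_eq_of_ne hlk]
    ring
  have dotr : ∀ w : I → F, r ⬝ᵥ w = α * w i - α * w j + β * w l := by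
    intro w
    rw [hr, add_dotProduct, dot_two, single_dotProduct]
    ring
  have dotp : ∀ w : I → F, p ⬝ᵥ w = w i + w j + w k := by
    intro w
    rw [hp, add_dotProduct, dot_two, single_dotProduct]
    ring
  have hdot : ∀ (p w : I → F), ∑ m, p m * w m = p ⬝ᵥ w := fun _ _ => rfl
  have e1 : Q (vec b p) = Q (b i) := by
    rw [H.Q_vec h2]
    have : ∑ m, p m ^ 2 * Q (b m) = p ⬝ᵥ (fun m => p m * Q (b m)) := by
      rw [dotProduct]; exact Finset.sum_congr rfl fun m _ => by ring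
    rw [this, dotp, pi, pj, pk, hQij, hQik]
    ring
  have ri : r i = α := by
    rw [hr, Pi.add_apply, Pi.add_apply, Pi.single_eq_same, Pi.single_eq_of_ne hij, Pi.single_eq_of_ne (Ne.symm hli)]
    ring
  have rj : r j = -α := by
    rw [hr, Pi.add_apply, Pi.add_apply, Pi.single_eq_same, Pi.single_eq_of_ne hij.symm,
      Pi.single_eq_of_ne (Ne.symm hlj)]
    ring
  have rl : r l = β := by
    rw [hr, Pi.add_apply, Pi.add_apply, Pi.single_eq_same, Pi.single_eq_of_ne hli, Pi.single_eq_of_ne hlj]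
    ring
  have e2 : Q (vec b r) = Q (b i) := by
    rw [H.Q_vec h2]
    have : ∑ m, r m ^ 2 * Q (b m) = r ⬝ᵥ (fun m => r m * Q (b m)) := by
      rw [dotProduct]; exact Finset.sum_congr rfl fun m _ => by ring
    rw [this, dotr, ri, rj, rl, hQij]
    linear_combination hαβ
  have e3 : polar (⇑Q) (vec b p) (vec b r) = 0 := by
    rw [H.polar_vec]
    have : ∑ m, p m * r m * (2 * Q (b m)) = r ⬝ᵥ (fun m => p m * (2 * Q (b m))) := by
      rw [dotProduct]; exact Finset.sum_congr rfl fun m _ => by ring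
    rw [this, dotr, pi, pj, pl, hQij]
    ring
  have e4 : s • p = Pi.single i s + Pi.single j s + Pi.single k s := by
    rw [hp, smul_add, smul_add, ← Pi.single_smul, ← Pi.single_smul, ← Pi.single_smul, smul_eq_mul, mul_one]
  have h5 := H.sep_pq h2 hQ (p := p) (q := p) (r := r) (by rw [e1]; exact H.nz i) (by rw [e2]; exact H.nz i)
    (by rw [e1, e2]; exact ⟨_, rfl⟩) e3 (by rw [dotp, pi, pj, pk]; linear_combination h3)
    (by rw [dotr, pi, pj, pl]; ring) s
  rw [e4] at h5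
  exact h5

/-- The scaling element, `|F| > 3`. -/
theorem tie_scale (H : Frame Q e f e' f' b) (h2 : (2 : F) ≠ 0) (hQ : (polarBilin Q).Nondegenerate) {c : Fˣ}
    (hc : (c : F) ^ 2 ≠ 1) (i j : I) : Tie (H.xO h2 hQ) (H.yO h2 hQ) (H.gO h2 hQ) i j := by
  have hmem : tor H.hyp (c * c) ∈ Cfsg.Omega F (⇑Q) := by
    rw [← tor_mul]
    exact mul_self_mem_commutator h2 Q hQ _
  refine .scale hc ⟨⟨tor H.hyp (c * c), hmem⟩, Subtype.ext ?_, fun p => Subtype.ext ?_, fun p => Subtype.ext ?_⟩ i j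
  · show tor H.hyp (c * c) * H.t (-1) = H.t (-1) * tor H.hyp (c * c)
    have h1 := tor_tor_comm H.hyp H.hyp' H.o1 H.o2 H.o3 H.o4 (c * c) (-1)⁻¹
    rw [t, ← mul_assoc, tor_comm, mul_assoc, h1, mul_assoc]
  · have h1 := H.x_conj (tor H.hyp (c * c)) (act_tor_e H.hyp _) (H.tor_vec _ p)
    have h3 : ((c * c : Fˣ) : F) = (c : F) ^ 2 := by rw [Units.val_mul, pow_two]
    rw [h3] at h1
    exact h1
  · exact H.y_conj_one _ (H.tor_e' _) (H.tor_vec _ _)

/-- All indices are tied. -/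
theorem tie_all (H : Frame Q e f e' f' b) (h2 : (2 : F) ≠ 0) (hQ : (polarBilin Q).Nondegenerate) [Finite F]
    (h4 : 4 ≤ Fintype.card I ∨ Nat.card F ≠ 3) (i j : I) :
    Tie (H.xO h2 hQ) (H.yO h2 hQ) (H.gO h2 hQ) i j := by
  by_cases hc : ∃ c : Fˣ, (c : F) ^ 2 ≠ 1
  · obtain ⟨c, hc⟩ := hc
    exact H.tie_scale h2 hQ hc i j
  push Not at hc
  have hpm : ∀ a : F, a ≠ 0 → a = 1 ∨ a = -1 := fun a ha =>
    sq_eq_one_iff_of_ne a (hc (Units.mk0 a ha))
  have h3 : (3 : F) = 0 := by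
    rcases hpm 2 h2 with h | h
    · exfalso
      have : (1 : F) = 0 := by linear_combination h
      exact one_ne_zero this
    · linear_combination h
  have hcard : Nat.card F = 3 := by
    classical
    have := Fintype.ofFinite F
    rw [Nat.card_eq_fintype_card, ← Finset.card_univ]
    have h5 : (Finset.univ : Finset F) = {0, 1, -1} := by
      ext a
      simp only [Finset.mem_univ, Finset.mem_insert, Finset.mem_singleton, true_iff]
      by_cases ha : a = 0
      · exact Or.inl ha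
      · exact Or.inr (hpm a ha)
    rw [h5, Finset.card_eq_three]
    have h6 : (0 : F) ≠ -1 := fun h => one_ne_zero (α := F) (by linear_combination h)
    have h7 : (1 : F) ≠ -1 := fun h => h2 (by linear_combination h)
    exact ⟨0, 1, -1, zero_ne_one, h6, h7, rfl⟩
  have h4' : 4 ≤ Fintype.card I := by
    rcases h4 with h | h
    · exact h
    · exact absurd hcard h
  -- links between indices of the same norm
  have hlink : ∀ i j, i ≠ j → Q (b j) = Q (b i) → Tie (H.xO h2 hQ) (H.yO h2 hQ) (H.gO h2 hQ) i j := by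
    intro i j hij hQij
    obtain ⟨r, hri, hrj, hr⟩ := H.exists_off h2 h4' i j (Q (b i) + 1 ^ 2 * Q (b j))
    have hne : Q (b i) + 1 ^ 2 * Q (b j) ≠ 0 := by
      rw [hQij, one_pow, one_mul, ← two_mul]
      exact mul_ne_zero h2 (H.nz i)
    exact H.tie_link h2 hQ hij one_ne_zero hri hrj (by rw [hr]; exact hne) hne (by rw [hr]; exact ⟨_, rfl⟩)
  have hneg : ∀ i j, Q (b j) ≠ Q (b i) → Q (b j) = - Q (b i) := by
    intro i j hij
    rcases hpm _ (H.nz i) with h5 | h5 <;> rcases hpm _ (H.nz j) with h6 | h6 <;> rw [h5, h6] at hij ⊢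
    · exact absurd rfl hij
    · rw [neg_neg]
    · exact absurd rfl hij
  by_cases hij : i = j
  · subst hij; exact .refl i
  by_cases hQij : Q (b j) = Q (b i)
  · exact hlink i j hij hQij
  obtain ⟨k, hk⟩ : ∃ k, k ∉ ({i, j} : Finset I) := by
    by_contra hcon
    push Not at hcon
    have h5 : Finset.univ ⊆ ({i, j} : Finset I) := fun k _ => hcon k
    have h6 := Finset.card_le_card h5
    rw [Finset.card_univ] at h6
    have h7 : ({i, j} : Finset I).card ≤ 2 := Finset.card_le_two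
    omega
  simp only [Finset.mem_insert, Finset.mem_singleton, not_or] at hk
  by_cases hQik : Q (b k) = Q (b i)
  · exact (H.tie_three h2 hQ h4' h3 (Ne.symm hk.1) hij hk.2 hQik (hneg i j hQij)
      (hlink k i hk.1 hQik.symm)).symm
  · have hQjk : Q (b k) = Q (b j) := by rw [hneg i k hQik, hneg i j hQij]
    exact H.tie_three h2 hQ h4' h3 (Ne.symm hk.2) (Ne.symm hij) hk.1 hQjk (hneg j i (Ne.symm hQij))
      (hlink k j hk.2 hQjk.symm)

end Frame

end Cfsg.Agent.Omega.TwoF.OrthEl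

end

section


/-!
# Existence of frames and the lower bound for the orthogonal groups of odd characteristic

* `exists_frame`: a nondegenerate form in dimension `n ≥ 7` over a finite field of odd order has a frame with
  `m ≥ n - 4` vectors, any two of which are separated;
* `lb_pomega`: `LB (PΩ(Q)) (ord_p(2) * q ^ (n - 4))` unless `n = 7` and `q = 3`.
-/

set_option autoImplicit false
set_option linter.unusedSectionVars false

universe v w

namespace Cfsg.Agent.Omega.TwoF.OrthEl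

open QuadraticMap Matrix Module
open Cfsg.Agent.ClassicalGeometry.Reflection Cfsg.Agent.ClassicalGeometry.Eichler
open Cfsg.Agent.ClassicalGeometry.SiegelGen Cfsg.Agent.ClassicalGeometry.SpinorSign
open Cfsg.Agent.ClassicalGeometry.GenReflections (act act_apply act_mul act_one act_isometry act_polar act_ext
  act_reflIso act_inv_eq)
open Cfsg.Agent.ClassicalGeometry.ReflClass (exists_diag_binary)
open Cfsg.Agent.Omega.TwoF.OLift

variable {ι : Type} [Fintype ι] [DecidableEq ι] {F : Type*} [Field F] {Q : QuadraticForm F (ι → F)}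

/-- The condition for separation. -/
def SepCond {I : Type*} [Fintype I] (Q : QuadraticForm F (ι → F)) (b : I → ι → F) : Prop :=
  ∀ i j : I, i ≠ j → ∃ r : I → F, r i = 0 ∧ r j = 0 ∧ Q (vec b r) ≠ 0 ∧ IsSquare (Q (b i) * Q (vec b r))

section reindex

variable {I J : Type*} [Fintype I] [DecidableEq I] [Fintype J] [DecidableEq J]
variable {e f e' f' : ι → F} {b : I → ι → F}

theorem Frame.comp (H : Frame Q e f e' f' b) {σ : J → I} (hσ : Function.Injective σ) :
    Frame Q e f e' f' (b ∘ σ) :=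
  { H with
    eb := fun _ => H.eb _
    fb := fun _ => H.fb _
    eb' := fun _ => H.eb' _
    fb' := fun _ => H.fb' _
    orth := fun _ _ hij => H.orth _ _ fun h => hij (hσ h)
    nz := fun _ => H.nz _ }

/-- Replace the family. -/
theorem Frame.replace (H : Frame Q e f e' f' b) {c : J → ι → F} (p : J → I → F) (hc : ∀ j, c j = vec b (p j))
    (ho : ∀ i j, i ≠ j → polar (⇑Q) (c i) (c j) = 0) (hn : ∀ i, Q (c i) ≠ 0) : Frame Q e f e' f' c :=
  { H with
    eb := fun i => by rw [hc]; exact H.polar_zero e H.eb _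
    fb := fun i => by rw [hc]; exact H.polar_zero f H.fb _
    eb' := fun i => by rw [hc]; exact H.polar_zero e' H.eb' _
    fb' := fun i => by rw [hc]; exact H.polar_zero f' H.fb' _
    orth := ho
    nz := hn }

end reindex

/-- A frame with `m ≥ n - 4` vectors. -/
theorem exists_frame_aux [Finite F] (h2 : (2 : F) ≠ 0) (Q : QuadraticForm F (ι → F))
    (hQ : (polarBilin Q).Nondegenerate) (hn : 5 ≤ Fintype.card ι) :
    ∃ (m : ℕ) (e f e' f' : ι → F) (b : Fin m → ι → F), Frame Q e f e' f' b ∧ Fintype.card ι ≤ m + 4 := by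
  obtain ⟨e, f, e', f', H⟩ := exists_hypPairs h2 Q hQ hn
  let L : (ι → F) →ₗ[F] (Fin 4 → F) := LinearMap.pi ![polarBilin Q e, polarBilin Q f, polarBilin Q e', polarBilin Q f']
  have hL : ∀ v, v ∈ LinearMap.ker L ↔ polar (⇑Q) e v = 0 ∧ polar (⇑Q) f v = 0 ∧ polar (⇑Q) e' v = 0 ∧
      polar (⇑Q) f' v = 0 := by
    intro v
    rw [LinearMap.mem_ker]
    constructor
    · intro h
      exact ⟨congrFun h 0, congrFun h 1, congrFun h 2, congrFun h 3⟩
    · rintro ⟨h1, h2, h3, h4⟩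
      funext i
      fin_cases i
      exacts [h1, h2, h3, h4]
  have hrank : Fintype.card ι ≤ finrank F (LinearMap.ker L) + 4 := by
    have h1 := LinearMap.finrank_range_add_finrank_ker L
    rw [Module.finrank_fintype_fun_eq_card] at h1
    have h3 : finrank F (LinearMap.range L) ≤ 4 := by
      have := Submodule.finrank_le (LinearMap.range L)
      rwa [Module.finrank_fintype_fun_eq_card, Fintype.card_fin] at this
    omega
  set W := LinearMap.ker L with hW
  let Q' : QuadraticForm F W := Q.comp W.subtype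
  have hpol : ∀ v w : W, polarBilin Q' v w = polar (⇑Q) (v : ι → F) (w : ι → F) := fun v w => rfl
  have : Invertible (2 : F) := invertibleOfNonzero h2
  have hsymm : LinearMap.IsSymm (polarBilin Q') :=
    ⟨fun x y => by
      simp only [RingHom.id_apply]
      rw [hpol, hpol]
      exact polar_comm (⇑Q) _ _⟩
  obtain ⟨v, hv⟩ := LinearMap.BilinForm.exists_orthogonal_basis hsymm
  -- the restricted form is nondegenerate
  have hsep : LinearMap.SeparatingLeft (polarBilin Q') := by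
    intro w hw
    apply Subtype.ext
    apply hQ.1
    intro u
    rw [polarBilin_apply_apply]
    have hwe := (hL w).1 w.2
    set u' := u - polar (⇑Q) u f • e - polar (⇑Q) u e • f - polar (⇑Q) u f' • e' - polar (⇑Q) u e' • f' with hu'
    have ee : polar (⇑Q) e e = 0 := by rw [polar_self', H.qe, mul_zero]
    have ff : polar (⇑Q) f f = 0 := by rw [polar_self', H.qf, mul_zero]
    have ee' : polar (⇑Q) e' e' = 0 := by rw [polar_self', H.qe', mul_zero]
    have ff' : polar (⇑Q) f' f' = 0 := by rw [polar_self', H.qf', mul_zero]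
    have fe : polar (⇑Q) f e = 1 := by rw [polar_comm]; exact H.ef
    have fe' : polar (⇑Q) f' e' = 1 := by rw [polar_comm]; exact H.ef'
    have o1 : polar (⇑Q) e' e = 0 := by rw [polar_comm]; exact H.o1
    have o2 : polar (⇑Q) f' e = 0 := by rw [polar_comm]; exact H.o2
    have o3 : polar (⇑Q) e' f = 0 := by rw [polar_comm]; exact H.o3
    have o4 : polar (⇑Q) f' f = 0 := by rw [polar_comm]; exact H.o4
    have hu'W : u' ∈ W := by
      rw [hL]
      simp only [hu', QuadraticMap.polar_sub_right, QuadraticMap.polar_smul_right, ee, ff, ee', ff', fe, fe',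
        H.ef, H.ef', H.o1, H.o2, H.o3, H.o4, o1, o2, o3, o4, polar_comm (⇑Q) u]
      simp
    have h3 := hw ⟨u', hu'W⟩
    rw [hpol] at h3
    have h4 : u = u' + polar (⇑Q) u f • e + polar (⇑Q) u e • f + polar (⇑Q) u f' • e' + polar (⇑Q) u e' • f' := by
      rw [hu']; abel
    rw [h4]
    simp only [QuadraticMap.polar_add_right, QuadraticMap.polar_smul_right]
    rw [polar_comm (⇑Q) (w : ι → F) e, polar_comm (⇑Q) (w : ι → F) f, polar_comm (⇑Q) (w : ι → F) e',
      polar_comm (⇑Q) (w : ι → F) f', hwe.1, hwe.2.1, hwe.2.2.1, hwe.2.2.2]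
    simp only [smul_zero, add_zero]
    exact h3
  refine ⟨finrank F W, e, f, e', f', fun i => (v i : ι → F), ?_, hrank⟩
  have hvW : ∀ i, polar (⇑Q) e (v i : ι → F) = 0 ∧ polar (⇑Q) f (v i : ι → F) = 0 ∧
      polar (⇑Q) e' (v i : ι → F) = 0 ∧ polar (⇑Q) f' (v i : ι → F) = 0 := fun i => (hL _).1 (v i).2
  refine ⟨⟨H.qe, H.qf, H.ef⟩, ⟨H.qe', H.qf', H.ef'⟩, H.o1, H.o2, H.o3, H.o4, fun i => (hvW i).1,
    fun i => (hvW i).2.1, fun i => (hvW i).2.2.1, fun i => (hvW i).2.2.2, fun i j hij => ?_, fun i hi => ?_⟩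
  · have := hv hij
    simpa [Function.onFun, hpol] using this
  · apply hv.not_isOrtho_basis_self_of_separatingLeft hsep i
    show polarBilin Q' (v i) (v i) = 0
    rw [hpol, polar_self', hi, mul_zero]

/-- Three vectors: equal square classes. -/
theorem exists_frame_three [Finite F] (h2 : (2 : F) ≠ 0) {e f e' f' : ι → F} {b : Fin 3 → ι → F}
    (H : Frame Q e f e' f' b) :
    ∃ c : Fin 3 → ι → F, Frame Q e f e' f' c ∧ ∀ i j, IsSquare (Q (c i) * Q (c j)) := by
  -- first: `b 0`, `b 1` in the same class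
  have key : ∀ b : Fin 3 → ι → F, Frame Q e f e' f' b → IsSquare (Q (b 0) * Q (b 1)) →
      ∃ c : Fin 3 → ι → F, Frame Q e f e' f' c ∧ ∀ i j, IsSquare (Q (c i) * Q (c j)) := by
    intro b H hb
    obtain ⟨x, y, hxy⟩ := exists_diag_binary h2 (Q (b 0)) (Q (b 1)) (Q (b 2)) (H.nz 0) (H.nz 1)
    set v₁ : ι → F := vec b (Pi.single 0 x + Pi.single 1 y) with hv₁
    set v₂ : ι → F := vec b (Pi.single 0 (-(Q (b 1) * y)) + Pi.single 1 (Q (b 0) * x)) with hv₂
    have n01 : (0 : Fin 3) ≠ 1 := by decide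
    have q1 : Q v₁ = Q (b 2) := by rw [hv₁, H.Q_two n01, ← hxy]; ring
    have q2 : Q v₂ = Q (b 0) * Q (b 1) * Q (b 2) := by rw [hv₂, H.Q_two n01, ← hxy]; ring
    have e1 : v₁ = x • b 0 + y • b 1 := by rw [hv₁, vec_add, vec_single, vec_single]
    have e2 : v₂ = (-(Q (b 1) * y)) • b 0 + (Q (b 0) * x) • b 1 := by
      rw [hv₂, vec_add, vec_single, vec_single]
    have p12 : polar (⇑Q) v₁ v₂ = 0 := by
      rw [e1, e2]
      simp only [QuadraticMap.polar_add_left, QuadraticMap.polar_add_right, QuadraticMap.polar_smul_left,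
        QuadraticMap.polar_smul_right, H.orth 0 1 n01, H.orth 1 0 n01.symm, polar_self', smul_eq_mul]
      ring
    have p13 : polar (⇑Q) v₁ (b 2) = 0 := by
      rw [e1, QuadraticMap.polar_add_left, QuadraticMap.polar_smul_left, QuadraticMap.polar_smul_left,
        H.orth 0 2 (by decide), H.orth 1 2 (by decide)]
      simp
    have p23 : polar (⇑Q) v₂ (b 2) = 0 := by
      rw [e2, QuadraticMap.polar_add_left, QuadraticMap.polar_smul_left, QuadraticMap.polar_smul_left,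
        H.orth 0 2 (by decide), H.orth 1 2 (by decide)]
      simp
    refine ⟨![v₁, v₂, b 2], H.replace ![Pi.single 0 x + Pi.single 1 y,
      Pi.single 0 (-(Q (b 1) * y)) + Pi.single 1 (Q (b 0) * x), Pi.single 2 1] ?_ ?_ ?_, ?_⟩
    · intro j
      fin_cases j
      · rfl
      · rfl
      · show b 2 = vec b (Pi.single 2 1)
        rw [vec_single, one_smul]
    · intro i j hij
      fin_cases i <;> fin_cases j
      · exact absurd rfl hij
      · exact p12
      · exact p13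
      · exact (polar_comm _ _ _).trans p12
      · exact absurd rfl hij
      · exact p23
      · exact (polar_comm _ _ _).trans p13
      · exact (polar_comm _ _ _).trans p23
      · exact absurd rfl hij
    · intro i
      fin_cases i
      · show Q v₁ ≠ 0
        rw [q1]; exact H.nz 2
      · show Q v₂ ≠ 0
        rw [q2]; exact mul_ne_zero (mul_ne_zero (H.nz 0) (H.nz 1)) (H.nz 2)
      · exact H.nz 2
    · have hs2 : IsSquare (Q (b 2) * Q (b 2)) := ⟨_, rfl⟩
      have hs3 : IsSquare (Q (b 2) * (Q (b 0) * Q (b 1) * Q (b 2))) := by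
        obtain ⟨t, ht⟩ := hb
        exact ⟨t * Q (b 2), by rw [ht]; ring⟩
      intro i j
      fin_cases i <;> fin_cases j
      · exact ⟨_, rfl⟩
      · show IsSquare (Q v₁ * Q v₂)
        rw [q1, q2]; exact hs3
      · show IsSquare (Q v₁ * Q (b 2))
        rw [q1]; exact hs2
      · show IsSquare (Q v₂ * Q v₁)
        rw [q1, q2, mul_comm]; exact hs3
      · exact ⟨_, rfl⟩
      · show IsSquare (Q v₂ * Q (b 2))
        rw [q2, mul_comm]; exact hs3
      · show IsSquare (Q (b 2) * Q v₁)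
        rw [q1]; exact hs2
      · show IsSquare (Q (b 2) * Q v₂)
        rw [q2]; exact hs3
      · exact ⟨_, rfl⟩
  by_cases h01 : IsSquare (Q (b 0) * Q (b 1))
  · exact key b H h01
  by_cases h02 : IsSquare (Q (b 0) * Q (b 2))
  · exact key (b ∘ ![0, 2, 1]) (H.comp (by decide)) h02
  · refine key (b ∘ ![1, 2, 0]) (H.comp (by decide)) ?_
    show IsSquare (Q (b 1) * Q (b 2))
    rw [Cfsg.Agent.ClassicalGeometry.Universal.isSquare_mul_iff h2 (H.nz _) (H.nz _)] at h01 h02 ⊢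
    tauto

/-- **Frames.** -/
theorem exists_frame [Finite F] (h2 : (2 : F) ≠ 0) (Q : QuadraticForm F (ι → F))
    (hQ : (polarBilin Q).Nondegenerate) (hn : 7 ≤ Fintype.card ι) :
    ∃ (m : ℕ) (e f e' f' : ι → F) (b : Fin m → ι → F), Frame Q e f e' f' b ∧ Fintype.card ι ≤ m + 4 ∧
      SepCond Q b := by
  obtain ⟨m, e, f, e', f', b, H, hm⟩ := exists_frame_aux h2 Q hQ (by omega)
  by_cases h4 : 4 ≤ m
  · refine ⟨m, e, f, e', f', b, H, hm, fun i j _ => ?_⟩
    obtain ⟨r, h3, h5, h6⟩ := H.exists_off h2 (by rwa [Fintype.card_fin]) i j (Q (b i))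
    exact ⟨r, h3, h5, by rw [h6]; exact H.nz i, by rw [h6]; exact ⟨_, rfl⟩⟩
  · have h3 : m = 3 := by omega
    subst h3
    obtain ⟨c, H', hc⟩ := exists_frame_three h2 H
    refine ⟨3, e, f, e', f', c, H', hm, fun i j hij => ?_⟩
    obtain ⟨k, hki, hkj⟩ : ∃ k : Fin 3, k ≠ i ∧ k ≠ j := by
      revert i j; decide
    refine ⟨Pi.single k 1, Pi.single_eq_of_ne hki.symm _, Pi.single_eq_of_ne hkj.symm _, ?_, ?_⟩
    · rw [vec_single, one_smul]; exact H'.nz k
    · rw [vec_single, one_smul]; exact hc i k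

/-- `z s` is not central in `Ω`. -/
theorem Frame.z_not_central {I : Type*} [Fintype I] [DecidableEq I] {e f e' f' : ι → F} {b : I → ι → F}
    (H : Frame Q e f e' f' b) (h2 : (2 : F) ≠ 0) (hQ : (polarBilin Q).Nondegenerate) (i : I) {s : F} (hs : s ≠ 0) :
    H.zO h2 hQ s ∉ Subgroup.center (Cfsg.Omega F (⇑Q)) := by
  intro hc
  have h1 := Subgroup.mem_center_iff.1 hc ⟨E Q f (b i), E_mem h2 hQ _ _⟩
  have h3 : E Q f (b i) * H.z s = H.z s * E Q f (b i) := congrArg Subtype.val h1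
  have h4 := congrArg (fun g => act Q g e) h3
  simp only [act_mul] at h4
  have ee : polar (⇑Q) e e = 0 := by rw [polar_self', H.hyp.qe, mul_zero]
  have ff : polar (⇑Q) f f = 0 := by rw [polar_self', H.hyp.qf, mul_zero]
  have fe : polar (⇑Q) f e = 1 := by rw [polar_comm]; exact H.hyp.ef
  have e'e : polar (⇑Q) e' e = 0 := H.o1'
  have e'f : polar (⇑Q) e' f = 0 := by rw [polar_comm]; exact H.o3
  have be : polar (⇑Q) (b i) e = 0 := by rw [polar_comm]; exact H.eb i
  have hz : ∀ v, act Q (H.z s) v = v + (polar (⇑Q) e' v • (s • e) - polar (⇑Q) (s • e) v • e') := by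
    intro v
    rw [Frame.z, act_E H.hyp'.qe (H.e'_se s), QuadraticMap.map_smul, H.hyp.qe]
    simp
  rw [hz e, e'e, QuadraticMap.polar_smul_left, ee, act_E H.hyp.qf (H.fb i)] at h4
  simp only [smul_zero, zero_smul, sub_zero, add_zero] at h4
  rw [hz, act_E H.hyp.qf (H.fb i), fe, be] at h4
  simp only [one_smul, zero_smul, sub_zero, mul_one, QuadraticMap.polar_add_right, QuadraticMap.polar_sub_right,
    QuadraticMap.polar_smul_right, QuadraticMap.polar_smul_left, e'e, e'f, H.eb' i, ee, H.eb i, H.hyp.ef,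
    smul_eq_mul, mul_zero, zero_add, mul_one, zero_sub] at h4
  have h6 := sub_eq_zero.2 h4
  have h7 : (Q (b i) = 0 ∨ s = 0) ∨ e' = 0 := by simpa using h6
  rcases h7 with (h7 | h7) | h7
  · exact H.nz i h7
  · exact hs h7
  · have h8 := H.hyp'.ef
    rw [h7, QuadraticMap.polar_zero_left] at h8
    exact zero_ne_one h8

/-- **The lower bound for `PΩ(Q)`**, `n ≥ 7`, `q` odd, not `Ω₇(3)`. -/
theorem lb_pomega [Finite F] {p : ℕ} [Fact p.Prime] [CharP F p] (hp2 : p ≠ 2) (Q : QuadraticForm F (ι → F))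
    (hQ : (polarBilin Q).Nondegenerate) (hn : 7 ≤ Fintype.card ι) (h73 : Fintype.card ι ≠ 7 ∨ Nat.card F ≠ 3) :
    Lie.Heis.LB.{_, v, w} (Cfsg.POmega F (⇑Q)) (orderOf (2 : ZMod p) * Nat.card F ^ (Fintype.card ι - 4)) := by
  have h2 : (2 : F) ≠ 0 := by
    intro h
    have h1 : ((2 : ℕ) : F) = 0 := by exact_mod_cast h
    rw [CharP.cast_eq_zero_iff F p] at h1
    exact hp2 ((Nat.prime_dvd_prime_iff_eq Fact.out Nat.prime_two).1 h1)
  have : IsSimpleGroup (Cfsg.POmega F (⇑Q)) :=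
    Cfsg.Agent.LieClassical.OrthFinite.isSimpleGroup_POmega (fun x hx => hQ.1 x fun y => hx y) (by omega)
  obtain ⟨m, e, f, e', f', b, H, hm, hsep⟩ := exists_frame h2 Q hQ hn
  have hm3 : 3 ≤ m := by omega
  have d := (H.dat h2 hQ p hsep).map (QuotientGroup.mk' (Subgroup.center (Cfsg.Omega F (⇑Q))))
  have hz : ∃ s : F, QuotientGroup.mk' (Subgroup.center (Cfsg.Omega F (⇑Q))) (H.zO h2 hQ s) ≠ 1 := by
    refine ⟨1, fun h => ?_⟩
    exact H.z_not_central h2 hQ ⟨0, by omega⟩ one_ne_zero ((QuotientGroup.eq_one_iff _).1 h)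
  have ht := fun i => (H.tie_all h2 hQ (by
    rw [Fintype.card_fin]
    rcases h73 with h | h
    · left; omega
    · exact Or.inr h) i ⟨0, by omega⟩).map (QuotientGroup.mk' (Subgroup.center (Cfsg.Omega F (⇑Q))))
  have h3 := lb_of_dat.{_, v, w} hp2 d hz ⟨0, by omega⟩ ht
  rw [Nat.card_eq_fintype_card (α := Fin m), Fintype.card_fin] at h3
  refine h3.mono (Nat.mul_le_mul_left _ (Nat.pow_le_pow_right Nat.card_pos (by omega)))

end Cfsg.Agent.Omega.TwoF.OrthEl

end

section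


/-!
# The lower bound for three indices over the field with three elements

`Dat` with `I = Fin 3`, `|F| = 3` and an element `ρ` permuting the indices cyclically. In an odd cover either the
three lifts of `z` agree, or they differ by a central element `χ` of order `3`, and `V` is the product of the three
`C_V(ζ i)`, on each of which two Heisenberg pairs act: `|V| ≥ 2 ^ 54` in both cases.
-/

set_option autoImplicit false
set_option linter.unusedSectionVars false

universe u v w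

namespace Cfsg.Agent.Omega.TwoF.OLift

open Subgroup Cfsg.Agent.Omega.Lie.FHeis Cfsg.Agent.Omega.Lie.Heis

section norm

variable {V : Type*} [CommGroup V]

/-- The norm `v ↦ v * α v * α² v`. -/
def nrm (α : MulAut V) (v : V) : V := v * α v * α (α v)

theorem nrm_mul (α : MulAut V) (v w : V) : nrm α (v * w) = nrm α v * nrm α w := by
  unfold nrm
  rw [map_mul, map_mul, mul_mul_mul_comm v w, mul_mul_mul_comm]

theorem nrm_fix {α : MulAut V} (h3 : α ^ 3 = 1) (v : V) : α (nrm α v) = nrm α v := by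
  have h : α (α (α v)) = v := by
    have := DFunLike.congr_fun h3 v
    simpa [pow_succ, MulAut.mul_apply] using this
  unfold nrm
  rw [map_mul, map_mul, h, mul_comm, mul_assoc]

/-- The fixed points. -/
def fixS (α : MulAut V) : Subgroup V where
  carrier := {v | α v = v}
  one_mem' := map_one _
  mul_mem' := fun {a b} ha hb => by
    show α (a * b) = a * b
    rw [map_mul, show α a = a from ha, show α b = b from hb]
  inv_mem' := fun {a} ha => by
    show α a⁻¹ = a⁻¹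
    rw [map_inv, show α a = a from ha]

theorem mem_fixS {α : MulAut V} {v : V} : v ∈ fixS α ↔ α v = v := Iff.rfl

/-- The data: `c` fixed point free of order 3, `α₁ = c α₀`, `α₂ = c α₁`. -/
structure Tri (c α₀ α₁ α₂ : MulAut V) : Prop where
  c3 : c ^ 3 = 1
  a3 : α₀ ^ 3 = 1
  ca : c * α₀ = α₀ * c
  e1 : α₁ = c * α₀
  e2 : α₂ = c * α₁
  free : ∀ v, c v = v → v = 1
  cube : ∀ v : V, v ^ 3 = 1 → v = 1

namespace Tri

variable {c α₀ α₁ α₂ : MulAut V}

theorem e0 (t : Tri c α₀ α₁ α₂) : α₀ = c * α₂ := by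
  rw [t.e2, t.e1, ← mul_assoc, ← mul_assoc]
  have : c * c * c = 1 := by rw [← t.c3, pow_succ, pow_two]
  rw [this, one_mul]

theorem rot (t : Tri c α₀ α₁ α₂) : Tri c α₁ α₂ α₀ := by
  have h : Commute c α₀ := t.ca
  refine ⟨t.c3, ?_, ?_, t.e2, t.e0, t.free, t.cube⟩
  · rw [t.e1, h.mul_pow, t.c3, t.a3, one_mul]
  · rw [t.e1]
    exact ((Commute.refl c).mul_right h).eq

/-- If `α w = d w` with `d` fixed point free, `d ^ 3 = 1`, then the norm is trivial. -/
theorem nrm_eq_one {α d : MulAut V} (hd : d ^ 3 = 1) (hf : ∀ v, d v = v → v = 1) (hc : α * d = d * α) {w : V}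
    (hw : α w = d w) : nrm α w = 1 := by
  have h1 : nrm α w = nrm d w := by
    unfold nrm
    have : α (d w) = d (α w) := by
      rw [← MulAut.mul_apply, hc, MulAut.mul_apply]
    rw [hw, this, hw]
  rw [h1]
  exact hf _ (nrm_fix hd w)

theorem inv3 (t : Tri c α₀ α₁ α₂) : (c⁻¹) ^ 3 = 1 := by rw [inv_pow, t.c3, inv_one]

theorem free' (t : Tri c α₀ α₁ α₂) (v : V) (h : c⁻¹ v = v) : v = 1 := by
  apply t.free
  conv_lhs => rw [← h]
  exact MulAut.apply_inv_self _ c v

theorem nrm_one (t : Tri c α₀ α₁ α₂) {v : V} (hv : α₁ v = v) : nrm α₀ v = 1 := by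
  have hc : Commute α₀ c := (show Commute c α₀ from t.ca).symm
  refine nrm_eq_one t.inv3 t.free' hc.inv_right.eq ?_
  rw [t.e1, MulAut.mul_apply] at hv
  conv_rhs => rw [← hv]
  rw [MulAut.inv_apply_self]

theorem nrm_two (t : Tri c α₀ α₁ α₂) {v : V} (hv : α₂ v = v) : nrm α₀ v = 1 := by
  have hc : Commute α₀ c := (show Commute c α₀ from t.ca).symm
  refine nrm_eq_one t.c3 t.free hc.eq ?_
  conv_lhs => rw [t.e0, MulAut.mul_apply, hv]

theorem nrm_self {v : V} (hv : α₀ v = v) : nrm α₀ v = v ^ 3 := by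
  unfold nrm
  rw [hv, hv, pow_succ, pow_two]

theorem eq_one (t : Tri c α₀ α₁ α₂) {a b d : V} (ha : α₀ a = a) (hb : α₁ b = b) (hd : α₂ d = d)
    (h : a * b * d = 1) : a = 1 := by
  have h1 := congrArg (nrm α₀) h
  rw [nrm_mul, nrm_mul, t.nrm_one hb, t.nrm_two hd, nrm_self ha, mul_one, mul_one] at h1
  apply t.cube
  rw [h1]
  simp [nrm]

/-- `|C(α₀)| |C(α₁)| |C(α₂)| ≤ |V|`. -/
theorem card_le (t : Tri c α₀ α₁ α₂) [Finite V] :
    Nat.card (fixS α₀) * Nat.card (fixS α₁) * Nat.card (fixS α₂) ≤ Nat.card V := by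
  rw [← Nat.card_prod, ← Nat.card_prod]
  refine Nat.card_le_card_of_injective
    (fun p : (fixS α₀ × fixS α₁) × fixS α₂ => (p.1.1 : V) * p.1.2 * p.2) ?_
  rintro ⟨⟨a, b⟩, d⟩ ⟨⟨a', b'⟩, d'⟩ h
  change (a : V) * b * d = (a' : V) * b' * d' at h
  have key : ((a'⁻¹ * a : fixS α₀) : V) * ((b'⁻¹ * b : fixS α₁) : V) * ((d'⁻¹ * d : fixS α₂) : V) = 1 := by
    push_cast
    have : ((a' : V)⁻¹ * a) * ((b' : V)⁻¹ * b) * ((d' : V)⁻¹ * d) = (a' * b' * d' : V)⁻¹ * (a * b * d) := by
      apply Additive.ofMul.injective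
      simp only [ofMul_mul, ofMul_inv]
      abel
    rw [this, h, inv_mul_cancel]
  have h1 := t.eq_one (a'⁻¹ * a).2 (b'⁻¹ * b).2 (d'⁻¹ * d).2 key
  have h2 := t.rot.eq_one (b'⁻¹ * b).2 (d'⁻¹ * d).2 (a'⁻¹ * a).2 (by rw [← key]; rw [mul_comm, mul_assoc])
  have h3 := t.rot.rot.eq_one (d'⁻¹ * d).2 (a'⁻¹ * a).2 (b'⁻¹ * b).2 (by
    rw [← key, mul_assoc, mul_comm])
  have e1 : a = a' := by
    have : a'⁻¹ * a = 1 := Subtype.ext h1
    exact (inv_mul_eq_one.1 this).symm
  have e2 : b = b' := by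
    have : b'⁻¹ * b = 1 := Subtype.ext h2
    exact (inv_mul_eq_one.1 this).symm
  have e3 : d = d' := by
    have : d'⁻¹ * d = 1 := Subtype.ext h3
    exact (inv_mul_eq_one.1 this).symm
  rw [e1, e2, e3]

/-- One of the three fixed point groups is nontrivial. -/
theorem exists_ne (t : Tri c α₀ α₁ α₂) {v : V} (hv : v ≠ 1) : fixS α₀ ≠ ⊥ ∨ fixS α₁ ≠ ⊥ ∨ fixS α₂ ≠ ⊥ := by
  by_contra hcon
  push Not at hcon
  obtain ⟨h0, h1, h2⟩ := hcon
  have n0 : nrm α₀ v = 1 := by
    have : nrm α₀ v ∈ fixS α₀ := nrm_fix t.a3 v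
    rw [h0] at this
    exact Subgroup.mem_bot.1 this
  have n1 : nrm α₁ v = 1 := by
    have : nrm α₁ v ∈ fixS α₁ := nrm_fix t.rot.a3 v
    rw [h1] at this
    exact Subgroup.mem_bot.1 this
  have n2 : nrm α₂ v = 1 := by
    have : nrm α₂ v ∈ fixS α₂ := nrm_fix t.rot.rot.a3 v
    rw [h2] at this
    exact Subgroup.mem_bot.1 this
  have m1 : nrm c (α₀ v) = 1 := t.free _ (nrm_fix t.c3 _)
  have m2 : nrm c (α₀ (α₀ v)) = 1 := t.free _ (nrm_fix t.c3 _)
  have c3 : ∀ w, c (c (c w)) = w := fun w => by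
    have := DFunLike.congr_fun t.c3 w
    simpa [pow_succ, MulAut.mul_apply] using this
  have ca : ∀ w, α₀ (c w) = c (α₀ w) := fun w => by
    rw [← MulAut.mul_apply, ← t.ca, MulAut.mul_apply]
  have a1 : ∀ w, α₁ w = c (α₀ w) := fun w => by rw [t.e1, MulAut.mul_apply]
  have a2 : ∀ w, α₂ w = c (c (α₀ w)) := fun w => by rw [t.e2, t.e1, MulAut.mul_apply, MulAut.mul_apply]
  apply hv
  apply t.cube
  unfold nrm at n0 n1 n2 m1 m2
  rw [a1, a1, ca] at n1
  rw [a2, a2, ca, ca, c3] at n2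
  have h : v ^ 3 * ((α₀ v * c (α₀ v) * c (c (α₀ v))) * (α₀ (α₀ v) * c (α₀ (α₀ v)) * c (c (α₀ (α₀ v))))) =
      (v * α₀ v * α₀ (α₀ v)) * (v * c (α₀ v) * c (c (α₀ (α₀ v)))) * (v * c (c (α₀ v)) * c (α₀ (α₀ v))) := by
    generalize α₀ v = A
    generalize α₀ A = B
    generalize c A = C
    generalize c C = D
    generalize c B = E
    generalize c E = G
    rw [pow_succ, pow_two]
    apply Additive.ofMul.injective
    simp only [ofMul_mul]
    abel
  rw [n0, n1, n2, m1, m2] at h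
  simpa using h

end Tri

end norm

theorem orderOf_two_three : orderOf (2 : ZMod 3) = 2 := by
  have : Fact (Nat.Prime 2) := ⟨Nat.prime_two⟩
  exact orderOf_eq_prime (by decide) (by decide)

section

variable {F : Type*} [Field F]

/-- Cyclic permutation of the coordinates. -/
def rot (p : Fin 3 → F) : Fin 3 → F := fun i => p (i - 1)

theorem rot_single (i : Fin 3) (s : F) : rot (Pi.single i s) = Pi.single (i + 1) s := by
  funext j
  unfold rot
  by_cases h : j = i + 1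
  · subst h
    rw [add_sub_cancel_right, Pi.single_eq_same, Pi.single_eq_same]
  · rw [Pi.single_eq_of_ne h, Pi.single_eq_of_ne]
    intro h'
    apply h
    rw [← h', sub_add_cancel]

variable {L K : Type*} [Group L] [Group K] {π : L →* K} {z : F → K} {x y : (Fin 3 → F) → K} {g : K} {γ : L}
  {X Y : (Fin 3 → F) → L}

/-- The lift of `ρ` permutes the `zi`. -/
theorem Cov.zi_rot (c : Cov π z x y g γ X Y) {T : L} (hT : π T * g = g * π T)
    (hx : ∀ p, π T * x p * (π T)⁻¹ = x (rot p)) (hy : ∀ p, π T * y p * (π T)⁻¹ = y (rot p)) (i : Fin 3) (s : F) :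
    T * Cov.zi X Y i s * T⁻¹ = Cov.zi X Y (i + 1) s := by
  have e1 := c.conjX hT (hx (Pi.single i s))
  have e2 := c.conjY hT (hy (Pi.single i 1))
  rw [rot_single] at e1 e2
  calc T * Cov.zi X Y i s * T⁻¹ = (T * Y (Pi.single i 1) * T⁻¹) * (T * X (Pi.single i s) * T⁻¹) *
        (T * Y (Pi.single i 1) * T⁻¹)⁻¹ * (T * X (Pi.single i s) * T⁻¹)⁻¹ := by unfold Cov.zi bet; group
    _ = Cov.zi X Y (i + 1) s := by rw [e1, e2]; rfl

/-- **The case `|F| = 3`, three indices.** -/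
theorem lb_three {K : Type u} [Group K] [IsSimpleGroup K] {F : Type*} [Field F] [CharP F 3]
    (hF : Nat.card F = 3) {z : F → K} {x y : (Fin 3 → F) → K} {g : K}
    (d : Dat z x y g) (hz : z 1 ≠ 1) {ρ : K} (hρ : ρ * g = g * ρ) (hx : ∀ p, ρ * x p * ρ⁻¹ = x (rot p))
    (hy : ∀ p, ρ * y p * ρ⁻¹ = y (rot p)) :
    Lie.Heis.LB.{u, v, w} K 54 := by
  have hfin : Finite F := Nat.finite_of_card_ne_zero (by rw [hF]; norm_num)
  have : Fact (Nat.Prime 3) := ⟨Nat.prime_three⟩
  have h3 : (3 : F) = 0 := by exact_mod_cast CharP.cast_eq_zero F 3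
  apply LB.of_irr
  intro L _ _ π hπ hc ho hL V _ _ h2 φ hφ hirr
  obtain ⟨γ, X, Y, c⟩ := d.exists_cov (π := π) ⟨hL, hπ, hc, ho⟩
  obtain ⟨T, hT⟩ := hπ ρ
  have hrot := c.zi_rot (T := T) (by rw [hT]; exact hρ) (by rw [hT]; exact hx) (by rw [hT]; exact hy)
  -- the elements `ζ i`
  set ζ : Fin 3 → L := fun i => Cov.zi X Y i 1 with hζ
  have hζ1 : ∀ i, ζ i ≠ 1 := by
    intro i h
    apply hz
    rw [← c.map_zi i 1, show Cov.zi X Y i 1 = 1 from h, map_one]
  have hζ3 : ∀ i, ζ i ^ 3 = 1 := by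
    intro i
    rw [add_pow' (c.zi_add i)]
    have : ((3 : ℕ) : F) * 1 = 0 := by rw [mul_one]; exact_mod_cast h3
    rw [this, add_zero' (c.zi_add i)]
  have hζT : ∀ i, T * ζ i * T⁻¹ = ζ (i + 1) := fun i => hrot i 1
  set χ : L := ζ 1 * (ζ 0)⁻¹ with hχ
  have hχk : χ ∈ π.ker := by
    rw [MonoidHom.mem_ker, hχ, map_mul, map_inv, c.map_zi, c.map_zi, mul_inv_cancel]
  have hχc : ∀ l, l * χ = χ * l := ker_comm c.odd hχk
  have e1 : ζ 1 = χ * ζ 0 := by rw [hχ]; group
  have e2 : ζ 2 = χ * ζ 1 := by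
    have h4 : T * χ * T⁻¹ = χ := by rw [hχc]; group
    have h5 : T * χ * T⁻¹ = ζ 2 * (ζ 1)⁻¹ := by
      have h6 : T * χ * T⁻¹ = (T * ζ 1 * T⁻¹) * (T * ζ 0 * T⁻¹)⁻¹ := by rw [hχ]; group
      rw [h6, hζT, hζT]; rfl
    rw [← h4, h5]; group
  have e0 : ζ 0 = χ * ζ 2 := by
    have h4 : T * (ζ 2 * (ζ 1)⁻¹) * T⁻¹ = ζ 0 * (ζ 2)⁻¹ := by
      have h6 : T * (ζ 2 * (ζ 1)⁻¹) * T⁻¹ = (T * ζ 2 * T⁻¹) * (T * ζ 1 * T⁻¹)⁻¹ := by group
      rw [h6, hζT, hζT]; rfl
    have h5 : ζ 2 * (ζ 1)⁻¹ = χ := by rw [e2]; group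
    rw [h5] at h4
    have h6 : T * χ * T⁻¹ = χ := by rw [hχc]; group
    rw [← h6, h4]; group
  by_cases hχ1 : χ = 1
  · -- the lifts agree
    have hF3 : ∀ a : F, a = 0 ∨ a = 1 ∨ a = -1 := by
      intro a
      have := Fintype.ofFinite F
      have h4 : a ^ 3 = a := by
        have := FiniteField.pow_card a
        rwa [← Nat.card_eq_fintype_card, hF] at this
      have h5 : a * ((a - 1) * (a + 1)) = 0 := by linear_combination h4
      rcases mul_eq_zero.1 h5 with h6 | h6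
      · exact Or.inl h6
      · rcases mul_eq_zero.1 h6 with h7 | h7
        · exact Or.inr (Or.inl (sub_eq_zero.1 h7))
        · exact Or.inr (Or.inr (eq_neg_of_add_eq_zero_left h7))
    have hall : ∀ i, ζ i = ζ 0 := by
      intro i
      rw [hχ1, one_mul] at e1 e2
      fin_cases i
      · rfl
      · exact e1
      · exact e2.trans e1
    have hzz : ∀ i s, Cov.zi X Y i s = Cov.zi X Y 0 s := by
      intro i s
      rcases hF3 s with rfl | rfl | rfl
      · rw [add_zero' (c.zi_add i), add_zero' (c.zi_add 0)]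
      · exact hall i
      · rw [c.zi_neg, c.zi_neg]
        exact congrArg _ (hall i)
    have h' := c.fheis 0 hzz
    have h6 := Lie.HeisLift.two_pow_le (p := 3) (by norm_num) h' φ h2
      ⟨1, fun h => hζ1 0 (hφ (h.trans (map_one φ).symm))⟩
    rw [orderOf_two_three, hF, Nat.card_eq_fintype_card, Fintype.card_fin] at h6
    exact h6
  -- the three lifts differ
  have hχ3 : χ ^ 3 = 1 := by
    have h4 : ζ 0 = χ * (χ * (χ * ζ 0)) := by
      conv_lhs => rw [e0, e2, e1]
    have h5 : χ * (χ * χ) = 1 := by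
      have : χ * (χ * χ) * ζ 0 = ζ 0 := by
        conv_rhs => rw [h4]
        group
      exact mul_eq_right.1 this
    rw [← h5, pow_succ, pow_two, mul_assoc]
  have hfree : ∀ v, φ χ v = v → v = 1 := fun v hv =>
    hirr.free (hc hχk) (fun h => hχ1 (hφ (h.trans (map_one φ).symm))) hv
  have hcube : ∀ v : V, v ^ 3 = 1 → v = 1 := by
    intro v hv
    obtain ⟨k, hk⟩ := h2 v
    have h4 : orderOf v ∣ 3 := orderOf_dvd_of_pow_eq_one hv
    have h5 : orderOf v ∣ 2 ^ k := orderOf_dvd_of_pow_eq_one hk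
    have h6 : Nat.Coprime 3 (2 ^ k) := Nat.Coprime.pow_right _ (by norm_num)
    exact orderOf_eq_one_iff.1 (Nat.eq_one_of_dvd_coprimes h6 h4 h5)
  have tri : Tri (φ χ) (φ (ζ 0)) (φ (ζ 1)) (φ (ζ 2)) :=
    ⟨by rw [← map_pow, hχ3, map_one], by rw [← map_pow, hζ3, map_one], by rw [← map_mul, ← map_mul, hχc],
      by rw [← map_mul, ← e1], by rw [← map_mul, ← e2], hfree, hcube⟩
  -- the fixed point groups are conjugate
  have hmv : ∀ i, ∀ v, φ (ζ i) v = v → φ (ζ (i + 1)) (φ T v) = φ T v := by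
    intro i v hv
    rw [← hζT, map_mul, map_mul, map_inv, MulAut.mul_apply, MulAut.mul_apply, MulAut.inv_apply_self, hv]
  have hcard : ∀ i, Nat.card (fixS (φ (ζ i))) ≤ Nat.card (fixS (φ (ζ (i + 1)))) := by
    intro i
    refine Nat.card_le_card_of_injective
      (fun v : fixS (φ (ζ i)) => (⟨φ T v, hmv i v v.2⟩ : fixS (φ (ζ (i + 1))))) ?_
    intro v w hvw
    exact Subtype.ext ((φ T).injective (congrArg Subtype.val hvw))
  have c01 := hcard 0
  have c12 := hcard 1
  have c20 := hcard 2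
  change Nat.card (fixS (φ (ζ 0))) ≤ Nat.card (fixS (φ (ζ 1))) at c01
  change Nat.card (fixS (φ (ζ 1))) ≤ Nat.card (fixS (φ (ζ 2))) at c12
  change Nat.card (fixS (φ (ζ 2))) ≤ Nat.card (fixS (φ (ζ 0))) at c20
  have c0 : Nat.card (fixS (φ (ζ 0))) = Nat.card (fixS (φ (ζ 2))) := le_antisymm (c01.trans c12) c20
  have c1 : Nat.card (fixS (φ (ζ 1))) = Nat.card (fixS (φ (ζ 2))) := le_antisymm c12 (c20.trans c01)
  obtain ⟨v₀, hv₀⟩ : ∃ v : V, v ≠ 1 := by
    by_contra hcon
    push Not at hcon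
    apply hζ1 0
    apply hφ
    ext v
    rw [hcon v, map_one, map_one]
  have hne : fixS (φ (ζ 2)) ≠ ⊥ := by
    intro hb
    have h4 : Nat.card (fixS (φ (ζ 2))) = 1 := by rw [hb]; exact Nat.card_unique
    rcases tri.exists_ne hv₀ with h5 | h5 | h5
    · exact h5 (Subgroup.card_eq_one.1 (c0.trans h4))
    · exact h5 (Subgroup.card_eq_one.1 (c1.trans h4))
    · exact h5 hb
  -- the Heisenberg configuration on the fixed points of `ζ 2`
  set U : Subgroup V := fixS (φ (ζ 2)) with hU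
  let C : Subgroup L := Subgroup.centralizer {ζ 2}
  have hinv : ∀ k : C, ∀ v ∈ U, (φ.comp C.subtype) k v ∈ U := by
    intro k v hv
    show φ (ζ 2) (φ k v) = φ k v
    have h4 : (k : L) * ζ 2 = ζ 2 * k := (Subgroup.mem_centralizer_singleton_iff.1 k.2)
    rw [← MulAut.mul_apply, ← map_mul, ← h4, map_mul, MulAut.mul_apply, show φ (ζ 2) v = v from hv]
  let ψ : C →* MulAut U := resAct (φ.comp C.subtype) U hinv
  have hψ : ∀ (k : C) (v : U), (ψ k v : V) = φ k v := fun k v => rfl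
  have memX : ∀ p, X p ∈ C := fun p =>
    Subgroup.mem_centralizer_singleton_iff.2 (c.comm_X (c.map_zi 2 1) p).symm
  have memY : ∀ p, Y p ∈ C := fun p =>
    Subgroup.mem_centralizer_singleton_iff.2 (c.comm_Y (c.map_zi 2 1) p).symm
  have memZ : ∀ i s, Cov.zi X Y i s ∈ C := fun i s =>
    Subgroup.mem_centralizer_singleton_iff.2 (c.zi_comm i 2 s 1)
  have hprod : (ζ 1)⁻¹ = ζ 2 * ζ 0 := by
    have h4 : ζ 1 * (ζ 2 * ζ 0) = 1 := by
      have h5 : ζ 1 * (ζ 2 * ζ 0) = χ ^ 3 * ζ 0 ^ 3 := by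
        have hc0 : Commute (ζ 0) χ := hχc _
        rw [e2, e1]
        calc χ * ζ 0 * (χ * (χ * ζ 0) * ζ 0) = χ * (ζ 0 * χ) * (χ * ζ 0 * ζ 0) := by group
          _ = χ * (χ * ζ 0) * (χ * ζ 0 * ζ 0) := by rw [hc0.eq]
          _ = χ * χ * (ζ 0 * χ) * ζ 0 * ζ 0 := by group
          _ = χ * χ * (χ * ζ 0) * ζ 0 * ζ 0 := by rw [hc0.eq]
          _ = χ ^ 3 * ζ 0 ^ 3 := by simp only [pow_succ, pow_zero, one_mul, mul_assoc]
      rw [h5, hχ3, hζ3, one_mul]
    exact inv_eq_of_mul_eq_one_right h4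
  have hψ2 : ψ ⟨ζ 2, memZ 2 1⟩ = 1 := by
    ext v
    rw [hψ]
    exact v.2
  have hψ1 : ψ ⟨Cov.zi X Y 1 (-1), memZ 1 (-1)⟩ = ψ ⟨ζ 0, memZ 0 1⟩ := by
    have h4 : (⟨Cov.zi X Y 1 (-1), memZ 1 (-1)⟩ : C) = ⟨ζ 2, memZ 2 1⟩ * ⟨ζ 0, memZ 0 1⟩ := by
      apply Subtype.ext
      show Cov.zi X Y 1 (-1) = ζ 2 * ζ 0
      rw [c.zi_neg, ← hprod]
    rw [h4, map_mul, hψ2, one_mul]
  have hheis : Heis 3 2 (ψ ⟨ζ 0, memZ 0 1⟩)
      ![ψ ⟨X (Pi.single 0 1), memX _⟩, ψ ⟨X (Pi.single 1 1), memX _⟩]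
      ![ψ ⟨Y (Pi.single 0 1), memY _⟩, ψ ⟨Y (Pi.single 1 (-1)), memY _⟩] := by
    have hX3 : ∀ i, X (Pi.single i 1) ^ 3 = 1 := by
      intro i
      have h4 := add_pow' (f := fun s : F => X (Pi.single i s)) (fun s t => by
        rw [Pi.single_add, c.X_add]) 1 3
      have h5 : ((3 : ℕ) : F) * 1 = 0 := by rw [mul_one]; exact_mod_cast h3
      rw [h5, Pi.single_zero, c.liftX.zero c.odd c.dat.halfX] at h4
      exact h4
    have hzX : ∀ p, ζ 0 * X p = X p * ζ 0 := fun p => c.comm_X (c.map_zi 0 1) p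
    have hzY : ∀ p, ζ 0 * Y p = Y p * ζ 0 := fun p => c.comm_Y (c.map_zi 0 1) p
    refine ⟨Nat.prime_three, ?_, ?_, ?_, ?_, ?_, ?_, ?_⟩
    · rw [← map_pow]
      have : (⟨ζ 0, memZ 0 1⟩ : C) ^ 3 = 1 := Subtype.ext (hζ3 0)
      rw [this, map_one]
    · intro i
      fin_cases i
      · show ψ _ ^ 3 = 1
        rw [← map_pow]
        have : (⟨X (Pi.single 0 1), memX _⟩ : C) ^ 3 = 1 := Subtype.ext (hX3 0)
        rw [this, map_one]
      · show ψ _ ^ 3 = 1
        rw [← map_pow]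
        have : (⟨X (Pi.single 1 1), memX _⟩ : C) ^ 3 = 1 := Subtype.ext (hX3 1)
        rw [this, map_one]
    · intro i
      fin_cases i
      · show ψ _ * ψ _ = ψ _ * ψ _
        rw [← map_mul, ← map_mul]
        exact congrArg ψ (Subtype.ext (hzX _))
      · show ψ _ * ψ _ = ψ _ * ψ _
        rw [← map_mul, ← map_mul]
        exact congrArg ψ (Subtype.ext (hzX _))
    · intro i
      fin_cases i
      · show ψ _ * ψ _ = ψ _ * ψ _
        rw [← map_mul, ← map_mul]
        exact congrArg ψ (Subtype.ext (hzY _))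
      · show ψ _ * ψ _ = ψ _ * ψ _
        rw [← map_mul, ← map_mul]
        exact congrArg ψ (Subtype.ext (hzY _))
    · intro i j
      have hXX : ∀ p q, ψ ⟨X p, memX p⟩ * ψ ⟨X q, memX q⟩ = ψ ⟨X q, memX q⟩ * ψ ⟨X p, memX p⟩ := by
        intro p q
        rw [← map_mul, ← map_mul]
        exact congrArg ψ (Subtype.ext (c.X_comm p q))
      fin_cases i <;> fin_cases j <;> exact hXX _ _
    · intro i j hij
      have hYX : ∀ i j : Fin 3, i ≠ j → ∀ s t, ψ ⟨Y (Pi.single i s), memY _⟩ * ψ ⟨X (Pi.single j t), memX _⟩ =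
          ψ ⟨X (Pi.single j t), memX _⟩ * ψ ⟨Y (Pi.single i s), memY _⟩ := by
        intro i j hij s t
        rw [← map_mul, ← map_mul]
        have h1 := c.bet_off hij.symm t s
        unfold bet at h1
        exact congrArg ψ (Subtype.ext (mul_inv_eq_iff_eq_mul.1 (mul_inv_eq_one.1 h1)))
      fin_cases i <;> fin_cases j
      · exact absurd rfl hij
      · exact hYX 0 1 (by decide) _ _
      · exact hYX 1 0 (by decide) _ _
      · exact absurd rfl hij
    · intro i
      have hcj : ∀ (i : Fin 3) (t : F), ψ ⟨Y (Pi.single i t), memY _⟩ * ψ ⟨X (Pi.single i 1), memX _⟩ *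
          (ψ ⟨Y (Pi.single i t), memY _⟩)⁻¹ = ψ ⟨X (Pi.single i 1), memX _⟩ * ψ ⟨Cov.zi X Y i t, memZ i t⟩ := by
        intro i t
        rw [← map_inv, ← map_mul, ← map_mul, ← map_mul]
        refine congrArg ψ (Subtype.ext ?_)
        show Y (Pi.single i t) * X (Pi.single i 1) * (Y (Pi.single i t))⁻¹ = X (Pi.single i 1) * Cov.zi X Y i t
        rw [c.bet_conj', c.bet_same, one_mul]
      fin_cases i
      · exact hcj 0 1
      · have h4 := hcj 1 (-1)
        rw [hψ1] at h4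
        exact h4
  have hψ0 : ψ ⟨ζ 0, memZ 0 1⟩ ≠ 1 := by
    intro h4
    apply hne
    rw [eq_bot_iff]
    intro v hv
    rw [Subgroup.mem_bot]
    have h5 : φ (ζ 0) v = v := by
      have := congrArg Subtype.val (DFunLike.congr_fun h4 ⟨v, hv⟩)
      exact this
    apply hfree
    -- `ζ 0 = χ ζ 2`
    rw [e0, map_mul, MulAut.mul_apply, show φ (ζ 2) v = v from hv] at h5
    exact h5
  have hU2 : IsPGroup 2 U := h2.to_subgroup U
  have h18 := hheis.two_pow_le_mulAut (MonoidHom.id (MulAut U)) hU2 (by norm_num) hψ0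
  rw [orderOf_two_three] at h18
  have h54 := tri.card_le
  rw [c0, c1] at h54
  calc 2 ^ 54 = 2 ^ (2 * 3 ^ 2) * 2 ^ (2 * 3 ^ 2) * 2 ^ (2 * 3 ^ 2) := by norm_num
    _ ≤ Nat.card U * Nat.card U * Nat.card U := Nat.mul_le_mul (Nat.mul_le_mul h18 h18) h18
    _ ≤ Nat.card V := h54

end

end Cfsg.Agent.Omega.TwoF.OLift

end

section


/-!
# LB column of the orthogonal rows of TABLE 2F

`lb_all`: `Q` nondegenerate in dimension `n ≥ 7` over a finite field of odd order `q`, characteristic `p`: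
`LB (PΩ(Q)) (ord_p(2) * q ^ (n - 4))`, all odd covers, no exception.
`lb_odd`, `lb_plus`, `lb_minus`: the groups of the list.
-/

set_option autoImplicit false
set_option linter.unusedSectionVars false

universe u v w

namespace Cfsg.Agent.Omega.TwoF.OrthEl

open QuadraticMap Matrix Module
open Cfsg.Agent.ClassicalGeometry.Reflection Cfsg.Agent.ClassicalGeometry.Eichler
open Cfsg.Agent.ClassicalGeometry.SiegelGen Cfsg.Agent.ClassicalGeometry.SpinorSign
open Cfsg.Agent.ClassicalGeometry.GenReflections (act act_apply act_mul act_one act_isometry act_polar act_ext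
  act_reflIso act_inv_eq)
open Cfsg.Agent.Omega.TwoF.OLift

variable {ι : Type} [Fintype ι] [DecidableEq ι] {F : Type*} [Field F] {Q : QuadraticForm F (ι → F)}

theorem two_ne {p : ℕ} [Fact p.Prime] [CharP F p] (hp2 : p ≠ 2) : (2 : F) ≠ 0 := by
  intro h
  have h1 : ((2 : ℕ) : F) = 0 := by exact_mod_cast h
  rw [CharP.cast_eq_zero_iff F p] at h1
  exact hp2 ((Nat.prime_dvd_prime_iff_eq Fact.out Nat.prime_two).1 h1)

theorem vec_three (b : Fin 3 → ι → F) (p : Fin 3 → F) : vec b p = p 0 • b 0 + p 1 • b 1 + p 2 • b 2 := by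
  rw [vec, Fin.sum_univ_three]

/-- The reflection in `v - w` exchanges `v` and `w` (orthogonal, same norm). -/
theorem refl_swap {v w : ι → F} (h2 : (2 : F) ≠ 0) (hv : Q v ≠ 0) (hvw : Q v = Q w) (ho : polar (⇑Q) v w = 0) :
    ∃ h : Q (v - w) ≠ 0, Q (v - w) = 2 * Q v ∧ act Q (reflIso Q (v - w) h) v = w ∧
      act Q (reflIso Q (v - w) h) w = v := by
  have h1 : Q (v - w) = 2 * Q v := by
    rw [sub_eq_add_neg, map_add', QuadraticMap.map_neg, QuadraticMap.polar_neg_right, ho, ← hvw]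
    ring
  have h3 : Q (v - w) ≠ 0 := by rw [h1]; exact mul_ne_zero h2 hv
  refine ⟨h3, h1, ?_, ?_⟩
  · rw [act_reflIso, h1, QuadraticMap.polar_sub_left, polar_self', polar_comm (⇑Q) w v, ho]
    have : (2 * Q v)⁻¹ * (2 * Q v - 0) = 1 := by rw [sub_zero]; exact inv_mul_cancel₀ (mul_ne_zero h2 hv)
    rw [this, one_smul]; abel
  · rw [act_reflIso, h1, QuadraticMap.polar_sub_left, polar_self', ho, ← hvw]
    have : (2 * Q v)⁻¹ * (0 - 2 * Q v) = -1 := by
      rw [zero_sub, mul_neg, inv_mul_cancel₀ (mul_ne_zero h2 hv)]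
    rw [this, neg_one_smul]; abel

/-- The cyclic permutation of three vectors of the same norm. -/
theorem Frame.exists_rot {e f e' f' : ι → F} {b : Fin 3 → ι → F} (H : Frame Q e f e' f' b) (h2 : (2 : F) ≠ 0)
    (hQ : (polarBilin Q).Nondegenerate) (hb : ∀ i, Q (b i) = Q (b 0)) :
    ∃ ρ : Cfsg.Omega F (⇑Q), ρ * H.gO h2 hQ = H.gO h2 hQ * ρ ∧ (∀ p, ρ * H.xO h2 hQ p * ρ⁻¹ = H.xO h2 hQ (rot p)) ∧
      (∀ p, ρ * H.yO h2 hQ p * ρ⁻¹ = H.yO h2 hQ (rot p)) := by
  obtain ⟨n01, q01, s0, s1⟩ := refl_swap (Q := Q) h2 (H.nz 0) (by rw [hb 1]) (H.orth 0 1 (by decide))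
  obtain ⟨n12, q12, t1, t2⟩ := refl_swap (Q := Q) h2 (H.nz 1) (by rw [hb 1, hb 2]) (H.orth 1 2 (by decide))
  have s2 : act Q (reflIso Q (b 0 - b 1) n01) (b 2) = b 2 := by
    apply refl_fix
    rw [QuadraticMap.polar_sub_left, H.orth 0 2 (by decide), H.orth 1 2 (by decide), sub_zero]
  have t0 : act Q (reflIso Q (b 1 - b 2) n12) (b 0) = b 0 := by
    apply refl_fix
    rw [QuadraticMap.polar_sub_left, H.orth 1 0 (by decide), H.orth 2 0 (by decide), sub_zero]
  have hmem : reflIso Q (b 0 - b 1) n01 * reflIso Q (b 1 - b 2) n12 ∈ Cfsg.Omega F (⇑Q) :=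
    refl_mul_mem h2 hQ n01 n12 (by rw [q01, q12, hb 1]; exact ⟨_, rfl⟩)
  set ρ := reflIso Q (b 0 - b 1) n01 * reflIso Q (b 1 - b 2) n12 with hρ
  have r0 : act Q ρ (b 0) = b 1 := by rw [hρ, act_mul, t0, s0]
  have r1 : act Q ρ (b 1) = b 2 := by rw [hρ, act_mul, t1, s2]
  have r2 : act Q ρ (b 2) = b 0 := by rw [hρ, act_mul, t2, s1]
  have horth : ∀ v : ι → F, (∀ i, polar (⇑Q) v (b i) = 0) → act Q ρ v = v := by
    intro v hv
    have e12 : act Q (reflIso Q (b 1 - b 2) n12) v = v :=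
      refl_fix _ (by rw [polar_comm, QuadraticMap.polar_sub_right, hv, hv, sub_zero])
    have e01 : act Q (reflIso Q (b 0 - b 1) n01) v = v :=
      refl_fix _ (by rw [polar_comm, QuadraticMap.polar_sub_right, hv, hv, sub_zero])
    rw [hρ, act_mul, e12, e01]
  have re := horth e H.eb
  have re' := horth e' H.eb'
  have rv : ∀ p, act Q ρ (vec b p) = vec b (rot p) := by
    intro p
    rw [vec_three, vec_three, map_add, map_add, map_smul, map_smul, map_smul, r0, r1, r2]
    show p 0 • b 1 + p 1 • b 2 + p 2 • b 0 = p 2 • b 0 + p 0 • b 1 + p 1 • b 2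
    abel
  have rd : ∀ p, dual Q b (rot p) = rot (dual Q b p) := by
    intro p
    funext i
    simp only [dual, rot, hb i, hb (i - 1)]
  refine ⟨⟨ρ, hmem⟩, Subtype.ext ?_, fun p => Subtype.ext (H.x_conj_one ρ re (rv p)),
    fun p => Subtype.ext (H.y_conj_one ρ re' (by rw [rv, rd]))⟩
  have hcomm : ∀ i j (h : Q (b i - b j) ≠ 0), reflIso Q (b i - b j) h * H.t (-1) = H.t (-1) * reflIso Q (b i - b j) h :=
    fun i j h => H.t_refl_comm (-1) h
      (by rw [QuadraticMap.polar_sub_right, H.eb, H.eb, sub_zero])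
      (by rw [QuadraticMap.polar_sub_right, H.fb, H.fb, sub_zero])
      (by rw [QuadraticMap.polar_sub_right, H.eb', H.eb', sub_zero])
      (by rw [QuadraticMap.polar_sub_right, H.fb', H.fb', sub_zero])
  show ρ * H.t (-1) = H.t (-1) * ρ
  rw [hρ, mul_assoc, hcomm 1 2, ← mul_assoc, hcomm 0 1, mul_assoc]

/-- **The lower bound for `PΩ(Q)`**, `n ≥ 7`, `q` odd. -/
theorem lb_all [Finite F] {p : ℕ} [Fact p.Prime] [CharP F p] (hp2 : p ≠ 2) (Q : QuadraticForm F (ι → F))
    (hQ : (polarBilin Q).Nondegenerate) (hn : 7 ≤ Fintype.card ι) :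
    Lie.Heis.LB.{_, v, w} (Cfsg.POmega F (⇑Q)) (orderOf (2 : ZMod p) * Nat.card F ^ (Fintype.card ι - 4)) := by
  by_cases h73 : Fintype.card ι ≠ 7 ∨ Nat.card F ≠ 3
  · exact lb_pomega hp2 Q hQ hn h73
  push Not at h73
  obtain ⟨h7, hF⟩ := h73
  have h2 : (2 : F) ≠ 0 := two_ne hp2
  have : IsSimpleGroup (Cfsg.POmega F (⇑Q)) :=
    Cfsg.Agent.LieClassical.OrthFinite.isSimpleGroup_POmega (fun x hx => hQ.1 x fun y => hx y) (by omega)
  have hp3 : p = 3 := by
    have := Fintype.ofFinite F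
    obtain ⟨n, hn⟩ := FiniteField.card F p
    rw [← Nat.card_eq_fintype_card, hF] at hn
    have h5 : p ∣ 3 := by rw [hn.2]; exact dvd_pow_self p n.ne_zero
    exact (Nat.prime_dvd_prime_iff_eq Fact.out Nat.prime_three).1 h5
  subst hp3
  obtain ⟨m, e, f, e', f', b, H, hm⟩ := exists_frame_aux h2 Q hQ (by omega)
  by_cases h4 : 4 ≤ m
  · -- impossible, but the general argument applies
    have hsep : SepCond Q b := fun i j _ => by
      obtain ⟨r, h3, h5, h6⟩ := H.exists_off h2 (by rwa [Fintype.card_fin]) i j (Q (b i))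
      exact ⟨r, h3, h5, by rw [h6]; exact H.nz i, by rw [h6]; exact ⟨_, rfl⟩⟩
    have d := (H.dat h2 hQ 3 hsep).map (QuotientGroup.mk' (Subgroup.center (Cfsg.Omega F (⇑Q))))
    have hz : ∃ s : F, QuotientGroup.mk' (Subgroup.center (Cfsg.Omega F (⇑Q))) (H.zO h2 hQ s) ≠ 1 := by
      refine ⟨1, fun h => ?_⟩
      exact H.z_not_central h2 hQ ⟨0, by omega⟩ one_ne_zero ((QuotientGroup.eq_one_iff _).1 h)
    have ht := fun i => (H.tie_all h2 hQ (by
      rw [Fintype.card_fin]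
      exact Or.inl h4) i ⟨0, by omega⟩).map (QuotientGroup.mk' (Subgroup.center (Cfsg.Omega F (⇑Q))))
    have h3 := lb_of_dat.{_, v, w} hp2 d hz ⟨0, by omega⟩ ht
    rw [Nat.card_eq_fintype_card (α := Fin m), Fintype.card_fin] at h3
    exact h3.mono (Nat.mul_le_mul_left _ (Nat.pow_le_pow_right Nat.card_pos (by omega)))
  have hm3 : m = 3 := by omega
  subst hm3
  obtain ⟨c, H', hc⟩ := exists_frame_three h2 H
  have hsq : ∀ a : F, a ≠ 0 → a ^ 2 = 1 := by
    intro a ha
    have := Fintype.ofFinite F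
    have h5 := FiniteField.pow_card_sub_one_eq_one a ha
    rwa [← Nat.card_eq_fintype_card, hF] at h5
  have hceq : ∀ i, Q (c i) = Q (c 0) := by
    intro i
    obtain ⟨t, ht⟩ := hc i 0
    have ht0 : t ≠ 0 := by
      rintro rfl
      rw [mul_zero] at ht
      exact (mul_ne_zero (H'.nz i) (H'.nz 0)) ht
    have h5 : Q (c i) * Q (c 0) = 1 := by rw [ht, ← pow_two]; exact hsq t ht0
    have h6 : Q (c 0) * Q (c 0) = 1 := by rw [← pow_two]; exact hsq _ (H'.nz 0)
    exact mul_right_cancel₀ (H'.nz 0) (h5.trans h6.symm)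
  have hsep : SepCond Q c := fun i j hij => by
    obtain ⟨k, hki, hkj⟩ : ∃ k : Fin 3, k ≠ i ∧ k ≠ j := by
      revert i j; decide
    refine ⟨Pi.single k 1, Pi.single_eq_of_ne hki.symm _, Pi.single_eq_of_ne hkj.symm _, ?_, ?_⟩
    · rw [vec_single, one_smul]; exact H'.nz k
    · rw [vec_single, one_smul]; exact hc i k
  have d := (H'.dat h2 hQ 3 hsep).map (QuotientGroup.mk' (Subgroup.center (Cfsg.Omega F (⇑Q))))
  obtain ⟨ρ, hρ, hρx, hρy⟩ := H'.exists_rot h2 hQ hceq
  set κ := QuotientGroup.mk' (Subgroup.center (Cfsg.Omega F (⇑Q)))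
  have h54 := lb_three.{_, v, w} hF d (fun h => H'.z_not_central h2 hQ 0 one_ne_zero ((QuotientGroup.eq_one_iff _).1 h))
    (ρ := κ ρ) (by rw [← map_mul, ← map_mul, hρ]) (fun p => by rw [← map_inv, ← map_mul, ← map_mul, hρx])
    (fun p => by rw [← map_inv, ← map_mul, ← map_mul, hρy])
  have e54 : orderOf (2 : ZMod 3) * Nat.card F ^ (Fintype.card ι - 4) = 54 := by
    rw [orderOf_two_three, hF, h7]; norm_num
  rw [e54]
  exact h54

section rows

open Cfsg.Agent.LieClassical Cfsg.Agent.LieClassical.OrthCore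

theorem nondeg_polarBilin {Q : QuadraticForm F (ι → F)} (h : Nondeg Q) : (polarBilin Q).Nondegenerate :=
  ⟨fun x hx => h x fun y => hx y, fun x hx => h x fun y => by
    have := hx y
    rw [polarBilin_apply_apply, polar_comm] at this
    exact this⟩

variable {F : Type} [Field F] [Finite F] {p : ℕ} [Fact p.Prime] [CharP F p]

/-- **LB, row `PΩ_{2m+1}(q)`**, `q` odd, `m ≥ 3`. -/
theorem lb_odd (hp2 : p ≠ 2) (m : ℕ) (hm : 3 ≤ m) :
    TwoF.LB.{u, 0} (Cfsg.POmega F (Cfsg.quadFormOdd m F)) (orderOf (2 : ZMod p) * Nat.card F ^ (2 * m - 3)) := by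
  have h2 : (2 : F) ≠ 0 := two_ne hp2
  have hc : Fintype.card (Unit ⊕ (Fin m ⊕ Fin m)) = 2 * m + 1 := by
    rw [Fintype.card_sum, Fintype.card_sum, Fintype.card_fin, Fintype.card_unit]; omega
  have h := lb_all.{u, u} hp2 (OrthForms.oddForm m F) (nondeg_polarBilin (OrthForms.nondeg_oddForm m F h2))
    (by rw [hc]; omega)
  rw [hc, show 2 * m + 1 - 4 = 2 * m - 3 by omega] at h
  rw [OrthForms.coe_oddForm] at h
  exact LB.of_heis h

/-- **LB, row `PΩ⁺_{2m}(q)`**, `q` odd, `m ≥ 4`. -/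
theorem lb_plus (hp2 : p ≠ 2) (m : ℕ) (hm : 4 ≤ m) :
    TwoF.LB.{u, 0} (Cfsg.POmega F (Cfsg.quadFormPlus m F)) (orderOf (2 : ZMod p) * Nat.card F ^ (2 * m - 4)) := by
  have hc : Fintype.card (Fin m ⊕ Fin m) = 2 * m := by
    rw [Fintype.card_sum, Fintype.card_fin]; omega
  have h := lb_all.{u, u} hp2 (OrthForms.plusForm m F) (nondeg_polarBilin (OrthForms.nondeg_plusForm m F))
    (by rw [hc]; omega)
  rw [hc] at h
  rw [OrthForms.coe_plusForm] at h
  exact LB.of_heis h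

/-- **LB, row `PΩ⁻_{2m}(q)`**, `q` odd, `m ≥ 4`. -/
theorem lb_minus (hp2 : p ≠ 2) (m : ℕ) (hm : 4 ≤ m) (a b : F)
    (hab : ∀ z₁ z₂ : F, z₁ ^ 2 + a * z₁ * z₂ + b * z₂ ^ 2 = 0 → z₁ = 0 ∧ z₂ = 0) :
    TwoF.LB.{u, 0} (Cfsg.POmega F (Cfsg.quadFormMinus (m - 1) F a b))
      (orderOf (2 : ZMod p) * Nat.card F ^ (2 * m - 4)) := by
  have hc : Fintype.card ((Fin (m - 1) ⊕ Fin (m - 1)) ⊕ Fin 2) = 2 * m := by
    rw [Fintype.card_sum, Fintype.card_sum, Fintype.card_fin, Fintype.card_fin]; omega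
  have h := lb_all.{u, u} hp2 (OrthForms.minusForm (m - 1) F a b)
    (nondeg_polarBilin (OrthForms.nondeg_minusForm (m - 1) F a b hab)) (by rw [hc]; omega)
  rw [hc] at h
  rw [OrthForms.coe_minusForm] at h
  exact LB.of_heis h

end rows

end Cfsg.Agent.Omega.TwoF.OrthEl

end

section


/-!
# TABLE 2F: the rows `PΩ_{2m+1}(q)`, `PΩ⁺_{2m}(q)`, `PΩ⁻_{2m}(q)`, `q` odd

Lower bounds: `OrthRow` (helper238); ranks: `RkPOm`.  `omOdd`, `omPlus`, `omMinus` are the fields of
`KFacts.Rows2`.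
-/

set_option autoImplicit false

namespace Cfsg.Agent.Omega.TwoF.RowOrth

open Cfsg

universe u

theorem two_le_orderOf {p : ℕ} (hp : p.Prime) (hp2 : p ≠ 2) : 2 ≤ orderOf (2 : ZMod p) := by
  have : Fact p.Prime := ⟨hp⟩
  have h2 : (2 : ZMod p) ≠ 0 := by
    intro h
    have h1 : ((2 : ℕ) : ZMod p) = 0 := by exact_mod_cast h
    rw [CharP.cast_eq_zero_iff (ZMod p) p] at h1
    exact hp2 ((Nat.prime_dvd_prime_iff_eq hp Nat.prime_two).1 h1)
  have h0 : 0 < orderOf (2 : ZMod p) := by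
    have hf : IsOfFinOrder (Units.mk0 (2 : ZMod p) h2) := isOfFinOrder_of_finite _
    have h3 : orderOf (2 : ZMod p) = orderOf (Units.mk0 (2 : ZMod p) h2) := by
      rw [← orderOf_units, Units.val_mk0]
    rw [h3]
    exact hf.orderOf_pos
  have h1 : orderOf (2 : ZMod p) ≠ 1 := by
    intro h
    rw [orderOf_eq_one_iff] at h
    have h4 : (1 : ZMod p) = 0 := by
      calc (1 : ZMod p) = 2 - 1 := by norm_num
        _ = 0 := by rw [h, sub_self]
    exact one_ne_zero h4
  omega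

theorem three_le_card {F : Type*} [Field F] [Finite F] {p : ℕ} [CharP F p] (hp : p.Prime) (hp2 : p ≠ 2) :
    3 ≤ Nat.card F := by
  have hF := Fintype.ofFinite F
  obtain ⟨n, -, hn⟩ := FiniteField.card F p
  rw [Nat.card_eq_fintype_card, hn]
  have h3 : 3 ≤ p := by
    have := hp.two_le
    omega
  calc 3 ≤ p := h3
    _ = p ^ 1 := (pow_one p).symm
    _ ≤ p ^ (n : ℕ) := Nat.pow_le_pow_right (by omega) n.pos

theorem bound {F : Type*} [Field F] [Finite F] {p : ℕ} [CharP F p] (hp : p.Prime) (hp2 : p ≠ 2) (k : ℕ) :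
    2 * 3 ^ k ≤ orderOf (2 : ZMod p) * Nat.card F ^ k :=
  Nat.mul_le_mul (two_le_orderOf hp hp2) (Nat.pow_le_pow_left (three_le_card (F := F) hp hp2) k)

theorem exists_char {F : Type*} [Field F] [Finite F] (h2 : (2 : F) ≠ 0) :
    ∃ p : ℕ, CharP F p ∧ p.Prime ∧ p ≠ 2 := by
  obtain ⟨p, hp⟩ := CharP.exists F
  have hp' : p.Prime := (CharP.char_is_prime_or_zero F p).resolve_right
    (fun h0 => by subst h0; exact CharP.char_ne_zero_of_finite F 0 rfl)
  refine ⟨p, hp, hp', ?_⟩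
  rintro rfl
  exact h2 (by exact_mod_cast CharP.cast_eq_zero F 2)

theorem lbOdd : RowPOm.LBOdd.{u} := by
  intro F _ _ m h2 hm
  obtain ⟨p, hc, hp, hp2⟩ := exists_char h2
  have : Fact p.Prime := ⟨hp⟩
  exact (OrthEl.lb_odd.{u} hp2 m hm).mono (bound (F := F) hp hp2 _)

theorem lbPlus : RowPOm.LBPlus.{u} := by
  intro F _ _ m h2 hm
  obtain ⟨p, hc, hp, hp2⟩ := exists_char h2
  have : Fact p.Prime := ⟨hp⟩
  exact (OrthEl.lb_plus.{u} hp2 m hm).mono (bound (F := F) hp hp2 _)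

theorem lbMinus : RowPOm.LBMinus.{u} := by
  intro F _ _ m a b h2 hm hab
  obtain ⟨p, hc, hp, hp2⟩ := exists_char h2
  have : Fact p.Prime := ⟨hp⟩
  exact (OrthEl.lb_minus.{u} hp2 m hm a b hab).mono (bound (F := F) hp hp2 _)

/-- row `PΩ_{2m+1}(q)`, `q` odd -/
theorem kill_omOdd : KFacts.KillRow.{u} fun K _ => KFacts.OddChar @Cfsg.IsPOmegaOddChar K :=
  fun K _ h => RowPOm.omOdd lbOdd K h

/-- row `PΩ⁺_{2m}(q)`, `q` odd -/
theorem kill_omPlus : KFacts.KillRow.{u} fun K _ => KFacts.OddChar @Cfsg.IsPOmegaPlusChar K :=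
  fun K _ h => RowPOm.omPlus lbPlus K h

/-- row `PΩ⁻_{2m}(q)`, `q` odd -/
theorem kill_omMinus : KFacts.KillRow.{u} fun K _ => KFacts.OddChar @Cfsg.IsPOmegaMinusChar K :=
  fun K _ h => RowPOm.omMinus lbMinus K h

/-- **the field `omOdd` of `KFacts.Rows2`.** -/
theorem omOdd : KFacts.Row.{u} fun K _ => KFacts.OddChar @Cfsg.IsPOmegaOddChar K := kill_omOdd.toRow

/-- **the field `omPlus` of `KFacts.Rows2`.** -/
theorem omPlus : KFacts.Row.{u} fun K _ => KFacts.OddChar @Cfsg.IsPOmegaPlusChar K := kill_omPlus.toRow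

/-- **the field `omMinus` of `KFacts.Rows2`.** -/
theorem omMinus : KFacts.Row.{u} fun K _ => KFacts.OddChar @Cfsg.IsPOmegaMinusChar K := kill_omMinus.toRow

end Cfsg.Agent.Omega.TwoF.RowOrth

end
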