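import Cfsg.Agent.Mrg.Omega.Quasithin.Row.E27
import Cfsg.Agent.Mrg.Omega.TwoF.Bridge
import Cfsg.Agent.Omega.TwoF.RowTool
import Cfsg.Agent.Omega.KFacts
import Cfsg.Agent.Fischer.Fi22Order
import Cfsg.Agent.Fischer.Fi23Simple
import Cfsg.Agent.Fischer.Fi24Index
import Cfsg.Agent.Fischer.Fi24Spider
import Cfsg.Agent.R08.FiTwentyFour
import Cfsg.Agent.OddHalf.Table.OutFi22
import Cfsg.Agent.KFacts.FiTTh.Has
import Cfsg.Agent.KFacts.FiTF.FrameF
import Cfsg.Agent.KFacts.J3Sheet
import Cfsg.Agent.KFacts.J3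
import Cfsg.Agent.Mrg.Omega.TwoF.SmallSporLB
import Cfsg.Agent.OddHalf.Table.OutBasic

section


/-!
# TABLE 2F: the rows `Fi22`, `Fi23`, `Fi24'` (helper703; `LB` by helper871)

`|V| ≥ 2 ^ 54` (`RowFiLB`) and `m_2(Aut K) ≤ v_2 |Aut K| ≤ 22`.
-/

set_option autoImplicit false

namespace Cfsg.Agent.Omega.TwoF.RowFi

open Subgroup
open Cfsg.Spor (Fi22 Fi23 Fi24')

universe u v w

/-! ### Tools -/

/-- if the product of two outer automorphisms is inner then `|Out|` divides 2 -/
theorem index_dvd_two {A : Type*} [Group A] (I : Subgroup A) (h : ∀ a b : A, a ∉ I → b ∉ I → a * b ∈ I) :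
    I.index ∣ 2 := by
  by_cases hI : I = ⊤
  · rw [hI, index_top]
    exact one_dvd _
  · obtain ⟨a, ha⟩ : ∃ a, a ∉ I := by
      by_contra hcon
      push Not at hcon
      exact hI (eq_top_iff.2 fun x _ => hcon x)
    have h2 : I.index = 2 := by
      rw [index_eq_two_iff]
      refine ⟨a, fun b => ?_⟩
      by_cases hb : b ∈ I
      · exact Or.inr ⟨hb, fun h3 => ha ((I.mul_mem_cancel_left hb).1 h3)⟩
      · exact Or.inl ⟨h b a hb ha, hb⟩
    rw [h2]

/-- not commutative -/
theorem not_comm {K : Type*} [Group K] [Finite K] [IsSimpleGroup K] (h : ¬ (Nat.card K).Prime) :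
    ¬ ∀ a b : K, a * b = b * a := by
  intro h1
  have h2 := SimpleTool.center_eq_bot h
  have h3 : center K = ⊤ := eq_top_iff.2 fun x _ => mem_center_iff.2 fun y => h1 y x
  exact bot_ne_top (h2.symm.trans h3)

/-! ### `Fi22` -/

theorem isFi22 : Cfsg.IsFi22 Fi22 := ⟨Cfsg.Agent.Fischer.Fi22Order.isSimple, Cfsg.Agent.Fischer.Fi22Order.card_fi22⟩

theorem card_fi22 : Nat.card Fi22 = 64561751654400 := isFi22.2

theorem finite_fi22 : Finite Fi22 := Nat.finite_of_card_ne_zero (by rw [card_fi22]; norm_num)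

theorem center_fi22 : center Fi22 = ⊥ := by
  have := isFi22.1
  have := finite_fi22
  exact SimpleTool.center_eq_bot (by rw [card_fi22]; norm_num)

theorem index_fi22 : (MulAut.conj : Fi22 →* MulAut Fi22).range.index ∣ 2 := by
  apply index_dvd_two
  intro α β hα hβ
  obtain ⟨x, hx⟩ := Cfsg.Agent.OddHalf.Table.OutFi22.mul_outer α β (fun x hx => hα ⟨x, hx.symm⟩)
    (fun x hx => hβ ⟨x, hx.symm⟩)
  exact ⟨x, hx.symm⟩

/-- **RK** -/
theorem rk_fi22 : Rk.RK.{v} Fi22 18 := by
  have := finite_fi22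
  exact SimpleTool.rk_of_index center_fi22 index_fi22 (by rw [card_fi22]; norm_num)

theorem dead_fi22 : Dead2.{u} Fi22 := by
  have := isFi22.1
  have := finite_fi22
  exact RowTool.dead center_fi22 (RowFiLB.lb_fi22 (not_comm (by rw [card_fi22]; norm_num))) rk_fi22 (by norm_num)

/-- **Row `Fi22` of TABLE 2F.** -/
theorem row_fi22 : KFacts.KillRow.{u} @Cfsg.Spor.IsoFi22 := by
  rintro K _ ⟨e⟩
  have := isFi22.1
  exact (dead_fi22.kill center_fi22 inferInstance).equiv e

/-! ### `Fi23` -/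

theorem isFi23 : Cfsg.IsFi23 Fi23 := Cfsg.Agent.Fischer.Fi23Simple.isFi23

theorem card_fi23 : Nat.card Fi23 = 4089470473293004800 := isFi23.2

theorem finite_fi23 : Finite Fi23 := Nat.finite_of_card_ne_zero (by rw [card_fi23]; norm_num)

theorem center_fi23 : center Fi23 = ⊥ := by
  have := isFi23.1
  have := finite_fi23
  exact SimpleTool.center_eq_bot (by rw [card_fi23]; norm_num)

/-- **RK** -/
theorem rk_fi23 : Rk.RK.{v} Fi23 18 := by
  have := finite_fi23
  refine SimpleTool.rk_of_inner center_fi23 (fun φ => ?_) (by rw [card_fi23]; norm_num)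
  obtain ⟨g, hg⟩ := Cfsg.Agent.KFacts.FiTTh.Has.inn φ
  exact ⟨g, hg.symm⟩

theorem dead_fi23 : Dead2.{u} Fi23 := by
  have := isFi23.1
  have := finite_fi23
  exact RowTool.dead center_fi23 (RowFiLB.lb_fi23 (not_comm (by rw [card_fi23]; norm_num))) rk_fi23 (by norm_num)

/-- **Row `Fi23` of TABLE 2F.** -/
theorem row_fi23 : KFacts.KillRow.{u} @Cfsg.Spor.IsoFi23 := by
  rintro K _ ⟨e⟩
  have := isFi23.1
  exact (dead_fi23.kill center_fi23 inferInstance).equiv e

/-! ### `Fi24'` -/

theorem isFi24 : Cfsg.IsFi24' Fi24' := Cfsg.Agent.R08.FiTwentyFour.isFi24'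

theorem card_fi24 : Nat.card Fi24' = 1255205709190661721292800 := isFi24.2

theorem finite_fi24 : Finite Fi24' := Nat.finite_of_card_ne_zero (by rw [card_fi24]; norm_num)

theorem center_fi24 : center Fi24' = ⊥ := by
  have := isFi24.1
  have := finite_fi24
  exact SimpleTool.center_eq_bot (by rw [card_fi24]; norm_num)

/-- **RK** -/
theorem rk_fi24 : Rk.RK.{v} Fi24' 22 := by
  have := finite_fi24
  exact SimpleTool.rk_of_index center_fi24 Cfsg.Agent.KFacts.FiTF.out (by rw [card_fi24]; norm_num)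

/-- the spider relation -/
theorem spider : Cfsg.Agent.Fischer.Derived.ev (fun i => RowFiLB.gx (RowFiLB.nd i))
    Cfsg.Agent.Fischer.Derived.spider ^ 10 = 1 := by
  have h := Cfsg.Agent.Fischer.Fi24Spider.s_eq_one
    (Cfsg.Agent.Fischer.Fi24RepOrb.index_and_suborbits Cfsg.Agent.Fischer.Fi24Index.index_le.2
      Cfsg.Agent.Fischer.Fi24Index.index_le.1).2.1
  have h8 : Cfsg.Agent.Fischer.Fi24Spider.s8 = fun i => RowFiLB.gx (RowFiLB.nd i) := by
    funext i
    fin_cases i <;> rfl
  unfold Cfsg.Agent.Fischer.Fi24Spider.s Cfsg.Agent.Fischer.Fi24Spider.t Cfsg.Agent.Fischer.Fi24Spider.sp at h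
  rw [h8] at h
  exact h

theorem dead_fi24 : Dead2.{u} Fi24' := by
  have := isFi24.1
  have := finite_fi24
  exact RowTool.dead center_fi24 (RowFiLB.lb_fi24 spider) rk_fi24 (by norm_num)

/-- **Row `Fi24'` of TABLE 2F.** -/
theorem row_fi24 : KFacts.KillRow.{u} @Cfsg.Spor.IsoFi24' := by
  rintro K _ ⟨e⟩
  have := isFi24.1
  exact (dead_fi24.kill center_fi24 inferInstance).equiv e

end Cfsg.Agent.Omega.TwoF.RowFi

end

section


/-!
# TABLE 2F: the row J3

`m_2(Aut J3) ≤ 5`: `|Aut J3|_2 ≤ 2^8`, and `Q = 2^{1+4}_-` has rank 2.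
-/

set_option autoImplicit false

namespace Cfsg.Agent.Omega.TwoF.RowJ3

open Subgroup Cfsg Cfsg.Spor Cfsg.Agent.J2Type.Model Cfsg.Agent.J3Type.OneClass
open Cfsg.Agent.J2Type.CStruct
open Cfsg.Agent.KFacts

universe u w

theorem fact_le {n e : ℕ} (hn : n ≠ 0) (h : ¬ 2 ^ (e + 1) ∣ n) : n.factorization 2 ≤ e := by
  by_contra hlt
  exact h ((Nat.Prime.pow_dvd_iff_le_factorization Nat.prime_two hn).2 (by omega))

variable {K : Type u} [Group K]

/-- Elementary abelian subgroups of `Q = 2^{1+4}_-` have order at most 4. -/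
theorem card_le_Q {z : K} {Q : Subgroup (centralizer ({z} : Set K))}
    {v : Fin 5 → centralizer ({z} : Set K)} {ρ : centralizer ({z} : Set K) →* SP}
    (M : IsModel Q (zc z) v ρ) [Finite K] (B : Subgroup K)
    (hB : B ≤ Q.map (centralizer ({z} : Set K)).subtype) (hBe : Rk.El B) : Nat.card B ≤ 2 ^ 2 := by
  classical
  -- commuting
  have hcomm : ∀ x ∈ B, ∀ y ∈ B, x * y = y * x := by
    intro x hx y hy
    have h1 := hBe (x * y) (B.mul_mem hx hy)
    have h2 : x = x⁻¹ := eq_inv_of_mul_eq_one_left (hBe x hx)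
    have h3 : y = y⁻¹ := eq_inv_of_mul_eq_one_left (hBe y hy)
    have h4 : x * y = (x * y)⁻¹ := eq_inv_of_mul_eq_one_left h1
    rw [mul_inv_rev, ← h2, ← h3] at h4
    exact h4
  -- every element of `B` is `1`, `z` or `± v i`, with one fixed `i`
  have key : ∀ x ∈ B, ∃ h : x ∈ centralizer ({z} : Set K), (⟨x, h⟩ : centralizer ({z} : Set K)) = 1 ∨
      (⟨x, h⟩ : centralizer ({z} : Set K)) = zc z ∨ ∃ a i, (⟨x, h⟩ : centralizer ({z} : Set K)) = zp (zc z) a * v i := by
    intro x hx
    obtain ⟨y, hy, rfl⟩ := hB hx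
    refine ⟨y.2, ?_⟩
    by_cases h1 : y = 1
    · exact Or.inl h1
    · right
      exact invol_Q M hy (Subtype.ext (hBe _ hx)) h1
  have hone : ∀ x ∈ B, ∀ y ∈ B, ∀ (hx : x ∈ centralizer ({z} : Set K)) (hy : y ∈ centralizer ({z} : Set K))
      (a b : ZMod 2) (i j : Fin 5), (⟨x, hx⟩ : centralizer ({z} : Set K)) = zp (zc z) a * v i →
      (⟨y, hy⟩ : centralizer ({z} : Set K)) = zp (zc z) b * v j → i = j := by
    intro x hxB y hyB hx hy a b i j h1 h2
    by_contra hij
    have h3 : (zp (zc z) a * v i) * (zp (zc z) b * v j) = (zp (zc z) b * v j) * (zp (zc z) a * v i) := by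
      rw [← h1, ← h2]
      exact Subtype.ext (hcomm x hxB y hyB)
    have hzc : ∀ a c, zp (zc z) a * c = c * zp (zc z) a := by
      intro a c
      rcases zmod2_cases a with rfl | rfl
      · rw [zp_zero, one_mul, mul_one]
      · rw [zp_one, M.z_comm]
    have h4 : v i * v j = v j * v i := by
      have h5 : (zp (zc z) a * v i) * (zp (zc z) b * v j) = zp (zc z) a * zp (zc z) b * (v i * v j) := by
        rw [mul_assoc, ← mul_assoc (v i), ← hzc b (v i)]; simp only [mul_assoc]
      have h6 : (zp (zc z) b * v j) * (zp (zc z) a * v i) = zp (zc z) a * zp (zc z) b * (v j * v i) := by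
        rw [mul_assoc, ← mul_assoc (v j), ← hzc a (v j), ← mul_assoc, ← mul_assoc, ← hzc a (zp (zc z) b)]
        simp only [mul_assoc]
      rw [h5, h6] at h3
      exact mul_left_cancel h3
    have h7 := M.v_anti i j hij
    rw [h4] at h7
    exact M.z_ne (mul_eq_right.1 h7.symm)
  by_cases hex : ∃ x ∈ B, ∃ (h : x ∈ centralizer ({z} : Set K)) (a : ZMod 2) (i : Fin 5),
      (⟨x, h⟩ : centralizer ({z} : Set K)) = zp (zc z) a * v i
  · obtain ⟨x0, hx0, h0, a0, i0, e0⟩ := hex
    have hsub : (B : Set K) ⊆ ({1, z, (v i0 : K), z * (v i0 : K)} : Set K) := by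
      intro x hx
      obtain ⟨h, h1 | h1 | ⟨a, i, h1⟩⟩ := key x hx
      · left; exact congrArg Subtype.val h1
      · right; left; exact congrArg Subtype.val h1
      · have hi := hone x hx x0 hx0 h h0 a a0 i i0 h1 e0
        subst hi
        right; right
        rcases zmod2_cases a with rfl | rfl
        · left
          rw [zp_zero, one_mul] at h1
          exact congrArg Subtype.val h1
        · right
          rw [zp_one] at h1
          exact congrArg Subtype.val h1
    have h2 := Set.ncard_le_ncard hsub (Set.toFinite _)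
    have h3 : ({1, z, (v i0 : K), z * (v i0 : K)} : Set K).ncard ≤ 4 := by
      refine (Set.ncard_insert_le _ _).trans ?_
      refine (Nat.add_le_add_right (Set.ncard_insert_le _ _) 1).trans ?_
      refine (Nat.add_le_add_right (Nat.add_le_add_right (Set.ncard_insert_le _ _) 1) 1).trans ?_
      rw [Set.ncard_singleton]
    exact (h2.trans h3).trans (by norm_num)
  · push Not at hex
    have hsub : (B : Set K) ⊆ ({1, z} : Set K) := by
      intro x hx
      obtain ⟨h, h1 | h1 | ⟨a, i, h1⟩⟩ := key x hx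
      · left; exact congrArg Subtype.val h1
      · right; exact congrArg Subtype.val h1
      · exact absurd h1 (hex x hx h a i)
    have h2 := Set.ncard_le_ncard hsub (Set.toFinite _)
    have h3 : ({1, z} : Set K).ncard ≤ 2 := by
      refine (Set.ncard_insert_le _ _).trans ?_
      rw [Set.ncard_singleton]
    exact (h2.trans h3).trans (by norm_num)

theorem facts (h : IsoJ3 K) : Finite K ∧ IsSimpleGroup K ∧ Nat.card K = 50232960 ∧ center K = ⊥ ∧ Rk.RK.{w} K 5 := by
  obtain ⟨hs, z, Q, v, ρ, n, uu, F⟩ := J3.exists_facts h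
  have hfin : Finite K := Nat.finite_of_card_ne_zero (by rw [F.card_K]; norm_num)
  have hZ : center K = ⊥ := Cfsg.Agent.OddHalf.Table.OutBasic.center_eq_bot (by rw [F.card_K]; norm_num)
  refine ⟨hfin, hs, F.card_K, hZ, ?_⟩
  have M := F.model
  have S := QMinus.sheet F.card_C M
  have hz2 : orderOf z = 2 := orderOf_eq_prime (by rw [pow_two, S.sq]) S.ne
  have hone : ∀ x y : K, orderOf x = 2 → orderOf y = 2 → IsConj x y := by
    have h1 : ∀ x : K, orderOf x = 2 → IsConj z x := by
      intro x hx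
      obtain ⟨g, hg⟩ := F.one x (fun e => by rw [e, orderOf_one] at hx; omega)
        (by rw [← pow_two, ← hx, pow_orderOf_eq_one])
      exact isConj_iff.2 ⟨g, hg⟩
    exact fun x y hx hy => (h1 x hx).symm.trans (h1 y hy)
  have hidx := J3Sheet.index_le F.card_C M ?_ ?_ F.gen (J3Sheet.odd_index hone hz2)
  rotate_left
  · rw [F.nz]
    exact ⟨v 0, M.v_mem 0, rfl⟩
  · rw [F.nz]
    intro e
    have h1 := zv_ne_z M 0 0
    rw [zp_zero, one_mul] at h1
    exact h1 (Subtype.ext e)
  have hfin' : Finite (MulAut K) :=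
    Finite.of_injective (fun φ => (φ : K → K)) DFunLike.coe_injective
  refine Rk.rk_of_subgroup (e := 8) (t := 5) (m := 2) ?_ (Q.map (centralizer ({z} : Set K)).subtype) ?_ ?_ (by norm_num)
  · have h1 := Rk.card_mulAut_le hZ (n := 2) (by rcases hidx with h | h <;> rw [h] <;> norm_num)
    have h2 : Nat.card (MulAut K) ≠ 0 := Nat.card_pos.ne'
    apply fact_le h2
    intro h3
    have h4 := h3.trans h1
    rw [F.card_K] at h4
    norm_num at h4
  · rw [S.card]; norm_num
  · intro B hB hBe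
    exact card_le_Q M B hB hBe

theorem dead (h : IsoJ3 K) : Dead2.{u} K := by
  obtain ⟨hfin, hs, hc, hZ, hr⟩ := facts.{u, u} h
  exact Dead2.of_lb (LB.of_heis (lb_J3 ⟨hs, hc⟩)) (RK.of_rk hZ hr) (by norm_num)

/-- **The row `J3`.** -/
theorem row : KFacts.KillRow.{u} @Spor.IsoJ3 := by
  intro K _ h
  obtain ⟨-, hs, -, hZ, -⟩ := facts.{u, u} h
  exact (dead h).kill hZ inferInstance

end Cfsg.Agent.Omega.TwoF.RowJ3

end
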