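import Cfsg.Agent.KFacts.J4.SheetJ4
import Cfsg.Agent.S1703
import Cfsg.Agent.Mrg.Omega.TwoF.Bridge
import Cfsg.Agent.Omega.TwoF.ExtraRank
import Cfsg.Agent.Mrg.Omega.TwoF.SmallSporLB
import Cfsg.Agent.Omega.TwoF.RowTool
import Cfsg.Agent.Omega.KFacts
import Cfsg.Agent.OddHalf.Table.OutRu

section


set_option autoImplicit false

/-!
# TABLE 2F, row `J4` (helper703)

`LB 36` through the prime 37, `RK 15` through the extraspecial group `2^{1+12}` (`|Aut J4|₂ = 2 ^ 21`).
-/

namespace Cfsg.Agent.Omega.TwoF.RowJ4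

open Subgroup Cfsg Cfsg.Agent.KFacts.J4

universe u v w

theorem card_eq {K : Type u} [Group K] (h : Spor.IsoJ4 K) : Nat.card K = 86775571046077562880 := by
  obtain ⟨e⟩ := h
  rw [Nat.card_congr e.toEquiv]
  exact Cfsg.Agent.S1703.result.2

theorem ord_37 : 36 ≤ orderOf (2 : ZMod 37) :=
  le_orderOf_two (isOfFinOrder_iff_pow_eq_one.2 ⟨36, by norm_num, by decide⟩) (by decide)

/-- **LB** -/
theorem lb {K : Type u} [Group K] (h : Spor.IsoJ4 K) : Lie.Heis.LB.{u, v, w} K 36 := by
  obtain ⟨hfin, hs, -⟩ := Base.exists_full h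
  exact Lie.Heis.LB.prime (p := 37) (by norm_num) (by norm_num) (by rw [card_eq h]; norm_num) ord_37

theorem center_eq_bot {K : Type u} [Group K] (h : Spor.IsoJ4 K) : center K = ⊥ := by
  obtain ⟨hfin, hs, ⟨F⟩⟩ := Base.exists_full h
  rcases (inferInstance : (center K).Normal).eq_bot_or_eq_top with h1 | h1
  · exact h1
  · exfalso
    have h2 : ∀ q ∈ F.C.Q, q = 1 ∨ q = F.C.z := fun q _ => F.C.Q_cent q fun r _ => by
      have h3 : r ∈ center K := by rw [h1]; exact mem_top _
      exact mem_center_iff.1 h3 q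
    have h3 : (F.C.Q : Set K) ⊆ {1, F.C.z} := fun a ha => h2 a ha
    have h4 := Set.ncard_le_ncard h3 (Set.toFinite _)
    have h5 : (F.C.Q : Set K).ncard = 2 ^ 13 := F.C.Q_card
    have h6 := Set.ncard_insert_le (1 : K) {F.C.z}
    rw [Set.ncard_singleton] at h6
    omega

/-- **RK** -/
theorem rk {K : Type u} [Group K] (h : Spor.IsoJ4 K) : Rk.RK.{v} K 15 := by
  obtain ⟨hfin, hs, ⟨F⟩⟩ := Base.exists_full h
  have hr : (MulAut.conj : K →* MulAut K).range.index = 1 := by
    rw [index_eq_one, eq_top_iff]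
    intro α _
    obtain ⟨p, hp⟩ := SheetJ4.inner F α
    exact ⟨p, hp.symm⟩
  have h1 := Rk.card_mulAut (center_eq_bot h) hr
  rw [one_mul, card_eq h] at h1
  have he : (Nat.card (MulAut K)).factorization 2 ≤ 21 := by
    rw [h1]
    by_contra hcon
    have h2 : 2 ^ 22 ∣ 86775571046077562880 :=
      (Nat.prime_two.pow_dvd_iff_le_factorization (by norm_num)).2 (by omega)
    norm_num at h2
  have hz : ∀ a ∈ F.C.Q, F.C.z * a = a * F.C.z := fun a ha =>
    (Base.comm_z (Base.Q_le_MM F.C.toCent ha)).symm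
  refine Rk.rk_of_subgroup (t := 13) (m := 7) he F.C.Q F.C.Q_card ?_ (by norm_num)
  intro B hB hBe
  have hBc : ∀ a ∈ B, ∀ b ∈ B, a * b = b * a := by
    intro a ha b hb
    have e1 := hBe _ (B.mul_mem ha hb)
    have e2 : a⁻¹ = a := inv_eq_of_mul_eq_one_left (hBe a ha)
    have e3 : b⁻¹ = b := inv_eq_of_mul_eq_one_left (hBe b hb)
    have e4 : (a * b)⁻¹ = a * b := inv_eq_of_mul_eq_one_left e1
    rw [mul_inv_rev, e2, e3] at e4
    exact e4.symm
  have h2 := ExtraRank.card_mul_self_le (z := F.C.z) F.C.Q_comm hz (Easy.zz F.C.toCent) (Easy.z1 F.C.toCent)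
    (fun a _ ha' => F.C.Q_cent a ha') hB hBc
  rw [F.C.Q_card] at h2
  by_contra hcon
  push Not at hcon
  nlinarith [h2, hcon]

theorem dead {K : Type u} [Group K] (h : Spor.IsoJ4 K) : Dead2.{u} K :=
  have : Finite K := (Base.exists_full h).1
  Dead2.of_lb (LB.of_heis (lb h)) (RK.of_rk (center_eq_bot h) (rk h)) (by norm_num)

/-- **the row `J4` of TABLE 2F** -/
theorem row (K : Type u) [Group K] (h : Spor.IsoJ4 K) : Kill2.{u} K :=
  have : IsSimpleGroup K := (Base.exists_full h).2.1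
  (dead h).kill (center_eq_bot h) inferInstance

end Cfsg.Agent.Omega.TwoF.RowJ4

end

section


/-!
# TABLE 2F: the row Ru (helper900)

`|V| ≥ 2 ^ 28` (the prime 29), `m_2(Aut Ru) ≤ 11` (`|Aut Ru|₂ = 2 ^ 14`, an element of order 16).
-/

set_option autoImplicit false
set_option maxRecDepth 100000

namespace Cfsg.Agent.Omega.TwoF.RowRu

open Subgroup
open Cfsg.Agent.SporadicB Cfsg.Agent.OddHalf.Table.OutRu

universe u v

theorem ord29 : 28 ≤ orderOf (2 : ZMod 29) :=
  le_orderOf_two (isOfFinOrder_iff_pow_eq_one.2 ⟨28, by norm_num, by decide +kernel⟩) (by decide +kernel)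

theorem card_eq : Nat.card RuOrder.H = 145926144000 := RuOrder.card_H

theorem simple : IsSimpleGroup RuOrder.H := RuSimple.isSimpleGroup_H

/-- **LB**: `|V| ≥ 2 ^ 28`. -/
theorem lb : Cfsg.Agent.Omega.Lie.Heis.LB.{0, u, v} RuOrder.H 28 := by
  have := simple
  exact Cfsg.Agent.Omega.Lie.Heis.LB.prime (p := 29) (by norm_num) (by norm_num) (by rw [card_eq]; norm_num) ord29

theorem center_eq : center RuOrder.H = ⊥ := by
  have hs := simple
  rcases (inferInstance : (center RuOrder.H).Normal).eq_bot_or_eq_top with h | h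
  · exact h
  · exfalso
    have hcomm : ∀ a b : RuOrder.H, a * b = b * a := fun a b => by
      have h1 : b ∈ center RuOrder.H := h ▸ mem_top b
      exact mem_center_iff.1 h1 a
    let _ : CommGroup RuOrder.H := { (inferInstance : Group RuOrder.H) with mul_comm := hcomm }
    have hp : (Nat.card RuOrder.H).Prime := IsSimpleGroup.prime_card
    rw [card_eq] at hp
    exact absurd hp (by norm_num)

theorem range_eq : (MulAut.conj : RuOrder.H →* MulAut RuOrder.H).range = ⊤ := by
  rw [eq_top_iff]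
  intro α _
  obtain ⟨g, hg⟩ := inner α
  exact ⟨g, hg.symm⟩

theorem card_mulAut : Nat.card (MulAut RuOrder.H) = 145926144000 := by
  rw [Rk.card_mulAut (n := 1) center_eq (by rw [range_eq, index_top]), one_mul, card_eq]

theorem g_pow : eqw (rep 16 [4, 0, 0, 2]) [] = true := by decide +kernel

theorem g_pow8 : Nat.beq (ev (rep 8 [4, 0, 0, 2]) 0) (ev [] 0) = false := by decide +kernel

theorem orderOf_g : orderOf (W [4, 0, 0, 2]) = 2 ^ 4 := by
  apply orderOf_eq_prime_pow (n := 3)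
  · rw [show 2 ^ 3 = 8 by norm_num, ← W_rep, ← W_nil]
    exact ne_of_ev g_pow8
  · rw [show 2 ^ (3 + 1) = 16 by norm_num, ← W_rep, eqw_sound g_pow, W_nil]

/-- **RK**: `m_2(Aut Ru) ≤ 11`. -/
theorem rk : Rk.RK.{u} RuOrder.H 11 := by
  refine Rk.rk_of_elt (e := 14) (k := 4) ?_ (W [4, 0, 0, 2]) orderOf_g (by norm_num)
  rw [card_mulAut]
  by_contra hcon
  have h1 : 2 ^ 15 ∣ 145926144000 :=
    (Nat.prime_two.pow_dvd_iff_le_factorization (by norm_num)).2 (by omega)
  norm_num at h1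

theorem dead2 : Dead2.{u} RuOrder.H := RowTool.dead center_eq lb rk (by norm_num)

/-- **Row Ru of TABLE 2F.** -/
theorem row : KFacts.KillRow.{u} @Cfsg.Spor.IsoRu := by
  rintro K _ ⟨e⟩
  have := simple
  exact (dead2.kill center_eq inferInstance).equiv (e.trans Cfsg.Agent.RuLat.Main.equiv)

end Cfsg.Agent.Omega.TwoF.RowRu

end
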