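import Cfsg.Agent.KFacts.SuzOut
import Cfsg.Agent.Omega.KFacts
import Cfsg.Agent.Mrg.Omega.TwoF.Orb
import Cfsg.Agent.Omega.TwoF.RowTool


/-!
# TABLE 2F, row `Suz` (helper411)

`LB 22` through a group `3 ^ 5 : 11` (its preimage in the covers is abelian), `RK 9` through a subgroup `2^{1+6}_- . 4`.
-/

set_option autoImplicit false
set_option maxRecDepth 100000
set_option Elab.async false

namespace Cfsg.Agent.Omega.TwoF.RowSuz

open Cfsg Cfsg.Spor Cfsg.Agent.Lib.PermNet Cfsg.Agent.SporadicRecognition.SuzPhi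
  Cfsg.Agent.SporadicRecognition.SuzOrder Cfsg.Agent.SuzThree.Basic Cfsg.Agent.SuzThree.CentA
  Cfsg.Agent.SuzThree.QZero Cfsg.Agent.KFacts.SuzCent Cfsg.Agent.KFacts.SuzR Cfsg.Agent.KFacts.Codes
  Cfsg.Agent.KFacts.SuzSheet Cfsg.Agent.Omega.TwoF.Golay

universe u v w

/-! ### `3 ^ 5 : 11` -/

/-- an element of order 11 -/
def xw : List Suz.Gen := [.d, .c, .f, .b, .g, .e]
/-- a conjugating word -/
def cw : List Suz.Gen := [.a, .b, .f, .d, .c, .d, .a, .b, .a, .b, .c]
/-- an element of order 3 -/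
def ew : List Suz.Gen := cw ++ ([.e, .d] ++ cw.reverse)

/-- `k` copies -/
def rp' (w : List Suz.Gen) (k : ℕ) : List Suz.Gen := (List.replicate k w).flatten

theorem el_rp (w : List Suz.Gen) (k : ℕ) : el (rp' w k) = el w ^ k := (el_pow k).symm

theorem cjp_el (k : ℕ) : cjp (el xw) (el ew) k = el (rp' xw k ++ (ew ++ (rp' xw k).reverse)) := by
  rw [el_append, el_append, el_reverse, el_rp, cjp, mul_assoc]

theorem x11 : el xw ^ 11 = 1 := pow_one_of 11 (by decide +kernel)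

theorem e3 : el ew ^ 3 = 1 := by
  have h : el ([.e, .d] : List Suz.Gen) ^ 3 = 1 := pow_one_of 3 (by decide +kernel)
  rw [ew, el_append, el_append, el_reverse, ← mul_assoc, conj_pow, h, mul_one, mul_inv_cancel]

theorem comm_word {k : ℕ} (h : checkEq 11 (wd (ew ++ (rp' xw k ++ (ew ++ (rp' xw k).reverse))))
    (wd ((rp' xw k ++ (ew ++ (rp' xw k).reverse)) ++ ew)) = true) :
    el ew * cjp (el xw) (el ew) k = cjp (el xw) (el ew) k * el ew := by
  rw [cjp_el, ← el_append, ← el_append]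
  exact eq_of_reps (Rep.el _) (Rep.el _) h

theorem comm1 : el ew * cjp (el xw) (el ew) 1 = cjp (el xw) (el ew) 1 * el ew := comm_word (by decide +kernel)
theorem comm2 : el ew * cjp (el xw) (el ew) 2 = cjp (el xw) (el ew) 2 * el ew := comm_word (by decide +kernel)
theorem comm3 : el ew * cjp (el xw) (el ew) 3 = cjp (el xw) (el ew) 3 * el ew := comm_word (by decide +kernel)
theorem comm4 : el ew * cjp (el xw) (el ew) 4 = cjp (el xw) (el ew) 4 * el ew := comm_word (by decide +kernel)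

/-- `x⁵ e x⁻⁵ = e (x² e x⁻²)² (x³ e x⁻³) (x⁴ e x⁻⁴)²` -/
theorem rel5 : cjp (el xw) (el ew) 5 = el ew * (cjp (el xw) (el ew) 2 * cjp (el xw) (el ew) 2) *
    cjp (el xw) (el ew) 3 * (cjp (el xw) (el ew) 4 * cjp (el xw) (el ew) 4) := by
  have h : el (rp' xw 5 ++ (ew ++ (rp' xw 5).reverse)) =
      el (ew ++ (rp' xw 2 ++ (ew ++ (ew ++ (xw ++ (ew ++ (xw ++ (ew ++ (ew ++ (rp' xw 4).reverse))))))))) :=
    eq_of_reps (Rep.el _) (Rep.el _) (by decide +kernel)
  rw [cjp_el 5, h]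
  simp only [el_append, el_reverse, el_rp, cjp]
  group

theorem C_ne {c d : ℕ} (hc : c < 2 ^ 7) (hd : d < 2 ^ 7) (h : c ≠ d) : C c ≠ C d := fun he =>
  h (cod_injOn rels tri nondeg z_ne hc hd he)

theorem ed_ne : el ([.e, .d] : List Suz.Gen) ≠ 1 := by
  intro h
  have h1 : el ([.e] : List Suz.Gen) * el [.d] = 1 := by rw [← el_append]; exact h
  have h2 : gg 1 = (gg 0)⁻¹ := eq_inv_of_mul_eq_one_left h1
  have h3 : gg 0 * gg 0 = 1 := gen_sq .d
  have h4 : gg 1 = gg 0 := by rw [h2]; exact inv_eq_of_mul_eq_one_left h3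
  have h5 := conj_AA 0 1
  have h6 := conj_AA 1 1
  rw [h4, h5] at h6
  exact C_ne (by decide +kernel) (by decide +kernel) (by decide +kernel) h6

theorem ne_xe : el xw * el ew ≠ el ew * el xw := by
  intro h
  have h1 : ∀ k, cjp (el xw) (el ew) k = el ew := by
    intro k
    induction k with
    | zero => exact cjp_zero _ _
    | succ k ih => rw [← conj_cjp_one, ih, h, mul_inv_cancel_right]
  have h2 := rel5
  rw [h1, h1, h1, h1] at h2
  have h3 := e3
  have h4 : el ew = 1 := by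
    have e1 : el ew * (el ew * el ew) * el ew * (el ew * el ew) = el ew ^ 3 * el ew ^ 3 := by
      simp only [pow_succ, pow_zero, one_mul, mul_assoc]
    rw [e1, h3, one_mul] at h2
    exact h2
  apply ed_ne
  rw [ew, el_append, el_append, el_reverse] at h4
  have h5 : el ([.e, .d] : List Suz.Gen) = (el cw)⁻¹ * (el cw * (el [.e, .d] * (el cw)⁻¹)) * el cw := by group
  rw [h5, h4]
  group

theorem simple' : IsSimpleGroup Suz := Cfsg.Agent.SporadicRecognition.SuzOrder.simple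

theorem lb : Lie.Heis.LB.{0, v, w} Suz 22 := by
  have := simple'
  refine LB.golay x11 e3 ?_ rel5 ne_xe
  intro k hk
  interval_cases k
  · rw [cjp_zero]
  · exact comm1
  · exact comm2
  · exact comm3
  · exact comm4

/-! ### the rank -/

theorem exists_notMem {G : Type*} [Group G] [Finite G] [DecidableEq G] (B : Subgroup G) (l : List G)
    (h : l.length < Nat.card B) : ∃ g ∈ B, g ∉ l := by
  by_contra hcon
  push Not at hcon
  have h1 : Nat.card B ≤ Nat.card l.toFinset := by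
    refine Nat.card_le_card_of_injective (fun b : B => (⟨b, List.mem_toFinset.2 (hcon b b.2)⟩ : l.toFinset)) ?_
    intro a b hab
    have h2 := congrArg (fun x : l.toFinset => (x : G)) hab
    exact Subtype.ext h2
  have h3 : Nat.card l.toFinset = l.toFinset.card := by rw [Nat.card_eq_fintype_card, Fintype.card_coe]
  have h2 := l.toFinset_card_le
  omega

/-- codes of singular vectors -/
def sg (a : ℕ) : Bool := a != 0 && mulc BB 6 a a == 0
/-- codes of orthogonal vectors -/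
def og (a b : ℕ) : Bool := mulc BB 6 a b == mulc BB 6 b a

/-- the quadratic form on `Q0 / ⟨z0⟩` has no totally singular subspace of dimension 3 -/
theorem minus : ((List.range 64).all fun a => !sg a || (List.range 64).all fun b => !(sg b && b != a && og a b) ||
    (List.range 64).all fun c => !(sg c && c != a && c != b && c != a ^^^ b && og a c && og b c)) = true := by
  decide +kernel

theorem minus' {a b c : ℕ} (ha : a < 64) (hb : b < 64) (hc : c < 64) (a1 : sg a = true) (b1 : sg b = true)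
    (c1 : sg c = true) (h1 : b ≠ a) (h2 : og a b = true) (h3 : c ≠ a) (h4 : c ≠ b) (h5 : c ≠ a ^^^ b)
    (h6 : og a c = true) : og b c = false := by
  have h := minus
  rw [List.all_eq_true] at h
  have h7 := h a (List.mem_range.2 ha)
  rw [a1, Bool.not_true, Bool.false_or, List.all_eq_true] at h7
  have h8 := h7 b (List.mem_range.2 hb)
  have e1 : (b != a) = true := by simpa using h1
  rw [b1, e1, h2, Bool.and_true, Bool.and_true, Bool.not_true, Bool.false_or, List.all_eq_true] at h8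
  have h9 := h8 c (List.mem_range.2 hc)
  have e2 : (c != a) = true := by simpa using h3
  have e3 : (c != b) = true := by simpa using h4
  have e4 : (c != a ^^^ b) = true := by simpa using h5
  rw [c1, e2, e3, e4, h6] at h9
  simpa using h9

theorem C_mul (c d : ℕ) : C c * C d = C (mulc BB 6 c d) := cod_mul rels tri c d

theorem mul_lt {c d : ℕ} (hc : c < 64) (hd : d < 64) : mulc BB 6 c d < 2 ^ 7 := by
  unfold mulc
  refine Nat.xor_lt_two_pow (Nat.xor_lt_two_pow ?_ ?_) ?_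
  · omega
  · omega
  · split_ifs <;> norm_num

theorem C_zero : C 0 = 1 := cod_zero

theorem zC (c : ℕ) : z0 * C c = C c * z0 := (mem_C1.1 (Q0_le (by rw [Q0_eq]; exact cod_mem c))).symm

/-- `g` is `C c` or `z C c` -/
def Cd (g : Suz) (c : ℕ) : Prop := c < 64 ∧ (g = C c ∨ g = z0 * C c)

/-- an element of `Q0` is `C c` or `z C c` with `c < 64` -/
theorem code {g : Suz} (hg : g ∈ Q0) : ∃ c, Cd g c := by
  rw [Q0_eq] at hg
  obtain ⟨c, hc, rfl⟩ := (mem_RG rels tri).1 hg
  rcases Nat.lt_or_ge c 64 with h | h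
  · exact ⟨c, h, Or.inl rfl⟩
  · refine ⟨c - 64, by omega, Or.inr ?_⟩
    have h1 : C 64 * C (c - 64) = C (mulc BB 6 64 (c - 64)) := C_mul _ _
    have h3 : C 64 = z0 := cod_z (n := 6)
    rw [← h3, h1]
    congr 1
    have h2 : ∀ d < 64, mulc BB 6 64 d = 64 + d := by decide +kernel
    rw [h2 _ (by omega)]
    omega

theorem Cd.comm {g g' : Suz} {c c' : ℕ} (h : Cd g c) (h' : Cd g' c') (hc : g * g' = g' * g) : og c c' = true := by
  have h1 : C c * C c' = C c' * C c := by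
    have e1 : ∀ x y : Suz, (z0 * x) * y = z0 * (x * y) := fun x y => mul_assoc _ _ _
    have e2 : ∀ k, ∀ y : Suz, C k * (z0 * y) = z0 * (C k * y) := fun k y => by
      rw [← mul_assoc, ← zC, mul_assoc]
    obtain ⟨-, h⟩ := h
    obtain ⟨-, h'⟩ := h'
    rcases h with rfl | rfl <;> rcases h' with rfl | rfl
    · exact hc
    · rw [e2, e1] at hc
      exact mul_left_cancel hc
    · rw [e2, e1] at hc
      exact mul_left_cancel hc
    · rw [e1, e1, e2, e2] at hc
      exact mul_left_cancel (mul_left_cancel hc)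
  rw [C_mul, C_mul] at h1
  have := cod_injOn rels tri nondeg z_ne (mul_lt h.1 h'.1) (mul_lt h'.1 h.1) h1
  simp [og, this]

theorem Cd.sg {g : Suz} {c : ℕ} (h : Cd g c) (hg : g * g = 1) (h0 : g ≠ 1) (hz : g ≠ z0) : sg c = true := by
  have h1 : C c * C c = 1 := by
    have e2 : ∀ k, ∀ y : Suz, C k * (z0 * y) = z0 * (C k * y) := fun k y => by
      rw [← mul_assoc, ← zC, mul_assoc]
    rcases h.2 with rfl | rfl
    · exact hg
    · rw [mul_assoc, e2, ← mul_assoc, z_sq, one_mul] at hg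
      exact hg
  have h2 : c ≠ 0 := by
    rintro rfl
    rcases h.2 with h3 | h3
    · exact h0 (h3.trans C_zero)
    · exact hz (by rw [h3, C_zero, mul_one])
  have h3 : mulc BB 6 c c = 0 := by
    refine cod_injOn rels tri nondeg z_ne (mul_lt h.1 h.1) (by norm_num) ?_
    rw [cod_zero]
    exact (C_mul c c).symm.trans h1
  simp [RowSuz.sg, h2, h3]

theorem Cd.eq {g g' : Suz} {c : ℕ} (h : Cd g c) (h' : Cd g' c) : g = g' ∨ g = z0 * g' := by
  have hz : z0 * z0 = 1 := z_sq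
  rcases h.2 with rfl | rfl <;> rcases h'.2 with rfl | rfl
  · exact Or.inl rfl
  · right; rw [← mul_assoc, hz, one_mul]
  · exact Or.inr rfl
  · exact Or.inl rfl

/-- the code of a product -/
theorem Cd.mul {g g' : Suz} {c c' : ℕ} (h : Cd g c) (h' : Cd g' c') : Cd (g * g') (c ^^^ c') := by
  have hz : z0 * z0 = 1 := z_sq
  have h1 : C c * C c' = C (c ^^^ c') ∨ C c * C c' = z0 * C (c ^^^ c') := by
    rw [C_mul, mulc]
    split_ifs
    · right
      have h3 : C 64 = z0 := cod_z (n := 6)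
      rw [← h3, C_mul]
      congr 1
      have h2 : ∀ d < 64, mulc BB 6 64 d = d ^^^ 64 := by decide +kernel
      rw [h2 _ (Nat.xor_lt_two_pow (n := 6) h.1 h'.1)]
      rfl
    · left; rw [Nat.xor_zero]
  refine ⟨Nat.xor_lt_two_pow (n := 6) h.1 h'.1, ?_⟩
  have e1 : ∀ x y : Suz, (z0 * x) * y = z0 * (x * y) := fun x y => mul_assoc _ _ _
  have e2 : ∀ k, ∀ y : Suz, C k * (z0 * y) = z0 * (C k * y) := fun k y => by
    rw [← mul_assoc, ← zC, mul_assoc]
  have e3 : ∀ y : Suz, z0 * (z0 * y) = y := fun y => by rw [← mul_assoc, hz, one_mul]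
  obtain ⟨-, h⟩ := h
  obtain ⟨-, h'⟩ := h'
  rcases h with rfl | rfl <;> rcases h' with rfl | rfl <;> rcases h1 with h1 | h1 <;>
    simp only [e1, e2, h1, e3, true_or, or_true]

/-- elementary abelian subgroups of `Q0` have order at most 8 -/
theorem card_le_eight {B : Subgroup Suz} (hB : B ≤ Q0) (hBe : Rk.El B) : Nat.card B ≤ 8 := by
  classical
  by_contra hcon
  push Not at hcon
  obtain ⟨x, hx, hx1⟩ := exists_notMem B [1, z0] (by simpa using by omega)
  obtain ⟨y, hy, hy1⟩ := exists_notMem B [1, z0, x, z0 * x] (by simpa using by omega)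
  obtain ⟨w, hw, hw1⟩ := exists_notMem B [1, z0, x, z0 * x, y, z0 * y, x * y, z0 * (x * y)] (by simpa using by omega)
  obtain ⟨a, ha⟩ := code (hB hx)
  obtain ⟨b, hb⟩ := code (hB hy)
  obtain ⟨c, hc⟩ := code (hB hw)
  have hcomm : ∀ s ∈ B, ∀ t ∈ B, s * t = t * s := by
    intro s hs t ht
    have h1 : (s * t)⁻¹ = s * t := inv_eq_of_mul_eq_one_left (hBe _ (mul_mem hs ht))
    have h2 : s⁻¹ = s := inv_eq_of_mul_eq_one_left (hBe _ hs)
    have h3 : t⁻¹ = t := inv_eq_of_mul_eq_one_left (hBe _ ht)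
    rw [mul_inv_rev, h2, h3] at h1
    exact h1.symm
  simp only [List.mem_cons, List.not_mem_nil, or_false, not_or] at hx1 hy1 hw1
  have h := minus' ha.1 hb.1 hc.1 (ha.sg (hBe x hx) hx1.1 hx1.2) (hb.sg (hBe y hy) hy1.1 hy1.2.1)
    (hc.sg (hBe w hw) hw1.1 hw1.2.1) ?_ (ha.comm hb (hcomm x hx y hy)) ?_ ?_ ?_ (ha.comm hc (hcomm x hx w hw))
  · rw [hb.comm hc (hcomm y hy w hw)] at h
    exact Bool.noConfusion h
  · rintro rfl
    rcases hb.eq ha with h | h <;> tauto
  · rintro rfl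
    rcases hc.eq ha with h | h <;> tauto
  · rintro rfl
    rcases hc.eq hb with h | h <;> tauto
  · rintro rfl
    rcases hc.eq (ha.mul hb) with h | h <;> tauto

/-! ### the group `Q0 ⟨g0⟩` -/

/-- an element of `C(z)` of order 4 modulo `Q0` -/
noncomputable def g0 : Suz := gg 0 * gg 2

theorem g0_mem : g0 ∈ C1 := mul_mem (gg_mem 0) (gg_mem 2)

theorem g0_four : g0 ^ 4 = q .k4 := by
  have h : el ([.d] ++ h1) ^ 4 = el [.f] := by
    rw [el_pow]
    exact eq_of_reps (Rep.el _) (Rep.el _) (by decide +kernel)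
  rw [el_append] at h
  exact h

theorem gz_mem {i : ℤ} (h : 4 ∣ i) : g0 ^ i ∈ Q0 := by
  obtain ⟨j, rfl⟩ := h
  rw [zpow_mul]
  have h4 : g0 ^ (4 : ℤ) = q .k4 := by
    have := g0_four
    exact_mod_cast this
  rw [h4]
  exact Subgroup.zpow_mem _ (q_mem .k4) j

theorem g0_two : g0 ^ 2 ∉ Q0 := by
  intro h
  have h1 : g0 ^ 2 * C 1 * (g0 ^ 2)⁻¹ = C (AA 0 (AA 2 (AA 0 (AA 2 1)))) := by
    rw [← conj_AA 0, ← conj_AA 2, ← conj_AA 0, ← conj_AA 2, g0, pow_two]
    group
  have h2 : C 1 ∈ Q0 := by rw [Q0_eq]; exact cod_mem 1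
  rcases R_comm h h2 with h3 | h3
  · rw [h3, mul_inv_cancel_right] at h1
    exact C_ne (by norm_num) (by decide +kernel) (by decide +kernel) h1
  · rw [h3, ← mul_assoc, mul_inv_cancel_right] at h1
    have h4 : z0 * C 1 = C 65 := by
      have h3 : C 64 = z0 := cod_z (n := 6)
      rw [← h3, C_mul]
      congr 1
    rw [h4] at h1
    exact C_ne (by norm_num) (by decide +kernel) (by decide +kernel) h1

theorem mem_of_zpow {i : ℤ} (h : g0 ^ i ∈ Q0) : 4 ∣ i := by
  have h1 : g0 ^ (i % 4) ∈ Q0 := by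
    have h2 : g0 ^ (i % 4) = g0 ^ i * (g0 ^ (4 * (i / 4)))⁻¹ := by
      rw [← zpow_neg, ← zpow_add]
      congr 1
      omega
    rw [h2]
    exact mul_mem h (inv_mem (gz_mem (dvd_mul_right 4 _)))
  have h0 := Int.emod_nonneg i (show (4 : ℤ) ≠ 0 by norm_num)
  have h3 := Int.emod_lt_of_pos i (show (0 : ℤ) < 4 by norm_num)
  have h4 : i % 4 = 0 ∨ i % 4 = 1 ∨ i % 4 = 2 ∨ i % 4 = 3 := by omega
  rcases h4 with h4 | h4 | h4 | h4
  · exact Int.dvd_of_emod_eq_zero h4
  · exfalso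
    rw [h4, zpow_one] at h1
    exact g0_two (pow_mem h1 2)
  · exfalso
    rw [h4] at h1
    exact g0_two (by exact_mod_cast h1)
  · exfalso
    rw [h4] at h1
    have h5 : g0 ^ (2 : ℤ) = g0 ^ (3 : ℤ) * g0 ^ (3 : ℤ) * (g0 ^ (4 : ℤ))⁻¹ := by
      rw [← zpow_neg, ← zpow_add, ← zpow_add]
      norm_num
    apply g0_two
    have h6 : g0 ^ (2 : ℤ) ∈ Q0 := by
      rw [h5]
      exact mul_mem (mul_mem h1 h1) (inv_mem (gz_mem (dvd_refl 4)))
    exact_mod_cast h6

theorem normal_z (i : ℤ) {y : Suz} (hy : y ∈ Q0) : g0 ^ i * y * (g0 ^ i)⁻¹ ∈ Q0 :=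
  normal_R (Subgroup.zpow_mem _ g0_mem i) hy

/-- `Q0 ⟨g0⟩` -/
noncomputable def T : Subgroup Suz where
  carrier := {t | ∃ i : ℤ, ∃ y ∈ Q0, t = g0 ^ i * y}
  one_mem' := ⟨0, 1, one_mem _, by rw [zpow_zero, one_mul]⟩
  mul_mem' := by
    rintro _ _ ⟨i, y, hy, rfl⟩ ⟨j, y', hy', rfl⟩
    refine ⟨i + j, (g0 ^ (-j) * y * (g0 ^ (-j))⁻¹) * y', mul_mem (normal_z (-j) hy) hy', ?_⟩
    rw [zpow_add, zpow_neg]
    group
  inv_mem' := by
    rintro _ ⟨i, y, hy, rfl⟩
    refine ⟨-i, g0 ^ i * y⁻¹ * (g0 ^ i)⁻¹, normal_z i (inv_mem hy), ?_⟩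
    rw [zpow_neg]
    group

theorem card_T : Nat.card T = 2 ^ 9 := by
  have h1 : Function.Bijective (fun p : Fin 4 × Q0 => (⟨g0 ^ (p.1 : ℤ) * p.2, p.1, p.2, p.2.2, rfl⟩ : T)) := by
    constructor
    · rintro ⟨i, y⟩ ⟨j, y'⟩ h
      have h1 : g0 ^ (i : ℤ) * (y : Suz) = g0 ^ (j : ℤ) * y' := congrArg Subtype.val h
      have h2 : g0 ^ ((i : ℤ) - j) ∈ Q0 := by
        have h3 : g0 ^ ((i : ℤ) - j) = g0 ^ (j : ℤ) * (y' * (y : Suz)⁻¹) * (g0 ^ (j : ℤ))⁻¹ := by
          rw [zpow_sub]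
          calc g0 ^ (i : ℤ) * (g0 ^ (j : ℤ))⁻¹ = (g0 ^ (i : ℤ) * y) * (y : Suz)⁻¹ * (g0 ^ (j : ℤ))⁻¹ := by group
            _ = _ := by rw [h1]; group
        rw [h3]
        exact normal_z j (mul_mem y'.2 (inv_mem y.2))
      have h3 := mem_of_zpow h2
      have h4 : i = j := by
        apply Fin.ext
        have := i.2
        have := j.2
        omega
      subst h4
      have h5 := mul_left_cancel h1
      rw [Prod.mk.injEq]
      exact ⟨rfl, Subtype.ext h5⟩
    · rintro ⟨_, i, y, hy, rfl⟩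
      have h0 := Int.emod_nonneg i (show (4 : ℤ) ≠ 0 by norm_num)
      have h3 := Int.emod_lt_of_pos i (show (0 : ℤ) < 4 by norm_num)
      refine ⟨(⟨(i % 4).toNat, by omega⟩, ⟨g0 ^ (4 * (i / 4)) * y, mul_mem (gz_mem (dvd_mul_right 4 _)) hy⟩), ?_⟩
      apply Subtype.ext
      show g0 ^ (((i % 4).toNat : ℕ) : ℤ) * (g0 ^ (4 * (i / 4)) * y) = g0 ^ i * y
      rw [← mul_assoc, ← zpow_add]
      congr 2
      omega
  rw [← Nat.card_congr (Equiv.ofBijective _ h1), Nat.card_prod, card_R, Nat.card_fin]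
  norm_num

/-- elementary abelian subgroups of `T` have order at most 16 -/
theorem card_le_T {B : Subgroup Suz} (hB : B ≤ T) (hBe : Rk.El B) : Nat.card B ≤ 2 ^ 4 := by
  have key : ∀ b ∈ B, ∃ j : ℤ, ∃ y ∈ Q0, b = g0 ^ (2 * j) * y := by
    intro b hb
    obtain ⟨i, y, hy, rfl⟩ := hB hb
    have h1 := hBe _ hb
    have h2 : g0 ^ (i + i) ∈ Q0 := by
      have h3 : g0 ^ (i + i) = (g0 ^ i * y * (g0 ^ i * y)) * (y⁻¹ * (g0 ^ (-i) * y⁻¹ * (g0 ^ (-i))⁻¹)) := by
        rw [zpow_add, zpow_neg]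
        group
      rw [h3, h1, one_mul]
      exact mul_mem (inv_mem hy) (normal_z (-i) (inv_mem hy))
    have h3 := mem_of_zpow h2
    obtain ⟨j, hj⟩ : ∃ j, i = 2 * j := ⟨i / 2, by omega⟩
    exact ⟨j, y, hy, by rw [hj]⟩
  have hdiff : ∀ b ∈ B, ∀ b' ∈ B, b ∉ Q0 → b' ∉ Q0 → b⁻¹ * b' ∈ Q0 := by
    intro b hb b' hb' hn hn'
    obtain ⟨j, y, hy, rfl⟩ := key b hb
    obtain ⟨j', y', hy', rfl⟩ := key b' hb'
    have e1 : ∀ k : ℤ, ∀ y ∈ Q0, g0 ^ (2 * k) * y ∉ Q0 → ¬ (4 : ℤ) ∣ 2 * k := fun k y hy h h' =>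
      h (mul_mem (gz_mem h') hy)
    have h1 := e1 j y hy hn
    have h2 := e1 j' y' hy' hn'
    have h3 : (4 : ℤ) ∣ 2 * j' - 2 * j := by omega
    have h4 : (g0 ^ (2 * j) * y)⁻¹ * (g0 ^ (2 * j') * y') = y⁻¹ * g0 ^ (2 * j' - 2 * j) * y' := by
      have h5 : g0 ^ (2 * j' - 2 * j) = (g0 ^ (2 * j))⁻¹ * g0 ^ (2 * j') := by
        rw [← zpow_neg, ← zpow_add]
        congr 1
        ring
      rw [h5]
      group
    rw [h4]
    exact mul_mem (mul_mem (inv_mem hy) (gz_mem h3)) hy'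
  classical
  by_cases hQ : B ≤ Q0
  · exact (card_le_eight hQ hBe).trans (by norm_num)
  · obtain ⟨b0, hb0, hb0Q⟩ : ∃ b0 ∈ B, b0 ∉ Q0 := Set.not_subset.1 hQ
    have h8 := card_le_eight (B := B ⊓ Q0) inf_le_right (hBe.mono inf_le_left)
    have h1 : Nat.card B ≤ Nat.card (Bool × (B ⊓ Q0 : Subgroup Suz)) := by
      refine Nat.card_le_card_of_injective (fun b : B => if h : (b : Suz) ∈ Q0 then (true, ⟨b, ⟨b.2, h⟩⟩) else
        (false, ⟨b0⁻¹ * b, ⟨B.mul_mem (B.inv_mem hb0) b.2, hdiff b0 hb0 b b.2 hb0Q h⟩⟩)) ?_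
      intro b b' h
      dsimp only at h
      split_ifs at h with h1 h2 h2
      · have h3 := congrArg (fun p => ((p.2 : (B ⊓ Q0 : Subgroup Suz)) : Suz)) h
        exact Subtype.ext h3
      · exact absurd (congrArg Prod.fst h) (by simp)
      · exact absurd (congrArg Prod.fst h) (by simp)
      · have h3 := congrArg (fun p => ((p.2 : (B ⊓ Q0 : Subgroup Suz)) : Suz)) h
        exact Subtype.ext (mul_left_cancel h3)
    rw [Nat.card_prod, Nat.card_eq_fintype_card (α := Bool), Fintype.card_bool] at h1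
    omega

theorem center_eq : Subgroup.center Suz = ⊥ := by
  rw [eq_bot_iff]
  intro g hg
  have h1 := Subgroup.mem_center_iff.1 hg
  rcases centralizer_R (g := g) (fun y _ => h1 y) with rfl | rfl
  · exact one_mem _
  · exfalso
    obtain ⟨z1, -, h2, -, g, h3⟩ := exists_conj_outside
    apply h2
    rw [← h3, h1 g, mul_inv_cancel_right]
    exact z_mem

/-- **RK**: `m_2(Aut Suz) ≤ 9`. -/
theorem rk : Rk.RK.{u} Suz 9 := by
  have hfin : Finite Suz := Nat.finite_of_card_ne_zero (by rw [card_Suz]; norm_num)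
  have : Finite (MulAut Suz) := Finite.of_injective (fun φ => (φ : Suz → Suz)) DFunLike.coe_injective
  refine Rk.rk_of_subgroup (e := 14) (t := 9) (m := 4) ?_ T card_T ?_ (by norm_num)
  · apply RowTool.factorization_mulAut center_eq (e := 13)
    · exact Cfsg.Agent.KFacts.SuzOut.out
    · rw [card_Suz]
      by_contra hcon
      have h1 : 2 ^ 14 ∣ 448345497600 := (Nat.prime_two.pow_dvd_iff_le_factorization (by norm_num)).2 (by omega)
      norm_num at h1
  · intro B hB hBe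
    exact card_le_T hB hBe

theorem dead {K : Type u} [Group K] (h : Spor.IsoSuz K) : Dead2.{u} K := by
  obtain ⟨e⟩ := h
  have hfin : Finite Suz := Nat.finite_of_card_ne_zero (by rw [card_Suz]; norm_num)
  exact Dead2.of_lb ((RowTool.toLB lb).equiv e) ((RowTool.toRK center_eq rk).equiv e) (by norm_num)

/-- **the row `Suz` of TABLE 2F** -/
theorem row : KFacts.KillRow.{u} @Spor.IsoSuz := by
  intro K _ h
  have hd := dead h
  obtain ⟨e⟩ := h
  refine hd.kill ?_ ?_
  · rw [eq_bot_iff]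
    intro x hx
    rw [Subgroup.mem_bot]
    have h1 : e x ∈ Subgroup.center _ := by
      rw [Subgroup.mem_center_iff] at hx ⊢
      intro g
      obtain ⟨g, rfl⟩ := e.surjective g
      rw [← map_mul, ← map_mul, hx g]
    rw [center_eq, Subgroup.mem_bot] at h1
    exact e.injective (h1.trans (map_one _).symm)
  · have h1 : Nat.card K = 448345497600 := (Nat.card_congr e.toEquiv).trans card_Suz
    have : Finite K := Nat.finite_of_card_ne_zero (by rw [h1]; norm_num)
    exact Finite.one_lt_card_iff_nontrivial.1 (by rw [h1]; norm_num)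

end Cfsg.Agent.Omega.TwoF.RowSuz
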