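import Cfsg.Agent.Omega.TwoF.HN5.Heis
import Cfsg.Agent.Mrg.Omega.TwoF.Bridge
import Cfsg.Agent.KFacts.HN.Sheet
import Cfsg.Agent.S1701
import Cfsg.Agent.KFacts.HS.Sheet2
import Cfsg.Agent.Omega.Lie.HeisCover

section


set_option autoImplicit false

/-!
# TABLE 2F, row `HN` (helper473)

`LB 36` through an explicit `5^{1+4}` (`Omega.TwoF.HN5`), `RK 16` through the order of the automorphism group.
-/

namespace Cfsg.Agent.Omega.TwoF.RowHN

open Cfsg.Agent.HN.P1408

universe u v w

theorem orderOf_two_five : orderOf (2 : ZMod 5) = 4 := by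
  refine orderOf_eq_prime_pow (p := 2) (n := 1) ?_ ?_ <;> decide

theorem orderOf_two_nineteen : orderOf (2 : ZMod 19) = 18 := by
  refine orderOf_eq_of_pow_and_pow_div_prime (by norm_num) (by decide) ?_
  intro p hp hd
  have h1 : p ∈ Nat.divisors 18 := Nat.mem_divisors.2 ⟨hd, by norm_num⟩
  have h2 : Nat.divisors 18 = {1, 2, 3, 6, 9, 18} := by decide
  rw [h2] at h1
  simp only [Finset.mem_insert, Finset.mem_singleton] at h1
  rcases h1 with rfl | rfl | rfl | rfl | rfl | rfl
  · exact absurd hp (by norm_num)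
  · decide
  · decide
  · exact absurd hp (by norm_num)
  · exact absurd hp (by norm_num)
  · exact absurd hp (by norm_num)

theorem finite_HN : Finite Cfsg.Spor.HN :=
  Nat.finite_of_card_ne_zero (by rw [Cfsg.Agent.S1701.result.2]; norm_num)

theorem lb : Lie.Heis.LB.{0, v, w} Cfsg.Spor.HN 36 := by
  have hs := Cfsg.Agent.S1701.result.1
  have := finite_HN
  refine Lie.Heis.LB.heis (heis hs) (by norm_num) z_ne' (p := 19) (by norm_num) (by norm_num) ?_ ?_ ?_
  · rw [Cfsg.Agent.S1701.result.2]; norm_num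
  · rw [orderOf_two_five]; norm_num
  · rw [orderOf_two_five, orderOf_two_nineteen]; decide

theorem center_eq_bot : Subgroup.center Cfsg.Spor.HN = ⊥ := by
  have hs := Cfsg.Agent.S1701.result.1
  rcases (inferInstance : (Subgroup.center Cfsg.Spor.HN).Normal).eq_bot_or_eq_top with h1 | h1
  · exact h1
  · exfalso
    have h2 : ∀ a c : Cfsg.Spor.HN, a * c = c * a := by
      intro a c
      have h3 : c ∈ Subgroup.center Cfsg.Spor.HN := by rw [h1]; exact Subgroup.mem_top _
      exact Subgroup.mem_center_iff.1 h3 a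
    have h3 := st hs
    rw [h2 sE, mul_inv_cancel_right, eq_comm, mul_eq_left] at h3
    exact z_ne' h3

theorem rk : Rk.RK.{v} Cfsg.Spor.HN 16 := by
  have := finite_HN
  refine Rk.rk_of_elt (e := 15) (k := 0) ?_ 1 (by rw [orderOf_one, pow_zero]) (by norm_num)
  have hc : Nat.card Cfsg.Spor.HN = 2 ^ 14 * 16664484375 := by
    rw [Cfsg.Agent.S1701.result.2]
    norm_num
  rcases Cfsg.Agent.KFacts.HN.out_index with h | h
  · have h1 := Rk.card_mulAut center_eq_bot h
    rw [h1, hc, one_mul, Nat.factorization_mul (by norm_num) (by norm_num),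
      Nat.Prime.factorization_pow Nat.prime_two, Finsupp.add_apply, Finsupp.single_eq_same,
      Nat.factorization_eq_zero_of_not_dvd (by norm_num)]
    norm_num
  · have h1 := Rk.card_mulAut center_eq_bot h
    have h2 : (2 * (2 ^ 14 * 16664484375) : ℕ) = 2 ^ 15 * 16664484375 := by norm_num
    rw [h1, hc, h2, Nat.factorization_mul (by norm_num) (by norm_num),
      Nat.Prime.factorization_pow Nat.prime_two, Finsupp.add_apply, Finsupp.single_eq_same,
      Nat.factorization_eq_zero_of_not_dvd (by norm_num)]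

theorem dead : Dead2.{u} Cfsg.Spor.HN :=
  have := finite_HN
  Dead2.of_lb (LB.of_heis lb) (RK.of_rk center_eq_bot rk) (by norm_num)

/-- **the row `HN` of TABLE 2F** -/
theorem row (K : Type u) [Group K] (h : Cfsg.Spor.IsoHN K) : Kill2.{u} K := by
  obtain ⟨e⟩ := h
  have hs := Cfsg.Agent.S1701.result.1
  exact (dead.kill center_eq_bot inferInstance).equiv e

end Cfsg.Agent.Omega.TwoF.RowHN

end

section


set_option autoImplicit false

/-!
# TABLE 2F, row `HS` (helper473)

`LB 20` through an explicit `5^{1+2}`, `RK 8` through an element of order 8.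
-/

namespace Cfsg.Agent.Omega.TwoF.RowHS

open Cfsg.Agent.HN Cfsg.Agent.HN.Pres Cfsg.Agent.HN.HS100 Cfsg.Agent.HN.H0Basic
open Cfsg.Agent.KFacts.HS Cfsg.Agent.KFacts.HS.Cent
open Cfsg.Agent.HN.P1408 hiding U
open Cfsg.Agent.Omega.Lie.Heis

universe u v w

/-! ### words -/

/-- an element of order 5 -/
def xw : List ℕ := [0, 2, 0, 2, 2, 0, 0]
/-- an element of order 5 -/
def yw : List ℕ := [0, 3, 0, 2, 0, 2, 0, 3, 3]
/-- the commutator -/
def zw : List ℕ := iw xw ++ yw ++ xw ++ iw yw
/-- an element of order 8 -/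
def gw : List ℕ := [0, 2]

theorem xw_mem : hw xw ∈ K := mem_K_of_par (by decide) (by decide)
theorem yw_mem : hw yw ∈ K := mem_K_of_par (by decide) (by decide)
theorem zw_mem : hw zw ∈ K := mem_K_of_par (by decide) (by decide)
theorem gw_mem : hw gw ∈ K := mem_K_of_par (by decide) (by decide)

theorem pow_eq {a : List ℕ} {n : ℕ} (h : eqw (List.replicate n a).flatten [] = true) : hw a ^ n = 1 := by
  have h1 : ∀ n : ℕ, hw (List.replicate n a).flatten = hw a ^ n := by
    intro n
    induction n with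
    | zero => rw [List.replicate_zero, List.flatten_nil, hw_nil, pow_zero]
    | succ n ih => rw [List.replicate_succ, List.flatten_cons, hw_append, ih, pow_succ']
  rw [← h1, hw_eq h, hw_nil]

theorem comm_eq {a c : List ℕ} (h : eqw (a ++ c) (c ++ a) = true) : hw a * hw c = hw c * hw a := by
  rw [← hw_append, ← hw_append]
  exact hw_eq h

theorem z_eq : hw zw = (hw xw)⁻¹ * hw yw * hw xw * (hw yw)⁻¹ := by
  rw [zw, hw_append, hw_append, hw_append, hw_iw, hw_iw]

theorem z5 : hw zw ^ 5 = 1 := pow_eq (by decide +kernel)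
theorem x5 : hw xw ^ 5 = 1 := pow_eq (by decide +kernel)
theorem zx : hw zw * hw xw = hw xw * hw zw := comm_eq (by decide +kernel)
theorem zy : hw zw * hw yw = hw yw * hw zw := comm_eq (by decide +kernel)
theorem z_ne : eqw zw [] = false ∧ eqw zw [0, 0] = false := by decide +kernel
theorem g_ne : eqw [0, 2, 0, 2, 0, 2, 0, 2] [] = false ∧ eqw [0, 2, 0, 2, 0, 2, 0, 2] [0, 0] = false := by decide +kernel
theorem g8 : eqw (List.replicate 8 gw).flatten [] = true := by decide +kernel

/-! ### the Heisenberg configuration -/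

section

variable {L : Type u} [Group L] (D : KFacts.HS.Mod L)

/-- the element `x` -/
def xL : L := D.π ⟨hw xw, xw_mem⟩
/-- the element `y` -/
def yL : L := D.π ⟨hw yw, yw_mem⟩
/-- the element `z` -/
def zL : L := D.π ⟨hw zw, zw_mem⟩
/-- the element of order 8 -/
def gL : L := D.π ⟨hw gw, gw_mem⟩

theorem π_pow (g : K) (n : ℕ) : D.π g ^ n = D.π (g ^ n) := (map_pow D.π g n).symm

theorem heis : Heis 5 1 (zL D) (fun _ => xL D) (fun _ => yL D) where
  prime := by norm_num
  zr := by
    rw [zL, ← map_pow, Mod.π_eq_one]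
    exact Or.inl z5
  xr := fun _ => by
    rw [xL, ← map_pow, Mod.π_eq_one]
    exact Or.inl x5
  zx := fun _ => by
    rw [zL, xL, ← map_mul, ← map_mul]
    exact congrArg D.π (Subtype.ext zx)
  zy := fun _ => by
    rw [zL, yL, ← map_mul, ← map_mul]
    exact congrArg D.π (Subtype.ext zy)
  xx := fun _ _ => rfl
  yx := fun i j h => absurd (Subsingleton.elim i j) h
  conj := fun _ => by
    rw [zL, yL, xL, ← map_inv, ← map_mul, ← map_mul, ← map_mul]
    refine congrArg D.π (Subtype.ext ?_)
    change hw yw * hw xw * (hw yw)⁻¹ = hw xw * hw zw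
    rw [z_eq]
    group

theorem zL_ne : zL D ≠ 1 := by
  rw [zL, Ne, Mod.π_eq_one]
  rintro (h | h)
  · rw [← hw_nil] at h
    exact Bool.noConfusion ((eqw_of_hw_eq (by decide) (by decide) h).symm.trans z_ne.1)
  · rw [← hw_τ] at h
    exact Bool.noConfusion ((eqw_of_hw_eq (by decide) (by decide) h).symm.trans z_ne.2)

theorem orderOf_g : orderOf (gL D) = 2 ^ 3 := by
  apply orderOf_eq_prime_pow
  · intro h
    rw [gL, ← map_pow, Mod.π_eq_one] at h
    have h1 : ((⟨hw gw, gw_mem⟩ : K) ^ 2 ^ 2 : K) = (⟨hw [0, 2, 0, 2, 0, 2, 0, 2], by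
        exact mem_K_of_par (by decide) (by decide)⟩ : K) := by
      apply Subtype.ext
      change hw gw ^ 4 = hw [0, 2, 0, 2, 0, 2, 0, 2]
      have h2 : [0, 2, 0, 2, 0, 2, 0, 2] = gw ++ gw ++ gw ++ gw := rfl
      rw [h2, hw_append, hw_append, hw_append, pow_succ, pow_succ, pow_succ, pow_one]
    rw [h1] at h
    rcases h with h | h
    · change hw _ = 1 at h
      rw [← hw_nil] at h
      exact Bool.noConfusion ((eqw_of_hw_eq (by decide) (by decide) h).symm.trans g_ne.1)
    · change hw _ = τ at h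
      rw [← hw_τ] at h
      exact Bool.noConfusion ((eqw_of_hw_eq (by decide) (by decide) h).symm.trans g_ne.2)
  · rw [gL, ← map_pow, Mod.π_eq_one]
    exact Or.inl (pow_eq g8)

theorem orderOf_two_five : orderOf (2 : ZMod 5) = 4 := by
  refine orderOf_eq_prime_pow (p := 2) (n := 1) ?_ ?_ <;> decide

theorem orderOf_two_eleven : orderOf (2 : ZMod 11) = 10 := by
  refine orderOf_eq_of_pow_and_pow_div_prime (by norm_num) (by decide) ?_
  intro p hp hd
  have h1 : p ∈ Nat.divisors 10 := Nat.mem_divisors.2 ⟨hd, by norm_num⟩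
  have h2 : Nat.divisors 10 = {1, 2, 5, 10} := by decide
  rw [h2] at h1
  simp only [Finset.mem_insert, Finset.mem_singleton] at h1
  rcases h1 with rfl | rfl | rfl | rfl
  · exact absurd hp (by norm_num)
  · decide
  · decide
  · exact absurd hp (by norm_num)

end

theorem simple {L : Type u} [Group L] (h : Cfsg.Spor.IsoHS L) : IsSimpleGroup L := by
  obtain ⟨⟨f⟩, h1⟩ := AutHS.nonempty_Q
  obtain ⟨e⟩ := h
  have hn : Nontrivial L := (f.trans e.symm).symm.toEquiv.nontrivial
  exact IsSimpleGroup.isSimpleGroup_of_surjective (f.trans e.symm).toMonoidHom (f.trans e.symm).surjective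

theorem lb {L : Type u} [Group L] (h : Cfsg.Spor.IsoHS L) : Lie.Heis.LB.{u, v, w} L 20 := by
  obtain ⟨D⟩ := exists_mod h
  have hfin := D.finite
  have hs := simple h
  refine Lie.Heis.LB.heis (heis D) (by norm_num) (zL_ne D) (p := 11) (by norm_num) (by norm_num) ?_ ?_ ?_
  · rw [D.card]; norm_num
  · rw [orderOf_two_five]; norm_num
  · rw [orderOf_two_five, orderOf_two_eleven]; decide

theorem center_eq_bot {L : Type u} [Group L] (h : Cfsg.Spor.IsoHS L) : Subgroup.center L = ⊥ := by
  obtain ⟨D⟩ := exists_mod h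
  have hs := simple h
  rcases (inferInstance : (Subgroup.center L).Normal).eq_bot_or_eq_top with h1 | h1
  · exact h1
  · exfalso
    have h0 : Subgroup.centralizer ({D.z} : Set L) = ⊤ := by
      rw [eq_top_iff]
      intro x _
      rw [Subgroup.mem_centralizer_singleton_iff]
      have h3 : D.z ∈ Subgroup.center L := by rw [h1]; exact Subgroup.mem_top _
      exact Subgroup.mem_center_iff.1 h3 x
    have h2 := D.card_centralizer
    rw [h0, Subgroup.card_top, D.card] at h2
    exact absurd h2 (by norm_num)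

theorem rk {L : Type u} [Group L] (h : Cfsg.Spor.IsoHS L) : Rk.RK.{v} L 8 := by
  obtain ⟨D⟩ := exists_mod h
  have hfin := D.finite
  have h1 := Rk.card_mulAut (center_eq_bot h) (index_inn h)
  rw [D.card] at h1
  refine Rk.rk_of_elt (e := 10) (k := 3) ?_ (gL D) (orderOf_g D) (by norm_num)
  rw [h1]
  have h2 : (2 * 44352000 : ℕ) = 2 ^ 10 * 86625 := by norm_num
  rw [h2, Nat.factorization_mul (by norm_num) (by norm_num), Nat.Prime.factorization_pow Nat.prime_two,
    Finsupp.add_apply, Finsupp.single_eq_same, Nat.factorization_eq_zero_of_not_dvd (by norm_num)]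

theorem dead {L : Type u} [Group L] (h : Cfsg.Spor.IsoHS L) : Dead2.{u} L :=
  have : Finite L := (exists_mod h).elim fun D => D.finite
  Dead2.of_lb (LB.of_heis (lb h)) (RK.of_rk (center_eq_bot h) (rk h)) (by norm_num)

/-- **the row `HS` of TABLE 2F** -/
theorem row (L : Type u) [Group L] (h : Cfsg.Spor.IsoHS L) : Kill2.{u} L :=
  have := simple h
  (dead h).kill (center_eq_bot h) inferInstance

end Cfsg.Agent.Omega.TwoF.RowHS

end
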