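import Cfsg.Agent.Mrg.Omega.TwoF.Scalar
import Cfsg.Agent.Schreier.Tits
import Cfsg.Agent.Omega.TwoF.TitsAut
import Cfsg.Agent.Omega.TwoF.RowTool
import Cfsg.Agent.Omega.EH3.Row
import Cfsg.Agent.KFacts.MulSpor.ONWords
import Cfsg.Prelude.Def_Sporadic

section


/-!
# TABLE 2F: the Tits group, lower bound `2^24` (helper415)

`5² : 4A₄ ≤ ²F₄(2)′` in the matrix model.
-/

set_option autoImplicit false
set_option maxRecDepth 100000

namespace Cfsg.Agent.Omega.TwoF.Tits

open Subgroup Cfsg.Agent.ChevalleyStructure.Tits.Pack Cfsg.Agent.ChevalleyStructure.Tits.Data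
  Cfsg.Agent.ChevalleyStructure.Tits.Sat Cfsg.Agent.ChevalleyStructure.Tits.Final
  Cfsg.Agent.ChevalleyStructure.Tits.Mat Cfsg.Agent.ChevalleyStructure.Tits.Order
  Cfsg.Agent.ChevalleyStructure.Tits.Main
open Cfsg.Agent.Omega.TwoF.Orb Cfsg.Agent.Omega.TwoF.Scalar
open scoped MatrixGroups

universe u

/-- letters below 10 -/
def lt10 (l : List ℕ) : Bool := l.all fun i => Nat.blt i 10

theorem lt10_spec {l : List ℕ} (h : lt10 l = true) : ∀ i ∈ l, i < 10 := by
  intro i hi
  have := List.all_eq_true.1 h i hi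
  rwa [Nat.blt_eq] at this

/-- the value of a word in `²F₄(2)` -/
noncomputable def wH (l : List ℕ) : H0 := (l.map yH).prod

theorem wH_append (u v : List ℕ) : wH (u ++ v) = wH u * wH v := by
  unfold wH; rw [List.map_append, List.prod_append]

theorem wH_nil : wH [] = 1 := rfl

theorem wH_cons (i : ℕ) (l : List ℕ) : wH (i :: l) = yH i * wH l := rfl

theorem coe_wH {l : List ℕ} (h : lt10 l = true) : ((wH l : H0) : GL I52 (ZMod 2)) = (l.map yG).prod :=
  coe_list l (lt10_spec h)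

/-- a checked relation -/
def ck (u v : List ℕ) : Bool := chk (u, v) && (lt10 u && lt10 v)

theorem rel {u v : List ℕ} (h : ck u v = true) : wH u = wH v := by
  rw [ck, Bool.and_eq_true, Bool.and_eq_true] at h
  apply Subtype.ext
  rw [coe_wH h.2.1, coe_wH h.2.2]
  exact rel_of_chk h.1 (fun i hi => (lt10_spec h.2.1 i hi).trans (by norm_num))
    (fun i hi => (lt10_spec h.2.2 i hi).trans (by norm_num))

/-- the Tits group -/
noncomputable abbrev C : Subgroup H0 := commutator H0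

theorem fin_H0 : Finite H0 := Nat.finite_of_card_ne_zero (by rw [card_H0]; norm_num)

theorem mm (a b : H0) : a * b ∈ C ↔ (a ∈ C ↔ b ∈ C) := Subgroup.mul_mem_iff_of_index_two H0_result.1

theorem rl : ∀ p ∈ Schreier.Tits.sqRels, (p.1.map yH).prod = (p.2.map yH).prod :=
  fun _ hp => Schreier.Tits.rel_yH hp

theorem par0 : yH 0 ∈ commutator H0 ∧ yH 1 ∉ commutator H0 ∧ yH 2 ∈ commutator H0 ∧
      yH 3 ∉ commutator H0 ∧ yH 4 ∈ commutator H0 ∧ yH 5 ∉ commutator H0 ∧ yH 6 ∈ commutator H0 ∧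
      yH 7 ∉ commutator H0 := by
  have := fin_H0
  exact Schreier.Tits.parity rl Sat_yH gen_yH card_H0 H0_result.1

/-- parity of a word -/
def par (l : List ℕ) : Bool := List.rec false (fun i _ ih => xor (Nat.blt i 8 && Nat.beq (i % 2) 1) ih) l

theorem log8 (p q : Prop) (hp : p) (h : (q ↔ (p ↔ q)) ↔ (p ↔ (q ↔ p))) : q := by tauto

theorem log9 (p q : Prop) (hp : ¬ p) (h : (q ↔ (p ↔ q)) ↔ (p ↔ (q ↔ (p ↔ p)))) : q := by tauto

theorem yH_mem_iff {i : ℕ} (hi : i < 10) : yH i ∈ C ↔ (Nat.blt i 8 && Nat.beq (i % 2) 1) = false := by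
  obtain ⟨h0, h1, h2, h3, h4, h5, h6, h7⟩ := par0
  have h8 : yH 8 ∈ C := by
    have e : yH 8 * (yH 0 * yH 8) = yH 0 * (yH 8 * yH 0) := by
      have e : wH [8, 0, 8] = wH [0, 8, 0] := rel (by decide +kernel)
      simp only [wH_cons, wH_nil, mul_one] at e
      exact e
    have e1 : yH 8 * (yH 0 * yH 8) ∈ C ↔ yH 0 * (yH 8 * yH 0) ∈ C := by rw [e]
    rw [mm (yH 8) (yH 0 * yH 8), mm (yH 0) (yH 8), mm (yH 0) (yH 8 * yH 0), mm (yH 8) (yH 0)] at e1
    exact log8 _ _ h0 e1
  have h9 : yH 9 ∈ C := by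
    have e : yH 9 * (yH 7 * yH 9) = yH 7 * (yH 9 * (yH 7 * yH 7)) := by
      have e : wH [9, 7, 9] = wH [7, 9, 7, 7] := rel (by decide +kernel)
      simp only [wH_cons, wH_nil, mul_one] at e
      exact e
    have e1 : yH 9 * (yH 7 * yH 9) ∈ C ↔ yH 7 * (yH 9 * (yH 7 * yH 7)) ∈ C := by rw [e]
    rw [mm (yH 9) (yH 7 * yH 9), mm (yH 7) (yH 9), mm (yH 7) (yH 9 * (yH 7 * yH 7)), mm (yH 9) (yH 7 * yH 7),
      mm (yH 7) (yH 7)] at e1
    exact log9 _ _ h7 e1
  interval_cases i
  · exact iff_of_true h0 rfl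
  · exact iff_of_false h1 (by decide)
  · exact iff_of_true h2 rfl
  · exact iff_of_false h3 (by decide)
  · exact iff_of_true h4 rfl
  · exact iff_of_false h5 (by decide)
  · exact iff_of_true h6 rfl
  · exact iff_of_false h7 (by decide)
  · exact iff_of_true h8 rfl
  · exact iff_of_true h9 rfl

theorem wH_mem_iff {l : List ℕ} (h : lt10 l = true) : wH l ∈ C ↔ par l = false := by
  induction l with
  | nil => exact iff_of_true C.one_mem rfl
  | cons i l ih =>
    rw [lt10, List.all_cons, Bool.and_eq_true] at h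
    have h1 := yH_mem_iff (by have := h.1; rwa [Nat.blt_eq] at this : i < 10)
    have h2 := ih h.2
    rw [wH_cons, mm, h1, h2]
    show _ ↔ xor (Nat.blt i 8 && Nat.beq (i % 2) 1) (par l) = false
    cases (Nat.blt i 8 && Nat.beq (i % 2) 1) <;> cases par l <;> simp

theorem wH_mem {l : List ℕ} (h : (lt10 l && !par l) = true) : wH l ∈ C := by
  rw [Bool.and_eq_true, Bool.not_eq_true'] at h
  exact (wH_mem_iff h.1).2 h.2

/-- words for the elements -/
def wa : List ℕ := [9, 7, 7]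
/-- words for the elements -/
def wb : List ℕ := [8, 9, 8, 9, 7, 7, 8, 9, 8]
/-- words for the elements -/
def wt : List ℕ := [0, 7, 7, 4, 1, 7, 0]
/-- words for the elements -/
def wx : ℕ → List ℕ
  | 0 => []
  | 1 => [8, 9, 8]
  | 2 => [1, 5, 5, 5, 8, 9, 8, 9, 8, 0, 5, 7, 0]
  | 3 => [8, 0, 7, 9, 8, 7, 9, 8, 0, 7, 3, 0]
  | 4 => [1, 1, 8, 0, 7, 7, 7, 9, 8, 4, 9, 0, 8, 4, 1, 1, 1]
  | _ => [0, 2, 8, 0, 9, 8, 9, 8, 7, 9, 8, 7, 0, 7, 9, 8, 1]

/-- the element `a` -/
noncomputable def a : C := ⟨wH wa, wH_mem (by decide +kernel)⟩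
/-- the element `b` -/
noncomputable def b : C := ⟨wH wb, wH_mem (by decide +kernel)⟩
/-- the element `t` -/
noncomputable def t : C := ⟨wH wt, wH_mem (by decide +kernel)⟩

theorem wx_mem (k : Fin 6) : wH (wx k) ∈ C := by
  have h : ∀ k : Fin 6, (lt10 (wx k) && !par (wx k)) = true := by decide +kernel
  exact wH_mem (h k)

/-- the six elements -/
noncomputable def x (k : Fin 6) : C := ⟨wH (wx k), wx_mem k⟩

/-- the word of `a^i b^j` -/
def wab (i j : ℕ) : List ℕ := (List.replicate i wa).flatten ++ (List.replicate j wb).flatten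

theorem wH_rep (l : List ℕ) (n : ℕ) : wH (List.replicate n l).flatten = wH l ^ n := by
  induction n with
  | zero => rfl
  | succ n ih => rw [List.replicate_succ, List.flatten_cons, wH_append, ih, pow_succ']

theorem coe_ab (i j : ℕ) : ((a ^ i * b ^ j : C) : H0) = wH (wab i j) := by
  rw [wab, wH_append, wH_rep, wH_rep]; rfl

theorem a5 : a ^ 5 = 1 := by
  apply Subtype.ext
  have h := coe_ab 5 0
  rw [pow_zero, mul_one] at h
  rw [h]
  exact rel (v := []) (by decide +kernel)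

theorem b5 : b ^ 5 = 1 := by
  apply Subtype.ext
  have h := coe_ab 0 5
  rw [pow_zero, one_mul] at h
  rw [h]
  exact rel (v := []) (by decide +kernel)

theorem comm_ab : a * b = b * a := by
  apply Subtype.ext
  show wH wa * wH wb = wH wb * wH wa
  rw [← wH_append, ← wH_append]
  exact rel (by decide +kernel)

theorem a1 : a ≠ 1 := by
  intro h
  have h1 : ((a : H0) : GL I52 (ZMod 2)) = 1 := by rw [h]; rfl
  have h2 : ((a : H0) : GL I52 (ZMod 2)) = (wa.map yG).prod := coe_wH (by decide)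
  have h3 := not_mem_cert (c := ([], [1], [9, 7, 7])) (by decide +kernel)
  apply h3
  rw [h2] at h1
  have h4 : ((([] : List (List ℕ)), [1], [9, 7, 7]).2.2.map yG).prod = (wa.map yG).prod := rfl
  rw [h4, h1]
  exact Subgroup.one_mem _

theorem b1 : b ∉ zpowers a := by
  intro h
  have h3 := not_mem_cert (c := ([[9, 7, 7]], [2164260865], [8, 9, 8, 9, 7, 7, 8, 9, 8])) (by decide +kernel)
  apply h3
  have h2 : ((a : H0) : GL I52 (ZMod 2)) = (wa.map yG).prod := coe_wH (by decide)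
  have h2' : ((b : H0) : GL I52 (ZMod 2)) = (wb.map yG).prod := coe_wH (by decide)
  have h4 : (([[9, 7, 7]], [2164260865], [8, 9, 8, 9, 7, 7, 8, 9, 8]) : List (List ℕ) × List ℕ × List ℕ).2.2 = wb := rfl
  rw [h4, ← h2']
  obtain ⟨n, hn⟩ := mem_zpowers_iff.1 h
  have h5 : ((b : H0) : GL I52 (ZMod 2)) = (wa.map yG).prod ^ n := by
    rw [← hn, ← h2]; rfl
  rw [h5]
  exact zpow_mem (Subgroup.subset_closure (show (wa.map yG).prod ∈ {g | ∃ v ∈ ([[9, 7, 7]] : List (List ℕ)),
    g = (List.map yG v).prod} from ⟨[9, 7, 7], by simp, rfl⟩)) n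

theorem two : Two a b := ⟨a5, b5, comm_ab, a1, b1⟩

theorem ta : t * a * t⁻¹ = a ^ 2 := by
  rw [mul_inv_eq_iff_eq_mul]
  apply Subtype.ext
  have h := coe_ab 2 0
  rw [pow_zero, mul_one] at h
  rw [coe_mul, coe_mul, h]
  show wH wt * wH wa = _ * wH wt
  rw [← wH_append, ← wH_append]
  exact rel (by decide +kernel)

theorem tb : t * b * t⁻¹ = b ^ 2 := by
  rw [mul_inv_eq_iff_eq_mul]
  apply Subtype.ext
  have h := coe_ab 0 2
  rw [pow_zero, one_mul] at h
  rw [coe_mul, coe_mul, h]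
  show wH wt * wH wb = _ * wH wt
  rw [← wH_append, ← wH_append]
  exact rel (by decide +kernel)

/-- exponents of `x k b (x k)⁻¹` -/
def pb : Fin 6 → ℕ := ![0, 1, 2, 1, 1, 2]
/-- exponents of `x k b (x k)⁻¹` -/
def qb : Fin 6 → ℕ := ![1, 0, 3, 3, 2, 2]
/-- exponents of `t⁻¹ (x k)⁻¹ t x k` -/
def pe : Fin 6 → ℕ := ![0, 0, 0, 0, 0, 2]

theorem chk_all : ∀ k : Fin 6, (ck (wx k ++ wa) (wab (px k) (qx k) ++ wx k) &&
    (ck (wx k ++ wb) (wab (pb k) (qb k) ++ wx k) && ck (wt ++ wx k) (wx k ++ (wt ++ wab (pe k) (pe k))))) = true := by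
  decide +kernel

theorem x_a (k : Fin 6) : x k * a * (x k)⁻¹ = a ^ px k * b ^ qx k := by
  have h := chk_all k
  rw [Bool.and_eq_true] at h
  have h1 := rel h.1
  rw [mul_inv_eq_iff_eq_mul]
  apply Subtype.ext
  rw [coe_mul, coe_mul, coe_ab]
  rw [wH_append, wH_append] at h1
  exact h1

theorem x_b (k : Fin 6) : x k * b * (x k)⁻¹ = a ^ pb k * b ^ qb k := by
  have h := chk_all k
  rw [Bool.and_eq_true, Bool.and_eq_true] at h
  have h1 := rel h.2.1
  rw [mul_inv_eq_iff_eq_mul]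
  apply Subtype.ext
  rw [coe_mul, coe_mul, coe_ab]
  rw [wH_append, wH_append] at h1
  exact h1

theorem x_t (k : Fin 6) : (x k)⁻¹ * t * x k = t * (a ^ pe k * b ^ pe k) := by
  have h := chk_all k
  rw [Bool.and_eq_true, Bool.and_eq_true] at h
  have h1 := rel h.2.2
  rw [mul_assoc, inv_mul_eq_iff_eq_mul]
  apply Subtype.ext
  rw [coe_mul, coe_mul, coe_mul, coe_ab]
  rw [wH_append, wH_append, wH_append] at h1
  exact h1

theorem good (k : Fin 6) : Good (grp two) t (x k) := by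
  refine ⟨cj_eq_of_le (cj_le_iff ?_), _, ⟨_, _, rfl⟩, x_t k⟩
  rintro _ ⟨i, j, rfl⟩
  have e : x k * (a ^ i * b ^ j) * (x k)⁻¹ = (x k * a * (x k)⁻¹) ^ i * (x k * b * (x k)⁻¹) ^ j := by
    rw [conj_pow, conj_pow]; group
  rw [e, x_a, x_b]
  exact mul_mem (pow_mem (show _ ∈ grp two from ⟨_, _, rfl⟩) _) (pow_mem (show _ ∈ grp two from ⟨_, _, rfl⟩) _)

theorem lb_C : LB.{u} C 24 := by
  have : IsSimpleGroup C := H0_result.2.1
  exact lb_five two ta tb (n := fun _ => 1) (fun _ => by decide) good (fun k => by rw [pow_one]; exact x_a k)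

theorem lb_aux (K : Subgroup (GL I52 (ZMod 2))) (hK : K = H0) : LB.{u} (commutator K) 24 := by
  subst hK
  exact lb_C

theorem lb : LB.{u} Cfsg.Lie.TitsGroup 24 := lb_aux (Cfsg.Lie.twistedF4 (ZMod 2) 1) T0_eq_H0

end Cfsg.Agent.Omega.TwoF.Tits

end

section


/-!
# TABLE 2F: the row of the Tits group (helper415)

`lb : LB K 24`, `rk : RK K 9` (an element of order 16, `|Aut K|₂ = 2^12`), `dead : Dead2 K`, `row : RowEH3 K`.
-/

set_option autoImplicit false
set_option maxRecDepth 100000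

namespace Cfsg.Agent.Omega.TwoF.RowTits

open Subgroup Cfsg.Agent.ChevalleyStructure.Tits.Pack Cfsg.Agent.ChevalleyStructure.Tits.Data
  Cfsg.Agent.ChevalleyStructure.Tits.Cert
  Cfsg.Agent.ChevalleyStructure.Tits.Sat Cfsg.Agent.ChevalleyStructure.Tits.Final
  Cfsg.Agent.ChevalleyStructure.Tits.Mat Cfsg.Agent.ChevalleyStructure.Tits.Order
  Cfsg.Agent.ChevalleyStructure.Tits.Main
open Cfsg.Agent.Omega.TwoF.Tits
open scoped MatrixGroups

universe u v

/-- a word of order 16 -/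
def wg : List ℕ := [8, 1, 5]

theorem wg_pow (n : ℕ) : wH wg ^ n = wH (List.replicate n wg).flatten := (wH_rep wg n).symm

theorem pow16 : wH wg ^ 16 = 1 := by
  rw [wg_pow]
  exact rel (v := []) (by decide +kernel)

theorem pow8 : wH wg ^ 8 ≠ 1 := by
  intro h
  rw [wg_pow] at h
  have h1 : ((wH (List.replicate 8 wg).flatten : H0) : GL I52 (ZMod 2)) = 1 := by rw [h]; rfl
  have h2 := coe_wH (l := (List.replicate 8 wg).flatten) (by decide)
  have h3 := not_mem_of_chk (ws := []) (O := [1]) (w := (List.replicate 8 wg).flatten) (by decide +kernel)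
    (by intro v hv; exact absurd hv (List.not_mem_nil)) (by decide)
  apply h3
  rw [← h2, h1]
  exact Subgroup.one_mem _

theorem exists_sixteen : ∃ g : C, orderOf g = 2 ^ 4 := by
  have : Fact (Nat.Prime 2) := ⟨Nat.prime_two⟩
  refine ⟨⟨wH wg, wH_mem (by decide +kernel)⟩, ?_⟩
  refine orderOf_eq_prime_pow (p := 2) (n := 3) (fun h => pow8 ?_) (Subtype.ext pow16)
  have h1 := congrArg (fun q : C => (q : H0)) h
  exact h1

theorem sixteen_aux (T : Subgroup (GL I52 (ZMod 2))) (hT : T = H0) : ∃ g : commutator T, orderOf g = 2 ^ 4 := by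
  subst hT
  exact exists_sixteen

theorem sixteen_of {G K : Type*} [Group G] [Group K] (T : Subgroup G) (h : ∃ g : commutator T, orderOf g = 2 ^ 4)
    (e : K ≃* commutator T) : ∃ g : K, orderOf g = 2 ^ 4 := by
  obtain ⟨g, hg⟩ := h
  exact ⟨e.symm g, by rw [MulEquiv.orderOf_eq]; exact hg⟩

theorem lb_of {G : Type*} {K : Type v} [Group G] [Group K] (T : Subgroup G) (h : LB.{u} (commutator T) 24)
    (e : K ≃* commutator T) : LB.{u} K 24 := h.equiv e

section Row

variable {K : Type v} [Group K] (h : Cfsg.Lie.IsoTits K)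

include h

theorem sixteen : ∃ g : K, orderOf g = 2 ^ 4 := by
  obtain ⟨T, hT, ⟨e⟩⟩ := TitsAut.exists_equiv h
  exact sixteen_of T (sixteen_aux T hT) e

/-- **the lower bound** -/
theorem lb : LB.{u} K 24 := by
  obtain ⟨T, hT, ⟨e⟩⟩ := TitsAut.exists_equiv h
  exact lb_of T (lb_aux T hT) e

theorem factorization : (Nat.card (MulAut K)).factorization 2 ≤ 12 := by
  have := TitsAut.finite_iso h
  by_contra hcon
  apply TitsAut.not_dvd_iso h
  exact (Nat.prime_two.pow_dvd_iff_le_factorization Nat.card_pos.ne').2 (by omega)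

/-- the 2-rank of the automorphism group, in the form of `Rk` -/
theorem rk' : Rk.RK.{u} K 9 := by
  have := TitsAut.finite_iso h
  obtain ⟨g, hg⟩ := sixteen h
  exact Rk.rk_of_elt (factorization h) g hg (by norm_num)

/-- **the 2-rank of the automorphism group is at most 9** -/
theorem rk : RK K 9 := by
  have := TitsAut.finite_iso h
  exact RowTool.toRK (TitsAut.center_iso h) (rk' h)

/-- **the row of the Tits group** -/
theorem dead : Dead2.{u} K := Dead2.of_lb (lb h) (rk h) (by norm_num)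

theorem kill : Kill2.{u} K := by
  have := TitsAut.simple_iso h
  exact (dead h).kill (TitsAut.center_iso h) inferInstance

theorem row : EH3.RowEH3.{u} K := by
  have := TitsAut.simple_iso h
  exact EH3.RowEH3.of_dead (TitsAut.center_iso h) (dead h)

end Row

end Cfsg.Agent.Omega.TwoF.RowTits

end

section


/-!
# TABLE 2F: the row O'N (helper416)

`|V| ≥ 2 ^ 18` (the prime 19), `m_2(Aut O'N) ≤ 7` (`|Aut O'N|₂ ≤ 2 ^ 10`, an element of order 16).
-/

set_option autoImplicit false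
set_option maxRecDepth 100000

namespace Cfsg.Agent.Omega.TwoF.RowON

open Subgroup
open Cfsg.Spor (ON IsoON)
open Cfsg.Spor.ON (Gen)
open Cfsg.Agent.Lib.PackMat Cfsg.Agent.SporadicB.ON45Data Cfsg.Agent.SporadicB.ON45Rels
  Cfsg.Agent.SporadicB.ON45Word Cfsg.Agent.SporadicB.ONHom Cfsg.Agent.SporadicB.ON45Core
open Cfsg.Agent.KFacts.MulSpor.ON (w w_append w_one w_cons iw w_iw okw rel eqw)

universe u v

/-- an element of order 16 -/
def g16 : ON := w [.b, .d, .g, .c, .g]

theorem g16_pow (hs : IsSimpleGroup ON) : g16 ^ 8 = on .f := by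
  have h1 := eqw hs [.b, .d, .g, .c, .g, .b, .d, .g, .c, .g, .b, .d, .g, .c, .g, .b, .d, .g, .c, .g,
    .b, .d, .g, .c, .g, .b, .d, .g, .c, .g, .b, .d, .g, .c, .g, .b, .d, .g, .c, .g] [.f] (by decide +kernel)
  rw [w_one] at h1
  rw [← h1, g16]
  simp only [pow_succ, pow_zero, one_mul, ← w_append]
  rfl

theorem f_ne : on .f ≠ 1 :=
  (LW.gen .f).ne_one 0 3 (by decide) (by decide +kernel)

theorem orderOf_g16 (hs : IsSimpleGroup ON) : orderOf g16 = 2 ^ 4 := by
  apply orderOf_eq_prime_pow (n := 3)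
  · rw [show 2 ^ 3 = 8 by norm_num, g16_pow hs]
    exact f_ne
  · rw [show 2 ^ (3 + 1) = 8 * 2 by norm_num, pow_mul, g16_pow hs, pow_two]
    have h := rel hs [.f, .f] (by decide +kernel)
    rw [w_cons, w_one] at h
    exact h

theorem ord19 : orderOf (2 : ZMod 19) = 18 := by
  rw [orderOf_eq_iff (by norm_num)]
  refine ⟨by decide +kernel, ?_⟩
  intro m hm hm0
  interval_cases m <;> decide +kernel

section

variable (hON : Cfsg.IsON ON)

include hON

theorem card_eq : Nat.card ON = 460815505920 := hON.2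

theorem finite : Finite ON := Nat.finite_of_card_ne_zero (by rw [hON.2]; norm_num)

theorem center_eq : center ON = ⊥ := not_comm_of_isON hON

theorem factorization_card : (Nat.card ON).factorization 2 ≤ 9 := by
  rw [hON.2]
  by_contra hcon
  have h1 : 2 ^ 10 ∣ 460815505920 :=
    (Nat.prime_two.pow_dvd_iff_le_factorization (by norm_num)).2 (by omega)
  norm_num at h1

/-- **LB**: `|V| ≥ 2 ^ 18`. -/
theorem lb : Cfsg.Agent.Omega.Lie.Heis.LB.{0, u, v} ON 18 := by
  have := hON.1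
  have := finite hON
  have : Fact (Nat.Prime 19) := ⟨by norm_num⟩
  refine Cfsg.Agent.Omega.Lie.Heis.LB.prime (p := 19) (by norm_num) (by norm_num) ?_ ?_
  · rw [hON.2]; norm_num
  · exact ord19.ge

variable (hout : ¬ 4 ∣ (MulAut.conj : ON →* MulAut ON).range.index)

include hout

/-- **RK**: `m_2(Aut O'N) ≤ 7`. -/
theorem rk : Rk.RK.{u} ON 7 := by
  have := hON.1
  have := finite hON
  exact Rk.rk_of_elt (e := 10) (k := 4)
    (RowTool.factorization_mulAut (center_eq hON) hout (factorization_card hON)) g16 (orderOf_g16 hON.1) (by norm_num)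

/-- **Row O'N of TABLE 2F.** -/
theorem dead2 : Dead2.{u} ON := by
  have := finite hON
  exact RowTool.dead (center_eq hON) (lb hON) (rk hON hout) (by norm_num)

end

end Cfsg.Agent.Omega.TwoF.RowON

end
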