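import Cfsg.Agent.Mrg.Omega.TwoF.RowLU
import Cfsg.Agent.Mrg.Omega.TwoF.RowPSp
import Cfsg.Agent.KFacts.LargeSheet
import Cfsg.Agent.LargeExtra.Perp
import Cfsg.Agent.KFacts.CoTwo.RFin
import Cfsg.Agent.Co2Type.CardCo2

section


/-!
# TABLE 2F: groups with a large extraspecial 2-subgroup (helper416)

For helper756's `LargeSheet.Data Q z L π` (`C_K(z)/Q ≅ L`, `|Q| ≤ 2 ^ (2w+1)`) with `m_2(L) ≤ l`:
* `rk_of_data` : `RK K (w + 1 + l)`;
* `kill2_of_data` : `Kill2 K` if `2 ^ (3 (w + 1 + l) + 2) ≤ |K : C_K(z)|`.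
-/

set_option autoImplicit false

namespace Cfsg.Agent.Omega.TwoF.LargeRk

open Subgroup Cfsg.Agent.Co2Type.Quad Cfsg.Agent.LargeExtra
open Cfsg.Agent.KFacts.LargeSheet (Data)

universe u v

variable {K : Type v} [Group K] {Q : Subgroup K} {z : K}

theorem comm_of_el {B : Subgroup K} (h : Rk.El B) {a b : K} (ha : a ∈ B) (hb : b ∈ B) : a * b = b * a := by
  have h1 : (a * b)⁻¹ = a * b := inv_eq_of_mul_eq_one_left (h _ (mul_mem ha hb))
  have h2 : a⁻¹ = a := inv_eq_of_mul_eq_one_left (h _ ha)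
  have h3 : b⁻¹ = b := inv_eq_of_mul_eq_one_left (h _ hb)
  rw [mul_inv_rev, h2, h3] at h1
  exact h1.symm

/-- elementary abelian subgroups of an extraspecial group of order `2 ^ (2w + 1)` -/
theorem card_le_of_large [Finite K] (h : Large Q z) {w : ℕ} (hw : Nat.card Q ≤ 2 ^ (2 * w + 1)) {B : Subgroup K}
    (hB : B ≤ Q) (hBe : Rk.El B) : Nat.card B ≤ 2 ^ (w + 1) := by
  let g : B →* Multiplicative h.V :=
    { toFun := fun x => Multiplicative.ofAdd (h.pr ⟨x, hB x.2⟩)
      map_one' := by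
        rw [← ofAdd_zero]
        exact congrArg _ h.pr_one
      map_mul' := fun x y => by
        rw [← ofAdd_add]
        exact congrArg _ (h.pr_mul ⟨x, hB x.2⟩ ⟨y, hB y.2⟩) }
  have hker : Nat.card g.ker ≤ 2 := by
    have h1 : ∀ x : g.ker, ((x : B) : K) = 1 ∨ ((x : B) : K) = z := by
      intro x
      have h2 : h.pr ⟨(x : B), hB (x : B).2⟩ = 0 := x.2
      exact h.pr_eq_zero.1 h2
    classical
    have h2 : Nat.card g.ker ≤ Nat.card Bool := by
      refine Nat.card_le_card_of_injective (fun x => decide (((x : B) : K) = 1)) ?_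
      intro x y hxy
      have h3 : (((x : B) : K) = 1) ↔ (((y : B) : K) = 1) := by simpa using hxy
      apply Subtype.ext
      apply Subtype.ext
      rcases h1 x with hx | hx
      · rw [hx, h3.1 hx]
      · rcases h1 y with hy | hy
        · rw [hy, h3.2 hy]
        · rw [hx, hy]
    simpa using h2
  let W := Local.sub h B
  have hran : Nat.card g.range ≤ Nat.card W := by
    refine Nat.card_le_card_of_injective (fun x => (⟨Multiplicative.toAdd (x : Multiplicative h.V), by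
      obtain ⟨b, hb⟩ := x.2
      exact ⟨⟨b, hB b.2⟩, b.2, by rw [← hb]; rfl⟩⟩ : W)) ?_
    intro x y hxy
    have h5 := congrArg (fun w : W => (w : h.V)) hxy
    exact Subtype.ext h5
  have hiso : ∀ v ∈ W, ∀ w ∈ W, h.b v w = 0 := by
    rintro _ ⟨x, hx, rfl⟩ _ ⟨y, hy, rfl⟩
    rw [h.b_pr]
    exact comm_of_el hBe hx hy
  have h1 := Perp.card_sq_le h W hiso
  have h2 := h.card_eq
  have h3 := g.ker.card_mul_index
  rw [index_ker] at h3
  have h4 : Nat.card B ≤ 2 * Nat.card W := by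
    rw [← h3]
    exact Nat.mul_le_mul hker hran
  have h5 : Nat.card B ^ 2 ≤ (2 ^ (w + 1)) ^ 2 := by
    calc Nat.card B ^ 2 ≤ (2 * Nat.card W) ^ 2 := Nat.pow_le_pow_left h4 2
      _ = 4 * (Nat.card W * Nat.card W) := by ring
      _ ≤ 4 * Nat.card h.V := Nat.mul_le_mul_left _ h1
      _ = 2 * Nat.card Q := by rw [h2]; ring
      _ ≤ 2 * 2 ^ (2 * w + 1) := Nat.mul_le_mul_left _ hw
      _ = (2 ^ (w + 1)) ^ 2 := by ring
  exact (Nat.pow_le_pow_iff_left (by norm_num)).1 h5

section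

variable {L : Type*} [Group L] {π : centralizer ({z} : Set K) →* L}

/-- elementary abelian subgroups of `C_K(z)` -/
theorem card_le_of_cent [Finite K] (D : Data Q z L π) {w l : ℕ} (hw : Nat.card Q ≤ 2 ^ (2 * w + 1))
    (hL : ∀ B : Subgroup L, Rk.El B → Nat.card B ≤ 2 ^ l) {B : Subgroup K} (hB : B ≤ centralizer ({z} : Set K))
    (hBe : Rk.El B) : Nat.card B ≤ 2 ^ (w + 1 + l) := by
  let g : B →* L := π.comp (inclusion hB)
  have h1 := g.ker.card_mul_index
  rw [index_ker] at h1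
  have hk : Nat.card g.ker ≤ 2 ^ (w + 1) := by
    have h2 : Nat.card (g.ker.map B.subtype) = Nat.card g.ker :=
      (Nat.card_congr (g.ker.equivMapOfInjective _ B.subtype_injective).toEquiv).symm
    rw [← h2]
    refine card_le_of_large D.large hw ?_ ?_
    · rintro _ ⟨x, hx, rfl⟩
      exact (D.ker _).1 (show π (inclusion hB x) = 1 from hx)
    · rintro _ ⟨x, hx, rfl⟩
      exact hBe x x.2
  have hr : Nat.card g.range ≤ 2 ^ l := by
    apply hL
    rintro _ ⟨x, rfl⟩
    rw [← map_mul]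
    have : x * x = 1 := Subtype.ext (hBe x x.2)
    rw [this, map_one]
  rw [← h1, pow_add]
  exact Nat.mul_le_mul hk hr

theorem center_eq (D : Data Q z L π) : center K = ⊥ := by
  rw [eq_bot_iff]
  intro x hx
  rw [mem_center_iff] at hx
  have h1 : x ∈ centralizer ({z} : Set K) := mem_centralizer_singleton_iff.2 (hx z).symm
  rcases D.mem_center (c := ⟨x, h1⟩) (fun d => Subtype.ext (hx d).symm) with h | h
  · exact congrArg Subtype.val h
  · exfalso
    have h2 : x = z := congrArg Subtype.val h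
    obtain ⟨n₀, -, h3, -⟩ := D.gen
    apply h3
    rw [← h2, hx n₀, mul_inv_cancel_right]

theorem rk_of_data [Finite K] [IsSimpleGroup L] (D : Data Q z L π) {w l : ℕ} (hw : Nat.card Q ≤ 2 ^ (2 * w + 1))
    (hL : ∀ B : Subgroup L, Rk.El B → Nat.card B ≤ 2 ^ l) : Rk.RK.{u} K (w + 1 + l) := by
  have : Fact (Nat.Prime 2) := ⟨Nat.prime_two⟩
  have hc := center_eq D
  have htop : (MulAut.conj : K →* MulAut K).range = ⊤ := by
    rw [MonoidHom.range_eq_top]
    intro α
    obtain ⟨k, hk⟩ := D.inner α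
    exact ⟨k, hk.symm⟩
  have hcard : Nat.card (MulAut K) = Nat.card K := by
    rw [Rk.card_mulAut hc (n := 1) (by rw [htop, index_top]), one_mul]
  obtain ⟨S₁⟩ : Nonempty (Sylow 2 (centralizer ({z} : Set K))) := inferInstance
  have hT : Nat.card ((S₁ : Subgroup (centralizer ({z} : Set K))).map (centralizer ({z} : Set K)).subtype) =
      2 ^ (Nat.card K).factorization 2 := by
    rw [← Nat.card_congr ((S₁ : Subgroup (centralizer ({z} : Set K))).equivMapOfInjective _
      (centralizer ({z} : Set K)).subtype_injective).toEquiv, S₁.card_eq_multiplicity]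
    congr 1
    rw [← (centralizer ({z} : Set K)).card_mul_index, Nat.factorization_mul Nat.card_pos.ne' index_ne_zero_of_finite,
      Finsupp.add_apply]
    have h1 : (centralizer ({z} : Set K)).index.factorization 2 = 0 :=
      Nat.factorization_eq_zero_of_not_dvd (by
        have := D.odd
        rw [Nat.odd_iff] at this
        omega)
    rw [h1, add_zero]
  refine Rk.rk_of_subgroup (e := (Nat.card K).factorization 2) (m := w + 1 + l) (by rw [hcard])
    ((S₁ : Subgroup (centralizer ({z} : Set K))).map (centralizer ({z} : Set K)).subtype) hT ?_ (by omega)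
  intro B hB hBe
  exact card_le_of_cent D hw hL (hB.trans (map_subtype_le _)) hBe

/-- **The counting kill for `LargeSheet.Data`.** -/
theorem kill2_of_data [Finite K] [IsSimpleGroup L] (D : Data Q z L π) {w l : ℕ} (hw : Nat.card Q ≤ 2 ^ (2 * w + 1))
    (hL : ∀ B : Subgroup L, Rk.El B → Nat.card B ≤ 2 ^ l)
    (hn : 2 ^ (3 * (w + 1 + l) + 2) ≤ (centralizer ({z} : Set K)).index) : Kill2.{u} K := by
  have hc := center_eq D
  have htop : (MulAut.conj : K →* MulAut K).range = ⊤ := by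
    rw [MonoidHom.range_eq_top]
    intro α
    obtain ⟨k, hk⟩ := D.inner α
    exact ⟨k, hk.symm⟩
  obtain ⟨S, -, -, hS⟩ := D.sheet.syl
  exact Count.kill2 hc (by rw [htop, index_top]; norm_num) ⟨S, hS⟩ D.large.z_ne (RowTool.toRK hc (rk_of_data D hw hL)) hn

end

end Cfsg.Agent.Omega.TwoF.LargeRk

end

section


/-!
# `m_2(Co2) ≤ 13` (helper865)

The Sylow 2-subgroup `T` of `Spor.Co2` (order `2 ^ 18`), its normal extraspecial subgroup `R` (order `2 ^ 9`) and an
element of `T` whose square is not in `R`. (The exact rank is 10; the bound is enough for the row of the Baby Monster.)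
-/

set_option autoImplicit false

namespace Cfsg.Agent.Omega.TwoF.CoTwoRk

open Subgroup Cfsg Cfsg.Agent.SporadicStructure.M24El Cfsg.Agent.SporadicA.GolayPerm Cfsg.Agent.Co2Type.Mono
open Cfsg.Agent.Co2Type.TGroup Cfsg.Agent.Co2Type.TData Cfsg.Agent.Co2Type.FactsD Cfsg.Agent.Co2Type.TCard
open Cfsg.Agent.KFacts.CoTwo.MPerf Cfsg.Agent.KFacts.CoTwo.RSub Cfsg.Agent.KFacts.CoTwo.RLarge
open Cfsg.Agent.KFacts.CoTwo.RData Cfsg.Agent.KFacts.CoTwo.RFin

theorem chkSq : (L22.any fun Q => !(memL (pcomp Q Q) R16)) = true := by decide +kernel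

theorem exists_sq : ∃ s ∈ T, s * s ∉ R := by
  obtain ⟨Q, hQ, h⟩ := List.any_eq_true.1 chkSq
  refine ⟨mo2 0 Q, ⟨0, Q, inE_zero, hQ, rfl⟩, ?_⟩
  rw [mul_zero' (okP_of_mem hQ) (okP_of_mem hQ)]
  intro hR
  obtain ⟨m, Q', hm, hQ', e⟩ := mem_R_iff.1 hR
  have h1 := (mo2_injT inE_zero (mem_S32_iff.1 hm).1 (pcomp_mem hQ hQ) (mem_L22_of_R16 hQ') e).2
  rw [h1, memL_iff.2 hQ'] at h
  exact absurd h (by simp)

/-- elementary abelian subgroups of the Sylow 2-subgroup `T` -/
theorem card_le_T [Finite Spor.Co2] {B : Subgroup Spor.Co2} (hB : B ≤ T) (hBe : Rk.El B) : Nat.card B ≤ 2 ^ 13 := by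
  have hn : (R.subgroupOf T).Normal := by
    refine ⟨fun n h g => ?_⟩
    rw [mem_subgroupOf] at h ⊢
    exact conj_mem (T_le_P g.2) h
  obtain ⟨s, hs, hsR⟩ := exists_sq
  let g : B →* T ⧸ R.subgroupOf T := (QuotientGroup.mk' (R.subgroupOf T)).comp (inclusion hB)
  have h1 := g.ker.card_mul_index
  rw [index_ker] at h1
  have hk : Nat.card g.ker ≤ 2 ^ 5 := by
    have h2 : Nat.card (g.ker.map B.subtype) = Nat.card g.ker :=
      (Nat.card_congr (g.ker.equivMapOfInjective _ B.subtype_injective).toEquiv).symm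
    rw [← h2]
    refine LargeRk.card_le_of_large large (w := 4) (by rw [card_R]) ?_ ?_
    · rintro _ ⟨x, hx, rfl⟩
      have h3 : QuotientGroup.mk' (R.subgroupOf T) (inclusion hB x) = 1 := hx
      rw [← MonoidHom.mem_ker, QuotientGroup.ker_mk'] at h3
      exact h3
    · rintro _ ⟨x, hx, rfl⟩
      exact hBe x x.2
  have hq : Nat.card (T ⧸ R.subgroupOf T) = 2 ^ 9 := by
    have h4 := (R.subgroupOf T).card_mul_index
    rw [card_T, Nat.card_congr (subgroupOfEquivOfLe (R_le_T)).toEquiv, card_R] at h4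
    rw [← Subgroup.index]
    omega
  have hr : Nat.card g.range ≤ 2 ^ 8 := by
    have h5 := Subgroup.card_subgroup_dvd_card g.range
    rw [hq] at h5
    obtain ⟨k, hk9, hk⟩ := (Nat.dvd_prime_pow Nat.prime_two).1 h5
    rw [hk]
    apply Nat.pow_le_pow_right (by norm_num)
    by_contra hcon
    have h9 : k = 9 := by omega
    subst h9
    have htop : g.range = ⊤ := by
      apply Subgroup.eq_top_of_card_eq
      rw [hk, hq]
    have hm : QuotientGroup.mk' (R.subgroupOf T) ⟨s, hs⟩ ∈ g.range := by rw [htop]; exact mem_top _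
    obtain ⟨b, hb⟩ := hm
    have h6 : QuotientGroup.mk' (R.subgroupOf T) (⟨s, hs⟩ * ⟨s, hs⟩) = 1 := by
      rw [map_mul, ← hb, ← map_mul]
      have : b * b = 1 := Subtype.ext (hBe b b.2)
      rw [this, map_one]
    rw [← MonoidHom.mem_ker, QuotientGroup.ker_mk'] at h6
    exact hsR h6
  rw [← h1]
  calc Nat.card g.ker * Nat.card g.range ≤ 2 ^ 5 * 2 ^ 8 := Nat.mul_le_mul hk hr
    _ = 2 ^ 13 := by norm_num

/-- **`m_2(Co2) ≤ 13`.** -/
theorem card_le {B : Subgroup Spor.Co2} (hBe : Rk.El B) : Nat.card B ≤ 2 ^ 13 := by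
  have : Finite Spor.Co2 := Nat.finite_of_card_ne_zero (by rw [Cfsg.Agent.Co2Type.CardCo2.card_co2]; norm_num)
  have hT : IsPGroup 2 T := IsPGroup.of_card card_T
  have h1 := Rk.card_mul_le hBe hT (m := 2 ^ 13) fun C hC hCe => card_le_T hC hCe
  have h2 : (Nat.card Spor.Co2).factorization 2 ≤ 18 := by
    rw [Cfsg.Agent.Co2Type.CardCo2.card_co2]
    by_contra hcon
    have h2 : 2 ^ 19 ∣ 42305421312000 :=
      (Nat.prime_two.pow_dvd_iff_le_factorization (by norm_num)).2 (by omega)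
    norm_num at h2
  rw [card_T] at h1
  have h3 : Nat.card B * 2 ^ 18 ≤ 2 ^ 18 * 2 ^ 13 :=
    h1.trans (Nat.mul_le_mul_right _ (Nat.pow_le_pow_right (by norm_num) h2))
  omega

theorem card_le_of_equiv {L : Type*} [Group L] (e : L ≃* Spor.Co2) {B : Subgroup L} (hB : Rk.El B) :
    Nat.card B ≤ 2 ^ 13 := by
  rw [Nat.card_congr (B.equivMapOfInjective e.toMonoidHom e.injective).toEquiv]
  exact card_le (hB.map _)

end Cfsg.Agent.Omega.TwoF.CoTwoRk

end
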