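import Cfsg.Agent.Mrg.Omega.Quasithin.Row.E27
import Cfsg.Agent.Mrg.Omega.TwoF.RkB
import Cfsg.Agent.Omega.TwoF.RowTool
import Cfsg.Agent.Omega.KFacts
import Cfsg.Agent.KFacts.Baby.RowB


/-!
# TABLE 2F: the row of the Baby Monster (helper865)

`LB B 54` (helper416) and `RK B 25` (`RkB.rk_model`), `54 > 2 * 25 + 2`.
-/

set_option autoImplicit false

namespace Cfsg.Agent.Omega.TwoF.RowB

open Subgroup Cfsg Cfsg.Agent.BabyM Cfsg.Agent.BabyM.Model Cfsg.Agent.BabyU.ClosModel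
open Cfsg.Agent.BabyU.ClosLane

universe u

theorem iso_model : Nonempty (Inst.M.G ≃* Cfsg.Spor.BabyMonster) :=
  Cfsg.Agent.KFacts.Baby.RowB.exists_iso ⟨MulEquiv.refl _⟩

theorem finite : Finite Cfsg.Spor.BabyMonster := by
  obtain ⟨e⟩ := iso_model
  have := A.finite_G
  exact Finite.of_equiv _ e.toEquiv

theorem rk : Rk.RK.{u} Cfsg.Spor.BabyMonster 25 := by
  obtain ⟨e⟩ := iso_model
  exact RkB.rk_model.of_equiv e

theorem nonab : ∃ a b : Cfsg.Spor.BabyMonster, a * b ≠ b * a := by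
  obtain ⟨e⟩ := iso_model
  obtain ⟨n₀, -, h3, -⟩ := (Cfsg.Agent.KFacts.Baby.Sheet.data Cfsg.Agent.KFacts.CoTwo.InnerB.inner Cfsg.Agent.KFacts.Baby.Row.fix).gen
  refine ⟨e n₀, e (zz A), fun h => h3 ?_⟩
  rw [← map_mul, ← map_mul] at h
  rw [e.injective h, mul_inv_cancel_right]

theorem center_eq : center Cfsg.Spor.BabyMonster = ⊥ := by
  have := Cfsg.Agent.KFacts.Baby.RowB.simple_B
  rcases (inferInstance : (center Cfsg.Spor.BabyMonster).Normal).eq_bot_or_eq_top with h | h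
  · exact h
  · exfalso
    obtain ⟨a, b, hab⟩ := nonab
    have h1 : b ∈ center Cfsg.Spor.BabyMonster := by rw [h]; exact mem_top _
    exact hab (mem_center_iff.1 h1 a)

theorem dead2 : Dead2.{u} Cfsg.Spor.BabyMonster := by
  have := finite
  have := Cfsg.Agent.KFacts.Baby.RowB.simple_B
  exact RowTool.dead center_eq (RowBLB.lb fun h => by
    obtain ⟨a, b, hab⟩ := nonab
    exact hab (h a b)) rk (by norm_num)

/-- **Row B of TABLE 2F.** -/
theorem row : KFacts.KillRow.{u} @Cfsg.Spor.IsoB := by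
  rintro K _ ⟨e⟩
  have := Cfsg.Agent.KFacts.Baby.RowB.simple_B
  exact (dead2.kill center_eq inferInstance).equiv e

end Cfsg.Agent.Omega.TwoF.RowB
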