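import Cfsg.Agent.Mrg.Omega.TwoF.LargeRk
import Cfsg.Agent.Omega.KFacts
import Cfsg.Agent.KFacts.Th.Main


/-!
# TABLE 2F: the row Th (helper416)

`m_2(Th) ≤ 9` (`C(z)/Q = A9`, `|Q| = 2 ^ 9`) and `|Th : C(z)| = 976841775 ≥ 2 ^ 29`: the counting kill.
-/

set_option autoImplicit false

namespace Cfsg.Agent.Omega.TwoF.RowTh

open Subgroup
open Cfsg.Spor (Th)
open Cfsg.Agent.Th.Base Cfsg.Agent.KFacts.Th.Main Cfsg.Agent.KFacts.Th.Struct Cfsg.Agent.KFacts.Th.Mask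

universe u

theorem kill2 : Kill2.{u} Th := by
  have := finite
  have hs : IsSimpleGroup (alternatingGroup (Fin 9)) := alternatingGroup.isSimpleGroup (by simp)
  obtain ⟨π, D⟩ := exists_data ctx
  refine LargeRk.kill2_of_data D (w := 4) (l := 4) ?_ ?_ ?_
  · rw [ctx.cardQ]
    norm_num
  · intro B hB
    exact PermRank.card_le_alt B hB
  · rw [ctx.cent, ctx.index_eq]
    norm_num

/-- **Row Th of TABLE 2F.** -/
theorem row : KFacts.KillRow.{u} @Cfsg.Spor.IsoTh := by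
  rintro K _ ⟨e⟩
  exact kill2.equiv e

end Cfsg.Agent.Omega.TwoF.RowTh
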