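import Cfsg.Agent.McLType.Model
import Cfsg.Agent.Mrg.Omega.TwoF.SmallSporLB


/-!
# The McLaughlin group: `LB McL 20`

A nonabelian group of order `5 ^ 3` in the model of `McLType/Model.lean`.
-/

set_option autoImplicit false
set_option Elab.async false

universe u v w

namespace Cfsg.Agent.Omega.TwoF

open Cfsg Cfsg.Agent.McLType.Model Cfsg.Agent.McLType.X275 Cfsg.Agent.McLType.Gens
open Cfsg.Agent.SporadicStructure.PermChain Cfsg.Agent.Omega.Lie.Heis

theorem m_mul_m (k : Fin 7) : m k * m k = 1 := by
  have h : ∀ k : Fin 7, idCheck [k, k] = true := by decide +kernel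
  have := word_m (h k)
  simpa using this

theorem prod_reverse (w : List (Fin 7)) : (w.reverse.map m).prod = (w.map m).prod⁻¹ := by
  induction w with
  | nil => simp
  | cons k w ih =>
    rw [List.reverse_cons, List.map_append, List.prod_append, ih]
    simp only [List.map_cons, List.map_nil, List.prod_cons, List.prod_nil, mul_one, mul_inv_rev]
    congr 1
    exact eq_inv_of_mul_eq_one_left (m_mul_m k)

/-- `z`. -/
def wz : List (Fin 7) := [5, 4, 2, 3, 1, 0]
/-- `x`. -/
def wx : List (Fin 7) := [6, 3, 4, 5, 3, 1, 2] ++ [6, 4, 5, 0] ++ [2, 1, 3, 5, 4, 3, 6]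
/-- `y`. -/
def wy : List (Fin 7) := [0, 6, 3, 6, 5, 3, 2] ++ [6, 0, 5] ++ [2, 3, 5, 6, 3, 6, 0]

theorem pow_word (w : List (Fin 7)) (n : ℕ) : ((List.replicate n w).flatten.map m).prod = (w.map m).prod ^ n := by
  induction n with
  | zero => simp
  | succ n ih => rw [List.replicate_succ, List.flatten_cons, List.map_append, List.prod_append, ih, pow_succ']

theorem heis_McL : Heis 5 1 ((wz.map m).prod : G1) (fun _ : Fin 1 => (wx.map m).prod)
    (fun _ : Fin 1 => (wy.map m).prod) where
  prime := by norm_num
  zr := by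
    rw [← pow_word]; exact word_m (by decide +kernel)
  xr := fun _ => by
    rw [← pow_word]; exact word_m (by decide +kernel)
  zx := fun _ => by
    have h := word_m (w := wz ++ wx ++ wz.reverse ++ wx.reverse) (by decide +kernel)
    simp only [List.map_append, List.prod_append, prod_reverse] at h
    exact mul_inv_eq_one.1 (by rw [mul_inv_rev, ← mul_assoc]; exact h) |>.trans rfl
  zy := fun _ => by
    have h := word_m (w := wz ++ wy ++ wz.reverse ++ wy.reverse) (by decide +kernel)
    simp only [List.map_append, List.prod_append, prod_reverse] at h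
    exact mul_inv_eq_one.1 (by rw [mul_inv_rev, ← mul_assoc]; exact h)
  xx := fun _ _ => rfl
  yx := fun i j hij => absurd (Subsingleton.elim i j) hij
  conj := fun _ => by
    have h := word_m (w := wy ++ wx ++ wy.reverse ++ wz.reverse ++ wx.reverse) (by decide +kernel)
    simp only [List.map_append, List.prod_append, prod_reverse] at h
    exact mul_inv_eq_one.1 (by rw [mul_inv_rev, ← mul_assoc]; exact h)

theorem z_ne : ((wz.map m).prod : G1) ≠ 1 := by
  intro h
  have h1 := congrArg ψ h
  rw [map_list_prod, map_one, List.map_map] at h1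
  have h2 : (ψ ∘ m) = σ := funext ψ_m
  rw [h2] at h1
  have h3 := evalWord_σ wz 0
  rw [h1] at h3
  have h4 : ¬ (0 = evalWord 9 tabs (wz.map (fun k => (k : ℕ))) 0) := by decide +kernel
  exact h4 h3

theorem ord_5 : 4 ≤ orderOf (2 : ZMod 5) :=
  le_orderOf_two (isOfFinOrder_iff_pow_eq_one.2 ⟨4, by norm_num, by decide⟩) (by decide)

theorem ord_5' : orderOf (2 : ZMod 5) = 4 :=
  le_antisymm (orderOf_le_of_pow_eq_one (by norm_num) (by decide)) ord_5

theorem ord_11' : orderOf (2 : ZMod 11) = 10 :=
  le_antisymm (orderOf_le_of_pow_eq_one (by norm_num) (by decide)) ord_11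

theorem lb_G1 : LB.{0, v, w} G1 20 := by
  refine LB.heis (p := 11) heis_McL (by norm_num) z_ne (by norm_num) (by norm_num) ?_ ?_ ?_
  · rw [card_G1]; norm_num
  · rw [ord_5']; norm_num
  · rw [ord_5', ord_11']; decide

/-- `McL`: every nontrivial action of an odd perfect cover on a finite abelian `2`-group has degree at least `20`. -/
theorem lb_McL {K : Type u} [Group K] (h : Spor.IsoMcL K) : LB.{u, v, w} K 20 := by
  obtain ⟨e⟩ := h
  obtain ⟨e1⟩ := isoMcL_G1
  exact lb_G1.congr (e1.trans e.symm)

end Cfsg.Agent.Omega.TwoF
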