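import Cfsg.Agent.Mrg.Omega.TwoF.SignLift
import Cfsg.Agent.Omega.TwoF.Defs
import Cfsg.Agent.Mrg.Omega.TwoF.Bridge
import Cfsg.Agent.Mrg.Omega.Lie.CenOrthB
import Cfsg.Agent.Omega.KFacts
import Cfsg.Agent.ClassicalGeometry.Eichler
import Cfsg.Agent.ClassicalGeometry.SiegelGen
import Cfsg.Agent.ClassicalGeometry.SpinorSign
import Cfsg.Agent.ClassicalGeometry.GenReflections
import Cfsg.Agent.ClassicalGeometry.ReflClass
import Cfsg.Agent.Mrg.Omega.Lie.HeisF

section


/-!
# Elementary abelian `2`-subgroups of the automorphism groups of the simple orthogonal groups, `q` odd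

`RK` of `PΩ_{2m+1}(q)` (`m ≥ 3`), `PΩ⁺_{2m}(q)`, `PΩ⁻_{2m}(q)` (`m ≥ 4`), `q` odd: `dim V` (`dim V - 1` from the
similarities modulo scalars, plus one field automorphism).
-/

set_option autoImplicit false
set_option linter.unusedSectionVars false

namespace Cfsg.Agent.Omega.TwoF.RkPOm

open QuadraticMap Cfsg.Agent.LieClassical.OrthCore Cfsg.Agent.LieClassical.OrthTrans
  Cfsg.Agent.Omega.TwoF.RkLin Cfsg.Agent.Omega.TwoF.RkPSL Cfsg.Agent.ClassicalGeometry.OrthSemi
  Cfsg.Agent.ClassicalGeometry.OrthSemiForms Cfsg.Agent.LieClassical.OrthForms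

variable {I : Type} [Fintype I] [DecidableEq I] {F : Type*} [Field F] [Finite F]
  {Q : QuadraticForm F (I → F)}

omit [DecidableEq I] in
theorem finite_E (Q : QuadraticForm F (I → F)) : Finite (↥(E Q) ⧸ Subgroup.center ↥(E Q)) := by
  have h1 : Finite ((I → F) ≃ₗ[F] (I → F)) :=
    Finite.of_injective (fun f : (I → F) ≃ₗ[F] (I → F) => (f : (I → F) → (I → F))) DFunLike.coe_injective
  have h2 : Finite ↥(E Q) := Subtype.finite
  exact Quotient.finite _

instance : Finite (MulAut (↥(E Q) ⧸ Subgroup.center ↥(E Q))) :=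
  haveI := finite_E Q
  finite_mulAut _

/-- the linear map of a similarity -/
def lin {g : Equiv.Perm (I → F)} {c : F} (h : IsSS Q (RingEquiv.refl F) c g) : (I → F) ≃ₗ[F] (I → F) :=
  { g with
    map_add' := h.add
    map_smul' := h.smul }

/-- the matrix of a similarity -/
noncomputable def mat {g : Equiv.Perm (I → F)} {c : F} (h : IsSS Q (RingEquiv.refl F) c g) :
    Matrix.GeneralLinearGroup I F where
  val := LinearMap.toMatrix' (lin h).toLinearMap
  inv := LinearMap.toMatrix' (lin h).symm.toLinearMap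
  val_inv := by
    rw [← LinearMap.toMatrix'_comp, LinearEquiv.comp_coe, LinearEquiv.symm_trans_self]
    exact LinearMap.toMatrix'_id
  inv_val := by
    rw [← LinearMap.toMatrix'_comp, LinearEquiv.comp_coe, LinearEquiv.self_trans_symm]
    exact LinearMap.toMatrix'_id

open Matrix in
theorem mat_mulVec {g : Equiv.Perm (I → F)} {c : F} (h : IsSS Q (RingEquiv.refl F) c g) (v : I → F) :
    (mat h : Matrix I I F) *ᵥ v = g v :=
  LinearMap.toMatrix'_mulVec _ v

theorem isSS_congr {g : Equiv.Perm (I → F)} {σ τ : F ≃+* F} {l k : F} (h : IsSS Q σ l g)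
    (hσ : σ = τ) (hl : l = k) : IsSS Q τ k g := by
  subst hσ; subst hl; exact h

theorem exists_scal (hG : Good Q) {M : Gam Q} (h : Psi Q M = 1) : ∃ a : Fˣ, ∀ v, M.1 v = (a : F) • v := by
  have h1 : M ∈ (Psi Q).ker := h
  rw [ker_Psi hG] at h1
  obtain ⟨a, rfl⟩ := h1
  exact ⟨a, fun v => scal_apply a v⟩

open Matrix in
/-- Similarities only. -/
theorem card_linear (hG : Good Q) (h2 : (2 : F) ≠ 0) (hI : 1 ≤ Fintype.card I)
    (A : Subgroup (MulAut (↥(E Q) ⧸ Subgroup.center ↥(E Q)))) (hA : ∀ x ∈ A, x * x = 1)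
    (h : ∀ x ∈ A, ∃ (M : Gam Q) (c : F), IsSS Q (RingEquiv.refl F) c M.1 ∧ Psi Q M = x) :
    Nat.card A ≤ 2 ^ rk (Fintype.card I) := by
  choose g l hg hx using fun a : A => h a.1 a.2
  refine card_le_matrix h2 (ι := I) rfl hI
    (fun a => mat (hg a)) ?_ (fun a => Subtype.ext (hA a.1 a.2)) ?_
  · intro a b
    have h1 : Psi Q ((g (a * b))⁻¹ * (g a * g b)) = 1 := by
      rw [map_mul, map_inv, map_mul, hx, hx, hx]
      exact inv_mul_cancel _
    obtain ⟨c, hc⟩ := exists_scal hG h1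
    refine ⟨c, ?_⟩
    apply Matrix.mulVec_injective
    funext v
    rw [← Matrix.mulVec_mulVec, mat_mulVec, mat_mulVec, Matrix.smul_mulVec, mat_mulVec]
    have h3 : (g a).1 ((g b).1 v) = (g (a * b)).1 (((g (a * b))⁻¹ * (g a * g b)).1 v) := by
      show _ = (g (a * b)).1 (((g (a * b)).1)⁻¹ ((g a).1 ((g b).1 v)))
      rw [Cfsg.Agent.ClassicalGeometry.OrthSemi.apply_inv]
    rw [h3, hc, (hg (a * b)).smul]
    rfl
  · rintro a ⟨c, hc⟩
    apply Subtype.ext
    rw [← hx a]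
    have h3 : ∀ v : I → F, (g a).1 v = c • v := by
      intro v
      rw [← mat_mulVec (hg a), hc, Matrix.smul_mulVec, Matrix.one_mulVec]
    show Psi Q (g a) = 1
    obtain ⟨i⟩ : Nonempty I := Fintype.card_pos_iff.1 hI
    have hc0 : c ≠ 0 := by
      rintro rfl
      have h4 : (g a).1 (Pi.single i 1) = (g a).1 0 := by rw [h3, h3, zero_smul, zero_smul]
      have h5 := congrFun ((g a).1.injective h4) i
      rw [Pi.single_eq_same] at h5
      exact one_ne_zero h5
    have h6 : g a ∈ (Psi Q).ker := by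
      rw [ker_Psi hG]
      refine ⟨Units.mk0 c hc0, Subtype.ext ?_⟩
      ext1 v
      rw [scal_apply, h3]
      rfl
    exact h6

/-- the square of the field automorphism -/
theorem field_sq (hG : Good Q) (hI : 1 ≤ Fintype.card I) {M : Gam Q} {σ : F ≃+* F} {l : F}
    (h : IsSS Q σ l M.1) (hg : Psi Q M * Psi Q M = 1) : σ * σ = 1 := by
  rw [← map_mul] at hg
  obtain ⟨a, ha⟩ := exists_scal hG hg
  have h1 := h.mul h
  obtain ⟨i⟩ : Nonempty I := Fintype.card_pos_iff.1 hI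
  ext t
  have h3 := h1.smul t (Pi.single i 1)
  have h4 : ∀ v, (M.1 * M.1) v = (a : F) • v := ha
  rw [h4, h4] at h3
  have h5 := congrFun h3 i
  simp only [Pi.smul_apply, Pi.single_eq_same, smul_eq_mul, mul_one] at h5
  have h6 : (a : F) ≠ 0 := a.ne_zero
  have h7 : t = (σ.trans σ) t := mul_left_cancel₀ h6 (by rw [h5, mul_comm])
  exact h7.symm

/-- **An elementary abelian 2-group of semisimilarities modulo scalars.** -/
theorem card_range (hG : Good Q) (h2 : (2 : F) ≠ 0) (hI : 1 ≤ Fintype.card I)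
    (A : Subgroup (MulAut (↥(E Q) ⧸ Subgroup.center ↥(E Q)))) (hA : ∀ x ∈ A, x * x = 1)
    (hr : ∀ x ∈ A, x ∈ (Psi Q).range) : Nat.card A ≤ 2 ^ (rk (Fintype.card I) + 1) := by
  have hex : ∀ x ∈ A, ∃ (g : Gam Q) (σ : F ≃+* F) (l : F), IsSS Q σ l g.1 ∧ Psi Q g = x := by
    intro x hx
    obtain ⟨g, hg⟩ := hr x hx
    obtain ⟨σ, l, h⟩ := g.2
    exact ⟨g, σ, l, h, hg⟩
  let P : Subgroup (MulAut (↥(E Q) ⧸ Subgroup.center ↥(E Q))) :=
    { carrier := {x | ∃ (g : Gam Q) (l : F), IsSS Q (RingEquiv.refl F) l g.1 ∧ Psi Q g = x}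
      mul_mem' := by
        rintro _ _ ⟨g, l, h, rfl⟩ ⟨g', l', h', rfl⟩
        exact ⟨g * g', _, h.mul h', map_mul _ _ _⟩
      one_mem' := by
        refine ⟨1, 1, ⟨one_ne_zero, fun _ _ => rfl, fun _ _ => rfl, fun _ => ?_⟩, map_one _⟩
        rw [one_mul]; rfl
      inv_mem' := by
        rintro _ ⟨g, l, h, rfl⟩
        exact ⟨g⁻¹, _, h.inv, map_inv _ _⟩ }
  have h1 : Nat.card A ≤ 2 * Nat.card (A ⊓ P : Subgroup _) := by
    apply card_le_two_mul
    intro x hx hxn y hy hyn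
    obtain ⟨g, σ, l, h, rfl⟩ := hex x hx
    obtain ⟨g', σ', l', h', rfl⟩ := hex y hy
    have hσ : σ * σ = 1 := field_sq hG hI h (hA _ hx)
    have hσ' : σ' * σ' = 1 := field_sq hG hI h' (hA _ hy)
    have hσ1 : σ ≠ 1 := by
      rintro rfl
      exact hxn ⟨hx, g, l, h, rfl⟩
    have hσ1' : σ' ≠ 1 := by
      rintro rfl
      exact hyn ⟨hy, g', l', h', rfl⟩
    have hσσ := field_inv_unique hσ hσ' hσ1 hσ1'
    refine ⟨mul_mem hx hy, g * g', _, isSS_congr (h.mul h') ?_ rfl, map_mul _ _ _⟩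
    rw [← hσσ]
    exact hσ
  have h3 := card_linear hG h2 hI (A ⊓ P) (fun x hx => hA x hx.1) (by
    rintro x ⟨-, g, l, h, hx⟩
    exact ⟨g, l, h, hx⟩)
  rw [pow_succ]
  omega

/-- `RK` if all automorphisms come from semisimilarities. -/
theorem rk_of_surjective (hG : Good Q) (h2 : (2 : F) ≠ 0) (hI : 1 ≤ Fintype.card I)
    (hs : Function.Surjective (Psi Q)) :
    RK (↥(E Q) ⧸ Subgroup.center ↥(E Q)) (rk (Fintype.card I) + 1) :=
  RK.of_mul_self fun A hA => card_range hG h2 hI A hA fun x _ => hs x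

/-- `RK` if the semisimilarities have odd index. -/
theorem rk_of_odd (hG : Good Q) (h2 : (2 : F) ≠ 0) (hI : 1 ≤ Fintype.card I)
    (hs : ¬ 2 ∣ (Psi Q).range.index) :
    RK (↥(E Q) ⧸ Subgroup.center ↥(E Q)) (rk (Fintype.card I) + 1) := by
  have : Fact (Nat.Prime 2) := ⟨Nat.prime_two⟩
  refine RK.of_mul_self fun A hA => ?_
  have hp : IsPGroup 2 A := fun a => ⟨1, Subtype.ext (by
    rw [pow_one, pow_two]
    exact hA a a.2)⟩
  obtain ⟨S, hS⟩ := hp.exists_le_sylow
  let T : Sylow 2 (Psi Q).range := default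
  obtain ⟨R, hR⟩ := (T.isPGroup'.map (Psi Q).range.subtype).exists_le_sylow
  have hRle : (R : Subgroup (MulAut (↥(E Q) ⧸ Subgroup.center ↥(E Q)))) ≤ (Psi Q).range := by
    have h1 : Nat.card (T.1.map (Psi Q).range.subtype : Subgroup _) = Nat.card T :=
      Nat.card_congr (T.1.equivMapOfInjective (Psi Q).range.subtype (Subgroup.subtype_injective _)).toEquiv.symm
    have h3 : Nat.card T = 2 ^ (Nat.card (Psi Q).range).factorization 2 := T.card_eq_multiplicity
    have h4 : Nat.card R = 2 ^ (Nat.card (MulAut (↥(E Q) ⧸ Subgroup.center ↥(E Q)))).factorization 2 :=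
      R.card_eq_multiplicity
    have h5 : (Nat.card (MulAut (↥(E Q) ⧸ Subgroup.center ↥(E Q)))).factorization 2 =
        (Nat.card (Psi Q).range).factorization 2 := by
      rw [← Subgroup.card_mul_index (Psi Q).range, Nat.factorization_mul Nat.card_pos.ne'
        Subgroup.FiniteIndex.index_ne_zero, Finsupp.add_apply,
        Nat.factorization_eq_zero_of_not_dvd hs, add_zero]
    have h6 : (T.1.map (Psi Q).range.subtype : Subgroup _) = R := by
      apply Subgroup.eq_of_le_of_card_ge hR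
      rw [h1, h3, h4, h5]
    rw [← h6]
    exact Subgroup.map_subtype_le _
  obtain ⟨g, hg⟩ := MulAction.exists_smul_eq (MulAut (↥(E Q) ⧸ Subgroup.center ↥(E Q))) S R
  set A' := A.map (MulAut.conj g).toMonoidHom with hA'
  have h7 : A' ≤ (R : Subgroup _) := by
    rw [← hg]
    rintro _ ⟨a, ha, rfl⟩
    exact ⟨a, hS ha, rfl⟩
  have h8 : Nat.card A' = Nat.card A :=
    Nat.card_congr (A.equivMapOfInjective (MulAut.conj g).toMonoidHom (MulAut.conj g).injective).toEquiv.symm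
  rw [← h8]
  refine card_range hG h2 hI A' ?_ fun x hx => hRle (h7 hx)
  rintro _ ⟨a, ha, rfl⟩
  rw [← map_mul, hA a ha, map_one]

/-! ### The three families -/

section families

variable {F : Type*} [Field F] [Finite F]

omit [Field F] [Finite F] in
theorem rk_sub {n : ℕ} (hn : 5 ≤ n) : rk n + 1 = n := by
  rw [rk, if_neg (by omega)]
  omega

/-- `PΩ_{2m+1}(q)`: `RK (2m + 1)`. -/
theorem odd {m : ℕ} (hm : 3 ≤ m) (h2 : (2 : F) ≠ 0) : RK (Cfsg.POmega F (Cfsg.quadFormOdd m F)) (2 * m + 1) := by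
  have := Fintype.ofFinite F
  have hG := good_odd (F := F) (m := m) (by omega) h2
  have h1 := rk_of_surjective hG h2 (by simp) (Cfsg.Agent.AutOrth.Final.surjective_odd hm h2)
  have h3 := RK.equiv (pomegaEquiv hG) h1
  rw [coe_oddForm] at h3
  refine h3.mono ?_
  simp only [Fintype.card_sum, Fintype.card_fin, Fintype.card_unit]
  rw [rk_sub (by omega)]
  omega

/-- `PΩ⁻_{2m}(q)`: `RK (2m)`. -/
theorem minus {m : ℕ} (hm : 4 ≤ m) (h2 : (2 : F) ≠ 0) (a b : F)
    (hab : ∀ z₁ z₂ : F, z₁ ^ 2 + a * z₁ * z₂ + b * z₂ ^ 2 = 0 → z₁ = 0 ∧ z₂ = 0) :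
    RK (Cfsg.POmega F (Cfsg.quadFormMinus (m - 1) F a b)) (2 * m) := by
  have := Fintype.ofFinite F
  have hG := good_minus (F := F) (m := m - 1) (by omega) a b hab
  have h1 := rk_of_surjective hG h2 (by simp) (Cfsg.Agent.AutOrth.Final.surjective_minus (by omega) hab)
  have h3 := RK.equiv (pomegaEquiv hG) h1
  rw [coe_minusForm] at h3
  refine h3.mono ?_
  simp only [Fintype.card_sum, Fintype.card_fin]
  rw [rk_sub (by omega)]
  omega

/-- `PΩ⁺_{2m}(q)`: `RK (2m)`. -/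
theorem plus {m : ℕ} (hm : 4 ≤ m) (h2 : (2 : F) ≠ 0) : RK (Cfsg.POmega F (Cfsg.quadFormPlus m F)) (2 * m) := by
  have := Fintype.ofFinite F
  have hG := good_plus (F := F) (m := m) (by omega)
  have h1 : RK (↥(E (plusForm m F)) ⧸ Subgroup.center ↥(E (plusForm m F)))
      (rk (Fintype.card (Fin m ⊕ Fin m)) + 1) := by
    have hI : 1 ≤ Fintype.card (Fin m ⊕ Fin m) := by
      rw [Fintype.card_sum, Fintype.card_fin]
      omega
    rcases Nat.eq_or_lt_of_le hm with h | h
    · subst h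
      refine rk_of_odd hG h2 hI ?_
      rw [Cfsg.Agent.AutOrth.Final.index_plus_four]
      norm_num
    · exact rk_of_surjective hG h2 hI (Cfsg.Agent.AutOrth.Final.surjective_plus h)
  have h3 := RK.equiv (pomegaEquiv hG) h1
  rw [coe_plusForm] at h3
  refine h3.mono ?_
  simp only [Fintype.card_sum, Fintype.card_fin]
  rw [rk_sub (by omega)]
  omega

end families

end Cfsg.Agent.Omega.TwoF.RkPOm

end

section


/-!
# TABLE 2F: the rows `PΩ_{2m+1}(q)`, `PΩ⁺_{2m}(q)`, `PΩ⁻_{2m}(q)`, `q` odd, from the lower bounds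

`RK` is `RkPOm`; the lower bound (helper238: `ord_p(2) q^(n-4)`, `n` the dimension) is an input, consumed in the weak
form `2 · 3^(n-4)`.
-/

set_option autoImplicit false

namespace Cfsg.Agent.Omega.TwoF.RowPOm

open QuadraticMap Cfsg.Agent.LieClassical.OrthCore Cfsg.Agent.LieClassical.OrthTrans Cfsg.Agent.LieClassical.OrthSimple
  Cfsg.Agent.ClassicalGeometry.OrthSemi Cfsg.Agent.LieClassical.OrthForms
  Cfsg.Agent.ClassicalGeometry.OrthSemiForms

universe u v

theorem center_eq_bot {I : Type} [Fintype I] [DecidableEq I] {F : Type*} [Field F]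
    {Q : QuadraticForm F (I → F)} (hG : Good Q) :
    Subgroup.center (↥(E Q) ⧸ Subgroup.center ↥(E Q)) = ⊥ := by
  have hs : IsSimpleGroup (↥(E Q) ⧸ Subgroup.center ↥(E Q)) := good_isSimpleGroup hG
  rcases IsSimpleGroup.eq_bot_or_eq_top_of_normal (Subgroup.center (↥(E Q) ⧸ Subgroup.center ↥(E Q)))
    inferInstance with h1 | h1
  · exact h1
  · exfalso
    have h2 : commutator (↥(E Q) ⧸ Subgroup.center ↥(E Q)) = ⊥ := by
      rw [eq_bot_iff, commutator_def, Subgroup.commutator_le]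
      intro a _ b _
      rw [Subgroup.mem_bot, commutatorElement_eq_one_iff_mul_comm]
      have h3 : b ∈ Subgroup.center (↥(E Q) ⧸ Subgroup.center ↥(E Q)) := by
        rw [h1]
        exact Subgroup.mem_top _
      exact Subgroup.mem_center_iff.1 h3 a
    have h4 : commutator (↥(E Q) ⧸ Subgroup.center ↥(E Q)) = ⊤ := by
      have h5 := Subgroup.map_commutator (⊤ : Subgroup ↥(E Q)) ⊤ (QuotientGroup.mk' (Subgroup.center ↥(E Q)))
      rw [← MonoidHom.range_eq_map, MonoidHom.range_eq_top.2 (QuotientGroup.mk'_surjective _)] at h5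
      rw [commutator_def, ← h5]
      have h6 : ⁅(⊤ : Subgroup ↥(E Q)), ⊤⁆ = ⊤ := commutator_E hG
      rw [h6, ← MonoidHom.range_eq_map, MonoidHom.range_eq_top.2 (QuotientGroup.mk'_surjective _)]
    rw [h2] at h4
    exact bot_ne_top h4

/-- the criterion for `PΩ` -/
theorem kill_of {I : Type} [Fintype I] [DecidableEq I] {F : Type v} [Field F]
    {Q : QuadraticForm F (I → F)} (hG : Good Q) {n a : ℕ} (hr : RK (Cfsg.POmega F ⇑Q) a)
    (hl : LB.{u, v} (Cfsg.POmega F ⇑Q) n) (h : 2 * a + 2 < n) : Kill2.{u, v} (Cfsg.POmega F ⇑Q) := by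
  have hs : IsSimpleGroup (↥(E Q) ⧸ Subgroup.center ↥(E Q)) := good_isSimpleGroup hG
  refine (Dead2.of_lb hl hr h).kill ?_ ?_
  · have e := pomegaEquiv hG
    rw [eq_bot_iff]
    intro x hx
    have h1 : e x ∈ Subgroup.center (↥(E Q) ⧸ Subgroup.center ↥(E Q)) := by
      rw [Subgroup.mem_center_iff] at hx ⊢
      intro g
      obtain ⟨g, rfl⟩ := e.surjective g
      rw [← map_mul, ← map_mul, hx g]
    rw [center_eq_bot hG, Subgroup.mem_bot] at h1
    exact Subgroup.mem_bot.2 (e.injective (h1.trans (map_one e).symm))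
  · exact (pomegaEquiv hG).toEquiv.nontrivial

theorem pow_bound (k : ℕ) : 4 * k + 17 ≤ 2 * 3 ^ (k + 3) := by
  induction k with
  | zero => norm_num
  | succ k ih =>
    rw [show k + 1 + 3 = (k + 3) + 1 from rfl, pow_succ]
    omega

section

variable {F : Type v} [Field F] [Fintype F]

theorem kill_odd {m : ℕ} (hm : 3 ≤ m) (h2 : (2 : F) ≠ 0)
    (hl : LB.{u, v} (Cfsg.POmega F (Cfsg.quadFormOdd m F)) (2 * 3 ^ (2 * m - 3))) :
    Kill2.{u, v} (Cfsg.POmega F (Cfsg.quadFormOdd m F)) := by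
  have hG := good_odd (F := F) (m := m) (by omega) h2
  have hr := RkPOm.odd hm h2
  rw [← coe_oddForm] at hr hl ⊢
  refine kill_of hG hr hl ?_
  have h3 := pow_bound (2 * m - 6)
  rw [show 2 * m - 6 + 3 = 2 * m - 3 by omega] at h3
  omega

theorem kill_plus {m : ℕ} (hm : 4 ≤ m) (h2 : (2 : F) ≠ 0)
    (hl : LB.{u, v} (Cfsg.POmega F (Cfsg.quadFormPlus m F)) (2 * 3 ^ (2 * m - 4))) :
    Kill2.{u, v} (Cfsg.POmega F (Cfsg.quadFormPlus m F)) := by
  have hG := good_plus (F := F) (m := m) (by omega)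
  have hr := RkPOm.plus hm h2
  rw [← coe_plusForm] at hr hl ⊢
  refine kill_of hG hr hl ?_
  have h3 := pow_bound (2 * m - 7)
  rw [show 2 * m - 7 + 3 = 2 * m - 4 by omega] at h3
  omega

theorem kill_minus {m : ℕ} (hm : 4 ≤ m) (h2 : (2 : F) ≠ 0) (a b : F)
    (hab : ∀ z₁ z₂ : F, z₁ ^ 2 + a * z₁ * z₂ + b * z₂ ^ 2 = 0 → z₁ = 0 ∧ z₂ = 0)
    (hl : LB.{u, v} (Cfsg.POmega F (Cfsg.quadFormMinus (m - 1) F a b)) (2 * 3 ^ (2 * m - 4))) :
    Kill2.{u, v} (Cfsg.POmega F (Cfsg.quadFormMinus (m - 1) F a b)) := by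
  have hG := good_minus (F := F) (m := m - 1) (by omega) a b hab
  have hr := RkPOm.minus hm h2 a b hab
  rw [← coe_minusForm] at hr hl ⊢
  refine kill_of hG hr hl ?_
  have h3 := pow_bound (2 * m - 7)
  rw [show 2 * m - 7 + 3 = 2 * m - 4 by omega] at h3
  omega

end

/-! ### The fields of `KFacts.Rows2`, from the lower bounds -/

/-- input: the lower bound for `PΩ_{2m+1}(q)` -/
def LBOdd : Prop := ∀ (F : Type) [Field F] [Fintype F] (m : ℕ), (2 : F) ≠ 0 → 3 ≤ m →
  LB.{u, 0} (Cfsg.POmega F (Cfsg.quadFormOdd m F)) (2 * 3 ^ (2 * m - 3))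

/-- input: the lower bound for `PΩ⁺_{2m}(q)` -/
def LBPlus : Prop := ∀ (F : Type) [Field F] [Fintype F] (m : ℕ), (2 : F) ≠ 0 → 4 ≤ m →
  LB.{u, 0} (Cfsg.POmega F (Cfsg.quadFormPlus m F)) (2 * 3 ^ (2 * m - 4))

/-- input: the lower bound for `PΩ⁻_{2m}(q)` -/
def LBMinus : Prop := ∀ (F : Type) [Field F] [Fintype F] (m : ℕ) (a b : F), (2 : F) ≠ 0 → 4 ≤ m →
  (∀ z₁ z₂ : F, z₁ ^ 2 + a * z₁ * z₂ + b * z₂ ^ 2 = 0 → z₁ = 0 ∧ z₂ = 0) →
  LB.{u, 0} (Cfsg.POmega F (Cfsg.quadFormMinus (m - 1) F a b)) (2 * 3 ^ (2 * m - 4))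

theorem two_ne_zero_of_char {F : Type*} [Field F] {p : ℕ} [CharP F p] (hp : p.Prime) (hp2 : p ≠ 2) :
    (2 : F) ≠ 0 := by
  intro h
  have h1 : ((2 : ℕ) : F) = 0 := by exact_mod_cast h
  rw [CharP.cast_eq_zero_iff F p] at h1
  exact hp2 ((Nat.prime_dvd_prime_iff_eq hp Nat.prime_two).1 h1)

theorem omOdd (h : LBOdd.{u}) (K : Type u) [Group K] (hK : KFacts.OddChar @Cfsg.IsPOmegaOddChar K) :
    Kill2.{u} K := by
  obtain ⟨p, hp, hp2, F, _, _, _, m, hm, -, ⟨e⟩⟩ := hK
  have h2 : (2 : F) ≠ 0 := two_ne_zero_of_char hp hp2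
  exact (kill_odd.{u, 0} hm h2 (h F m h2 hm)).equiv e

theorem omPlus (h : LBPlus.{u}) (K : Type u) [Group K] (hK : KFacts.OddChar @Cfsg.IsPOmegaPlusChar K) :
    Kill2.{u} K := by
  obtain ⟨p, hp, hp2, F, _, _, _, m, hm, ⟨e⟩⟩ := hK
  have h2 : (2 : F) ≠ 0 := two_ne_zero_of_char hp hp2
  exact (kill_plus.{u, 0} hm h2 (h F m h2 hm)).equiv e

theorem omMinus (h : LBMinus.{u}) (K : Type u) [Group K] (hK : KFacts.OddChar @Cfsg.IsPOmegaMinusChar K) :
    Kill2.{u} K := by
  obtain ⟨p, hp, hp2, F, _, _, _, m, a, b, hm, hab, ⟨e⟩⟩ := hK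
  have h2 : (2 : F) ≠ 0 := two_ne_zero_of_char hp hp2
  exact (kill_minus.{u, 0} hm h2 a b hab (h F m a b h2 hm hab)).equiv e

end Cfsg.Agent.Omega.TwoF.RowPOm

end

section


/-!
# Lifting Heisenberg configurations to odd covers

`π : L → K` an odd cover, `F` a finite field of odd characteristic `r`; in `K`: `x, y : (ι → F) → K`, `z : F → K`
additive with `y p' * x p * (y p')⁻¹ = x p * z (p ⬝ᵥ p')`, `g` inverting `x p`, `y p` and commuting with `z`.

* `exists_lift`, `lift_unique`, `conj_lift`: canonical lifts (inverted by `γ`);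
* `alt_zero`: an alternating biadditive map on `F` invariant under `(s, t) ↦ (u s, u t)` vanishes;
* `Dat`: the data in `K`; `Dat.exists_cov`, `Cov`: the canonical lifts `X`, `Y` are additive, `X p`, `X q` commute,
  `bet X Y p q = [Y q, X p]` is biadditive, balanced, central in `⟨X, Y⟩`, trivial for `Pi.single i s`,
  `Pi.single j t` with `i ≠ j`; `zi X Y i : F → L` is the lift of `z` with index `i`;
* `zi_eq_of_link`, `zi_eq_of_link_three`, `zi_eq_of_scale`: criteria for `zi i = zi j`.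
-/

set_option autoImplicit false
set_option linter.unusedSectionVars false
set_option linter.style.haveILetI false

namespace Cfsg.Agent.Omega.TwoF.OLift

open Subgroup

variable {L K : Type*} [Group L] [Group K] {π : L →* K}

/-! ### Canonical lifts -/

theorem ker_comm (h : OddCover π) {c : L} (hc : c ∈ π.ker) (l : L) : l * c = c * l :=
  mem_center_iff.mp (h.cent hc) l

theorem eq_one_of_sq (h : OddCover π) {c : L} (hc : c ∈ π.ker) (h2 : c * c = 1) : c = 1 := by
  have h3 : orderOf (⟨c, hc⟩ : π.ker) ∣ 2 := by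
    apply orderOf_dvd_of_pow_eq_one
    apply Subtype.ext
    show c ^ 2 = 1
    rw [pow_two, h2]
  have h4 : orderOf (⟨c, hc⟩ : π.ker) ∣ Nat.card π.ker := orderOf_dvd_natCard _
  have h5 : Nat.Coprime 2 (Nat.card π.ker) := (Nat.coprime_two_left).2 h.odd
  have h6 := Nat.eq_one_of_dvd_coprimes h5 h3 h4
  rw [orderOf_eq_one_iff] at h6
  exact congrArg Subtype.val h6

theorem exists_sqrt (h : OddCover π) {c : L} (hc : c ∈ π.ker) : ∃ d ∈ π.ker, d * d = c := by
  obtain ⟨k, hk⟩ := h.odd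
  refine ⟨c ^ (k + 1), pow_mem hc _, ?_⟩
  have h1 : (⟨c, hc⟩ : π.ker) ^ Nat.card π.ker = 1 := pow_card_eq_one'
  have h2 : c ^ Nat.card π.ker = 1 := congrArg Subtype.val h1
  rw [← pow_add, show k + 1 + (k + 1) = Nat.card π.ker + 1 by omega, pow_succ, h2, one_mul]

/-- An element inverted by `π γ` has a lift inverted by `γ`. -/
theorem exists_lift (h : OddCover π) (γ : L) {k : K} (hk : π γ * k * (π γ)⁻¹ = k⁻¹) :
    ∃ l, π l = k ∧ γ * l * γ⁻¹ = l⁻¹ := by
  obtain ⟨a, rfl⟩ := h.surj k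
  have h1 : a * (γ * a * γ⁻¹) ∈ π.ker := by
    rw [MonoidHom.mem_ker, map_mul, map_mul, map_mul, map_inv, hk, mul_inv_cancel]
  obtain ⟨d, hd, hdd⟩ := exists_sqrt h h1
  have hd' : d⁻¹ ∈ π.ker := inv_mem hd
  refine ⟨a * d⁻¹, ?_, ?_⟩
  · rw [map_mul, MonoidHom.mem_ker.1 hd', mul_one]
  · have h2 : γ * a * γ⁻¹ = a⁻¹ * (d * d) := by rw [hdd]; group
    calc γ * (a * d⁻¹) * γ⁻¹ = γ * a * (d⁻¹ * γ⁻¹) := by group
      _ = γ * a * (γ⁻¹ * d⁻¹) := by rw [ker_comm h hd' γ⁻¹]
      _ = (γ * a * γ⁻¹) * d⁻¹ := by group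
      _ = a⁻¹ * d := by rw [h2]; group
      _ = d * a⁻¹ := ker_comm h hd a⁻¹
      _ = (a * d⁻¹)⁻¹ := by group

theorem lift_unique (h : OddCover π) (γ : L) {l l' : L} (hl : π l = π l') (h1 : γ * l * γ⁻¹ = l⁻¹)
    (h2 : γ * l' * γ⁻¹ = l'⁻¹) : l = l' := by
  have hc : l'⁻¹ * l ∈ π.ker := by rw [MonoidHom.mem_ker, map_mul, map_inv, hl, inv_mul_cancel]
  set c := l'⁻¹ * l with hcd
  have hl2 : l = l' * c := by rw [hcd]; group
  have h3 : c * c = 1 := by
    have h4 : γ * (l' * c) * γ⁻¹ = (l' * c)⁻¹ := by rw [← hl2]; exact h1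
    have h5 : γ * (l' * c) * γ⁻¹ = l'⁻¹ * c := by
      calc γ * (l' * c) * γ⁻¹ = γ * l' * (c * γ⁻¹) := by group
        _ = γ * l' * (γ⁻¹ * c) := by rw [ker_comm h hc γ⁻¹]
        _ = (γ * l' * γ⁻¹) * c := by group
        _ = l'⁻¹ * c := by rw [h2]
    rw [h5, mul_inv_rev, ← ker_comm h (inv_mem hc)] at h4
    have h6 := mul_left_cancel h4
    nth_rewrite 1 [h6]
    exact inv_mul_cancel c
  rw [hl2, eq_one_of_sq h hc h3, mul_one]

/-- Conjugation by elements commuting with `γ` modulo the kernel. -/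
theorem conj_lift (h : OddCover π) (γ : L) {k l : L} (hk : π k * π γ = π γ * π k)
    (hl : γ * l * γ⁻¹ = l⁻¹) : γ * (k * l * k⁻¹) * γ⁻¹ = (k * l * k⁻¹)⁻¹ := by
  have hc : γ⁻¹ * k⁻¹ * γ * k ∈ π.ker := by
    rw [MonoidHom.mem_ker, map_mul, map_mul, map_mul, map_inv, map_inv, mul_assoc, ← hk]
    group
  set c := γ⁻¹ * k⁻¹ * γ * k with hcd
  have h1 : γ * k = k * γ * c := by rw [hcd]; group
  have h2 : c * l = l * c := (ker_comm h hc l).symm
  calc γ * (k * l * k⁻¹) * γ⁻¹ = (γ * k) * l * (γ * k)⁻¹ := by group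
    _ = k * γ * (c * l) * c⁻¹ * γ⁻¹ * k⁻¹ := by rw [h1]; group
    _ = k * (γ * l * γ⁻¹) * k⁻¹ := by rw [h2]; group
    _ = (k * l * k⁻¹)⁻¹ := by rw [hl]; group

/-- Elements of coprime order commuting in `K` have commuting lifts. -/
theorem comm_of_coprime (h : OddCover π) {a t : L} {r N : ℕ} (hrN : Nat.Coprime r N) (ha : π a ^ r = 1)
    (ht : π t ^ N = 1) (hat : π t * π a = π a * π t) : t * a = a * t := by
  have hc : a⁻¹ * (t * a * t⁻¹) ∈ π.ker := by
    rw [MonoidHom.mem_ker, map_mul, map_mul, map_mul, map_inv, map_inv, hat]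
    group
  set c := a⁻¹ * (t * a * t⁻¹) with hcd
  have h1 : t * a * t⁻¹ = a * c := by rw [hcd]; group
  have h2 : Commute a c := ker_comm h hc a
  have h3 : c ^ r = 1 := by
    have h4 : a ^ r ∈ π.ker := by rw [MonoidHom.mem_ker, map_pow, ha]
    have h5 : (t * a * t⁻¹) ^ r = a ^ r := by
      rw [conj_pow, ker_comm h h4 t]; group
    rw [h1, h2.mul_pow] at h5
    exact (mul_eq_left.1 h5)
  have h4 : ∀ n : ℕ, t ^ n * a * (t ^ n)⁻¹ = a * c ^ n := by
    intro n
    induction n with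
    | zero => simp
    | succ n ih =>
      have h5 : t * c ^ n = c ^ n * t := ker_comm h (pow_mem hc n) t
      calc t ^ (n + 1) * a * (t ^ (n + 1))⁻¹ = t * (t ^ n * a * (t ^ n)⁻¹) * t⁻¹ := by
            rw [pow_succ']; group
        _ = t * (a * c ^ n) * t⁻¹ := by rw [ih]
        _ = t * a * (c ^ n * t⁻¹) := by group
        _ = t * a * (t⁻¹ * c ^ n) := by rw [ker_comm h (pow_mem hc n) t⁻¹]
        _ = (t * a * t⁻¹) * c ^ n := by group
        _ = a * c ^ (n + 1) := by rw [h1, pow_succ']; group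
  have h5 : c ^ N = 1 := by
    have h6 : t ^ N ∈ π.ker := by rw [MonoidHom.mem_ker, map_pow, ht]
    have h7 := h4 N
    rw [← ker_comm h h6 a, mul_assoc, mul_inv_cancel, mul_one] at h7
    exact (left_eq_mul.1 h7)
  have h6 : c = 1 := by
    have := Nat.eq_one_of_dvd_coprimes hrN (orderOf_dvd_of_pow_eq_one h3) (orderOf_dvd_of_pow_eq_one h5)
    exact orderOf_eq_one_iff.1 this
  rw [h6, mul_one] at h1
  exact mul_inv_eq_iff_eq_mul.1 h1

/-! ### Alternating maps on a field -/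

theorem alt_zero {F A : Type*} [Field F] [AddCommGroup A] (c : F → F → A)
    (hl : ∀ s s' t, c (s + s') t = c s t + c s' t) (hr : ∀ s t t', c s (t + t') = c s t + c s t')
    (ha : ∀ s, c s s = 0) (hu : ∀ u s t, u ≠ 0 → c (u * s) (u * t) = c s t)
    (h2 : ∀ s t, c s t + c s t = 0 → c s t = 0) (s t : F) : c s t = 0 := by
  have hl0 : ∀ t, c 0 t = 0 := fun t => by
    have := hl 0 0 t
    rw [add_zero] at this
    exact (left_eq_add.1 this)
  have hr0 : ∀ s, c s 0 = 0 := fun s => by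
    have := hr s 0 0
    rw [add_zero] at this
    exact (left_eq_add.1 this)
  have hsw : ∀ s t, c s t = - c t s := by
    intro s t
    have h1 := ha (s + t)
    rw [hl, hr, hr, ha, ha, zero_add, add_zero] at h1
    exact eq_neg_of_add_eq_zero_left h1
  have hneg : ∀ s t, c s (-t) = - c s t := by
    intro s t
    have h1 := hr s t (-t)
    rw [add_neg_cancel, hr0] at h1
    exact (neg_eq_of_add_eq_zero_right h1.symm).symm
  -- `d a = c 1 a`, `c s t = d (t / s)`
  have hd : ∀ s t, s ≠ 0 → c s t = c 1 (t / s) := by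
    intro s t hs
    have := hu s 1 (t / s) hs
    rw [mul_one, mul_div_cancel₀ _ hs] at this
    exact this
  have hinv : ∀ a, c 1 a⁻¹ = - c 1 a := by
    intro a
    by_cases h : a = 0
    · subst h; rw [inv_zero, hr0, neg_zero]
    · rw [hsw 1 a, hd a 1 h, one_div, neg_neg]
  have hsq : ∀ a, c 1 (a * a) = c 1 a := by
    intro a
    by_cases h0 : a = 0
    · subst h0; rw [mul_zero]
    by_cases h1 : a = 1
    · subst h1; rw [mul_one]
    have h1' : 1 - a ≠ 0 := fun e => h1 (sub_eq_zero.1 e).symm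
    have e1 : c 1 (1 : F) = c 1 a⁻¹ + c 1 (1 - a)⁻¹ := by
      have h3 := hl a (1 - a) 1
      rw [add_sub_cancel, hd a 1 h0, hd (1 - a) 1 h1', one_div, one_div] at h3
      exact h3
    have e2 : a⁻¹ + (1 - a)⁻¹ = (a * (1 - a))⁻¹ := by field_simp; ring
    rw [ha, ← hr, e2, hinv] at e1
    have e3 : c 1 (a * (1 - a)) = 0 := by
      have := neg_eq_zero.1 e1.symm
      exact this
    have e4 : a = a * (1 - a) + a * a := by ring
    conv_rhs => rw [e4]
    rw [hr, e3, zero_add]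
  have hd0 : ∀ a, c 1 a = 0 := by
    intro a
    apply h2
    have h3 := hsq (-a)
    rw [neg_mul_neg, hsq, hneg] at h3
    nth_rewrite 2 [h3]
    exact add_neg_cancel _
  by_cases hs : s = 0
  · subst hs; exact hl0 t
  · rw [hd s t hs, hd0]

/-! ### Commutators -/

/-- An element inverting `a` and centralising `b`: if `[a, b]` is in the kernel, then `a` and `b` commute. -/
theorem comm_of_sep (h : OddCover π) {a b k : L} (hc : a * b * a⁻¹ * b⁻¹ ∈ π.ker) (ha : k * a * k⁻¹ = a⁻¹)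
    (hb : k * b * k⁻¹ = b) : a * b = b * a := by
  set c := a * b * a⁻¹ * b⁻¹ with hcd
  have h1 : k * c * k⁻¹ = c := by rw [ker_comm h hc k]; group
  have h2 : k * c * k⁻¹ = a⁻¹ * b * a * b⁻¹ := by
    calc k * c * k⁻¹ = (k * a * k⁻¹) * (k * b * k⁻¹) * (k * a * k⁻¹)⁻¹ * (k * b * k⁻¹)⁻¹ := by rw [hcd]; group
      _ = a⁻¹ * b * a * b⁻¹ := by rw [ha, hb]; group
  have h3 : a⁻¹ * c * a = c := by rw [ker_comm h hc a⁻¹]; group
  have h4 : a⁻¹ * c * a = b * a⁻¹ * b⁻¹ * a := by rw [hcd]; group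
  have h5 : c * c = 1 := by
    nth_rewrite 1 [← h1]
    nth_rewrite 2 [← h3]
    rw [h2, h4]; group
  have h6 := eq_one_of_sq h hc h5
  rw [hcd] at h6
  calc a * b = (a * b * a⁻¹ * b⁻¹) * (b * a) := by group
    _ = b * a := by rw [h6, one_mul]

section Half

variable {I F : Type*} [Fintype I] [DecidableEq I] [Field F]

/-- The data of one half: `x : (I → F) → K`. -/
structure Half (x : (I → F) → K) (g : K) : Prop where
  add : ∀ p q, x (p + q) = x p * x q
  inv : ∀ p, g * x p * g⁻¹ = x (-p)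
  tor : ∀ u : F, u ≠ 0 → ∃ t : K, t * g = g * t ∧ ∀ p, t * x p * t⁻¹ = x (u • p)
  sep : ∀ i j, i ≠ j → ∃ h : K, h * g = g * h ∧
    (∀ s, h * x (Pi.single i s) * h⁻¹ = x (Pi.single i (-s))) ∧
    (∀ s, h * x (Pi.single j s) * h⁻¹ = x (Pi.single j s))

/-- `X` is the canonical lift of `x`. -/
structure IsLift (π : L →* K) (γ : L) (x : (I → F) → K) (X : (I → F) → L) : Prop where
  map : ∀ p, π (X p) = x p
  inv : ∀ p, γ * X p * γ⁻¹ = (X p)⁻¹

namespace Half

variable {x : (I → F) → K} {g : K}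

theorem zero (hx : Half x g) : x 0 = 1 := by
  have h1 := hx.add 0 0
  rw [add_zero] at h1
  exact (left_eq_mul.1 h1)

theorem neg (hx : Half x g) (p : I → F) : x (-p) = (x p)⁻¹ := by
  apply eq_inv_of_mul_eq_one_left
  rw [← hx.add, neg_add_cancel, hx.zero]

theorem exists_isLift (hx : Half x g) (h : OddCover π) {γ : L} (hγ : π γ = g) :
    ∃ X : (I → F) → L, IsLift π γ x X := by
  have h1 : ∀ p, ∃ l, π l = x p ∧ γ * l * γ⁻¹ = l⁻¹ := fun p =>
    exists_lift h γ (by rw [hγ, hx.inv, hx.neg])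
  choose X hX hX' using h1
  exact ⟨X, hX, hX'⟩

end Half

namespace IsLift

variable {x : (I → F) → K} {g : K} {γ : L} {X : (I → F) → L}

theorem conj (hX : IsLift π γ x X) (h : OddCover π) {k : L} (hk : π k * π γ = π γ * π k) {p q : I → F}
    (hpq : π k * x p * (π k)⁻¹ = x q) : k * X p * k⁻¹ = X q := by
  refine lift_unique h γ ?_ (conj_lift h γ hk (hX.inv p)) (hX.inv q)
  rw [map_mul, map_mul, map_inv, hX.map, hX.map, hpq]

theorem zero (hX : IsLift π γ x X) (h : OddCover π) (hx : Half x g) : X 0 = 1 := by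
  refine lift_unique h γ ?_ (hX.inv 0) (by group)
  rw [hX.map, hx.zero, map_one]

theorem neg (hX : IsLift π γ x X) (h : OddCover π) (hx : Half x g) (p : I → F) : X (-p) = (X p)⁻¹ := by
  refine lift_unique h γ ?_ (hX.inv _) ?_
  · rw [hX.map, hx.neg, map_inv, hX.map]
  · have := congrArg (·⁻¹) (hX.inv p)
    simp only [mul_inv_rev, inv_inv] at this
    rw [inv_inv]
    calc γ * (X p)⁻¹ * γ⁻¹ = γ * ((X p)⁻¹ * γ⁻¹) := by group
      _ = X p := this

theorem exists_add (hX : IsLift π γ x X) (hx : Half x g) (p q : I → F) :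
    ∃ c ∈ π.ker, X (p + q) = X p * X q * c := by
  refine ⟨(X p * X q)⁻¹ * X (p + q), ?_, by group⟩
  rw [MonoidHom.mem_ker, map_mul, map_inv, map_mul, hX.map, hX.map, hX.map, hx.add, inv_mul_cancel]

theorem comm_mem (hX : IsLift π γ x X) (hx : Half x g) (p q : I → F) :
    X p * X q * (X p)⁻¹ * (X q)⁻¹ ∈ π.ker := by
  rw [MonoidHom.mem_ker, map_mul, map_mul, map_mul, map_inv, map_inv, hX.map, hX.map, ← hx.add, add_comm,
    hx.add]
  group

/-- The elements commuting with `X q` modulo ... form a subgroup. -/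
theorem comm_add (hX : IsLift π γ x X) (h : OddCover π) (hx : Half x g) {l : L} {p q : I → F}
    (hp : X p * l = l * X p) (hq : X q * l = l * X q) : X (p + q) * l = l * X (p + q) := by
  obtain ⟨c, hc, e⟩ := hX.exists_add hx p q
  have h1 : Commute (X p) l := hp
  have h2 : Commute (X q) l := hq
  have h3 : Commute c l := (ker_comm h hc l).symm
  rw [e]
  exact (h1.mul_left h2).mul_left h3

theorem comm_sum (hX : IsLift π γ x X) (h : OddCover π) (hx : Half x g) {l : L}
    (hl : ∀ i s, X (Pi.single i s) * l = l * X (Pi.single i s)) (p : I → F) : X p * l = l * X p := by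
  let S : AddSubmonoid (I → F) :=
    { carrier := {p | X p * l = l * X p}
      zero_mem' := by
        show X 0 * l = l * X 0
        rw [hX.zero h hx, one_mul, mul_one]
      add_mem' := fun {p q} hp hq => hX.comm_add h hx hp hq }
  have h1 : ∑ i, Pi.single i (p i) ∈ S := S.sum_mem fun i _ => hl i (p i)
  rw [Finset.univ_sum_single] at h1
  exact h1

/-- Elements with the same index commute. -/
theorem comm_same (hX : IsLift π γ x X) (h : OddCover π) (hx : Half x g) (hγ : π γ = g) (i : I) (s t : F) :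
    X (Pi.single i s) * X (Pi.single i t) = X (Pi.single i t) * X (Pi.single i s) := by
  have hcc : ∀ p q, X p * X q * (X p)⁻¹ * (X q)⁻¹ ∈ center L := fun p q => h.cent (hX.comm_mem hx p q)
  letI : CommGroup (center L) :=
    { (inferInstance : Group (center L)) with
      mul_comm := fun a b => Subtype.ext (mem_center_iff.1 b.2 a) }
  let c : F → F → Additive (center L) := fun s t =>
    Additive.ofMul ⟨X (Pi.single i s) * X (Pi.single i t) * (X (Pi.single i s))⁻¹ * (X (Pi.single i t))⁻¹,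
      hcc _ _⟩
  have key := alt_zero c ?_ ?_ ?_ ?_ ?_ s t
  · have h1 : X (Pi.single i s) * X (Pi.single i t) * (X (Pi.single i s))⁻¹ * (X (Pi.single i t))⁻¹ = 1 :=
      congrArg (fun z : Additive (center L) => ((Additive.toMul z : center L) : L)) key
    calc X (Pi.single i s) * X (Pi.single i t)
        = (X (Pi.single i s) * X (Pi.single i t) * (X (Pi.single i s))⁻¹ * (X (Pi.single i t))⁻¹) *
            (X (Pi.single i t) * X (Pi.single i s)) := by group
      _ = _ := by rw [h1, one_mul]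
  · -- left additive
    intro s s' t
    apply Additive.toMul.injective
    apply Subtype.ext
    show X (Pi.single i (s + s')) * X (Pi.single i t) * (X (Pi.single i (s + s')))⁻¹ * (X (Pi.single i t))⁻¹ =
      (X (Pi.single i s) * X (Pi.single i t) * (X (Pi.single i s))⁻¹ * (X (Pi.single i t))⁻¹) *
      (X (Pi.single i s') * X (Pi.single i t) * (X (Pi.single i s'))⁻¹ * (X (Pi.single i t))⁻¹)
    rw [Pi.single_add]
    obtain ⟨k, hk, e⟩ := hX.exists_add hx (Pi.single i s) (Pi.single i s')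
    rw [e]
    set a := X (Pi.single i s)
    set b := X (Pi.single i s')
    set d := X (Pi.single i t)
    have h1 : k * d = d * k := (ker_comm h hk d).symm
    have h2 := mem_center_iff.1 (hcc (Pi.single i s') (Pi.single i t)) a
    change a * (b * d * b⁻¹ * d⁻¹) = (b * d * b⁻¹ * d⁻¹) * a at h2
    have h3 := mem_center_iff.1 (hcc (Pi.single i s) (Pi.single i t)) (b * d * b⁻¹ * d⁻¹)
    change (b * d * b⁻¹ * d⁻¹) * (a * d * a⁻¹ * d⁻¹) = (a * d * a⁻¹ * d⁻¹) * (b * d * b⁻¹ * d⁻¹) at h3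
    show a * b * k * d * (a * b * k)⁻¹ * d⁻¹ = (a * d * a⁻¹ * d⁻¹) * (b * d * b⁻¹ * d⁻¹)
    calc a * b * k * d * (a * b * k)⁻¹ * d⁻¹ = a * b * (k * d) * k⁻¹ * b⁻¹ * a⁻¹ * d⁻¹ := by group
      _ = (a * (b * d * b⁻¹ * d⁻¹)) * d * a⁻¹ * d⁻¹ := by rw [h1]; group
      _ = (b * d * b⁻¹ * d⁻¹) * (a * d * a⁻¹ * d⁻¹) := by rw [h2]; group
      _ = (a * d * a⁻¹ * d⁻¹) * (b * d * b⁻¹ * d⁻¹) := h3
  · intro s t t'
    apply Additive.toMul.injective
    apply Subtype.ext
    show X (Pi.single i s) * X (Pi.single i (t + t')) * (X (Pi.single i s))⁻¹ * (X (Pi.single i (t + t')))⁻¹ =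
      (X (Pi.single i s) * X (Pi.single i t) * (X (Pi.single i s))⁻¹ * (X (Pi.single i t))⁻¹) *
      (X (Pi.single i s) * X (Pi.single i t') * (X (Pi.single i s))⁻¹ * (X (Pi.single i t'))⁻¹)
    rw [Pi.single_add]
    obtain ⟨k, hk, e⟩ := hX.exists_add hx (Pi.single i t) (Pi.single i t')
    rw [e]
    set a := X (Pi.single i t)
    set b := X (Pi.single i t')
    set d := X (Pi.single i s)
    have h1 : k * d⁻¹ = d⁻¹ * k := (ker_comm h hk d⁻¹).symm
    have h2 := mem_center_iff.1 (hcc (Pi.single i s) (Pi.single i t')) a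
    change a * (d * b * d⁻¹ * b⁻¹) = (d * b * d⁻¹ * b⁻¹) * a at h2
    show d * (a * b * k) * d⁻¹ * (a * b * k)⁻¹ = (d * a * d⁻¹ * a⁻¹) * (d * b * d⁻¹ * b⁻¹)
    calc d * (a * b * k) * d⁻¹ * (a * b * k)⁻¹ = d * a * b * (k * d⁻¹) * k⁻¹ * b⁻¹ * a⁻¹ := by group
      _ = d * a * d⁻¹ * ((d * b * d⁻¹ * b⁻¹)) * a⁻¹ := by rw [h1]; group
      _ = d * a * d⁻¹ * a⁻¹ * (a * (d * b * d⁻¹ * b⁻¹)) * a⁻¹ := by group
      _ = (d * a * d⁻¹ * a⁻¹) * (d * b * d⁻¹ * b⁻¹) := by rw [h2]; group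
  · intro s
    apply Additive.toMul.injective
    apply Subtype.ext
    show X (Pi.single i s) * X (Pi.single i s) * (X (Pi.single i s))⁻¹ * (X (Pi.single i s))⁻¹ = 1
    group
  · intro u s t hu
    obtain ⟨τ, hτg, hτ⟩ := hx.tor u hu
    obtain ⟨T, rfl⟩ := h.surj τ
    have h1 : ∀ s, T * X (Pi.single i s) * T⁻¹ = X (Pi.single i (u * s)) := by
      intro s
      have h2 := hX.conj h (k := T) (by rw [hγ, hτg]) (hτ (Pi.single i s))
      rwa [← Pi.single_smul, smul_eq_mul] at h2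
    apply Additive.toMul.injective
    apply Subtype.ext
    show X (Pi.single i (u * s)) * X (Pi.single i (u * t)) * (X (Pi.single i (u * s)))⁻¹ *
      (X (Pi.single i (u * t)))⁻¹ = X (Pi.single i s) * X (Pi.single i t) * (X (Pi.single i s))⁻¹ *
      (X (Pi.single i t))⁻¹
    rw [← h1 s, ← h1 t]
    have h2 := mem_center_iff.1 (hcc (Pi.single i s) (Pi.single i t)) T
    calc _ = T * (X (Pi.single i s) * X (Pi.single i t) * (X (Pi.single i s))⁻¹ * (X (Pi.single i t))⁻¹) *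
        T⁻¹ := by group
      _ = _ := by rw [h2]; group
  · intro s t hst
    have h1 := congrArg (fun z : Additive (center L) => ((Additive.toMul z : center L) : L)) hst
    apply Additive.toMul.injective
    apply Subtype.ext
    exact eq_one_of_sq h (hX.comm_mem hx _ _) h1

/-- All elements commute. -/
theorem comm (hX : IsLift π γ x X) (h : OddCover π) (hx : Half x g) (hγ : π γ = g) (p q : I → F) :
    X p * X q = X q * X p := by
  refine hX.comm_sum h hx (fun i s => ?_) p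
  refine (hX.comm_sum h hx (fun j t => ?_) q).symm
  by_cases hij : i = j
  · subst hij
    exact hX.comm_same h hx hγ i t s
  · obtain ⟨k, hkg, hk1, hk2⟩ := hx.sep i j hij
    obtain ⟨T, rfl⟩ := h.surj k
    refine (comm_of_sep h (k := T) (hX.comm_mem hx _ _) ?_ ?_).symm
    · rw [hX.conj h (by rw [hγ, hkg]) (hk1 s), Pi.single_neg, hX.neg h hx]
    · exact hX.conj h (by rw [hγ, hkg]) (hk2 t)

/-- The canonical lift is additive. -/
theorem add (hX : IsLift π γ x X) (h : OddCover π) (hx : Half x g) (hγ : π γ = g) (p q : I → F) :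
    X (p + q) = X p * X q := by
  refine lift_unique h γ ?_ (hX.inv _) ?_
  · rw [hX.map, hx.add, map_mul, hX.map, hX.map]
  · calc γ * (X p * X q) * γ⁻¹ = (γ * X p * γ⁻¹) * (γ * X q * γ⁻¹) := by group
      _ = (X q * X p)⁻¹ := by rw [hX.inv, hX.inv, mul_inv_rev]
      _ = (X p * X q)⁻¹ := by rw [hX.comm h hx hγ q p]

end IsLift

end Half

/-! ### Both halves -/

section Both

variable {I F : Type*} [Fintype I] [DecidableEq I] [Field F]

open Matrix

/-- The data in `K`. -/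
structure Dat (z : F → K) (x y : (I → F) → K) (g : K) : Prop where
  z_add : ∀ s t, z (s + t) = z s * z t
  x_add : ∀ p q, x (p + q) = x p * x q
  y_add : ∀ p q, y (p + q) = y p * y q
  zx : ∀ s p, z s * x p = x p * z s
  zy : ∀ s p, z s * y p = y p * z s
  rel : ∀ p q, y q * x p * (y q)⁻¹ = x p * z (p ⬝ᵥ q)
  gx : ∀ p, g * x p * g⁻¹ = x (-p)
  gy : ∀ p, g * y p * g⁻¹ = y (-p)
  gz : ∀ s, g * z s = z s * g
  tor : ∃ r N : ℕ, Nat.Coprime r N ∧ (∀ s, z s ^ r = 1) ∧ ∀ u : F, u ≠ 0 → ∃ t : K, t ^ N = 1 ∧ t * g = g * t ∧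
    (∀ s, t * z s = z s * t) ∧ (∀ p, t * x p * t⁻¹ = x (u • p)) ∧ (∀ p, t * y p * t⁻¹ = y (u⁻¹ • p))
  sep : ∀ i j, i ≠ j → ∃ h : K, h * g = g * h ∧
    (∀ s, h * x (Pi.single i s) * h⁻¹ = x (Pi.single i (-s))) ∧
    (∀ s, h * x (Pi.single j s) * h⁻¹ = x (Pi.single j s)) ∧
    (∀ s, h * y (Pi.single i s) * h⁻¹ = y (Pi.single i (-s))) ∧
    (∀ s, h * y (Pi.single j s) * h⁻¹ = y (Pi.single j s))

variable {z : F → K} {x y : (I → F) → K} {g : K}

/-- The data is preserved by homomorphisms. -/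
theorem Dat.map {K' : Type*} [Group K'] (d : Dat z x y g) (f : K →* K') :
    Dat (fun s => f (z s)) (fun p => f (x p)) (fun p => f (y p)) (f g) where
  z_add := fun s t => by rw [d.z_add, map_mul]
  x_add := fun p q => by rw [d.x_add, map_mul]
  y_add := fun p q => by rw [d.y_add, map_mul]
  zx := fun s p => by rw [← map_mul, ← map_mul, d.zx]
  zy := fun s p => by rw [← map_mul, ← map_mul, d.zy]
  rel := fun p q => by rw [← map_inv, ← map_mul, ← map_mul, ← map_mul, d.rel]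
  gx := fun p => by rw [← map_inv, ← map_mul, ← map_mul, d.gx]
  gy := fun p => by rw [← map_inv, ← map_mul, ← map_mul, d.gy]
  gz := fun s => by rw [← map_mul, ← map_mul, d.gz]
  tor := by
    obtain ⟨r, N, h1, h2, h3⟩ := d.tor
    refine ⟨r, N, h1, fun s => by rw [← map_pow, h2, map_one], fun u hu => ?_⟩
    obtain ⟨t, h4, h5, h6, h7, h8⟩ := h3 u hu
    refine ⟨f t, by rw [← map_pow, h4, map_one], by rw [← map_mul, ← map_mul, h5],
      fun s => by rw [← map_mul, ← map_mul, h6], fun p => by rw [← map_inv, ← map_mul, ← map_mul, h7],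
      fun p => by rw [← map_inv, ← map_mul, ← map_mul, h8]⟩
  sep := fun i j hij => by
    obtain ⟨h, h1, h2, h3, h4, h5⟩ := d.sep i j hij
    refine ⟨f h, by rw [← map_mul, ← map_mul, h1], fun s => by rw [← map_inv, ← map_mul, ← map_mul, h2],
      fun s => by rw [← map_inv, ← map_mul, ← map_mul, h3], fun s => by rw [← map_inv, ← map_mul, ← map_mul, h4],
      fun s => by rw [← map_inv, ← map_mul, ← map_mul, h5]⟩

theorem Dat.halfX (d : Dat z x y g) : Half x g where
  add := d.x_add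
  inv := d.gx
  tor := fun u hu => by
    obtain ⟨r, N, -, -, h⟩ := d.tor
    obtain ⟨t, -, h1, -, h2, -⟩ := h u hu
    exact ⟨t, h1, h2⟩
  sep := fun i j hij => by
    obtain ⟨h, h1, h2, h3, -, -⟩ := d.sep i j hij
    exact ⟨h, h1, h2, h3⟩

theorem Dat.halfY (d : Dat z x y g) : Half y g where
  add := d.y_add
  inv := d.gy
  tor := fun u hu => by
    obtain ⟨r, N, -, -, h⟩ := d.tor
    obtain ⟨t, -, h1, -, -, h2⟩ := h u⁻¹ (inv_ne_zero hu)
    rw [inv_inv] at h2
    exact ⟨t, h1, h2⟩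
  sep := fun i j hij => by
    obtain ⟨h, h1, -, -, h2, h3⟩ := d.sep i j hij
    exact ⟨h, h1, h2, h3⟩

/-- The lifted data. -/
structure Cov (π : L →* K) (z : F → K) (x y : (I → F) → K) (g : K) (γ : L) (X Y : (I → F) → L) : Prop where
  dat : Dat z x y g
  odd : OddCover π
  γg : π γ = g
  liftX : IsLift π γ x X
  liftY : IsLift π γ y Y

theorem Dat.exists_cov (d : Dat z x y g) (h : OddCover π) : ∃ γ X Y, Cov π z x y g γ X Y := by
  obtain ⟨γ, hγ⟩ := h.surj g
  obtain ⟨X, hX⟩ := d.halfX.exists_isLift h hγ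
  obtain ⟨Y, hY⟩ := d.halfY.exists_isLift h hγ
  exact ⟨γ, X, Y, d, h, hγ, hX, hY⟩

/-- `[Y q, X p]`. -/
def bet (X Y : (I → F) → L) (p q : I → F) : L := Y q * X p * (Y q)⁻¹ * (X p)⁻¹

namespace Cov

variable {γ : L} {X Y : (I → F) → L}

theorem X_add (c : Cov π z x y g γ X Y) (p q : I → F) : X (p + q) = X p * X q :=
  c.liftX.add c.odd c.dat.halfX c.γg p q

theorem Y_add (c : Cov π z x y g γ X Y) (p q : I → F) : Y (p + q) = Y p * Y q :=
  c.liftY.add c.odd c.dat.halfY c.γg p q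

theorem X_neg (c : Cov π z x y g γ X Y) (p : I → F) : X (-p) = (X p)⁻¹ :=
  c.liftX.neg c.odd c.dat.halfX p

theorem Y_neg (c : Cov π z x y g γ X Y) (p : I → F) : Y (-p) = (Y p)⁻¹ :=
  c.liftY.neg c.odd c.dat.halfY p

theorem X_comm (c : Cov π z x y g γ X Y) (p q : I → F) : X p * X q = X q * X p :=
  c.liftX.comm c.odd c.dat.halfX c.γg p q

theorem Y_comm (c : Cov π z x y g γ X Y) (p q : I → F) : Y p * Y q = Y q * Y p :=
  c.liftY.comm c.odd c.dat.halfY c.γg p q

theorem conjX (c : Cov π z x y g γ X Y) {k : L} (hk : π k * g = g * π k) {p q : I → F}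
    (hpq : π k * x p * (π k)⁻¹ = x q) : k * X p * k⁻¹ = X q :=
  c.liftX.conj c.odd (by rw [c.γg, hk]) hpq

theorem conjY (c : Cov π z x y g γ X Y) {k : L} (hk : π k * g = g * π k) {p q : I → F}
    (hpq : π k * y p * (π k)⁻¹ = y q) : k * Y p * k⁻¹ = Y q :=
  c.liftY.conj c.odd (by rw [c.γg, hk]) hpq

theorem map_bet (c : Cov π z x y g γ X Y) (p q : I → F) : π (bet X Y p q) = z (p ⬝ᵥ q) := by
  unfold bet
  rw [map_mul, map_mul, map_mul, map_inv, map_inv, c.liftX.map, c.liftY.map, c.dat.rel, ← c.dat.zx]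
  group

/-- Lifts of the `z s` commute with `X p`. -/
theorem comm_X (c : Cov π z x y g γ X Y) {k : L} {s : F} (hk : π k = z s) (p : I → F) : k * X p = X p * k := by
  have h1 := c.conjX (k := k) (p := p) (q := p) (by rw [hk, c.dat.gz]) (by rw [hk, c.dat.zx]; group)
  exact mul_inv_eq_iff_eq_mul.1 h1

theorem comm_Y (c : Cov π z x y g γ X Y) {k : L} {s : F} (hk : π k = z s) (p : I → F) : k * Y p = Y p * k := by
  have h1 := c.conjY (k := k) (p := p) (q := p) (by rw [hk, c.dat.gz]) (by rw [hk, c.dat.zy]; group)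
  exact mul_inv_eq_iff_eq_mul.1 h1

/-- Lifts of the `z s` commute with the `bet p q`. -/
theorem comm_bet (c : Cov π z x y g γ X Y) {k : L} {s : F} (hk : π k = z s) (p q : I → F) :
    k * bet X Y p q = bet X Y p q * k := by
  have h1 : Commute k (X p) := c.comm_X hk p
  have h2 : Commute k (Y q) := c.comm_Y hk q
  exact ((h2.mul_right h1).mul_right h2.inv_right).mul_right h1.inv_right

theorem bet_conj (_ : Cov π z x y g γ X Y) (p q : I → F) : Y q * X p * (Y q)⁻¹ = bet X Y p q * X p := by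
  unfold bet; group

theorem bet_conj' (c : Cov π z x y g γ X Y) (p q : I → F) : Y q * X p * (Y q)⁻¹ = X p * bet X Y p q := by
  rw [c.bet_conj, c.comm_X (c.map_bet p q)]

theorem bet_add_left (c : Cov π z x y g γ X Y) (p p' q : I → F) :
    bet X Y (p + p') q = bet X Y p q * bet X Y p' q := by
  have h1 := c.comm_X (c.map_bet p' q) (X := X) (Y := Y) p
  calc bet X Y (p + p') q = (Y q * X p * (Y q)⁻¹) * (Y q * X p' * (Y q)⁻¹ * (X p')⁻¹) * (X p)⁻¹ := by
        unfold bet; rw [c.X_add]; group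
    _ = bet X Y p q * (X p * bet X Y p' q) * (X p)⁻¹ := by rw [c.bet_conj]; unfold bet; group
    _ = bet X Y p q * bet X Y p' q := by rw [← h1]; group

theorem bet_add_right (c : Cov π z x y g γ X Y) (p q q' : I → F) :
    bet X Y p (q + q') = bet X Y p q * bet X Y p q' := by
  have h1 := c.comm_Y (c.map_bet p q') (X := X) (Y := Y) q
  calc bet X Y p (q + q') = Y q * (Y q' * X p * (Y q')⁻¹ * (X p)⁻¹) * (X p * (Y q)⁻¹ * (X p)⁻¹) := by
        unfold bet; rw [c.Y_add]; group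
    _ = Y q * bet X Y p q' * (X p * (Y q)⁻¹ * (X p)⁻¹) := rfl
    _ = bet X Y p q' * (Y q * X p * (Y q)⁻¹ * (X p)⁻¹) := by rw [← h1]; group
    _ = bet X Y p q' * bet X Y p q := rfl
    _ = _ := c.comm_bet (c.map_bet p q') p q

theorem bet_zero_left (c : Cov π z x y g γ X Y) (q : I → F) : bet X Y 0 q = 1 := by
  have h1 := c.bet_add_left 0 0 q
  rw [add_zero] at h1
  exact (left_eq_mul.1 h1)

theorem bet_zero_right (c : Cov π z x y g γ X Y) (p : I → F) : bet X Y p 0 = 1 := by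
  have h1 := c.bet_add_right p 0 0
  rw [add_zero] at h1
  exact (left_eq_mul.1 h1)

theorem bet_neg_left (c : Cov π z x y g γ X Y) (p q : I → F) : bet X Y (-p) q = (bet X Y p q)⁻¹ := by
  apply eq_inv_of_mul_eq_one_left
  rw [← c.bet_add_left, neg_add_cancel, c.bet_zero_left]

theorem bet_neg_right (c : Cov π z x y g γ X Y) (p q : I → F) : bet X Y p (-q) = (bet X Y p q)⁻¹ := by
  apply eq_inv_of_mul_eq_one_left
  rw [← c.bet_add_right, neg_add_cancel, c.bet_zero_right]

/-- Separation: an element inverting `x p` and centralising `y q`. -/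
theorem bet_of_sep (c : Cov π z x y g γ X Y) {p q : I → F} (hpq : p ⬝ᵥ q = 0)
    (hs : ∃ h : K, h * g = g * h ∧ h * x p * h⁻¹ = x (-p) ∧ h * y q * h⁻¹ = y q) : bet X Y p q = 1 := by
  obtain ⟨h, h1, h2, h3⟩ := hs
  obtain ⟨T, rfl⟩ := c.odd.surj h
  have h4 : X p * Y q * (X p)⁻¹ * (Y q)⁻¹ ∈ π.ker := by
    have h5 : z 0 = 1 := by
      have := c.dat.z_add 0 0
      rw [add_zero] at this
      exact (left_eq_mul.1 this)
    have h6 : X p * Y q * (X p)⁻¹ * (Y q)⁻¹ = (bet X Y p q)⁻¹ := by unfold bet; group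
    rw [h6]
    apply inv_mem
    rw [MonoidHom.mem_ker, c.map_bet, hpq, h5]
  have h5 := comm_of_sep c.odd (k := T) h4 (by rw [c.conjX h1 h2, c.X_neg]) (c.conjY h1 h3)
  unfold bet
  rw [← h5]; group

theorem dot_single (i j : I) (s t : F) :
    (Pi.single i s : I → F) ⬝ᵥ Pi.single j t = if i = j then s * t else 0 := by
  rw [single_dotProduct, Pi.single_apply]
  split_ifs with h
  · rfl
  · rw [mul_zero]

theorem bet_off (c : Cov π z x y g γ X Y) {i j : I} (hij : i ≠ j) (s t : F) :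
    bet X Y (Pi.single i s) (Pi.single j t) = 1 := by
  obtain ⟨h, h1, h2, -, -, h3⟩ := c.dat.sep i j hij
  exact c.bet_of_sep (by rw [dot_single, if_neg hij]) ⟨h, h1, by rw [h2, Pi.single_neg], h3 t⟩

/-- Balanced. -/
theorem bet_smul (c : Cov π z x y g γ X Y) {u : F} (hu : u ≠ 0) (p q : I → F) :
    bet X Y (u • p) (u⁻¹ • q) = bet X Y p q := by
  obtain ⟨r, N, hrN, hz, ht⟩ := c.dat.tor
  obtain ⟨t, h1, h2, h3, h4, h5⟩ := ht u hu
  obtain ⟨T, rfl⟩ := c.odd.surj t
  have h6 : T * bet X Y p q = bet X Y p q * T :=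
    comm_of_coprime c.odd hrN (by rw [c.map_bet, hz]) h1 (by rw [c.map_bet, h3])
  have h7 : T * bet X Y p q * T⁻¹ = bet X Y (u • p) (u⁻¹ • q) := by
    unfold bet
    rw [← c.conjX h2 (h4 p), ← c.conjY h2 (h5 q)]
    group
  rw [← h7, h6]; group

/-- The lift of `z` with index `i`. -/
def zi (X Y : (I → F) → L) (i : I) (s : F) : L := bet X Y (Pi.single i s) (Pi.single i 1)

theorem bet_same (c : Cov π z x y g γ X Y) (i : I) (s t : F) :
    bet X Y (Pi.single i s) (Pi.single i t) = zi X Y i (s * t) := by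
  by_cases ht : t = 0
  · subst ht
    rw [Pi.single_zero, c.bet_zero_right, mul_zero, zi, Pi.single_zero, c.bet_zero_left]
  · rw [zi, ← c.bet_smul ht (Pi.single i s) (Pi.single i t), ← Pi.single_smul, ← Pi.single_smul, smul_eq_mul,
      smul_eq_mul, inv_mul_cancel₀ ht, mul_comm]

theorem map_zi (c : Cov π z x y g γ X Y) (i : I) (s : F) : π (zi X Y i s) = z s := by
  rw [zi, c.map_bet, dot_single, if_pos rfl, mul_one]

theorem zi_add (c : Cov π z x y g γ X Y) (i : I) (s t : F) : zi X Y i (s + t) = zi X Y i s * zi X Y i t := by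
  rw [zi, Pi.single_add, c.bet_add_left]; rfl

theorem zi_neg (c : Cov π z x y g γ X Y) (i : I) (s : F) : zi X Y i (-s) = (zi X Y i s)⁻¹ := by
  rw [zi, Pi.single_neg, c.bet_neg_left]; rfl

theorem zi_comm (c : Cov π z x y g γ X Y) (i j : I) (s t : F) :
    zi X Y i s * zi X Y j t = zi X Y j t * zi X Y i s :=
  c.comm_bet (c.map_zi i s) _ _

/-- Link: `x (s e_i + a s e_j)` against `y (e_i - a⁻¹ e_j)`. -/
theorem zi_eq_of_link (c : Cov π z x y g γ X Y) {i j : I} (hij : i ≠ j) {a : F} (ha : a ≠ 0)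
    (hl : ∀ s : F, ∃ h : K, h * g = g * h ∧
      h * x (Pi.single i s + Pi.single j (a * s)) * h⁻¹ = x (-(Pi.single i s + Pi.single j (a * s))) ∧
      h * y (Pi.single i 1 + Pi.single j (-a⁻¹)) * h⁻¹ = y (Pi.single i 1 + Pi.single j (-a⁻¹))) (s : F) :
    zi X Y i s = zi X Y j s := by
  have h1 := c.bet_of_sep (p := Pi.single i s + Pi.single j (a * s)) (q := Pi.single i 1 + Pi.single j (-a⁻¹)) (by
    rw [add_dotProduct, dotProduct_add, dotProduct_add, dot_single, dot_single, dot_single, dot_single,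
      if_pos rfl, if_pos rfl, if_neg hij, if_neg hij.symm]
    field_simp
    ring) (hl s)
  rw [c.bet_add_left, c.bet_add_right, c.bet_add_right, c.bet_off hij, c.bet_off hij.symm, c.bet_same,
    c.bet_same, mul_one, mul_one, one_mul] at h1
  have h2 : a * s * -a⁻¹ = -s := by field_simp
  rw [h2, c.zi_neg] at h1
  exact mul_inv_eq_one.1 h1

/-- Link with three indices, for `|F| = 3`. -/
theorem zi_eq_of_link_three (c : Cov π z x y g γ X Y) {i j k : I} (hij : i ≠ j) (hik : i ≠ k) (hjk : j ≠ k)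
    (h3 : (3 : F) = 0) (hji : ∀ s, zi X Y j s = zi X Y i s)
    (hl : ∀ s : F, ∃ h : K, h * g = g * h ∧
      h * x (Pi.single i s + Pi.single j s + Pi.single k s) * h⁻¹ =
        x (-(Pi.single i s + Pi.single j s + Pi.single k s)) ∧
      h * y (Pi.single i 1 + Pi.single j 1 + Pi.single k 1) * h⁻¹ =
        y (Pi.single i 1 + Pi.single j 1 + Pi.single k 1)) (s : F) :
    zi X Y k s = zi X Y i s := by
  have h1 := c.bet_of_sep (p := Pi.single i s + Pi.single j s + Pi.single k s)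
    (q := Pi.single i 1 + Pi.single j 1 + Pi.single k 1) (by
    simp only [add_dotProduct, dotProduct_add, dot_single, if_true, if_neg hij, if_neg hij.symm, if_neg hik,
      if_neg hik.symm, if_neg hjk, if_neg hjk.symm]
    linear_combination s * h3) (hl s)
  simp only [c.bet_add_left, c.bet_add_right, c.bet_off hij, c.bet_off hij.symm, c.bet_off hik,
    c.bet_off hik.symm, c.bet_off hjk, c.bet_off hjk.symm, c.bet_same, mul_one, one_mul, hji] at h1
  have h4 : s + s = -s := by linear_combination s * h3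
  rw [← c.zi_add, h4, c.zi_neg] at h1
  exact (inv_mul_eq_one.1 h1).symm

/-- An element scaling `x` and centralising `y`. -/
theorem zi_eq_of_scale (c : Cov π z x y g γ X Y) {b : F} (hb : b ≠ 1)
    (hl : ∃ h : K, h * g = g * h ∧ (∀ p, h * x p * h⁻¹ = x (b • p)) ∧ (∀ p, h * y p * h⁻¹ = y p)) (i j : I) (s : F) :
    zi X Y i s = zi X Y j s := by
  obtain ⟨h, h1, h2, h3⟩ := hl
  obtain ⟨T, rfl⟩ := c.odd.surj h
  have h4 : ∀ i s, T * zi X Y i s * T⁻¹ = zi X Y i (b * s) := by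
    intro i s
    have e1 := c.conjX h1 (h2 (Pi.single i s))
    rw [← Pi.single_smul, smul_eq_mul] at e1
    have e2 := c.conjY h1 (h3 (Pi.single i 1))
    calc T * zi X Y i s * T⁻¹ = (T * Y (Pi.single i 1) * T⁻¹) * (T * X (Pi.single i s) * T⁻¹) *
          (T * Y (Pi.single i 1) * T⁻¹)⁻¹ * (T * X (Pi.single i s) * T⁻¹)⁻¹ := by unfold zi bet; group
      _ = zi X Y i (b * s) := by rw [e1, e2]; rfl
  have h5 : ∀ s, zi X Y i s * (zi X Y j s)⁻¹ ∈ π.ker := by
    intro s
    rw [MonoidHom.mem_ker, map_mul, map_inv, c.map_zi, c.map_zi, mul_inv_cancel]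
  -- `χ s = z_i s / z_j s` is additive and `χ (b s) = χ s`
  have h6 : ∀ s, zi X Y i (b * s) * (zi X Y j (b * s))⁻¹ = zi X Y i s * (zi X Y j s)⁻¹ := by
    intro s
    rw [← h4, ← h4]
    calc _ = T * (zi X Y i s * (zi X Y j s)⁻¹) * T⁻¹ := by group
      _ = _ := by rw [ker_comm c.odd (h5 s) T]; group
  have h7 : ∀ s t, zi X Y i (s + t) * (zi X Y j (s + t))⁻¹ =
      (zi X Y i s * (zi X Y j s)⁻¹) * (zi X Y i t * (zi X Y j t)⁻¹) := by
    intro s t
    rw [c.zi_add, c.zi_add]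
    have e1 : Commute (zi X Y i t) (zi X Y j s)⁻¹ := (show Commute _ _ from c.zi_comm i j t s).inv_right
    have e2 : Commute (zi X Y j s)⁻¹ (zi X Y j t)⁻¹ :=
      ((show Commute _ _ from c.zi_comm j j s t).inv_right).inv_left
    calc zi X Y i s * zi X Y i t * (zi X Y j s * zi X Y j t)⁻¹
        = zi X Y i s * zi X Y i t * ((zi X Y j t)⁻¹ * (zi X Y j s)⁻¹) := by group
      _ = zi X Y i s * (zi X Y i t * (zi X Y j s)⁻¹) * (zi X Y j t)⁻¹ := by rw [← e2.eq]; group
      _ = _ := by rw [e1.eq]; group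
  have h8 : ∀ s, zi X Y i ((b - 1) * s) * (zi X Y j ((b - 1) * s))⁻¹ = 1 := by
    intro s
    have e1 := h7 ((b - 1) * s) s
    rw [show (b - 1) * s + s = b * s by ring, h6] at e1
    exact (right_eq_mul.1 e1)
  have h9 := h8 ((b - 1)⁻¹ * s)
  rw [mul_inv_cancel_left₀ (sub_ne_zero.2 hb)] at h9
  exact mul_inv_eq_one.1 h9

end Cov

end Both

end Cfsg.Agent.Omega.TwoF.OLift

end

section


/-!
# The long root parabolic of an orthogonal group

`Q` a nondegenerate quadratic form on `ι → F`, `F` of odd characteristic.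

* `E Q u w`: the Eichler transformation (total function);
* `tor Q e f a`: `e ↦ a e`, `f ↦ a⁻¹ f`, identity on `⟨e, f⟩^⊥`;
* `Frame Q e f e' f' b`: two hyperbolic pairs and an orthogonal family of nonsingular vectors orthogonal to them.
-/

set_option autoImplicit false
set_option linter.unusedSectionVars false

namespace Cfsg.Agent.Omega.TwoF.OrthEl

open QuadraticMap Matrix
open Cfsg.Agent.ClassicalGeometry.Reflection Cfsg.Agent.ClassicalGeometry.Eichler
open Cfsg.Agent.ClassicalGeometry.SiegelGen Cfsg.Agent.ClassicalGeometry.SpinorSign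
open Cfsg.Agent.ClassicalGeometry.GenReflections (act act_apply act_mul act_one act_isometry act_polar act_ext
  act_reflIso act_inv_eq)
open Cfsg.Agent.ClassicalGeometry.ReflClass (exists_diag_binary)

variable {ι : Type} [Fintype ι] [DecidableEq ι] {F : Type*} [Field F]

/-! ### Eichler transformations -/

open Classical in
/-- The Eichler transformation as a total function. -/
noncomputable def E (Q : QuadraticForm F (ι → F)) (u w : ι → F) : Cfsg.isometryGroup F (⇑Q) :=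
  if h : Q u = 0 ∧ polar (⇑Q) u w = 0 then eichlerIso Q u w h.1 h.2 else 1

variable {Q : QuadraticForm F (ι → F)}

theorem E_eq {u w : ι → F} (hu : Q u = 0) (hw : polar (⇑Q) u w = 0) : E Q u w = eichlerIso Q u w hu hw := by
  rw [E, dif_pos ⟨hu, hw⟩]

theorem act_E {u w : ι → F} (hu : Q u = 0) (hw : polar (⇑Q) u w = 0) (x : ι → F) :
    act Q (E Q u w) x = x + (polar (⇑Q) u x • w - polar (⇑Q) w x • u - (Q w * polar (⇑Q) u x) • u) := by
  rw [E_eq hu hw, act_apply, coe_eichlerIso, eichlerMatrix_mulVec]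

theorem E_add {u w w' : ι → F} (hu : Q u = 0) (hw : polar (⇑Q) u w = 0) (hw' : polar (⇑Q) u w' = 0) :
    E Q u w * E Q u w' = E Q u (w + w') := by
  rw [E_eq hu hw, E_eq hu hw', eichlerIso_mul, E_eq hu]

theorem E_zero (u : ι → F) : E Q u 0 = 1 := by
  by_cases hu : Q u = 0
  · rw [E_eq hu (QuadraticMap.polar_zero_right _ _), eichlerIso_zero]
  · rw [E, dif_neg fun h => hu h.1]

theorem E_conj (g : Cfsg.isometryGroup F (⇑Q)) (u w : ι → F) :
    g * E Q u w * g⁻¹ = E Q (act Q g u) (act Q g w) := by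
  by_cases h : Q u = 0 ∧ polar (⇑Q) u w = 0
  · have h1 : Q (act Q g u) = 0 := by rw [act_isometry, h.1]
    have h2 : polar (⇑Q) (act Q g u) (act Q g w) = 0 := by rw [act_polar, h.2]
    rw [E_eq h.1 h.2, E_eq h1 h2]
    exact conj_eichlerIso Q u w h.1 h.2 g h1 h2
  · have h' : ¬ (Q (act Q g u) = 0 ∧ polar (⇑Q) (act Q g u) (act Q g w) = 0) := by
      rwa [act_isometry, act_polar]
    rw [E, dif_neg h, E, dif_neg h']
    group

theorem E_smul {u w : ι → F} {a : F} (hu : Q u = 0) (hw : polar (⇑Q) u w = 0) :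
    E Q (a • u) w = E Q u (a • w) := by
  have h1 : Q (a • u) = 0 := by rw [QuadraticMap.map_smul, hu, smul_zero]
  have h2 : polar (⇑Q) (a • u) w = 0 := by rw [QuadraticMap.polar_smul_left, hw, smul_zero]
  have h3 : polar (⇑Q) u (a • w) = 0 := by rw [QuadraticMap.polar_smul_right, hw, smul_zero]
  apply act_ext
  intro x
  rw [act_E h1 h2, act_E hu h3, QuadraticMap.map_smul, QuadraticMap.polar_smul_left, QuadraticMap.polar_smul_left]
  ext i
  simp only [Pi.add_apply, Pi.sub_apply, Pi.smul_apply, smul_eq_mul]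
  ring

theorem E_comm {u v w t : ι → F} (hu : Q u = 0) (hv : Q v = 0) (huv : polar (⇑Q) u v = 0)
    (huw : polar (⇑Q) u w = 0) (hut : polar (⇑Q) u t = 0) (hvw : polar (⇑Q) v w = 0)
    (hvt : polar (⇑Q) v t = 0) :
    E Q u w * E Q v t * (E Q u w)⁻¹ * (E Q v t)⁻¹ = E Q u (polar (⇑Q) w t • v) := by
  have h1 := commutator_eichlerIso Q u v w t hu hv huv huw hut hvw hvt
  rw [E_eq hu huw, E_eq hv hvt, E_eq hu (by rw [QuadraticMap.polar_smul_right, huv, smul_zero])]
  exact h1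

theorem E_mem (h2 : (2 : F) ≠ 0) (hQ : (polarBilin Q).Nondegenerate) (u w : ι → F) :
    E Q u w ∈ Cfsg.Omega F (⇑Q) := by
  by_cases h : Q u = 0 ∧ polar (⇑Q) u w = 0
  · have h3 : polar (⇑Q) u ((2 : F)⁻¹ • w) = 0 := by rw [QuadraticMap.polar_smul_right, h.2, smul_zero]
    have h4 : E Q u w = E Q u ((2 : F)⁻¹ • w) * E Q u ((2 : F)⁻¹ • w) := by
      rw [E_add h.1 h3 h3, ← add_smul, ← two_mul, mul_inv_cancel₀ h2, one_smul]
    rw [h4]
    exact mul_self_mem_commutator h2 Q hQ _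
  · rw [E, dif_neg h]
    exact one_mem _

/-- `E Q u w = 1` only if `w ∈ F u` (`u ≠ 0`). -/
theorem eq_zero_of_E_eq_one {u w v : ι → F} (hu : Q u = 0) (hw : polar (⇑Q) u w = 0) (h : E Q u w = 1)
    (hv : polar (⇑Q) u v = 1) (hwv : polar (⇑Q) w v = 0) : w = Q w • u := by
  have h1 := act_E hu hw v
  rw [h, act_one, hv, hwv] at h1
  have h2 : w - Q w • u = 0 := by
    have := (left_eq_add.1 h1)
    simpa using this
  exact sub_eq_zero.1 h2

/-! ### Reflections -/

theorem refl_fix {v x : ι → F} (hv : Q v ≠ 0) (h : polar (⇑Q) v x = 0) : act Q (reflIso Q v hv) x = x := by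
  rw [act_reflIso, h, mul_zero, zero_smul, sub_zero]

theorem refl_neg {v : ι → F} (hv : Q v ≠ 0) : act Q (reflIso Q v hv) v = -v := by
  rw [act_reflIso, polar_self']
  have : (Q v)⁻¹ * (2 * Q v) = 2 := by field_simp
  rw [this, two_smul]
  abel

theorem refl_comm {v w : ι → F} (hv : Q v ≠ 0) (hw : Q w ≠ 0) (h : polar (⇑Q) v w = 0) :
    reflIso Q v hv * reflIso Q w hw = reflIso Q w hw * reflIso Q v hv := by
  apply act_ext
  intro x
  rw [act_mul, act_mul, act_reflIso, act_reflIso, act_reflIso, act_reflIso]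
  simp only [QuadraticMap.polar_sub_right, QuadraticMap.polar_smul_right, h, polar_comm (⇑Q) w v, smul_zero,
    sub_zero]
  abel

theorem refl_mul_mem (h2 : (2 : F) ≠ 0) (hQ : (polarBilin Q).Nondegenerate) {v w : ι → F} (hv : Q v ≠ 0)
    (hw : Q w ≠ 0) (h : IsSquare (Q v * Q w)) : reflIso Q v hv * reflIso Q w hw ∈ Cfsg.Omega F (⇑Q) := by
  obtain ⟨u, hu, h3⟩ := exists_reflIso_mul_reflIso_eq_sq h2 Q hv hw h
  rw [h3, pow_two]
  exact mul_self_mem_commutator h2 Q hQ _

/-! ### The split torus -/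

theorem Q_sub_smul {e f : ι → F} (he : Q e = 0) (hf : Q f = 0) (hef : polar (⇑Q) e f = 1) (a : F) :
    Q (e - a • f) = -a := by
  rw [sub_eq_add_neg, ← neg_smul, map_add', QuadraticMap.map_smul, QuadraticMap.polar_smul_right, he, hf, hef]
  simp

/-- A hyperbolic pair. -/
structure Hyp (Q : QuadraticForm F (ι → F)) (e f : ι → F) : Prop where
  qe : Q e = 0
  qf : Q f = 0
  ef : polar (⇑Q) e f = 1

theorem Hyp.ne {e f : ι → F} (h : Hyp Q e f) (a : Fˣ) : Q (e - (a : F) • f) ≠ 0 := by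
  rw [Q_sub_smul h.qe h.qf h.ef]
  exact neg_ne_zero.2 a.ne_zero

/-- `e ↦ a e`, `f ↦ a⁻¹ f`. -/
noncomputable def tor {e f : ι → F} (h : Hyp Q e f) (a : Fˣ) : Cfsg.isometryGroup F (⇑Q) :=
  reflIso Q (e - ((1 : Fˣ) : F) • f) (h.ne 1) * reflIso Q (e - (a : F) • f) (h.ne a)

theorem act_tor {e f : ι → F} (h : Hyp Q e f) (a : Fˣ) (x : ι → F) :
    act Q (tor h a) x = x + (((a : F) - 1) * polar (⇑Q) f x) • e + (((a : F)⁻¹ - 1) * polar (⇑Q) e x) • f := by
  have ha : (a : F) ≠ 0 := a.ne_zero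
  have ee : polar (⇑Q) e e = 0 := by rw [polar_self', h.qe, mul_zero]
  have ff : polar (⇑Q) f f = 0 := by rw [polar_self', h.qf, mul_zero]
  have fe : polar (⇑Q) f e = 1 := by rw [polar_comm]; exact h.ef
  rw [tor, act_mul, act_reflIso, act_reflIso, Q_sub_smul h.qe h.qf h.ef, Q_sub_smul h.qe h.qf h.ef]
  simp only [QuadraticMap.polar_sub_left, QuadraticMap.polar_sub_right, QuadraticMap.polar_smul_left,
    QuadraticMap.polar_smul_right, ee, ff, fe, h.ef, smul_eq_mul, Units.val_one, mul_one,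
    sub_zero, zero_sub, one_smul]
  ext i
  simp only [Pi.add_apply, Pi.sub_apply, Pi.smul_apply, smul_eq_mul]
  field_simp
  ring

theorem act_tor_e {e f : ι → F} (h : Hyp Q e f) (a : Fˣ) : act Q (tor h a) e = (a : F) • e := by
  have ee : polar (⇑Q) e e = 0 := by rw [polar_self', h.qe, mul_zero]
  have fe : polar (⇑Q) f e = 1 := by rw [polar_comm]; exact h.ef
  rw [act_tor, ee, fe, mul_zero, zero_smul, add_zero, mul_one, sub_smul, one_smul]
  abel

theorem act_tor_f {e f : ι → F} (h : Hyp Q e f) (a : Fˣ) : act Q (tor h a) f = (a : F)⁻¹ • f := by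
  have ff : polar (⇑Q) f f = 0 := by rw [polar_self', h.qf, mul_zero]
  rw [act_tor, ff, h.ef, mul_zero, zero_smul, add_zero, mul_one, sub_smul, one_smul]
  abel

theorem act_tor_fix {e f x : ι → F} (h : Hyp Q e f) (a : Fˣ) (h1 : polar (⇑Q) e x = 0)
    (h2 : polar (⇑Q) f x = 0) : act Q (tor h a) x = x := by
  rw [act_tor, h1, h2, mul_zero, mul_zero, zero_smul, zero_smul, add_zero, add_zero]

theorem tor_mul {e f : ι → F} (h : Hyp Q e f) (a b : Fˣ) : tor h a * tor h b = tor h (a * b) := by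
  have ee : polar (⇑Q) e e = 0 := by rw [polar_self', h.qe, mul_zero]
  have ff : polar (⇑Q) f f = 0 := by rw [polar_self', h.qf, mul_zero]
  have fe : polar (⇑Q) f e = 1 := by rw [polar_comm]; exact h.ef
  have ha : (a : F) ≠ 0 := a.ne_zero
  have hb : (b : F) ≠ 0 := b.ne_zero
  apply act_ext
  intro x
  rw [act_mul, act_tor, act_tor, act_tor]
  simp only [QuadraticMap.polar_add_right, QuadraticMap.polar_smul_right, ee, ff, fe, h.ef, smul_eq_mul,
    Units.val_mul, mul_zero, mul_one, add_zero]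
  ext i
  simp only [Pi.add_apply, Pi.smul_apply, smul_eq_mul]
  field_simp
  ring

theorem tor_one {e f : ι → F} (h : Hyp Q e f) : tor h 1 = 1 := by
  have := tor_mul h 1 1
  rw [mul_one] at this
  exact (mul_eq_left.1 this)

theorem tor_pow {e f : ι → F} (h : Hyp Q e f) (a : Fˣ) (n : ℕ) : tor h a ^ n = tor h (a ^ n) := by
  induction n with
  | zero => rw [pow_zero, pow_zero, tor_one]
  | succ n ih => rw [pow_succ, ih, tor_mul, pow_succ]

theorem tor_comm {e f : ι → F} (h : Hyp Q e f) (a b : Fˣ) : tor h a * tor h b = tor h b * tor h a := by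
  rw [tor_mul, tor_mul, mul_comm]

/-- Tori of orthogonal hyperbolic pairs commute; more generally `tor` commutes with reflections in orthogonal
vectors. -/
theorem tor_refl_comm {e f v : ι → F} (h : Hyp Q e f) (a : Fˣ) (hv : Q v ≠ 0) (h1 : polar (⇑Q) e v = 0)
    (h2 : polar (⇑Q) f v = 0) : tor h a * reflIso Q v hv = reflIso Q v hv * tor h a := by
  have h3 : ∀ b : Fˣ, reflIso Q (e - (b : F) • f) (h.ne b) * reflIso Q v hv =
      reflIso Q v hv * reflIso Q (e - (b : F) • f) (h.ne b) := fun b =>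
    refl_comm _ _ (by rw [QuadraticMap.polar_sub_left, QuadraticMap.polar_smul_left, h1, h2, smul_zero, sub_zero])
  rw [tor, mul_assoc, h3 a, ← mul_assoc, h3 1, mul_assoc]

theorem tor_tor_comm {e f e' f' : ι → F} (h : Hyp Q e f) (h' : Hyp Q e' f') (o1 : polar (⇑Q) e e' = 0)
    (o2 : polar (⇑Q) e f' = 0) (o3 : polar (⇑Q) f e' = 0) (o4 : polar (⇑Q) f f' = 0) (a b : Fˣ) :
    tor h a * tor h' b = tor h' b * tor h a := by
  have h3 : ∀ c : Fˣ, tor h a * reflIso Q (e' - (c : F) • f') (h'.ne c) =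
      reflIso Q (e' - (c : F) • f') (h'.ne c) * tor h a := fun c =>
    tor_refl_comm h a _ (by rw [QuadraticMap.polar_sub_right, QuadraticMap.polar_smul_right, o1, o2, smul_zero,
      sub_zero]) (by rw [QuadraticMap.polar_sub_right, QuadraticMap.polar_smul_right, o3, o4, smul_zero, sub_zero])
  rw [tor.eq_1 h' b, ← mul_assoc, h3 1, mul_assoc, h3 b, mul_assoc]

/-! ### Frames -/

section Frame

variable {I : Type*} [Fintype I] [DecidableEq I]

/-- Two orthogonal hyperbolic pairs and an orthogonal family of nonsingular vectors orthogonal to them. -/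
structure Frame (Q : QuadraticForm F (ι → F)) (e f e' f' : ι → F) (b : I → ι → F) : Prop where
  hyp : Hyp Q e f
  hyp' : Hyp Q e' f'
  o1 : polar (⇑Q) e e' = 0
  o2 : polar (⇑Q) e f' = 0
  o3 : polar (⇑Q) f e' = 0
  o4 : polar (⇑Q) f f' = 0
  eb : ∀ i, polar (⇑Q) e (b i) = 0
  fb : ∀ i, polar (⇑Q) f (b i) = 0
  eb' : ∀ i, polar (⇑Q) e' (b i) = 0
  fb' : ∀ i, polar (⇑Q) f' (b i) = 0
  orth : ∀ i j, i ≠ j → polar (⇑Q) (b i) (b j) = 0
  nz : ∀ i, Q (b i) ≠ 0

/-- Linear combinations. -/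
def vec (b : I → ι → F) (p : I → F) : ι → F := ∑ i, p i • b i

theorem vec_add (b : I → ι → F) (p q : I → F) : vec b (p + q) = vec b p + vec b q := by
  simp only [vec, Pi.add_apply, add_smul, Finset.sum_add_distrib]

theorem vec_smul (b : I → ι → F) (a : F) (p : I → F) : vec b (a • p) = a • vec b p := by
  simp only [vec, Pi.smul_apply, smul_eq_mul, mul_smul, Finset.smul_sum]

theorem vec_neg (b : I → ι → F) (p : I → F) : vec b (-p) = -vec b p := by
  simp only [vec, Pi.neg_apply, neg_smul, Finset.sum_neg_distrib]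

theorem vec_single (b : I → ι → F) (i : I) (s : F) : vec b (Pi.single i s) = s • b i := by
  rw [vec, Finset.sum_eq_single i]
  · rw [Pi.single_eq_same]
  · intro j _ hj
    rw [Pi.single_eq_of_ne hj, zero_smul]
  · intro h; exact absurd (Finset.mem_univ i) h

theorem polar_vec_right (b : I → ι → F) (v : ι → F) (p : I → F) :
    polar (⇑Q) v (vec b p) = ∑ i, p i * polar (⇑Q) v (b i) := by
  have h : polarBilin Q v (vec b p) = ∑ i, p i • polarBilin Q v (b i) := by
    rw [vec, map_sum]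
    exact Finset.sum_congr rfl fun i _ => map_smul _ _ _
  simpa using h

/-- Dual coordinates. -/
noncomputable def dual (Q : QuadraticForm F (ι → F)) (b : I → ι → F) (p : I → F) : I → F :=
  fun i => p i * (2 * Q (b i))⁻¹

theorem dual_add (b : I → ι → F) (p q : I → F) : dual Q b (p + q) = dual Q b p + dual Q b q := by
  funext i; simp only [dual, Pi.add_apply, add_mul]

theorem dual_smul (b : I → ι → F) (a : F) (p : I → F) : dual Q b (a • p) = a • dual Q b p := by
  funext i; simp only [dual, Pi.smul_apply, smul_eq_mul, mul_assoc]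

theorem dual_neg (b : I → ι → F) (p : I → F) : dual Q b (-p) = -dual Q b p := by
  funext i; simp only [dual, Pi.neg_apply, neg_mul]

theorem dual_single (b : I → ι → F) (i : I) (s : F) :
    dual Q b (Pi.single i s) = Pi.single i (s * (2 * Q (b i))⁻¹) := by
  funext j
  by_cases h : j = i
  · subst h; simp [dual]
  · simp [dual, Pi.single_eq_of_ne h]

namespace Frame

variable {e f e' f' : ι → F} {b : I → ι → F}

theorem polar_zero (_ : Frame Q e f e' f' b) (v : ι → F) (h : ∀ i, polar (⇑Q) v (b i) = 0) (p : I → F) :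
    polar (⇑Q) v (vec b p) = 0 := by
  rw [polar_vec_right]
  exact Finset.sum_eq_zero fun i _ => by rw [h, mul_zero]

theorem polar_b (H : Frame Q e f e' f' b) (i : I) (p : I → F) :
    polar (⇑Q) (b i) (vec b p) = p i * (2 * Q (b i)) := by
  rw [polar_vec_right, Finset.sum_eq_single i]
  · rw [polar_self']
  · intro j _ hj
    rw [H.orth i j hj.symm, mul_zero]
  · intro h; exact absurd (Finset.mem_univ i) h

theorem polar_vec_dual (H : Frame Q e f e' f' b) (h2 : (2 : F) ≠ 0) (p q : I → F) :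
    polar (⇑Q) (vec b (dual Q b q)) (vec b p) = p ⬝ᵥ q := by
  rw [polar_vec_right, dotProduct]
  refine Finset.sum_congr rfl fun i _ => ?_
  rw [polar_comm, H.polar_b, dual]
  have := H.nz i
  field_simp

/-- `x p = E(e, ∑ p_i b_i)`. -/
noncomputable def x (_ : Frame Q e f e' f' b) (p : I → F) : Cfsg.isometryGroup F (⇑Q) := E Q e (vec b p)

/-- `y p = E(e', ∑ p_i (2 Q b_i)⁻¹ b_i)`. -/
noncomputable def y (_ : Frame Q e f e' f' b) (p : I → F) : Cfsg.isometryGroup F (⇑Q) :=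
  E Q e' (vec b (dual Q b p))

/-- `z s = E(e', s e)`. -/
noncomputable def z (_ : Frame Q e f e' f' b) (s : F) : Cfsg.isometryGroup F (⇑Q) := E Q e' (s • e)

/-- `t u`. -/
noncomputable def t (H : Frame Q e f e' f' b) (u : Fˣ) : Cfsg.isometryGroup F (⇑Q) :=
  tor H.hyp u * tor H.hyp' u⁻¹

theorem x_add (H : Frame Q e f e' f' b) (p q : I → F) : H.x (p + q) = H.x p * H.x q := by
  rw [x, x, x, vec_add, E_add H.hyp.qe (H.polar_zero e H.eb p) (H.polar_zero e H.eb q)]

theorem y_add (H : Frame Q e f e' f' b) (p q : I → F) : H.y (p + q) = H.y p * H.y q := by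
  rw [y, y, y, dual_add, vec_add, E_add H.hyp'.qe (H.polar_zero e' H.eb' _) (H.polar_zero e' H.eb' _)]

theorem o1' (H : Frame Q e f e' f' b) : polar (⇑Q) e' e = 0 := by rw [polar_comm]; exact H.o1

theorem e'_se (H : Frame Q e f e' f' b) (s : F) : polar (⇑Q) e' (s • e) = 0 := by
  rw [QuadraticMap.polar_smul_right, H.o1', smul_zero]

theorem z_add (H : Frame Q e f e' f' b) (s t : F) : H.z (s + t) = H.z s * H.z t := by
  rw [z, z, z, add_smul, E_add H.hyp'.qe (H.e'_se s) (H.e'_se t)]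

theorem zx (H : Frame Q e f e' f' b) (s : F) (p : I → F) : H.z s * H.x p = H.x p * H.z s := by
  have ee : polar (⇑Q) e e = 0 := by rw [polar_self', H.hyp.qe, mul_zero]
  have h1 := E_comm (Q := Q) (u := e') (v := e) (w := s • e) (t := vec b p) H.hyp'.qe H.hyp.qe H.o1' (H.e'_se s)
    (H.polar_zero e' H.eb' p) (by rw [QuadraticMap.polar_smul_right, ee, smul_zero]) (H.polar_zero e H.eb p)
  rw [QuadraticMap.polar_smul_left, H.polar_zero e H.eb p, smul_zero, zero_smul, E_zero] at h1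
  change H.z s * H.x p * (H.z s)⁻¹ * (H.x p)⁻¹ = 1 at h1
  calc H.z s * H.x p = (H.z s * H.x p * (H.z s)⁻¹ * (H.x p)⁻¹) * (H.x p * H.z s) := by group
    _ = _ := by rw [h1, one_mul]

theorem zy (H : Frame Q e f e' f' b) (s : F) (p : I → F) : H.z s * H.y p = H.y p * H.z s := by
  rw [z, y, E_add H.hyp'.qe (H.e'_se s) (H.polar_zero e' H.eb' _),
    E_add H.hyp'.qe (H.polar_zero e' H.eb' _) (H.e'_se s), add_comm]

theorem rel (H : Frame Q e f e' f' b) (h2 : (2 : F) ≠ 0) (p q : I → F) :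
    H.y q * H.x p * (H.y q)⁻¹ = H.x p * H.z (p ⬝ᵥ q) := by
  have h1 := E_comm (Q := Q) (u := e') (v := e) (w := vec b (dual Q b q)) (t := vec b p) H.hyp'.qe H.hyp.qe H.o1'
    (H.polar_zero e' H.eb' _) (H.polar_zero e' H.eb' p) (H.polar_zero e H.eb _) (H.polar_zero e H.eb p)
  rw [H.polar_vec_dual h2] at h1
  change H.y q * H.x p * (H.y q)⁻¹ * (H.x p)⁻¹ = H.z (p ⬝ᵥ q) at h1
  rw [← H.zx, ← h1]
  group

/-- Conjugation by an isometry acting on `e` and on the `vec`. -/
theorem x_conj (H : Frame Q e f e' f' b) (g : Cfsg.isometryGroup F (⇑Q)) {a : F} (he : act Q g e = a • e)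
    {p q : I → F} (hp : act Q g (vec b p) = vec b q) : g * H.x p * g⁻¹ = H.x (a • q) := by
  rw [x, E_conj, he, hp, E_smul H.hyp.qe (H.polar_zero e H.eb q), ← vec_smul]
  rfl

theorem y_conj (H : Frame Q e f e' f' b) (g : Cfsg.isometryGroup F (⇑Q)) {a : F} (he : act Q g e' = a • e')
    {p q : I → F} (hp : act Q g (vec b (dual Q b p)) = vec b (dual Q b q)) :
    g * H.y p * g⁻¹ = H.y (a • q) := by
  rw [y, E_conj, he, hp, E_smul H.hyp'.qe (H.polar_zero e' H.eb' _), ← vec_smul, ← dual_smul]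
  rfl

theorem z_conj (H : Frame Q e f e' f' b) (g : Cfsg.isometryGroup F (⇑Q)) {a a' : F} (he : act Q g e = a • e)
    (he' : act Q g e' = a' • e') (s : F) : g * H.z s * g⁻¹ = H.z (a * a' * s) := by
  rw [z, E_conj, he', map_smul, he, E_smul H.hyp'.qe (by
    rw [QuadraticMap.polar_smul_right, QuadraticMap.polar_smul_right, H.o1', smul_zero, smul_zero]), z, smul_smul,
    smul_smul]
  congr 2
  ring

theorem tor_vec (H : Frame Q e f e' f' b) (u : Fˣ) (p : I → F) : act Q (tor H.hyp u) (vec b p) = vec b p :=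
  act_tor_fix H.hyp u (H.polar_zero e H.eb p) (H.polar_zero f H.fb p)

theorem tor_vec' (H : Frame Q e f e' f' b) (u : Fˣ) (p : I → F) : act Q (tor H.hyp' u) (vec b p) = vec b p :=
  act_tor_fix H.hyp' u (H.polar_zero e' H.eb' p) (H.polar_zero f' H.fb' p)

theorem tor_e' (H : Frame Q e f e' f' b) (u : Fˣ) : act Q (tor H.hyp u) e' = e' :=
  act_tor_fix H.hyp u H.o1 H.o3

theorem tor_e (H : Frame Q e f e' f' b) (u : Fˣ) : act Q (tor H.hyp' u) e = e :=
  act_tor_fix H.hyp' u H.o1' (by rw [polar_comm]; exact H.o2)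

theorem t_e (H : Frame Q e f e' f' b) (u : Fˣ) : act Q (H.t u) e = (u : F) • e := by
  rw [t, act_mul, H.tor_e, act_tor_e]

theorem t_e' (H : Frame Q e f e' f' b) (u : Fˣ) : act Q (H.t u) e' = (u : F)⁻¹ • e' := by
  rw [t, act_mul, act_tor_e, map_smul, H.tor_e', Units.val_inv_eq_inv_val]

theorem t_vec (H : Frame Q e f e' f' b) (u : Fˣ) (p : I → F) : act Q (H.t u) (vec b p) = vec b p := by
  rw [t, act_mul, H.tor_vec', H.tor_vec]

theorem t_mul (H : Frame Q e f e' f' b) (u v : Fˣ) : H.t u * H.t v = H.t (u * v) := by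
  have h1 := tor_tor_comm H.hyp H.hyp' H.o1 H.o2 H.o3 H.o4 v u⁻¹
  rw [t, t, t, _root_.mul_inv_rev, mul_comm v⁻¹ u⁻¹, ← tor_mul, ← tor_mul]
  calc tor H.hyp u * tor H.hyp' u⁻¹ * (tor H.hyp v * tor H.hyp' v⁻¹)
      = tor H.hyp u * (tor H.hyp' u⁻¹ * tor H.hyp v) * tor H.hyp' v⁻¹ := by group
    _ = tor H.hyp u * (tor H.hyp v * tor H.hyp' u⁻¹) * tor H.hyp' v⁻¹ := by rw [h1]
    _ = _ := by group

theorem t_one (H : Frame Q e f e' f' b) : H.t 1 = 1 := by
  rw [t, inv_one, tor_one, tor_one, one_mul]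

theorem t_pow (H : Frame Q e f e' f' b) (u : Fˣ) (n : ℕ) : H.t u ^ n = H.t (u ^ n) := by
  induction n with
  | zero => rw [pow_zero, pow_zero, t_one]
  | succ n ih => rw [pow_succ, ih, t_mul, pow_succ]

theorem t_comm (H : Frame Q e f e' f' b) (u v : Fˣ) : H.t u * H.t v = H.t v * H.t u := by
  rw [t_mul, t_mul, mul_comm]

theorem t_mem (H : Frame Q e f e' f' b) (h2 : (2 : F) ≠ 0) (hQ : (polarBilin Q).Nondegenerate) (u : Fˣ) :
    H.t u ∈ Cfsg.Omega F (⇑Q) := by
  have h1 := refl_mul_mem h2 hQ (H.hyp.ne 1) (H.hyp'.ne 1) (by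
    rw [Q_sub_smul H.hyp.qe H.hyp.qf H.hyp.ef, Q_sub_smul H.hyp'.qe H.hyp'.qf H.hyp'.ef]
    exact ⟨1, by simp⟩)
  have h3 := refl_mul_mem h2 hQ (H.hyp.ne u) (H.hyp'.ne u⁻¹) (by
    rw [Q_sub_smul H.hyp.qe H.hyp.qf H.hyp.ef, Q_sub_smul H.hyp'.qe H.hyp'.qf H.hyp'.ef]
    exact ⟨1, by simp⟩)
  have h4 : reflIso Q (e - (u : F) • f) (H.hyp.ne u) * reflIso Q (e' - ((1 : Fˣ) : F) • f') (H.hyp'.ne 1) =
      reflIso Q (e' - ((1 : Fˣ) : F) • f') (H.hyp'.ne 1) * reflIso Q (e - (u : F) • f) (H.hyp.ne u) := by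
    apply refl_comm
    simp only [QuadraticMap.polar_sub_left, QuadraticMap.polar_sub_right, QuadraticMap.polar_smul_left,
      QuadraticMap.polar_smul_right, H.o1, H.o2, H.o3, H.o4, smul_zero, sub_zero]
  have h5 := mul_mem h1 h3
  have h6 : H.t u = reflIso Q (e - ((1 : Fˣ) : F) • f) (H.hyp.ne 1) *
      reflIso Q (e' - ((1 : Fˣ) : F) • f') (H.hyp'.ne 1) * (reflIso Q (e - (u : F) • f) (H.hyp.ne u) *
      reflIso Q (e' - ((u⁻¹ : Fˣ) : F) • f') (H.hyp'.ne u⁻¹)) := by
    rw [t, tor, tor]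
    calc _ = reflIso Q (e - ((1 : Fˣ) : F) • f) (H.hyp.ne 1) *
        (reflIso Q (e - (u : F) • f) (H.hyp.ne u) * reflIso Q (e' - ((1 : Fˣ) : F) • f') (H.hyp'.ne 1)) *
        reflIso Q (e' - ((u⁻¹ : Fˣ) : F) • f') (H.hyp'.ne u⁻¹) := by group
      _ = _ := by rw [h4]; group
  rw [h6]
  exact h5

/-- The central involution `-1` on `⟨e, f, e', f'⟩`. -/
noncomputable def g (H : Frame Q e f e' f' b) : Cfsg.isometryGroup F (⇑Q) := H.t (-1)

theorem gx (H : Frame Q e f e' f' b) (p : I → F) : H.g * H.x p * H.g⁻¹ = H.x (-p) := by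
  rw [H.x_conj H.g (H.t_e (-1)) (H.t_vec (-1) p), Units.val_neg, Units.val_one, neg_one_smul]

theorem gy (H : Frame Q e f e' f' b) (p : I → F) : H.g * H.y p * H.g⁻¹ = H.y (-p) := by
  rw [H.y_conj H.g (H.t_e' (-1)) (H.t_vec (-1) _), Units.val_neg, Units.val_one, inv_neg, inv_one, neg_one_smul]

theorem gz (H : Frame Q e f e' f' b) (s : F) : H.g * H.z s = H.z s * H.g := by
  have h1 := H.z_conj H.g (H.t_e (-1)) (H.t_e' (-1)) s
  rw [Units.val_neg, Units.val_one, inv_neg, inv_one, neg_mul_neg, mul_one, one_mul] at h1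
  exact mul_inv_eq_iff_eq_mul.1 h1

theorem tx (H : Frame Q e f e' f' b) (u : Fˣ) (p : I → F) : H.t u * H.x p * (H.t u)⁻¹ = H.x ((u : F) • p) :=
  H.x_conj _ (H.t_e u) (H.t_vec u p)

theorem ty (H : Frame Q e f e' f' b) (u : Fˣ) (p : I → F) : H.t u * H.y p * (H.t u)⁻¹ = H.y ((u : F)⁻¹ • p) :=
  H.y_conj _ (H.t_e' u) (H.t_vec u _)

theorem tz (H : Frame Q e f e' f' b) (u : Fˣ) (s : F) : H.t u * H.z s = H.z s * H.t u := by
  have h1 := H.z_conj (H.t u) (H.t_e u) (H.t_e' u) s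
  rw [mul_inv_cancel₀ u.ne_zero, one_mul] at h1
  exact mul_inv_eq_iff_eq_mul.1 h1

/-- `t u` commutes with reflections in vectors orthogonal to `e, f, e', f'`. -/
theorem t_refl_comm (H : Frame Q e f e' f' b) (u : Fˣ) {v : ι → F} (hv : Q v ≠ 0)
    (h1 : polar (⇑Q) e v = 0) (h2 : polar (⇑Q) f v = 0) (h3 : polar (⇑Q) e' v = 0) (h4 : polar (⇑Q) f' v = 0) :
    reflIso Q v hv * H.t u = H.t u * reflIso Q v hv := by
  have h5 := tor_refl_comm H.hyp u hv h1 h2
  have h6 := tor_refl_comm H.hyp' u⁻¹ hv h3 h4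
  rw [t, ← mul_assoc, ← h5, mul_assoc, ← h6, mul_assoc]

/-- Products of two reflections in vectors of the span of the `b i`. -/
theorem rr (H : Frame Q e f e' f' b) (h2 : (2 : F) ≠ 0) (hQ : (polarBilin Q).Nondegenerate) {p q : I → F}
    (hp : Q (vec b p) ≠ 0) (hq : Q (vec b q) ≠ 0) (hs : IsSquare (Q (vec b p) * Q (vec b q))) :
    ∃ h ∈ Cfsg.Omega F (⇑Q), h * H.g = H.g * h ∧ act Q h e = e ∧ act Q h e' = e' ∧
      (∀ v, act Q h v = act Q (reflIso Q _ hp) (act Q (reflIso Q _ hq) v)) := by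
  have z1 := fun p => H.polar_zero e H.eb p
  have z2 := fun p => H.polar_zero f H.fb p
  have z3 := fun p => H.polar_zero e' H.eb' p
  have z4 := fun p => H.polar_zero f' H.fb' p
  refine ⟨reflIso Q _ hp * reflIso Q _ hq, refl_mul_mem h2 hQ hp hq hs, ?_, ?_, ?_, fun v => act_mul _ _ _ _⟩
  · have h5 := H.t_refl_comm (-1) hp (z1 _) (z2 _) (z3 _) (z4 _)
    have h6 := H.t_refl_comm (-1) hq (z1 _) (z2 _) (z3 _) (z4 _)
    rw [g, mul_assoc, h6, ← mul_assoc, h5, mul_assoc]
  · rw [act_mul, refl_fix hq (by rw [polar_comm]; exact z1 q), refl_fix hp (by rw [polar_comm]; exact z1 p)]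
  · rw [act_mul, refl_fix hq (by rw [polar_comm]; exact z3 q), refl_fix hp (by rw [polar_comm]; exact z3 p)]

/-- Conjugation by isometries fixing `e`. -/
theorem x_conj_one (H : Frame Q e f e' f' b) (h : Cfsg.isometryGroup F (⇑Q)) (he : act Q h e = e)
    {p q : I → F} (hp : act Q h (vec b p) = vec b q) : h * H.x p * h⁻¹ = H.x q := by
  have := H.x_conj h (a := 1) (by rw [he, one_smul]) hp
  rwa [one_smul] at this

theorem y_conj_one (H : Frame Q e f e' f' b) (h : Cfsg.isometryGroup F (⇑Q)) (he : act Q h e' = e')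
    {p q : I → F} (hp : act Q h (vec b (dual Q b p)) = vec b (dual Q b q)) : h * H.y p * h⁻¹ = H.y q := by
  have := H.y_conj h (a := 1) (by rw [he, one_smul]) hp
  rwa [one_smul] at this

/-- The polar form on the span. -/
theorem polar_vec (H : Frame Q e f e' f' b) (p q : I → F) :
    polar (⇑Q) (vec b p) (vec b q) = ∑ i, p i * q i * (2 * Q (b i)) := by
  rw [polar_vec_right]
  refine Finset.sum_congr rfl fun i _ => ?_
  rw [polar_comm, H.polar_b]
  ring

/-- **Separation** from `p, q` to `v`: an element of `Ω` commuting with `g`, inverting `x p` and fixing `x q`, `y q`,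
if `vec p ⊥ vec q` etc. -/
theorem sep_gen (H : Frame Q e f e' f' b) (h2 : (2 : F) ≠ 0) (hQ : (polarBilin Q).Nondegenerate) {p r : I → F}
    (hp : Q (vec b p) ≠ 0) (hr : Q (vec b r) ≠ 0) (hs : IsSquare (Q (vec b p) * Q (vec b r)))
    (hpr : polar (⇑Q) (vec b p) (vec b r) = 0) :
    ∃ h ∈ Cfsg.Omega F (⇑Q), h * H.g = H.g * h ∧
      (∀ s : F, h * H.x (s • p) * h⁻¹ = H.x (-(s • p))) ∧
      (∀ q, polar (⇑Q) (vec b p) (vec b q) = 0 → polar (⇑Q) (vec b r) (vec b q) = 0 → h * H.x q * h⁻¹ = H.x q) ∧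
      (∀ q (s : F), dual Q b q = s • p → h * H.y q * h⁻¹ = H.y (-q)) ∧
      (∀ q, polar (⇑Q) (vec b p) (vec b (dual Q b q)) = 0 → polar (⇑Q) (vec b r) (vec b (dual Q b q)) = 0 →
        h * H.y q * h⁻¹ = H.y q) := by
  obtain ⟨h, h1, h3, h4, h5, h6⟩ := H.rr h2 hQ hp hr hs
  have hrp : polar (⇑Q) (vec b r) (vec b p) = 0 := by rw [polar_comm]; exact hpr
  have h7 : ∀ s : F, act Q h (s • vec b p) = -(s • vec b p) := by
    intro s
    rw [h6, map_smul, refl_fix hr hrp, map_smul, refl_neg hp, smul_neg]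
  have h8 : ∀ v, polar (⇑Q) (vec b p) v = 0 → polar (⇑Q) (vec b r) v = 0 → act Q h v = v := by
    intro v hv hv'
    rw [h6, refl_fix hr hv', refl_fix hp hv]
  refine ⟨h, h1, h3, fun s => ?_, fun q hq hq' => ?_, fun q s hq => ?_, fun q hq hq' => ?_⟩
  · apply H.x_conj_one h h4
    rw [vec_smul, h7, vec_neg, vec_smul]
  · exact H.x_conj_one h h4 (h8 _ hq hq')
  · apply H.y_conj_one h h5
    rw [dual_neg, vec_neg, hq, vec_smul, h7]
  · exact H.y_conj_one h h5 (h8 _ hq hq')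

/-! #### The data in `Ω` -/

/-- `x` in `Ω`. -/
noncomputable def xO (H : Frame Q e f e' f' b) (h2 : (2 : F) ≠ 0) (hQ : (polarBilin Q).Nondegenerate) (p : I → F) :
    Cfsg.Omega F (⇑Q) := ⟨H.x p, E_mem h2 hQ _ _⟩

/-- `y` in `Ω`. -/
noncomputable def yO (H : Frame Q e f e' f' b) (h2 : (2 : F) ≠ 0) (hQ : (polarBilin Q).Nondegenerate) (p : I → F) :
    Cfsg.Omega F (⇑Q) := ⟨H.y p, E_mem h2 hQ _ _⟩

/-- `z` in `Ω`. -/
noncomputable def zO (H : Frame Q e f e' f' b) (h2 : (2 : F) ≠ 0) (hQ : (polarBilin Q).Nondegenerate) (s : F) :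
    Cfsg.Omega F (⇑Q) := ⟨H.z s, E_mem h2 hQ _ _⟩

/-- `g` in `Ω`. -/
noncomputable def gO (H : Frame Q e f e' f' b) (h2 : (2 : F) ≠ 0) (hQ : (polarBilin Q).Nondegenerate) :
    Cfsg.Omega F (⇑Q) := ⟨H.g, H.t_mem h2 hQ _⟩

theorem vec_one (b : I → ι → F) (i : I) : vec b (Pi.single i (1 : F)) = b i := by rw [vec_single, one_smul]

/-- **Separation** of `i` and `j`. -/
theorem sep_ij (H : Frame Q e f e' f' b) (h2 : (2 : F) ≠ 0) (hQ : (polarBilin Q).Nondegenerate) {i j : I}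
    (hij : i ≠ j) {r : I → F} (hri : r i = 0) (hrj : r j = 0) (hr : Q (vec b r) ≠ 0)
    (hs : IsSquare (Q (b i) * Q (vec b r))) :
    ∃ h : Cfsg.Omega F (⇑Q), h * H.gO h2 hQ = H.gO h2 hQ * h ∧
      (∀ s, h * H.xO h2 hQ (Pi.single i s) * h⁻¹ = H.xO h2 hQ (Pi.single i (-s))) ∧
      (∀ s, h * H.xO h2 hQ (Pi.single j s) * h⁻¹ = H.xO h2 hQ (Pi.single j s)) ∧
      (∀ s, h * H.yO h2 hQ (Pi.single i s) * h⁻¹ = H.yO h2 hQ (Pi.single i (-s))) ∧
      (∀ s, h * H.yO h2 hQ (Pi.single j s) * h⁻¹ = H.yO h2 hQ (Pi.single j s)) := by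
  have e1 : ∀ s : F, s • (Pi.single i (1 : F) : I → F) = Pi.single i s := fun s => by
    rw [← Pi.single_smul, smul_eq_mul, mul_one]
  obtain ⟨h, h3, h4, h5, h6, h7, h8⟩ := H.sep_gen h2 hQ (p := Pi.single i 1) (r := r)
    (by rw [vec_one]; exact H.nz i) hr (by rw [vec_one]; exact hs)
    (by rw [vec_one, H.polar_b, hri, zero_mul])
  refine ⟨⟨h, h3⟩, Subtype.ext h4, fun s => Subtype.ext ?_, fun s => Subtype.ext ?_, fun s => Subtype.ext ?_,
    fun s => Subtype.ext ?_⟩
  · have := h5 s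
    rw [e1, ← Pi.single_neg] at this
    exact this
  · apply h6
    · rw [vec_one, H.polar_b, Pi.single_eq_of_ne hij, zero_mul]
    · rw [polar_comm, vec_single, QuadraticMap.polar_smul_left, H.polar_b, hrj, zero_mul, smul_zero]
  · have := h7 (Pi.single i s) (s * (2 * Q (b i))⁻¹) (by rw [dual_single, e1])
    rw [← Pi.single_neg] at this
    exact this
  · apply h8
    · rw [vec_one, H.polar_b, dual_single, Pi.single_eq_of_ne hij, zero_mul]
    · rw [polar_comm, dual_single, vec_single, QuadraticMap.polar_smul_left, H.polar_b, hrj, zero_mul, smul_zero]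

/-- The data in `Ω`. -/
theorem dat (H : Frame Q e f e' f' b) (h2 : (2 : F) ≠ 0) (hQ : (polarBilin Q).Nondegenerate) [Finite F] (p : ℕ)
    [Fact p.Prime] [CharP F p]
    (hsep : ∀ i j : I, i ≠ j → ∃ r : I → F, r i = 0 ∧ r j = 0 ∧ Q (vec b r) ≠ 0 ∧ IsSquare (Q (b i) * Q (vec b r))) :
    OLift.Dat (H.zO h2 hQ) (H.xO h2 hQ) (H.yO h2 hQ) (H.gO h2 hQ) where
  z_add := fun s t => Subtype.ext (H.z_add s t)
  x_add := fun s t => Subtype.ext (H.x_add s t)
  y_add := fun s t => Subtype.ext (H.y_add s t)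
  zx := fun s p => Subtype.ext (H.zx s p)
  zy := fun s p => Subtype.ext (H.zy s p)
  rel := fun p q => Subtype.ext (H.rel h2 p q)
  gx := fun p => Subtype.ext (H.gx p)
  gy := fun p => Subtype.ext (H.gy p)
  gz := fun s => Subtype.ext (H.gz s)
  tor := by
    have := Fintype.ofFinite F
    refine ⟨p, Fintype.card F - 1, ?_, fun s => Subtype.ext ?_, fun u hu => ?_⟩
    · obtain ⟨n, hn⟩ := FiniteField.card F p
      rw [hn.2, Nat.Prime.coprime_iff_not_dvd Fact.out]
      intro hd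
      have h3 : p ∣ p ^ (n : ℕ) := dvd_pow_self p n.ne_zero
      have h4 : 1 ≤ p ^ (n : ℕ) := Nat.one_le_pow _ _ (Nat.Prime.pos Fact.out)
      have h5 : p ∣ 1 := by
        have := Nat.dvd_sub h3 hd
        rwa [Nat.sub_sub_self h4] at this
      exact (Nat.Prime.one_lt (Fact.out : p.Prime)).ne' (Nat.dvd_one.1 h5)
    · show H.z s ^ p = 1
      have h3 : ∀ n : ℕ, H.z s ^ n = H.z (n * s) := by
        intro n
        induction n with
        | zero => rw [pow_zero, Nat.cast_zero, zero_mul, z, zero_smul, E_zero]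
        | succ n ih => rw [pow_succ, ih, ← H.z_add]; congr 1; push_cast; ring
      rw [h3, CharP.cast_eq_zero, zero_mul, z, zero_smul, E_zero]
    · refine ⟨⟨H.t (Units.mk0 u hu), H.t_mem h2 hQ _⟩, Subtype.ext ?_, Subtype.ext (H.t_comm _ _),
        fun s => Subtype.ext (H.tz _ s), fun p => Subtype.ext (H.tx _ p), fun p => Subtype.ext (H.ty _ p)⟩
      show H.t _ ^ _ = 1
      rw [t_pow]
      have h3 : (Units.mk0 u hu) ^ (Fintype.card F - 1) = 1 := by
        apply Units.ext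
        push_cast
        exact FiniteField.pow_card_sub_one_eq_one u hu
      rw [h3, t_one]
  sep := fun i j hij => by
    obtain ⟨r, h3, h4, h5, h6⟩ := hsep i j hij
    exact H.sep_ij h2 hQ hij h3 h4 h5 h6

end Frame

end Frame

end Cfsg.Agent.Omega.TwoF.OrthEl

end

section


/-!
# The lower bound from the data `Dat`

`Tie x y g i j`: the lifts `zi i`, `zi j` of `z` agree in every odd cover. `lb_of_dat`: if all indices are tied, then
`LB K (ord_p(2) * |F| ^ |I|)`.
-/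

set_option autoImplicit false
set_option linter.unusedSectionVars false

universe u v w

namespace Cfsg.Agent.Omega.TwoF.OLift

open Subgroup Cfsg.Agent.Omega.Lie.FHeis

variable {L K : Type*} [Group L] [Group K] {π : L →* K}
variable {I F : Type*} [Fintype I] [DecidableEq I] [Field F]
variable {z : F → K} {x y : (I → F) → K} {g : K}

/-- The indices `i`, `j` are tied. -/
inductive Tie (x y : (I → F) → K) (g : K) : I → I → Prop
  | refl (i : I) : Tie x y g i i
  | symm {i j : I} : Tie x y g i j → Tie x y g j i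
  | trans {i j k : I} : Tie x y g i j → Tie x y g j k → Tie x y g i k
  | link {i j : I} (hij : i ≠ j) {a : F} (ha : a ≠ 0)
      (hl : ∀ s : F, ∃ h : K, h * g = g * h ∧
        h * x (Pi.single i s + Pi.single j (a * s)) * h⁻¹ = x (-(Pi.single i s + Pi.single j (a * s))) ∧
        h * y (Pi.single i 1 + Pi.single j (-a⁻¹)) * h⁻¹ = y (Pi.single i 1 + Pi.single j (-a⁻¹))) : Tie x y g i j
  | three {i j k : I} (hij : i ≠ j) (hik : i ≠ k) (hjk : j ≠ k) (h3 : (3 : F) = 0) (hji : Tie x y g j i)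
      (hl : ∀ s : F, ∃ h : K, h * g = g * h ∧
        h * x (Pi.single i s + Pi.single j s + Pi.single k s) * h⁻¹ =
          x (-(Pi.single i s + Pi.single j s + Pi.single k s)) ∧
        h * y (Pi.single i 1 + Pi.single j 1 + Pi.single k 1) * h⁻¹ =
          y (Pi.single i 1 + Pi.single j 1 + Pi.single k 1)) : Tie x y g k i
  | scale {b : F} (hb : b ≠ 1)
      (hl : ∃ h : K, h * g = g * h ∧ (∀ p, h * x p * h⁻¹ = x (b • p)) ∧ (∀ p, h * y p * h⁻¹ = y p)) (i j : I) :
      Tie x y g i j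

theorem Tie.eq {γ : L} {X Y : (I → F) → L} (c : Cov π z x y g γ X Y) {i j : I} (t : Tie x y g i j) :
    ∀ s, Cov.zi X Y i s = Cov.zi X Y j s := by
  induction t with
  | refl i => exact fun s => rfl
  | symm _ ih => exact fun s => (ih s).symm
  | trans _ _ ih1 ih2 => exact fun s => (ih1 s).trans (ih2 s)
  | link hij ha hl => exact fun s => c.zi_eq_of_link hij ha hl s
  | three hij hik hjk h3 _ hl ih => exact fun s => c.zi_eq_of_link_three hij hik hjk h3 ih hl s
  | scale hb hl i j => exact fun s => c.zi_eq_of_scale hb hl i j s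

theorem Tie.map {K' : Type*} [Group K'] (f : K →* K') {i j : I} (t : Tie x y g i j) :
    Tie (fun p => f (x p)) (fun p => f (y p)) (f g) i j := by
  induction t with
  | refl i => exact .refl i
  | symm _ ih => exact ih.symm
  | trans _ _ ih1 ih2 => exact ih1.trans ih2
  | link hij ha hl =>
    refine .link hij ha fun s => ?_
    obtain ⟨h, h1, h2, h3⟩ := hl s
    exact ⟨f h, by rw [← map_mul, ← map_mul, h1], by rw [← map_inv, ← map_mul, ← map_mul, h2],
      by rw [← map_inv, ← map_mul, ← map_mul, h3]⟩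
  | three hij hik hjk h3 _ hl ih =>
    refine .three hij hik hjk h3 ih fun s => ?_
    obtain ⟨h, h1, h2, h3⟩ := hl s
    exact ⟨f h, by rw [← map_mul, ← map_mul, h1], by rw [← map_inv, ← map_mul, ← map_mul, h2],
      by rw [← map_inv, ← map_mul, ← map_mul, h3]⟩
  | scale hb hl i j =>
    obtain ⟨h, h1, h2, h3⟩ := hl
    exact .scale hb ⟨f h, by rw [← map_mul, ← map_mul, h1], fun p => by rw [← map_inv, ← map_mul, ← map_mul, h2],
      fun p => by rw [← map_inv, ← map_mul, ← map_mul, h3]⟩ i j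

/-- The Heisenberg configuration in the cover. -/
theorem Cov.fheis {γ : L} {X Y : (I → F) → L} (c : Cov π z x y g γ X Y) (i₀ : I)
    (hz : ∀ i s, Cov.zi X Y i s = Cov.zi X Y i₀ s) :
    FHeis (Cov.zi X Y i₀) (fun i s => X (Pi.single i s)) (fun i s => Y (Pi.single i s)) where
  z_add := c.zi_add i₀
  x_add := fun i s t => by rw [Pi.single_add, c.X_add]
  y_add := fun i s t => by rw [Pi.single_add, c.Y_add]
  zx := fun i s t => c.comm_X (c.map_zi i₀ s) _
  zy := fun i s t => c.comm_Y (c.map_zi i₀ s) _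
  xx := fun i j s t _ => c.X_comm _ _
  yx := fun i j s t hij => by
    have h1 := c.bet_off hij.symm s t
    unfold bet at h1
    exact mul_inv_eq_iff_eq_mul.1 (mul_inv_eq_one.1 h1)
  conj := fun i s t => by
    rw [c.bet_conj', c.bet_same, hz]

/-- **The lower bound.** -/
theorem lb_of_dat {K : Type u} [Group K] [IsSimpleGroup K] {I : Type*} {F : Type*} [Fintype I] [DecidableEq I]
    [Field F] [Finite F] {p : ℕ} [Fact p.Prime] [CharP F p] (hp2 : p ≠ 2) {z : F → K} {x y : (I → F) → K} {g : K}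
    (d : Dat z x y g) (hz : ∃ s, z s ≠ 1) (i₀ : I) (ht : ∀ i, Tie x y g i i₀) :
    Lie.Heis.LB.{u, v, w} K (orderOf (2 : ZMod p) * Nat.card F ^ Nat.card I) := by
  intro L _ _ π hπ hc ho hL V _ _ h2 φ hφ
  obtain ⟨γ, X, Y, c⟩ := d.exists_cov (π := π) ⟨hL, hπ, hc, ho⟩
  have h' := c.fheis i₀ fun i => (ht i).eq c
  refine Lie.HeisLift.two_pow_le hp2 h' φ h2 ?_
  obtain ⟨s, hs⟩ := hz
  refine ⟨s, fun h1 => hs ?_⟩
  have h3 : Cov.zi X Y i₀ s ∈ π.ker := Lie.Heis.ker_le_ker hπ hc hL hφ (MonoidHom.mem_ker.2 h1)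
  rw [← c.map_zi i₀ s, MonoidHom.mem_ker.1 h3]

end Cfsg.Agent.Omega.TwoF.OLift

end
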